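import Cfsg.Agent.Lib.CharDeep.IrrTools
import Cfsg.Prelude.Def_Blocks
import Mathlib.GroupTheory.PGroup
import Mathlib.LinearAlgebra.Trace
import Mathlib.FieldTheory.Finite.Basic
import Mathlib.RingTheory.Int.Basic
import Mathlib.NumberTheory.Divisors
import Mathlib.RingTheory.IntegralClosure.IntegrallyClosed
import Mathlib.RingTheory.Polynomial.RationalRoot
import Mathlib.Algebra.Group.Conj
import Mathlib.RingTheory.PrincipalIdealDomain
import Mathlib.GroupTheory.GroupAction.ConjAct

/-!
# Sums of a character over the `p`-regular elements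

For a character `φ` of `G` and a prime `p` the sum of `φ` over the `p`-regular elements is a
rational integer divisible by the `p'`-part of the order of `G`.  (Frobenius' counting theorem for
characters; no induction theorem is needed: permutation characters of cosets of Sylow subgroups
and their powers suffice.)
-/

namespace CfsgLib.Blocks

open Module

open scoped Classical

section PermChar

variable {G : Type*} [Group G] {Ω : Type*} [MulAction G Ω]

/-- The permutation representation on functions. -/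
def funRep (G : Type*) [Group G] (Ω : Type*) [MulAction G Ω] : Representation ℂ G (Ω → ℂ) where
  toFun g := LinearMap.funLeft ℂ ℂ fun x => g⁻¹ • x
  map_one' := by ext f x; simp [LinearMap.funLeft]
  map_mul' a b := by ext f x; simp [LinearMap.funLeft, mul_smul]

theorem funRep_character [Fintype Ω] (g : G) :
    (funRep G Ω).character g = (Nat.card (MulAction.fixedBy Ω g) : ℂ) := by
  classical
  show LinearMap.trace ℂ (Ω → ℂ) _ = _
  rw [LinearMap.trace_eq_matrix_trace ℂ (Pi.basisFun ℂ Ω)]
  simp only [Matrix.trace, Matrix.diag, LinearMap.toMatrix_apply, Pi.basisFun_apply,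
    Pi.basisFun_repr, funRep, MonoidHom.coe_mk, OneHom.coe_mk, LinearMap.funLeft_apply,
    Pi.single_apply]
  rw [Finset.sum_boole, Nat.card_eq_fintype_card, Fintype.card_subtype]
  congr 2
  ext x
  simp only [Finset.mem_filter, Finset.mem_univ, true_and, MulAction.mem_fixedBy]
  rw [inv_smul_eq_iff, eq_comm]

theorem card_fixedBy_pi (M : ℕ) (g : G) :
    Nat.card (MulAction.fixedBy (Fin M → Ω) g) = Nat.card (MulAction.fixedBy Ω g) ^ M := by
  rw [← Nat.card_fin M, ← Nat.card_fun, Nat.card_fin]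
  exact Nat.card_congr
    { toFun := fun f i => ⟨f.1 i, congrFun f.2 i⟩
      invFun := fun f => ⟨fun i => (f i).1, funext fun i => (f i).2⟩
      left_inv := fun _ => rfl
      right_inv := fun _ => rfl }

end PermChar

variable {G : Type*} [Group G] {V : Type*} [AddCommGroup V] [Module ℂ V] [FiniteDimensional ℂ V]

theorem isIntegral_trace_of_pow_succ_eq (T : Module.End ℂ V) {n : ℕ} (hn : 0 < n)
    (hT : T ^ (n + 1) = T) : IsIntegral ℤ (LinearMap.trace ℂ V T) := by
  rw [Module.End.trace_eq_sum_roots_charpoly_of_splits (IsAlgClosed.splits _)]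
  refine IsIntegral.multiset_sum fun μ hμ => ?_
  rw [Polynomial.mem_roots T.charpoly_monic.ne_zero, ← T.hasEigenvalue_iff_isRoot_charpoly] at hμ
  obtain ⟨v, hv⟩ := hμ.exists_hasEigenvector
  have h1 := hv.pow_apply (n + 1)
  rw [hT, hv.apply_eq_smul] at h1
  have h2 : (μ ^ (n + 1) - μ) • v = 0 := by rw [sub_smul, ← h1, sub_self]
  rw [smul_eq_zero] at h2
  have h3 := h2.resolve_right hv.2
  rcases eq_or_ne μ 0 with h0 | h0
  · subst h0; exact isIntegral_zero
  · refine IsIntegral.of_pow hn ?_
    have : μ * (μ ^ n - 1) = 0 := by rw [mul_sub, mul_one, ← pow_succ']; exact h3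
    rw [sub_eq_zero.1 ((mul_eq_zero.1 this).resolve_left h0)]
    exact isIntegral_one

/-- Twisted average: for `T` of finite order commuting with a representation. -/
theorem isIntegral_average_mul [Fintype G] (ρ : Representation ℂ G V) (T : Module.End ℂ V) {n : ℕ}
    (hn : 0 < n) (hT : T ^ n = 1) (hc : ∀ g, T * ρ g = ρ g * T) :
    IsIntegral ℤ ((Nat.card G : ℂ)⁻¹ * ∑ g : G, LinearMap.trace ℂ V (T * ρ g)) := by
  haveI : Invertible (Fintype.card G : ℂ) :=
    invertibleOfNonzero (by exact_mod_cast Fintype.card_ne_zero)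
  set P : Module.End ℂ V := Representation.averageMap ρ
  have hP : P = (Nat.card G : ℂ)⁻¹ • ∑ g : G, ρ g := by
    simp [P, Representation.averageMap, GroupAlgebra.average, map_sum]
  have hPP : P * P = P := by
    refine LinearMap.ext fun v => ?_
    exact (Representation.isProj_averageMap ρ).map_id _
      ((Representation.isProj_averageMap ρ).map_mem v)
  have hTP : T * P = P * T := by
    rw [hP, mul_smul_comm, smul_mul_assoc, Finset.mul_sum, Finset.sum_mul]
    exact congrArg _ (Finset.sum_congr rfl fun g _ => hc g)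
  have hpow : (T * P) ^ (n + 1) = T * P := by
    rw [Commute.mul_pow hTP, pow_succ T, hT, one_mul]
    congr 1
    exact IsIdempotentElem.pow_succ_eq n hPP
  have : (Nat.card G : ℂ)⁻¹ * ∑ g : G, LinearMap.trace ℂ V (T * ρ g)
      = LinearMap.trace ℂ V (T * P) := by
    rw [hP, mul_smul_comm, map_smul, Finset.mul_sum Finset.univ _ T, map_sum, smul_eq_mul]
  rw [this]
  exact isIntegral_trace_of_pow_succ_eq _ hn hpow

/-- The sum of `tr (T ρ v)` over the `q`-elements is divisible by the `q`-part of the order. -/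
theorem isIntegral_sum_qElements [Fintype G] {q : ℕ} [hq : Fact q.Prime]
    (ρ : Representation ℂ G V) (T : Module.End ℂ V) {n : ℕ} (hn : 0 < n) (hT : T ^ n = 1)
    (hc : ∀ g, T * ρ g = ρ g * T) :
    IsIntegral ℤ ((∑ v : G with orderOf v ∣ q ^ (Nat.card G).factorization q,
      LinearMap.trace ℂ V (T * ρ v)) / (q ^ (Nat.card G).factorization q : ℂ)) := by
  classical
  set β := (Nat.card G).factorization q
  obtain ⟨Q⟩ : Nonempty (Sylow q G) := inferInstance
  let Ω := G ⧸ (Q : Subgroup G)
  haveI : Fintype Ω := Fintype.ofFinite _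
  let f : G → ℕ := fun v => Nat.card (MulAction.fixedBy Ω v)
  have hcardQ : Nat.card (Q : Subgroup G) = q ^ β := Q.card_eq_multiplicity
  have hidx : ¬ q ∣ Nat.card Ω := Q.not_dvd_index
  have hvanish : ∀ v, ¬ orderOf v ∣ q ^ β → f v = 0 := by
    intro v hv
    refine Nat.card_eq_zero.2 (Or.inl ⟨fun x => hv ?_⟩)
    obtain ⟨x, hx⟩ := x
    induction x using QuotientGroup.induction_on with
    | H g =>
      have h1 : g⁻¹ * v * g ∈ (Q : Subgroup G) := by
        have := QuotientGroup.eq.1 (show ((v * g : G) : Ω) = (g : Ω) from hx).symm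
        simpa [mul_assoc] using this
      have h2 := Subgroup.orderOf_dvd_natCard _ h1
      rw [hcardQ] at h2
      have h3 : g⁻¹ * v * g = MulAut.conj g⁻¹ v := by simp [mul_assoc]
      rwa [h3, MulEquiv.orderOf_eq] at h2
  have hmod : ∀ v, orderOf v ∣ q ^ β → ¬ q ∣ f v := by
    intro v hv hdvd
    have hp : IsPGroup q (Subgroup.zpowers v) := by
      obtain ⟨i, _, hi⟩ := (Nat.dvd_prime_pow hq.out).1 hv
      exact IsPGroup.of_card (n := i) (by rw [Nat.card_zpowers, hi])
    have h1 := hp.card_modEq_card_fixedPoints Ω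
    have h2 : Nat.card (MulAction.fixedPoints (Subgroup.zpowers v) Ω) = f v := by
      refine Nat.card_congr (Equiv.subtypeEquivRight fun x => ?_)
      constructor
      · intro h; exact h ⟨v, Subgroup.mem_zpowers v⟩
      · intro h u
        obtain ⟨u, hu⟩ := u
        have hle : Subgroup.zpowers v ≤ MulAction.stabilizer G x :=
          Subgroup.zpowers_le.2 h
        exact hle hu
    rw [h2] at h1
    exact hidx ((Nat.ModEq.dvd_iff h1 (dvd_refl q)).2 hdvd)
  set E := Nat.totient (q ^ (β + 1)) with hE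
  have hE0 : 0 < E := Nat.totient_pos.2 (pow_pos hq.out.pos _)
  -- the auxiliary representation
  let π : Representation ℂ G ((Fin E → Ω) → ℂ) := funRep G (Fin E → Ω)
  let T' : Module.End ℂ (TensorProduct ℂ V ((Fin E → Ω) → ℂ)) := TensorProduct.map T 1
  have hT' : T' ^ n = 1 := by
    rw [show T' ^ n = TensorProduct.map (T ^ n) ((1 : Module.End ℂ ((Fin E → Ω) → ℂ)) ^ n) from
      TensorProduct.map_pow _ _ n, hT, one_pow]
    exact TensorProduct.map_one
  have hc' : ∀ g, T' * (ρ.tprod π) g = (ρ.tprod π) g * T' := fun g => by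
    simp only [T', Representation.tprod_apply, ← TensorProduct.map_mul, hc, one_mul, mul_one]
  have hint := isIntegral_average_mul (ρ.tprod π) T' hn hT' hc'
  have htr : ∀ g, LinearMap.trace ℂ _ (T' * (ρ.tprod π) g)
      = LinearMap.trace ℂ V (T * ρ g) * ((f g : ℕ) ^ E : ℂ) := fun g => by
    simp only [T', Representation.tprod_apply, ← TensorProduct.map_mul, one_mul]
    rw [LinearMap.trace_tensorProduct']
    congr 1
    show π.character g = _
    rw [funRep_character, card_fixedBy_pi]; simp [f]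
  simp only [htr] at hint
  have htrint : ∀ v, IsIntegral ℤ (LinearMap.trace ℂ V (T * ρ v)) := fun v => by
    refine CfsgLib.CharDeep.IrrTools.isIntegral_trace_of_pow_eq_one _
      (n := n * orderOf v) (Nat.mul_pos hn (orderOf_pos v)) ?_
    rw [Commute.mul_pow (hc v)]
    rw [pow_mul, hT, one_pow, one_mul, mul_comm n, pow_mul, ← map_pow, pow_orderOf_eq_one,
      map_one, one_pow]
  have key : ∀ v, orderOf v ∣ q ^ β → ∃ k : ℕ, f v ^ E = 1 + q ^ β * k := fun v hv => by
    have h1 : f v ^ E ≡ 1 [MOD q ^ (β + 1)] :=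
      Nat.ModEq.pow_totient ((Nat.Prime.coprime_pow_of_not_dvd hq.out (hmod v hv)))
    have h2 : f v ^ E ≡ 1 [MOD q ^ β] := h1.of_dvd (pow_dvd_pow q (Nat.le_succ β))
    have h3 : 1 ≤ f v ^ E := Nat.one_le_pow _ _ (Nat.pos_of_ne_zero fun h =>
      hmod v hv (by rw [h]; exact dvd_zero q))
    obtain ⟨k, hk⟩ := (Nat.modEq_iff_dvd' h3).1 h2.symm
    exact ⟨k, by omega⟩
  choose k hk using key
  let k' : G → ℕ := fun v => if h : orderOf v ∣ q ^ β then k v h else 0
  set S := Finset.univ.filter fun v : G => orderOf v ∣ q ^ β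
  set t : G → ℂ := fun v => LinearMap.trace ℂ V (T * ρ v)
  have hsum : ∑ g : G, t g * ((f g : ℕ) ^ E : ℂ)
      = (∑ v ∈ S, t v) + (q ^ β : ℂ) * ∑ v ∈ S, (k' v : ℂ) * t v := by
    rw [← Finset.sum_subset (Finset.subset_univ S) fun v _ hv => by
      rw [hvanish v (by simpa [S] using hv)]; simp [hE0.ne']]
    rw [Finset.mul_sum, ← Finset.sum_add_distrib]
    refine Finset.sum_congr rfl fun v hv => ?_
    have hv' : orderOf v ∣ q ^ β := by simpa [S] using hv
    have := congrArg (fun m : ℕ => (m : ℂ)) (hk v hv')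
    simp only [Nat.cast_pow, Nat.cast_add, Nat.cast_one, Nat.cast_mul] at this
    simp only [k', dif_pos hv']
    rw [this]; ring
  rw [hsum] at hint
  obtain ⟨g', hg'⟩ := Nat.ordProj_dvd (Nat.card G) q
  have hq0 : (q ^ β : ℂ) ≠ 0 := pow_ne_zero _ (by exact_mod_cast hq.out.ne_zero)
  have hG0 : (Nat.card G : ℂ) ≠ 0 := by exact_mod_cast Nat.card_pos.ne'
  have hfin : (∑ v ∈ S, t v) / (q ^ β : ℂ)
      = (g' : ℂ) * ((Nat.card G : ℂ)⁻¹ * ((∑ v ∈ S, t v) + (q ^ β : ℂ) * ∑ v ∈ S, (k' v : ℂ) * t v))
        - ∑ v ∈ S, (k' v : ℂ) * t v := by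
    have hG : (Nat.card G : ℂ) = (q ^ β : ℂ) * g' := by
      conv_lhs => rw [hg']
      simp [β]
    have hg0 : (g' : ℂ) ≠ 0 := fun h => hG0 (by rw [hG, h, mul_zero])
    rw [hG]; field_simp; ring
  rw [show (∑ v ∈ S, t v) / (q ^ β : ℂ) = _ from hfin]
  refine (isIntegral_algebraMap (R := ℤ) (x := (g' : ℤ))).mul hint |>.sub ?_ |> fun h => by simpa using h
  exact IsIntegral.sum _ fun v _ => (isIntegral_algebraMap (R := ℤ) (x := (k' v : ℤ))).mul (htrint v)

theorem qPart_exponents [Finite G] (q : ℕ) [hq : Fact q.Prime] :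
    ∃ E E' : ℕ, (∀ g : G, g ^ E * g ^ E' = g) ∧
      (∀ g : G, orderOf g ∣ q ^ (Nat.card G).factorization q → g ^ E = 1 ∧ g ^ E' = g) ∧
      (∀ g : G, orderOf g ∣ Nat.card G / q ^ (Nat.card G).factorization q → g ^ E = g ∧ g ^ E' = 1) ∧
      (∀ g : G, orderOf (g ^ E) ∣ Nat.card G / q ^ (Nat.card G).factorization q) ∧
      (∀ g : G, orderOf (g ^ E') ∣ q ^ (Nat.card G).factorization q) := by
  set β := (Nat.card G).factorization q
  set m := Nat.card G / q ^ β
  have hN : q ^ β * m = Nat.card G := Nat.ordProj_mul_ordCompl_eq_self _ _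
  have hco : (q ^ β).Coprime m :=
    Nat.Coprime.pow_left _ (Nat.coprime_ordCompl hq.out Nat.card_pos.ne')
  obtain ⟨E, hE1, hE2⟩ := Nat.chineseRemainder hco 0 1
  obtain ⟨E', hE'1, hE'2⟩ := Nat.chineseRemainder hco 1 0
  have hE : E + E' ≡ 1 [MOD Nat.card G] := by
    rw [← hN]
    exact (Nat.modEq_and_modEq_iff_modEq_mul hco).1
      ⟨(hE1.add hE'1).trans (by simp [Nat.ModEq]), (hE2.add hE'2).trans (by simp [Nat.ModEq])⟩
  refine ⟨E, E', fun g => ?_, fun g hg => ⟨?_, ?_⟩, fun g hg => ⟨?_, ?_⟩, fun g => ?_, fun g => ?_⟩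
  · rw [← pow_add]
    conv_rhs => rw [← pow_one g]
    exact pow_eq_pow_iff_modEq.2 (hE.of_dvd (orderOf_dvd_natCard g))
  · rw [← pow_zero g]; exact pow_eq_pow_iff_modEq.2 (hE1.of_dvd hg)
  · conv_rhs => rw [← pow_one g]
    exact pow_eq_pow_iff_modEq.2 (hE'1.of_dvd hg)
  · conv_rhs => rw [← pow_one g]
    exact pow_eq_pow_iff_modEq.2 (hE2.of_dvd hg)
  · rw [← pow_zero g]; exact pow_eq_pow_iff_modEq.2 (hE'2.of_dvd hg)
  · refine orderOf_dvd_of_pow_eq_one ?_
    rw [← pow_mul]
    refine orderOf_dvd_iff_pow_eq_one.1 ((orderOf_dvd_natCard g).trans ?_)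
    rw [← hN]
    exact Nat.mul_dvd_mul (Nat.modEq_zero_iff_dvd.1 hE1) (dvd_refl m)
  · refine orderOf_dvd_of_pow_eq_one ?_
    rw [← pow_mul]
    refine orderOf_dvd_iff_pow_eq_one.1 ((orderOf_dvd_natCard g).trans ?_)
    rw [← hN, mul_comm (q ^ β) m]
    exact Nat.mul_dvd_mul (Nat.modEq_zero_iff_dvd.1 hE'2) (dvd_refl _)

/-- The sum of a character over the `p`-regular elements, at a single prime `q ≠ p`. -/
theorem isIntegral_sum_regular_div [Fintype G] {p q : ℕ} [hp : Fact p.Prime] [hq : Fact q.Prime]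
    (hpq : p ≠ q) (ρ : Representation ℂ G V) :
    IsIntegral ℤ ((∑ x : G with ¬ p ∣ orderOf x, ρ.character x)
      / (q ^ (Nat.card G).factorization q : ℂ)) := by
  classical
  obtain ⟨E, E', hsplit, hqel, hcel, hcord, hvord⟩ := qPart_exponents (G := G) q
  set β := (Nat.card G).factorization q
  set m := Nat.card G / q ^ β
  let R := Finset.univ.filter fun x : G => ¬ p ∣ orderOf x
  let Cset := Finset.univ.filter fun c : G => orderOf c ∣ m ∧ ¬ p ∣ orderOf c
  let F : G → Finset G := fun c =>
    Finset.univ.filter fun v : G => orderOf v ∣ q ^ β ∧ Commute c v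
  let T : G → ℂ := fun c => ∑ v ∈ F c, ρ.character (c * v)
  have hcop : ∀ c v : G, orderOf c ∣ m → orderOf v ∣ q ^ β → (orderOf c).Coprime (orderOf v) :=
    fun c v hc hv => Nat.Coprime.of_dvd hc hv
      ((Nat.Coprime.pow_left _ (Nat.coprime_ordCompl hq.out Nat.card_pos.ne')).symm)
  have hdecomp : ∑ x ∈ R, ρ.character x = ∑ c ∈ Cset, T c := by
    simp only [T]
    rw [Finset.sum_sigma']
    refine Finset.sum_nbij' (fun x => (⟨x ^ E, x ^ E'⟩ : (_ : G) × G)) (fun s => s.1 * s.2)
      ?_ ?_ ?_ ?_ ?_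
    · intro x hx
      simp only [R, Finset.mem_filter, Finset.mem_univ, true_and] at hx
      simp only [Finset.mem_sigma, Cset, F, Finset.mem_filter, Finset.mem_univ, true_and]
      exact ⟨⟨hcord x, fun h => hx (h.trans (orderOf_pow_dvd E))⟩, hvord x,
        Commute.pow_pow_self x E E'⟩
    · intro s hs
      simp only [Finset.mem_sigma, Cset, F, Finset.mem_filter, Finset.mem_univ, true_and] at hs
      obtain ⟨⟨hc, hcp⟩, hv, hcv⟩ := hs
      simp only [R, Finset.mem_filter, Finset.mem_univ, true_and]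
      rw [hcv.orderOf_mul_eq_mul_orderOf_of_coprime (hcop _ _ hc hv)]
      exact fun h => (hp.out.dvd_mul.1 h).elim hcp fun h => hpq
        ((Nat.prime_dvd_prime_iff_eq hp.out hq.out).1 (hp.out.dvd_of_dvd_pow (h.trans hv)))
    · intro x _; exact hsplit x
    · intro s hs
      simp only [Finset.mem_sigma, Cset, F, Finset.mem_filter, Finset.mem_univ, true_and] at hs
      obtain ⟨⟨hc, hcp⟩, hv, hcv⟩ := hs
      refine Sigma.ext ?_ (heq_of_eq ?_)
      · show (s.1 * s.2) ^ E = s.1
        rw [hcv.mul_pow, (hcel _ hc).1, (hqel _ hv).1, mul_one]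
      · show (s.1 * s.2) ^ E' = s.2
        rw [hcv.mul_pow, (hcel _ hc).2, (hqel _ hv).2, one_mul]
    · intro x _; simp [hsplit x]
  have hinner : ∀ c : G, IsIntegral ℤ
      (T c / (q ^ (Nat.card (Subgroup.centralizer ({c} : Set G))).factorization q : ℂ)) := by
    intro c
    set H := Subgroup.centralizer ({c} : Set G)
    haveI : Fintype H := Fintype.ofFinite _
    have hcH : ∀ v : H, Commute c (v : G) := fun v =>
      (Subgroup.mem_centralizer_singleton_iff.1 v.2).symm
    have h := isIntegral_sum_qElements (q := q) (ρ.comp H.subtype) (ρ c) (orderOf_pos c)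
      (by rw [← map_pow, pow_orderOf_eq_one, map_one]) (fun v => by
        show ρ c * ρ (v : G) = ρ (v : G) * ρ c
        rw [← ρ.map_mul c (v : G), ← ρ.map_mul (v : G) c, (hcH v).eq])
    have hset : T c = ∑ v : H with orderOf v ∣ q ^ (Nat.card H).factorization q,
        LinearMap.trace ℂ V (ρ c * (ρ.comp H.subtype) v) := by
      refine Eq.symm (Finset.sum_bij (fun v _ => (v : G)) ?_ ?_ ?_ ?_)
      · intro v hv
        simp only [Finset.mem_filter, Finset.mem_univ, true_and] at hv
        simp only [F, Finset.mem_filter, Finset.mem_univ, true_and]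
        refine ⟨?_, hcH v⟩
        rw [Subgroup.orderOf_coe]
        refine hv.trans (pow_dvd_pow q ?_)
        exact (Nat.factorization_le_iff_dvd Nat.card_pos.ne' Nat.card_pos.ne').2
          (Subgroup.card_subgroup_dvd_card H) q
      · intro a _ b _ hab; exact Subtype.ext hab
      · intro v hv
        simp only [F, Finset.mem_filter, Finset.mem_univ, true_and] at hv
        have hvH : v ∈ H := Subgroup.mem_centralizer_singleton_iff.2 hv.2.eq.symm
        refine ⟨⟨v, hvH⟩, ?_, rfl⟩
        simp only [Finset.mem_filter, Finset.mem_univ, true_and, Subgroup.orderOf_mk]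
        obtain ⟨i, _, hi⟩ := (Nat.dvd_prime_pow hq.out).1 hv.1
        rw [hi]
        refine pow_dvd_pow q ((hq.out.pow_dvd_iff_le_factorization Nat.card_pos.ne').1 ?_)
        rw [← hi, ← Subgroup.orderOf_mk v hvH]
        exact orderOf_dvd_natCard _
      · intro v _
        show LinearMap.trace ℂ V (ρ c * ρ (v : G)) = LinearMap.trace ℂ V (ρ (c * v))
        rw [ρ.map_mul]
    rw [hset]; exact h
  have hTconj : ∀ c g : G, T (g * c * g⁻¹) = T c := by
    intro c g
    refine (Finset.sum_nbij' (fun v => g * v * g⁻¹) (fun v => g⁻¹ * v * g) ?_ ?_ ?_ ?_ ?_).symm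
    · intro v hv
      simp only [F, Finset.mem_filter, Finset.mem_univ, true_and] at hv ⊢
      refine ⟨?_, by simpa using hv.2.map (MulAut.conj g)⟩
      rw [show g * v * g⁻¹ = MulAut.conj g v from rfl, MulEquiv.orderOf_eq]
      exact hv.1
    · intro v hv
      simp only [F, Finset.mem_filter, Finset.mem_univ, true_and] at hv ⊢
      refine ⟨?_, by simpa [mul_assoc] using hv.2.map (MulAut.conj g⁻¹)⟩
      rw [show g⁻¹ * v * g = MulAut.conj g⁻¹ v by simp, MulEquiv.orderOf_eq]
      exact hv.1
    · intro v _; simp [mul_assoc]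
    · intro v _; simp [mul_assoc]
    · intro v _
      rw [show g * c * g⁻¹ * (g * v * g⁻¹) = g * (c * v) * g⁻¹ by simp [mul_assoc],
        Representation.char_conj]
  rw [show (∑ x : G with ¬ p ∣ orderOf x, ρ.character x) = ∑ x ∈ R, ρ.character x from rfl,
    hdecomp, ← Finset.sum_fiberwise_of_maps_to (g := ConjClasses.mk) (t := Cset.image ConjClasses.mk)
      fun y hy => Finset.mem_image_of_mem _ hy, Finset.sum_div]
  refine IsIntegral.sum _ fun K _ => ?_
  rcases (Cset.filter fun c => ConjClasses.mk c = K).eq_empty_or_nonempty with h0 | ⟨c, hc⟩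
  · simp [h0, isIntegral_zero]
  simp only [Cset, Finset.mem_filter, Finset.mem_univ, true_and] at hc
  obtain ⟨⟨hcm, hcp⟩, rfl⟩ := hc
  have hfib : (Cset.filter fun c' => ConjClasses.mk c' = ConjClasses.mk c)
      = (MulAction.orbit (ConjAct G) c).toFinset := by
    ext c'
    simp only [Finset.mem_filter, Set.mem_toFinset, ConjAct.mem_orbit_conjAct,
      ConjClasses.mk_eq_mk_iff_isConj]
    refine ⟨fun h => h.2, fun h => ⟨?_, h⟩⟩
    obtain ⟨g, rfl⟩ := isConj_iff.1 h.symm
    simp only [Cset, Finset.mem_filter, Finset.mem_univ, true_and,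
      show g * c * g⁻¹ = MulAut.conj g c from rfl, MulEquiv.orderOf_eq]
    exact ⟨hcm, hcp⟩
  rw [hfib, Finset.sum_congr rfl (g := fun _ => T c) fun c' hc' => by
      rw [Set.mem_toFinset, ConjAct.mem_orbit_conjAct] at hc'
      obtain ⟨g, rfl⟩ := isConj_iff.1 hc'.symm
      exact hTconj c g,
    Finset.sum_const, nsmul_eq_mul]
  set n := (MulAction.orbit (ConjAct G) c).toFinset.card with hn
  set H := Subgroup.centralizer ({c} : Set G)
  set γ := (Nat.card H).factorization q
  have hnH : n * Nat.card H = Nat.card G := by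
    haveI : Fintype (MulAction.stabilizer (ConjAct G) c) := Fintype.ofFinite _
    have := MulAction.card_orbit_mul_card_stabilizer_eq_card_group (ConjAct G) c
    rw [Fintype.card_eq_nat_card, Fintype.card_eq_nat_card, Fintype.card_eq_nat_card,
      ConjAct.stabilizer_eq_centralizer] at this
    rw [hn, Set.toFinset_card, Fintype.card_eq_nat_card]
    rw [show Nat.card (ConjAct G) = Nat.card G from Nat.card_congr ConjAct.toConjAct.symm.toEquiv]
      at this
    rw [← this]
    congr 1

  have hn0 : n ≠ 0 := fun h => Nat.card_pos.ne' (hnH.symm.trans (by rw [h, zero_mul]))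
  have hdvd : q ^ β ∣ n * q ^ γ := by
    have e : β = n.factorization q + γ := by
      simp only [β, γ, ← hnH, Nat.factorization_mul hn0 Nat.card_pos.ne']
      rfl
    rw [e, pow_add]
    exact Nat.mul_dvd_mul (Nat.ordProj_dvd n q) (dvd_refl _)
  obtain ⟨d, hd⟩ := hdvd
  have hqne : (q : ℂ) ≠ 0 := by exact_mod_cast hq.out.ne_zero
  have hd' : (n : ℂ) * (q : ℂ) ^ γ = (q : ℂ) ^ β * d := by exact_mod_cast congrArg (Nat.cast : ℕ → ℂ) hd
  have : (n : ℂ) * T c / (q : ℂ) ^ β = (d : ℂ) * (T c / (q : ℂ) ^ γ) := by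
    rw [div_eq_iff (pow_ne_zero _ hqne)]
    field_simp
    linear_combination (T c) * hd'
  rw [this]
  have hdI : IsIntegral ℤ (d : ℂ) := by
    simpa using (isIntegral_algebraMap (R := ℤ) (A := ℂ) (x := (d : ℤ)))
  exact hdI.mul (hinner c)

/-- The sum of a character over the generators of a cyclic subgroup is a rational integer. -/
theorem exists_int_sum_generators [Fintype G] (ρ : Representation ℂ G V) (C : Subgroup G) :
    ∃ n : ℤ, (∑ y : G with Subgroup.zpowers y = C, ρ.character y) = (n : ℂ) := by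
  classical
  induction hN : Nat.card C using Nat.strong_induction_on generalizing C with
  | _ N ih =>
  haveI : Invertible (Nat.card C : ℂ) :=
    invertibleOfNonzero (by exact_mod_cast Nat.card_pos.ne')
  haveI : Fintype C := Fintype.ofFinite _
  have h := Representation.card_inv_mul_sum_char_eq_finrank (ρ.comp C.subtype)
  set d := finrank ℂ (Representation.invariants (ρ.comp C.subtype))
  let Cf := Finset.univ.filter fun y : G => y ∈ C
  have hC : ∑ y ∈ Cf, ρ.character y = ((Nat.card C * d : ℕ) : ℂ) := by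
    rw [Nat.cast_mul, ← h, mul_inv_cancel_left₀ (by exact_mod_cast Nat.card_pos.ne')]
    exact Finset.sum_subtype Cf (fun y => by simp [Cf]) fun y => ρ.character y
  rw [← Finset.sum_filter_add_sum_filter_not Cf (fun y => Subgroup.zpowers y = C)] at hC
  have hgen : Cf.filter (fun y => Subgroup.zpowers y = C)
      = Finset.univ.filter fun y : G => Subgroup.zpowers y = C := by
    ext y
    simp only [Cf, Finset.mem_filter, Finset.mem_univ, true_and]
    exact ⟨fun h => h.2, fun h => ⟨h ▸ Subgroup.mem_zpowers y, h⟩⟩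
  rw [hgen] at hC
  set rest := Cf.filter fun y => ¬ Subgroup.zpowers y = C
  obtain ⟨k, hk⟩ : ∃ k : ℤ, ∑ y ∈ rest, ρ.character y = (k : ℂ) := by
    rw [← Finset.sum_fiberwise_of_maps_to (g := Subgroup.zpowers) (t := rest.image Subgroup.zpowers)
      fun y hy => Finset.mem_image_of_mem _ hy]
    have : ∀ D ∈ rest.image Subgroup.zpowers, ∃ k : ℤ,
        (∑ y ∈ rest.filter (fun y => Subgroup.zpowers y = D), ρ.character y) = (k : ℂ) := by
      intro D hD
      obtain ⟨y, hy, rfl⟩ := Finset.mem_image.1 hD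
      simp only [rest, Cf, Finset.mem_filter, Finset.mem_univ, true_and] at hy
      have hlt : Subgroup.zpowers y < C := lt_of_le_of_ne (Subgroup.zpowers_le.2 hy.1) hy.2
      have hcard : Nat.card (Subgroup.zpowers y) < N := by
        rw [← hN]
        refine lt_of_le_of_ne (Subgroup.card_le_of_le hlt.le) fun he => hlt.ne ?_
        exact Subgroup.eq_of_le_of_card_ge hlt.le he.ge
      obtain ⟨k, hk⟩ := ih _ hcard _ rfl
      refine ⟨k, ?_⟩
      rw [← hk]
      refine Finset.sum_congr ?_ fun _ _ => rfl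
      ext z
      simp only [rest, Cf, Finset.mem_filter, Finset.mem_univ, true_and]
      exact ⟨fun h => h.2, fun h => ⟨⟨hlt.le (h ▸ Subgroup.mem_zpowers z), h ▸ hlt.ne⟩, h⟩⟩
    choose k hk using this
    refine ⟨∑ D ∈ (rest.image Subgroup.zpowers).attach, k D.1 D.2, ?_⟩
    rw [Int.cast_sum, ← Finset.sum_attach]
    exact Finset.sum_congr rfl fun D _ => hk D.1 D.2
  refine ⟨((Nat.card C * d : ℕ) : ℤ) - k, ?_⟩
  rw [Int.cast_sub, Int.cast_natCast, ← hC, hk, add_sub_cancel_right]

theorem exists_int_sum_regular [Fintype G] (p : ℕ) (ρ : Representation ℂ G V) :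
    ∃ n : ℤ, (∑ x : G with ¬ p ∣ orderOf x, ρ.character x) = (n : ℂ) := by
  classical
  choose k hk using exists_int_sum_generators ρ
  set R := Finset.univ.filter fun x : G => ¬ p ∣ orderOf x
  refine ⟨∑ D ∈ R.image Subgroup.zpowers, k D, ?_⟩
  rw [Int.cast_sum, ← Finset.sum_fiberwise_of_maps_to (g := Subgroup.zpowers)
    (t := R.image Subgroup.zpowers) fun y hy => Finset.mem_image_of_mem _ hy]
  refine Finset.sum_congr rfl fun D hD => ?_
  rw [← hk]
  refine Finset.sum_congr ?_ fun _ _ => rfl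
  obtain ⟨y, hy, rfl⟩ := Finset.mem_image.1 hD
  ext z
  simp only [R, Finset.mem_filter, Finset.mem_univ, true_and] at hy ⊢
  refine ⟨fun h => h.2, fun h => ⟨?_, h⟩⟩
  rw [← Nat.card_zpowers z, h, Nat.card_zpowers]
  exact hy

/-- `p^a / |G|` times the sum of a character over the `p`-regular elements is a rational integer:
the `p'`-part of the order divides that sum. -/
theorem ordCompl_dvd_sum_regular [Fintype G] {p : ℕ} [hp : Fact p.Prime]
    (ρ : Representation ℂ G V) :
    ∃ n : ℤ, (∑ x : G with ¬ p ∣ orderOf x, ρ.character x)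
      = ((Nat.card G / p ^ (Nat.card G).factorization p : ℕ) : ℂ) * (n : ℂ) := by
  classical
  obtain ⟨S, hS⟩ := exists_int_sum_regular p ρ
  set m := Nat.card G / p ^ (Nat.card G).factorization p
  have hm0 : m ≠ 0 := (Nat.ordCompl_pos p Nat.card_pos.ne').ne'
  suffices h : (m : ℤ) ∣ S by
    obtain ⟨n, hn⟩ := h
    exact ⟨n, by rw [hS, hn]; push_cast; ring⟩
  have hnat : m ∣ S.natAbs := by
    rcases eq_or_ne S 0 with h0 | h0
    · simp [h0]
    refine (Nat.factorization_le_iff_dvd hm0 (by simpa using h0)).1 fun q => ?_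
    by_cases hq : q.Prime
    · by_cases hqp : p = q
      · subst hqp
        simp [m, Nat.factorization_ordCompl]
      haveI : Fact q.Prime := ⟨hq⟩
      have hint := isIntegral_sum_regular_div hqp ρ
      rw [hS] at hint
      set β := (Nat.card G).factorization q
      have hdiv : ((q ^ β : ℕ) : ℤ) ∣ S := by
        have : IsIntegral ℤ (algebraMap ℚ ℂ ((S : ℚ) / ((q ^ β : ℕ) : ℚ))) := by
          simpa using hint
        rw [isIntegral_algebraMap_iff (algebraMap ℚ ℂ).injective] at this
        obtain ⟨z, hz⟩ := (IsIntegrallyClosed.isIntegral_iff (R := ℤ) (K := ℚ)).1 this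
        refine ⟨z, ?_⟩
        have hq0 : ((q ^ β : ℕ) : ℚ) ≠ 0 := by exact_mod_cast pow_ne_zero _ hq.ne_zero
        have hz' : (z : ℚ) = (S : ℚ) / ((q ^ β : ℕ) : ℚ) := hz
        rw [eq_div_iff hq0] at hz'
        have : ((((q ^ β : ℕ) : ℤ) * z : ℤ) : ℚ) = (S : ℚ) := by push_cast at hz' ⊢; rw [← hz']; ring
        exact_mod_cast this.symm
      rw [show m.factorization q = β by
        simp [m, β, Nat.factorization_ordCompl, Finsupp.erase_ne (Ne.symm hqp)]]
      exact (hq.pow_dvd_iff_le_factorization (by simpa using h0)).1 (Int.natCast_dvd.1 hdiv)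
    · simp [Nat.factorization_eq_zero_of_not_prime _ hq]
  exact Int.natCast_dvd.2 hnat

end CfsgLib.Blocks
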