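import Cfsg.Agent.Lib.Blocks.LocalRing
import Cfsg.Agent.Lib.Blocks.RegularSum
import Cfsg.Agent.Lib.CharDeep.IrrTools
import Mathlib.RepresentationTheory.Character
import Mathlib.Algebra.Field.GeomSum

/-!
# Eigenvalue multiplicities; `χ (x y) ≡ χ y` for a `p`-element `x` commuting with `y`
-/

namespace CfsgLib.Blocks

open Cfsg

variable {V : Type*} [AddCommGroup V] [Module ℂ V] [FiniteDimensional ℂ V]

theorem isIntegral_trace_of_idem (P : Module.End ℂ V) (hP : P * P = P) :
    IsIntegral ℤ (LinearMap.trace ℂ V P) := by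
  have h : LinearMap.IsProj (LinearMap.range P) P :=
    { map_mem := fun x => LinearMap.mem_range_self P x
      map_id := fun x hx => by
        obtain ⟨y, rfl⟩ := hx
        exact congrArg (fun T : Module.End ℂ V => T y) hP }
  rw [h.trace]
  simpa using (isIntegral_algebraMap (R := ℤ) (A := ℂ)
    (x := (Module.finrank ℂ (LinearMap.range P) : ℤ)))

/-- The traces of the powers of a map of finite order are combinations of powers of roots of unity
with integral coefficients. -/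
theorem exists_trace_pow_eq (T : Module.End ℂ V) {n : ℕ} (hn : 0 < n) (hT : T ^ n = 1) {ω : ℂ}
    (hω : IsPrimitiveRoot ω n) :
    ∃ m : ℕ → ℂ, (∀ j, IsIntegral ℤ (m j)) ∧
      ∀ i : ℕ, LinearMap.trace ℂ V (T ^ i) = ∑ j ∈ Finset.range n, m j * (ω ^ j) ^ i := by
  classical
  have hn0 : (n : ℂ) ≠ 0 := by exact_mod_cast hn.ne'
  have hω0 : ω ≠ 0 := hω.ne_zero hn.ne'
  let P : ℕ → Module.End ℂ V := fun j =>
    (n : ℂ)⁻¹ • ∑ i ∈ Finset.range n, ((ω ^ j)⁻¹) ^ i • T ^ i
  have hroot : ∀ j, ((ω ^ j)⁻¹) ^ n = 1 := fun j => by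
    rw [inv_pow, ← pow_mul, mul_comm, pow_mul, hω.pow_eq_one, one_pow, inv_one]
  have hTP : ∀ j, T * P j = ω ^ j • P j := by
    intro j
    simp only [P, mul_smul_comm, Finset.mul_sum, ← pow_succ', smul_comm (ω ^ j), Finset.smul_sum]
    have e : ∀ i, ((ω ^ j)⁻¹) ^ i • (T ^ (i + 1))
        = ω ^ j • (((ω ^ j)⁻¹) ^ (i + 1) • T ^ (i + 1)) := fun i => by
      rw [smul_smul, pow_succ' ((ω ^ j)⁻¹), ← mul_assoc, mul_inv_cancel₀ (pow_ne_zero _ hω0),
        one_mul]
    simp only [e, ← Finset.smul_sum]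
    simp only [smul_comm _ (ω ^ j), ← Finset.smul_sum]
    congr 2
    let F : ℕ → Module.End ℂ V := fun i => ((ω ^ j)⁻¹) ^ i • T ^ i
    have h1 : ∑ i ∈ Finset.range n, F (i + 1) + F 0 = ∑ i ∈ Finset.range n, F i + F n := by
      rw [← Finset.sum_range_succ', Finset.sum_range_succ]
    have h2 : F n = F 0 := by simp only [F, hT, hroot, pow_zero]
    rw [h2] at h1
    exact add_right_cancel h1
  have hTpowP : ∀ i j, T ^ i * P j = (ω ^ j) ^ i • P j := by
    intro i j
    induction i with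
    | zero => simp
    | succ i ih => rw [pow_succ T, mul_assoc, hTP, mul_smul_comm, ih, smul_smul, pow_succ' (ω ^ j)]
  have hPP : ∀ j, P j * P j = P j := by
    intro j
    conv_lhs => arg 1; simp only [P]
    rw [smul_mul_assoc, Finset.sum_mul]
    simp only [smul_mul_assoc, hTpowP, smul_smul, ← mul_pow,
      inv_mul_cancel₀ (pow_ne_zero _ hω0), one_pow, one_smul, Finset.sum_const, Finset.card_range]
    rw [← Nat.cast_smul_eq_nsmul ℂ, smul_smul, inv_mul_cancel₀ hn0, one_smul]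
  refine ⟨fun j => LinearMap.trace ℂ V (P j), fun j => isIntegral_trace_of_idem _ (hPP j), fun i => ?_⟩
  have hmod : T ^ i = T ^ (i % n) := by
    conv_lhs => rw [← Nat.mod_add_div i n, pow_add, pow_mul, hT, one_pow, mul_one]
  have hωmod : ∀ j, (ω ^ j) ^ i = (ω ^ j) ^ (i % n) := fun j => by
    conv_lhs => rw [← Nat.mod_add_div i n, pow_add, pow_mul,
      show (ω ^ j) ^ n = 1 by rw [← pow_mul, mul_comm, pow_mul, hω.pow_eq_one, one_pow],
      one_pow, mul_one]
  rw [hmod]
  simp only [hωmod, P, map_smul, map_sum, smul_eq_mul]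
  set r := i % n
  have hr : r < n := Nat.mod_lt _ hn
  set t : ℕ → ℂ := fun l => LinearMap.trace ℂ V (T ^ l)
  have hsum : ∀ l ∈ Finset.range n,
      ∑ j ∈ Finset.range n, ((ω ^ j)⁻¹) ^ l * (ω ^ j) ^ r = if l = r then (n : ℂ) else 0 := by
    intro l hl
    have hl' : l < n := Finset.mem_range.1 hl
    have e : ∀ j, ((ω ^ j)⁻¹) ^ l * (ω ^ j) ^ r = ((ω ^ l)⁻¹ * ω ^ r) ^ j := fun j => by
      simp only [inv_pow, mul_pow, ← pow_mul, mul_comm j]
    simp only [e]
    by_cases h : l = r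
    · subst h; simp [inv_mul_cancel₀ (pow_ne_zero _ hω0)]
    · rw [if_neg h]
      have hne : (ω ^ l)⁻¹ * ω ^ r ≠ 1 := by
        intro h1
        rw [inv_mul_eq_one₀ (pow_ne_zero _ hω0)] at h1
        exact h (hω.pow_inj hl' hr h1)
      rw [geom_sum_eq hne]
      simp only [mul_pow, inv_pow, ← pow_mul]
      rw [mul_comm l, mul_comm r, pow_mul, pow_mul, hω.pow_eq_one]
      simp
  symm
  calc ∑ j ∈ Finset.range n,
        ((n : ℂ)⁻¹ * ∑ l ∈ Finset.range n, ((ω ^ j)⁻¹) ^ l * t l) * (ω ^ j) ^ r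
      = ∑ j ∈ Finset.range n, ∑ l ∈ Finset.range n,
          (n : ℂ)⁻¹ * t l * (((ω ^ j)⁻¹) ^ l * (ω ^ j) ^ r) := by
        refine Finset.sum_congr rfl fun j _ => ?_
        rw [Finset.mul_sum, Finset.sum_mul]
        exact Finset.sum_congr rfl fun l _ => by ring
    _ = ∑ l ∈ Finset.range n, (n : ℂ)⁻¹ * t l * (if l = r then (n : ℂ) else 0) := by
        rw [Finset.sum_comm]
        refine Finset.sum_congr rfl fun l hl => ?_
        rw [← Finset.mul_sum, hsum l hl]
    _ = t r := by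
        rw [Finset.sum_eq_single r]
        · rw [if_pos rfl]; field_simp
        · intro l _ hl; rw [if_neg hl, mul_zero]
        · intro h; exact absurd (Finset.mem_range.2 hr) h

variable {p : ℕ} {M : Ideal AlgInt} {G : Type*} [Group G] [Finite G]

/-- A character takes congruent values at `x * y` and at `y` for a `p`-element `x` centralising
the element `y`. -/
theorem character_mul_congr (hM : IsPModular p M) (ρ : Representation ℂ G V) {x y : G} {k : ℕ}
    (hx : orderOf x = p ^ k) (hxy : Commute x y) :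
    MemLocalIdeal M (ρ.character (x * y) - ρ.character y) := by
  classical
  haveI : Fact p.Prime := ⟨hM.1⟩
  suffices h : ∀ g w : G, ∀ a : ℕ, w = g ^ a → (∃ l : ℕ, w ^ p ^ l = 1) → ∀ b : ℕ,
      MemLocalIdeal M (ρ.character (w * g ^ b) - ρ.character (g ^ b)) by
    obtain ⟨E, E', hsplit, hqel, -, -, hvord⟩ := qPart_exponents (G := G) p
    have hE : ∀ g : G, MemLocalIdeal M (ρ.character g - ρ.character (g ^ E)) := fun g => by
      have := h g (g ^ E') E' rfl
        ⟨(Nat.card G).factorization p, orderOf_dvd_iff_pow_eq_one.1 (hvord g)⟩ E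
      rwa [← pow_add, add_comm, pow_add, hsplit] at this
    have hxE : x ^ E = 1 := by
      refine (hqel x ?_).1
      rw [hx]
      refine pow_dvd_pow p ((hM.1.pow_dvd_iff_le_factorization Nat.card_pos.ne').1 ?_)
      exact hx ▸ orderOf_dvd_natCard x
    have h1 := hE (x * y)
    rw [hxy.mul_pow, hxE, one_mul] at h1
    exact LI.trans hM h1 (LI.sub_comm (hE y))
  intro g w a hw hwl b
  subst hw
  obtain ⟨l, hl⟩ := hwl
  set N := orderOf g
  have hN : 0 < N := orderOf_pos g
  obtain ⟨m, hm, htr⟩ := exists_trace_pow_eq (ρ g) hN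
    (by rw [← map_pow, pow_orderOf_eq_one, map_one]) (Complex.isPrimitiveRoot_exp N hN.ne')
  set ω := Complex.exp (2 * Real.pi * Complex.I / N)
  have hω : IsPrimitiveRoot ω N := Complex.isPrimitiveRoot_exp N hN.ne'
  simp only [Representation.character, ← pow_add, map_pow, htr, ← Finset.sum_sub_distrib]
  refine LI.sum hM fun j _ => ?_
  rw [show m j * (ω ^ j) ^ (a + b) - m j * (ω ^ j) ^ b
    = (m j * (ω ^ j) ^ b) * (ω ^ (j * a) - 1) by rw [pow_mul]; ring]
  refine LI.mul_left hM (LR.mul hM (LR.of_isIntegral hM (hm j))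
    (LR.of_isIntegral hM ((IsIntegral.of_pow hN (by rw [hω.pow_eq_one]; exact isIntegral_one)).pow _
      |>.pow _))) (LI.root_sub_one hM (k := l) ?_)
  rw [← pow_mul]
  refine (hω.pow_eq_one_iff_dvd _).2 ?_
  have h1 : N ∣ a * p ^ l := orderOf_dvd_of_pow_eq_one (by rw [pow_mul]; exact hl)
  rw [mul_assoc]
  exact h1.mul_left j

/-- Above every prime there is a modular maximal ideal. -/
theorem exists_isPModular {q : ℕ} (hq : q.Prime) : ∃ N : Ideal AlgInt, IsPModular q N := by
  have hne : Ideal.span {(q : AlgInt)} ≠ ⊤ := by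
    rw [Ne, Ideal.span_singleton_eq_top]
    rintro ⟨u, hu⟩
    have h1 : (q : ℂ) * ((↑u⁻¹ : AlgInt) : ℂ) = 1 := by
      have := congrArg (fun z : AlgInt => (z : ℂ)) (Units.mul_inv u)
      simpa [hu] using this
    have hi : IsIntegral ℤ ((q : ℂ)⁻¹) := by
      rw [← eq_inv_of_mul_eq_one_right h1]
      exact (↑u⁻¹ : AlgInt).2
    have h2 : IsIntegral ℤ (algebraMap ℚ ℂ ((q : ℚ)⁻¹)) := by simpa using hi
    rw [isIntegral_algebraMap_iff (algebraMap ℚ ℂ).injective] at h2
    obtain ⟨z, hz⟩ := (IsIntegrallyClosed.isIntegral_iff (R := ℤ) (K := ℚ)).1 h2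
    have hq0 : (q : ℚ) ≠ 0 := by exact_mod_cast hq.ne_zero
    have h3 : (z : ℚ) * (q : ℚ) = 1 := by
      rw [show (z : ℚ) = (q : ℚ)⁻¹ from hz, inv_mul_cancel₀ hq0]
    have h4 : z * (q : ℤ) = 1 := by exact_mod_cast h3
    have h5 := Int.eq_one_of_mul_eq_one_left (by positivity) h4
    exact hq.one_lt.ne' (by exact_mod_cast h5)
  obtain ⟨N, hN, hle⟩ := Ideal.exists_le_maximal _ hne
  exact ⟨N, hq, hN, hle (Ideal.mem_span_singleton_self _)⟩

end CfsgLib.Blocks
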