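import Cfsg.Agent.Lib.Blocks.Defect

/-!
# Consequences: bounds on characters of positive height, block degree sums, blocks of given defect
-/

set_option autoImplicit false

namespace CfsgLib.Blocks

open Cfsg
open scoped Classical ComplexConjugate

variable {G : Type*} [Group G] [Fintype G] {p : ℕ} {M : Ideal AlgInt} {B : Set (IrrCharacter G)}

/-- If `B` has a character of positive height, `B` has few characters of height zero. -/
theorem four_mul_card_heightZero_le (hM : IsPModular p M) (hB : IsPBlock M B) {χ : IrrCharacter G}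
    (hχ : χ ∈ B) (h0 : minDegVal p B < degVal p χ) :
    4 * ((B.toFinset.filter fun ψ => degVal p ψ = minDegVal p B).card * p ^ 2)
      ≤ p ^ (2 * blockDefect p B) := by
  set m := minDegVal p B
  set s := B.toFinset.filter fun ψ => degVal p ψ = m
  set q : ℤ := (pPartCard p G : ℤ)
  set N := regInt p χ χ
  have hsq := sum_regInt_sq hM hB hχ
  have hp0 : (0 : ℤ) < (p : ℤ) := by exact_mod_cast hM.1.pos
  have hterm : ∀ ψ ∈ s, ((p : ℤ) ^ (m + 1)) ^ 2 ≤ regInt p χ ψ ^ 2 := by
    intro ψ hψ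
    simp only [s, Finset.mem_filter, Set.mem_toFinset] at hψ
    have h1 := (regInt_exact_of_min hM hB hψ.1 hψ.2 hχ).1
    have h2 := regInt_ne_zero_of_min hM hB hψ.1 hψ.2 hχ
    rw [regInt_comm] at h1 h2
    exact Int.le_of_dvd (by positivity)
      (pow_dvd_pow_of_dvd (dvd_trans (pow_dvd_pow _ h0) h1) 2)
  have hsum := Finset.sum_le_sum hterm
  rw [Finset.sum_const, nsmul_eq_mul] at hsum
  have hχs : χ ∉ s := by
    simp only [s, Finset.mem_filter, not_and]
    intro _; omega
  have hsub : ∑ ψ ∈ insert χ s, regInt p χ ψ ^ 2 ≤ q * N := by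
    rw [← hsq]
    refine Finset.sum_le_sum_of_subset_of_nonneg ?_ fun _ _ _ => sq_nonneg _
    exact Finset.insert_subset (Set.mem_toFinset.2 hχ) (Finset.filter_subset _ _)
  rw [Finset.sum_insert hχs] at hsub
  have hmain : 4 * ((s.card : ℤ) * ((p : ℤ) ^ (m + 1)) ^ 2) ≤ q ^ 2 := by
    nlinarith [sq_nonneg (2 * N - q)]
  have hd := blockDefect_add_min (p := p) (IsPBlock.nonempty hM hB)
  have hq : q ^ 2 = ((p : ℤ) ^ m) ^ 2 * (p : ℤ) ^ (2 * blockDefect p B) := by
    simp only [q, pPartCard, Nat.cast_pow, ← pow_mul, ← pow_add]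
    congr 1; omega
  have : 4 * ((s.card : ℤ) * (p : ℤ) ^ 2) ≤ (p : ℤ) ^ (2 * blockDefect p B) := by
    refine le_of_mul_le_mul_left ?_ (show (0 : ℤ) < ((p : ℤ) ^ m) ^ 2 by positivity)
    calc _ = 4 * ((s.card : ℤ) * ((p : ℤ) ^ (m + 1)) ^ 2) := by ring
      _ ≤ _ := hmain
      _ = _ := hq
  exact_mod_cast this

theorem two_mul_card_le_of_pos (hM : IsPModular p M) (hB : IsPBlock M B) {χ : IrrCharacter G}
    (hχ : χ ∈ B) (h0 : minDegVal p B < degVal p χ) :
    2 * Nat.card B ≤ p ^ (2 * blockDefect p B - 2) := by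
  set d := blockDefect p B
  set s := B.toFinset.filter fun ψ => degVal p ψ = minDegVal p B
  set t := B.toFinset.filter fun ψ => ¬ degVal p ψ = minDegVal p B
  have hcard : s.card + t.card = Nat.card B := by
    rw [Nat.card_eq_fintype_card, ← Set.toFinset_card]
    exact Finset.card_filter_add_card_filter_not _
  obtain ⟨ψ, hψ, hψ0⟩ := exists_degVal_eq_min (p := p) (IsPBlock.nonempty hM hB)
  have hs : 1 ≤ s.card := Finset.card_pos.2 ⟨ψ, by simp [s, hψ, hψ0]⟩
  have h1 : 4 * (s.card * p ^ 2) ≤ p ^ (2 * d) := four_mul_card_heightZero_le hM hB hχ h0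
  have h2 := four_mul_sum_pow_height_le hM hB
  rw [← Finset.sum_filter_add_sum_filter_not B.toFinset
    (fun ψ => degVal p ψ = minDegVal p B)] at h2
  have hA : s.card ≤ ∑ ψ ∈ s, p ^ (2 * blockHeight p B (ψ : G → ℂ)) := by
    rw [Finset.card_eq_sum_ones]
    exact Finset.sum_le_sum fun ψ _ => Nat.one_le_pow _ _ hM.1.pos
  have hC : t.card * p ^ 2 ≤ ∑ ψ ∈ t, p ^ (2 * blockHeight p B (ψ : G → ℂ)) := by
    rw [← smul_eq_mul, ← Finset.sum_const]
    refine Finset.sum_le_sum fun ψ hψ => Nat.pow_le_pow_right hM.1.pos ?_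
    simp only [t, Finset.mem_filter, Set.mem_toFinset] at hψ
    have := minDegVal_le (p := p) hψ.1
    rw [blockHeight_eq]; omega
  change 4 * (∑ ψ ∈ s, _ + ∑ ψ ∈ t, _) ≤ _ at h2
  have hd : 1 ≤ d := by
    by_contra hh
    have hd0 : d = 0 := by omega
    rw [hd0] at h1
    have := Nat.one_le_pow 2 p hM.1.pos
    simp only [mul_zero, pow_zero] at h1
    nlinarith
  have h3 : 2 * Nat.card B * p ^ 2 ≤ p ^ (2 * d) := by
    rw [← hcard]
    nlinarith
  have hsplit : p ^ (2 * d) = p ^ (2 * d - 2) * p ^ 2 := by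
    rw [← pow_add]; congr 1; omega
  rw [hsplit] at h3
  exact Nat.le_of_mul_le_mul_right h3 (pow_pos hM.1.pos 2)

theorem blockHeight_add_two_le (hM : IsPModular p M) (hB : IsPBlock M B) {χ : IrrCharacter G}
    (hχ : χ ∈ B) (h : blockHeight p B (χ : G → ℂ) ≠ 0) :
    blockHeight p B (χ : G → ℂ) + 2 ≤ blockDefect p B := by
  rw [blockHeight_eq] at h ⊢
  have := degVal_add_two_le_of_pos hM hB hχ (by omega)
  rw [blockDefect_eq]; omega

/-- The exponent of `p` in the sum of the squares of the degrees in a block. -/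
theorem factorization_sum_sq (hM : IsPModular p M) (hB : IsPBlock M B) :
    (∑ ψ ∈ B.toFinset, charDegree (ψ : G → ℂ) ^ 2).factorization p
      = 2 * (Nat.card G).factorization p - blockDefect p B := by
  obtain ⟨χ, hχ, hχ0⟩ := exists_degVal_eq_min (p := p) (IsPBlock.nonempty hM hB)
  set m := minDegVal p B
  set P : ℤ := (p : ℤ) ^ m with hP
  set s : ℕ := ∑ ψ ∈ B.toFinset, charDegree (ψ : G → ℂ) ^ 2
  have hp : Prime (p : ℤ) := Nat.prime_iff_prime_int.1 hM.1
  have hP0 : P ≠ 0 := pow_ne_zero _ hp.ne_zero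
  have hdeg : ∀ ψ ∈ B, P ∣ (charDegree (ψ : G → ℂ) : ℤ) := fun ψ hψ => by
    have := (hM.1.pow_dvd_iff_le_factorization (charDegree_pos ψ).ne').2 (minDegVal_le (p := p) hψ)
    rw [hP]; exact_mod_cast this
  have hz : ∀ ψ ∈ B, P ∣ regInt p χ ψ := fun ψ hψ =>
    (pow_dvd_pow _ (minDegVal_le (p := p) hψ)).trans (regInt_mod hM χ ψ).1
  let v : IrrCharacter G → ℤ := fun ψ => (charDegree (ψ : G → ℂ) : ℤ) / P
  let c : IrrCharacter G → ℤ := fun ψ => regInt p χ ψ / P
  have hv : ∀ ψ ∈ B, P * v ψ = (charDegree (ψ : G → ℂ) : ℤ) := fun ψ hψ =>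
    Int.mul_ediv_cancel' (hdeg ψ hψ)
  have hc : ∀ ψ ∈ B, P * c ψ = regInt p χ ψ := fun ψ hψ => Int.mul_ediv_cancel' (hz ψ hψ)
  have hvχ : ¬ (p : ℤ) ∣ v χ := fun h => by
    have h2 : p ^ (m + 1) ∣ charDegree (χ : G → ℂ) := by
      have := mul_dvd_mul_left P h
      rw [hv χ hχ, hP, ← pow_succ] at this
      exact_mod_cast this
    have := (hM.1.pow_dvd_iff_le_factorization (charDegree_pos χ).ne').1 h2
    simp only [degVal] at hχ0
    omega
  have hcχ : ¬ (p : ℤ) ∣ c χ := fun h => by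
    have := mul_dvd_mul_left P h
    rw [hc χ hχ, hP, ← pow_succ] at this
    exact (regInt_exact_of_min hM hB hχ hχ0 hχ).2 (by rw [hχ0]; exact this)
  have hcong : ∀ ψ ∈ B, (p : ℤ) ∣ v χ * c ψ - c χ * v ψ := fun ψ hψ => by
    rw [← LI.intCast_iff hM]
    have hc' : ∀ φ ∈ B, (c φ : ℂ)
        = (v φ : ℂ) * omega (φ : G → ℂ) (regClassFun p (χ : G → ℂ)) := fun φ hφ => by
      apply mul_left_cancel₀ (show (P : ℂ) ≠ 0 by exact_mod_cast hP0)
      rw [← mul_assoc, ← Int.cast_mul, ← Int.cast_mul, hc φ hφ, hv φ hφ, cast_regInt hM.1,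
        regInner_eq_omega, irr_one_eq, Int.cast_natCast]
    have : ((v χ * c ψ - c χ * v ψ : ℤ) : ℂ) = ((v χ * v ψ : ℤ) : ℂ) *
        (omega (ψ : G → ℂ) (regClassFun p (χ : G → ℂ))
          - omega (χ : G → ℂ) (regClassFun p (χ : G → ℂ))) := by
      push_cast
      rw [hc' ψ hψ, hc' χ hχ]
      ring
    rw [this]
    exact LI.mul_left hM (LR.intCast hM _)
      (omega_regClassFun_congr hM χ (IsPBlock.sameBlock hM hB hψ hχ))
  let w : IrrCharacter G → ℤ := fun ψ =>
    if ψ ∈ B then (v χ * c ψ - c χ * v ψ) / (p : ℤ) else 0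
  have hkey : ∀ y, ((p : ℤ) * P : ℂ) * ∑ ψ : IrrCharacter G, (w ψ : ℂ) * (ψ : G → ℂ) y
      = (v χ : ℂ) * (∑ ψ : IrrCharacter G,
          blockInd B ψ * regInner p (χ : G → ℂ) (ψ : G → ℂ) * (ψ : G → ℂ) y)
        - (c χ : ℂ) * ∑ ψ : IrrCharacter G,
          blockInd B ψ * ((ψ : G → ℂ) 1 * (ψ : G → ℂ) y) := by
    intro y
    rw [Finset.mul_sum, Finset.mul_sum, Finset.mul_sum, ← Finset.sum_sub_distrib]
    refine Finset.sum_congr rfl fun ψ _ => ?_
    by_cases hψ : ψ ∈ B
    · have h1 : ((p : ℤ) * P : ℂ) * (w ψ : ℂ)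
          = (v χ : ℂ) * (regInt p χ ψ : ℂ) - (c χ : ℂ) * ((charDegree (ψ : G → ℂ) : ℤ) : ℂ) := by
        simp only [w, if_pos hψ]
        rw [← hc ψ hψ, ← hv ψ hψ]
        have := Int.mul_ediv_cancel' (hcong ψ hψ)
        have h2 := congrArg (fun z : ℤ => (z : ℂ)) this
        push_cast at h2 ⊢
        linear_combination (P : ℂ) * h2
      rw [blockInd_of_mem hψ, one_mul, one_mul, ← cast_regInt hM.1, irr_one_eq]
      rw [Int.cast_natCast] at h1
      linear_combination ((ψ : G → ℂ) y) * h1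
    · simp [w, hψ, blockInd_of_notMem hψ]
  obtain ⟨n, hn⟩ := pPartCard_dvd_of_vanish hM.1 (isGeneralizedCharacter_intSum w) fun x hx => by
    refine (mul_eq_zero.1 ?_).resolve_left
      (show ((p : ℤ) * P : ℂ) ≠ 0 by exact_mod_cast mul_ne_zero hp.ne_zero hP0)
    rw [hkey x, sum_regInner_mul hM (IsPBlock.isLocalOn hM hB) χ x,
      if_neg (not_isPRegular.2 hx), mul_zero, zero_sub, neg_eq_zero]
    have h0 := IsPBlock.sum_mul_eq_zero hM hB hx (h := (1 : G)) (by simp [hM.1.ne_one])
    rw [mul_eq_zero]; right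
    rw [← h0]
    exact Finset.sum_congr rfl fun ψ _ => by ring
  have h1 := hkey 1
  rw [hn, sum_regInner_mul hM (IsPBlock.isLocalOn hM hB) χ 1,
    if_pos (by simp [IsPRegular, hM.1.ne_one]), blockInd_of_mem hχ] at h1
  have hs : ∑ ψ : IrrCharacter G, blockInd B ψ * ((ψ : G → ℂ) 1 * (ψ : G → ℂ) 1)
      = ((s : ℤ) : ℂ) := by
    rw [Int.cast_natCast, Nat.cast_sum]
    calc _ = ∑ ψ : IrrCharacter G, if ψ ∈ B then (charDegree (ψ : G → ℂ) : ℂ) ^ 2 else 0 :=
          Finset.sum_congr rfl fun ψ _ => by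
            by_cases hψ : ψ ∈ B
            · rw [if_pos hψ, blockInd_of_mem hψ, irr_one_eq]; ring
            · rw [if_neg hψ, blockInd_of_notMem hψ, zero_mul]
      _ = _ := by
          rw [← Finset.sum_filter]
          exact Finset.sum_congr (by ext; simp) fun ψ _ => by push_cast; rfl
  rw [hs, irr_one_eq] at h1
  set q : ℤ := (pPartCard p G : ℤ)
  have hint : c χ * (s : ℤ) = q * P * (v χ * v χ - (p : ℤ) * n) := by
    apply Int.cast_injective (α := ℂ)
    have h2 : ((charDegree (χ : G → ℂ) : ℤ) : ℂ) = ((P * v χ : ℤ) : ℂ) := by rw [hv χ hχ]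
    push_cast at h2 h1 ⊢
    simp only [q, Int.cast_natCast] at *
    linear_combination h1 + ((v χ : ℂ) * (pPartCard p G : ℂ)) * h2
  have hqP : q * P = (p : ℤ) ^ ((Nat.card G).factorization p + m) := by
    simp only [q, hP, pPartCard, Nat.cast_pow, ← pow_add]
  have hd := blockDefect_add_min (p := p) (IsPBlock.nonempty hM hB)
  have hspos : s ≠ 0 := (Finset.sum_pos (fun ψ _ => pow_pos (charDegree_pos ψ) 2)
    ⟨χ, Set.mem_toFinset.2 hχ⟩).ne'
  rw [hqP] at hint
  have hdvd : p ^ ((Nat.card G).factorization p + m) ∣ s := by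
    have : (p : ℤ) ^ ((Nat.card G).factorization p + m) ∣ (s : ℤ) :=
      hp.pow_dvd_of_dvd_mul_left _ hcχ ⟨_, hint⟩
    exact_mod_cast this
  have hndvd : ¬ p ^ ((Nat.card G).factorization p + m + 1) ∣ s := fun h => by
    have h' : (p : ℤ) ^ ((Nat.card G).factorization p + m + 1) ∣ (s : ℤ) := by exact_mod_cast h
    have h2 := h'.mul_left (c χ)
    rw [hint, pow_succ] at h2
    have h3 := (mul_dvd_mul_iff_left (pow_ne_zero _ hp.ne_zero)).1 h2
    have h4 : (p : ℤ) ∣ v χ * v χ := by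
      have := dvd_add h3 (dvd_mul_right (p : ℤ) n)
      rwa [sub_add_cancel] at this
    exact hvχ ((hp.dvd_or_dvd h4).elim id id)
  have e1 := (hM.1.pow_dvd_iff_le_factorization hspos).1 hdvd
  have e2 : ¬ (Nat.card G).factorization p + m + 1 ≤ s.factorization p := fun h =>
    hndvd ((hM.1.pow_dvd_iff_le_factorization hspos).2 h)
  omega

/-- Blocks of defect `σ` are at most as many as regular classes of defect `σ`. -/
theorem card_blocks_defect_le (hM : IsPModular p M) (σ : ℕ) :
    Nat.card {B : Set (IrrCharacter G) // IsPBlock M B ∧ blockDefect p B = σ}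
      ≤ Nat.card {C : ConjClasses G // ∃ g : G, ConjClasses.mk g = C ∧ ¬ p ∣ orderOf g ∧
          centExp p g = σ} := by
  set ι := {B : Set (IrrCharacter G) // IsPBlock M B ∧ blockDefect p B = σ}
  set κ := {C : ConjClasses G // ∃ g : G, ConjClasses.mk g = C ∧ ¬ p ∣ orderOf g ∧
    centExp p g = σ}
  have hrep : ∀ i : ι, ∃ χ, χ ∈ i.1 := fun i => IsPBlock.nonempty hM i.2.1
  choose χ hχ using hrep
  let A : Matrix ι κ ℂ := Matrix.of fun i C => blockCoeff i.1 C.1.out
  let W : Matrix κ ι ℂ := Matrix.of fun C j => centralChar ((χ j : IrrCharacter G) : G → ℂ) C.1.out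
  have hLR : ∀ i j, MemLocalRing M ((A * W) i j) := fun i j => by
    rw [Matrix.mul_apply]
    exact LR.sum hM fun C _ =>
      LR.mul hM (blockCoeff_LR hM i.2.1 _) (centralChar_LR hM _ _)
  have hcong : ∀ i j, MemLocalIdeal M ((A * W) i j - (1 : Matrix ι ι ℂ) i j) := fun i j => by
    have hδ : (1 : Matrix ι ι ℂ) i j = blockInd i.1 (χ j) := by
      by_cases h : i = j
      · subst h; rw [Matrix.one_apply_eq, blockInd_of_mem (hχ i)]
      · rw [Matrix.one_apply_ne h, blockInd_of_notMem fun hh => h (Subtype.ext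
          (IsPBlock.eq_of_mem hM i.2.1 j.2.1 hh (hχ j)))]
    rw [hδ, ← sum_blockCoeff_centralChar, Matrix.mul_apply,
      ← Finset.sum_add_sum_compl (s := (Finset.univ : Finset κ).image Subtype.val)
        (fun C : ConjClasses G => blockCoeff i.1 C.out * centralChar ((χ j : IrrCharacter G) : G → ℂ) C.out),
      Finset.sum_image Subtype.val_injective.injOn, sub_add_eq_sub_sub]
    simp only [A, W, Matrix.of_apply]
    rw [show ∀ a b c : ℂ, a = b → a - b - c = -c from fun a b c h => by rw [h]; ring]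
    swap
    · exact Finset.sum_congr (by ext; simp) fun _ _ => rfl
    refine LI.neg (LI.sum hM fun C hC => ?_)
    by_contra hn
    have ha : ¬ MemLocalIdeal M (blockCoeff i.1 C.out) := fun h =>
      hn (LI.mul_right hM h (centralChar_LR hM _ _))
    have hw : ¬ MemLocalIdeal M (centralChar ((χ j : IrrCharacter G) : G → ℂ) C.out) := fun h =>
      hn (LI.mul_left hM (blockCoeff_LR hM i.2.1 _) h)
    have h1 := centExp_le_blockDefect hM i.2.1 ha
    have h2 := blockDefect_le_centExp hM j.2.1 (hχ j) hw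
    rw [i.2.2] at h1
    rw [j.2.2] at h2
    simp only [Finset.mem_compl, Finset.mem_image, Finset.mem_univ, true_and, not_exists] at hC
    exact hC ⟨C, C.out, Quotient.out_eq C, isPRegular_of_not_LI hM i.2.1 ha, le_antisymm h1 h2⟩ rfl
  have hdet := det_ne_zero_of_congr_one hM (A * W) hcong
  have h1 : (A * W).rank = Fintype.card ι :=
    Matrix.rank_of_isUnit _ ((Matrix.isUnit_iff_isUnit_det _).2 (isUnit_iff_ne_zero.2 hdet))
  rw [Nat.card_eq_fintype_card, Nat.card_eq_fintype_card, ← h1]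
  exact (Matrix.rank_mul_le_right A W).trans (Matrix.rank_le_card_height W)

/-- Blocks of equal defect are separated by regular classes of that defect. -/
theorem sameBlock_iff_defect (hM : IsPModular p M) {d : ℕ} {χ ψ : IrrCharacter G}
    (hχ : blockDefect p (blockOf M (χ : G → ℂ)) = d)
    (hψ : blockDefect p (blockOf M (ψ : G → ℂ)) = d) :
    SameBlock M (χ : G → ℂ) (ψ : G → ℂ) ↔ ∀ x : G, ¬ p ∣ orderOf x → centExp p x = d →
      MemLocalIdeal M (centralChar (χ : G → ℂ) x - centralChar (ψ : G → ℂ) x) := by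
  refine ⟨fun h x _ _ => h x, fun h => ?_⟩
  set B := blockOf M (χ : G → ℂ)
  have hB : IsPBlock M B := isPBlock_blockOf χ
  by_contra hne
  have key : MemLocalIdeal M (blockInd B χ - blockInd B ψ) := by
    rw [← sum_blockCoeff_centralChar B χ, ← sum_blockCoeff_centralChar B ψ,
      ← Finset.sum_sub_distrib]
    refine LI.sum hM fun C _ => ?_
    rw [← mul_sub]
    by_contra hn
    have ha : ¬ MemLocalIdeal M (blockCoeff B C.out) := fun h' =>
      hn (LI.mul_right hM h' (LR.sub hM (centralChar_LR hM _ _) (centralChar_LR hM _ _)))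
    have hd : MemLocalIdeal M (centralChar (χ : G → ℂ) C.out - centralChar (ψ : G → ℂ) C.out) := by
      by_cases hw : MemLocalIdeal M (centralChar (χ : G → ℂ) C.out)
      · by_cases hw' : MemLocalIdeal M (centralChar (ψ : G → ℂ) C.out)
        · exact LI.sub hM hw hw'
        · exact h _ (isPRegular_of_not_LI hM hB ha) (le_antisymm
            (hχ ▸ centExp_le_blockDefect hM hB ha)
            (hψ ▸ blockDefect_le_centExp hM (isPBlock_blockOf ψ) (SameBlock_refl hM _) hw'))
      · exact h _ (isPRegular_of_not_LI hM hB ha) (le_antisymm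
          (hχ ▸ centExp_le_blockDefect hM hB ha)
          (hχ ▸ blockDefect_le_centExp hM hB (SameBlock_refl hM _) hw))
    exact hn (LI.mul_left hM (blockCoeff_LR hM hB _) hd)
  rw [blockInd_of_mem (SameBlock_refl hM _), blockInd_of_notMem hne, sub_zero] at key
  exact LI.not_one hM key

theorem minDegVal_principalBlock (hM : IsPModular p M) :
    minDegVal p (principalBlock M G) = 0 := by
  have h := minDegVal_le (p := p) (trivChar_mem_principalBlock (G := G) hM)
  have h0 : degVal p (trivChar G) = 0 := by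
    have : charDegree (trivChar G : G → ℂ) = 1 := by simp [charDegree]
    rw [degVal, this, Nat.factorization_one]; rfl
  omega

theorem isDefectGroup_conj [Fact p.Prime] {D : Subgroup G} (hD : IsDefectGroup p M B D) (y : G) :
    IsDefectGroup p M B (D.map (MulAut.conj y).toMonoidHom) := by
  obtain ⟨g, hg, P, rfl⟩ := hD
  refine ⟨y * g * y⁻¹, isDefectClass_conj hg y, ?_⟩
  have he : (Subgroup.centralizer ({g} : Set G)).map (MulAut.conj y).toMonoidHom
      = Subgroup.centralizer ({y * g * y⁻¹} : Set G) := by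
    ext x
    simp only [Subgroup.mem_map_equiv, Subgroup.mem_centralizer_singleton_iff, MulAut.conj_symm_apply]
    refine ⟨fun h => ?_, fun h => ?_⟩
    · have := congrArg (fun z => y * z * y⁻¹) h
      simpa [mul_assoc] using this
    · have := congrArg (fun z => y⁻¹ * z * y) h
      simpa [mul_assoc] using this
  let φ := ((Subgroup.centralizer ({g} : Set G)).equivMapOfInjective (MulAut.conj y).toMonoidHom
    (MulAut.conj y).injective).trans (MulEquiv.subgroupCongr he)
  have hsurj : Function.Surjective φ.toMonoidHom := φ.surjective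
  refine ⟨P.mapSurjective hsurj, ?_⟩
  rw [Sylow.coe_mapSurjective, Subgroup.map_map, Subgroup.map_map]
  rfl

theorem isDefectGroup_principalBlock_iff (hM : IsPModular p M) (D : Subgroup G) :
    IsDefectGroup p M (principalBlock M G) D ↔ ∃ S : Sylow p G, (S : Subgroup G) = D := by
  haveI := Fact.mk hM.1
  have hB : IsPBlock M (principalBlock M G) := isPBlock_principalBlock
  have hcard : ∀ D : Subgroup G, IsDefectGroup p M (principalBlock M G) D →
      Nat.card D = p ^ (Nat.card G).factorization p := fun D hD => by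
    rw [card_defectGroup hM hB hD, blockDefect_eq, minDegVal_principalBlock hM, Nat.sub_zero]
  refine ⟨fun h => ⟨Sylow.ofCard D (hcard D h), Sylow.coe_ofCard D (hcard D h)⟩, ?_⟩
  rintro ⟨S, rfl⟩
  obtain ⟨D, hD⟩ := exists_isDefectGroup hM hB
  obtain ⟨y, hy⟩ := MulAction.exists_smul_eq G (Sylow.ofCard D (hcard D hD)) S
  have := isDefectGroup_conj hD y
  convert this using 1
  rw [← hy, Sylow.coe_subgroup_smul, Sylow.coe_ofCard]
  rfl

end CfsgLib.Blocks
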