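import Cfsg.Agent.Lib.Blocks.RegularInner

/-!
# Heights, and the Brauer–Feit inequality
-/

set_option autoImplicit false

namespace CfsgLib.Blocks

open Cfsg
open scoped Classical ComplexConjugate

variable {G : Type*} [Group G] [Fintype G] {p : ℕ} {M : Ideal AlgInt}

/-- The exponent of `p` in the degree of `χ`. -/
noncomputable def degVal (p : ℕ) (χ : IrrCharacter G) : ℕ :=
  (charDegree (χ : G → ℂ)).factorization p

/-- The least exponent of `p` in the degrees of the members of `B`. -/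
noncomputable def minDegVal (p : ℕ) (B : Set (IrrCharacter G)) : ℕ :=
  sInf ((fun χ : IrrCharacter G => (charDegree (χ : G → ℂ)).factorization p) '' B)

theorem blockDefect_eq (B : Set (IrrCharacter G)) :
    blockDefect p B = (Nat.card G).factorization p - minDegVal p B := rfl

theorem blockHeight_eq (B : Set (IrrCharacter G)) (χ : IrrCharacter G) :
    blockHeight p B (χ : G → ℂ) = degVal p χ - minDegVal p B := rfl

theorem minDegVal_le {B : Set (IrrCharacter G)} {χ : IrrCharacter G} (h : χ ∈ B) :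
    minDegVal p B ≤ degVal p χ :=
  Nat.sInf_le ⟨χ, h, rfl⟩

theorem exists_degVal_eq_min {B : Set (IrrCharacter G)} (h : B.Nonempty) :
    ∃ χ ∈ B, degVal p χ = minDegVal p B := by
  obtain ⟨χ, hχ, he⟩ := Nat.sInf_mem (h.image fun χ : IrrCharacter G =>
    (charDegree (χ : G → ℂ)).factorization p)
  exact ⟨χ, hχ, he⟩

theorem degVal_le (χ : IrrCharacter G) :
    degVal p χ ≤ (Nat.card G).factorization p :=
  (Nat.factorization_le_iff_dvd (charDegree_pos χ).ne' Nat.card_pos.ne').2 (charDegree_dvd χ) p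

theorem blockHeight_eq_zero_iff {B : Set (IrrCharacter G)} {χ : IrrCharacter G} (h : χ ∈ B) :
    blockHeight p B (χ : G → ℂ) = 0 ↔ degVal p χ = minDegVal p B := by
  have := minDegVal_le (p := p) h
  rw [blockHeight_eq]; omega

theorem blockDefect_add_min {B : Set (IrrCharacter G)} (h : B.Nonempty) :
    blockDefect p B + minDegVal p B = (Nat.card G).factorization p := by
  obtain ⟨χ, _, he⟩ := exists_degVal_eq_min (p := p) h
  have := degVal_le (p := p) χ
  rw [blockDefect_eq]; omega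

/-! ### Integers that are local integral multiples -/

theorem prime_pow_dvd_of_LR (hM : IsPModular p M) :
    ∀ (k : ℕ) (z : ℤ) (u : ℂ), MemLocalRing M u → (z : ℂ) = (p : ℂ) ^ k * u → (p : ℤ) ^ k ∣ z
  | 0, z, _, _, _ => by simp
  | k + 1, z, u, hu, h => by
    have hz : MemLocalIdeal M (z : ℂ) := by
      rw [h, pow_succ', mul_assoc]
      exact LI.mul_right hM (LI.natCast_prime hM) (LR.mul hM (LR.pow hM (LR.natCast hM p) k) hu)
    obtain ⟨z', rfl⟩ := (LI.intCast_iff hM z).1 hz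
    have h' : (z' : ℂ) = (p : ℂ) ^ k * u := by
      apply mul_left_cancel₀ (show (p : ℂ) ≠ 0 by exact_mod_cast hM.1.ne_zero)
      push_cast at h
      rw [h]; ring
    rw [pow_succ']
    exact mul_dvd_mul_left _ (prime_pow_dvd_of_LR hM k z' u hu h')

theorem dvd_of_eq_natCast_mul (hM : IsPModular p M) {z : ℤ} {d : ℕ} (hd : d ≠ 0) {w : ℂ}
    (hw : MemLocalRing M w) (h : (z : ℂ) = (d : ℂ) * w) :
    (p : ℤ) ^ d.factorization p ∣ z ∧
      (MemLocalIdeal M w ↔ (p : ℤ) ^ (d.factorization p + 1) ∣ z) := by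
  set k := d.factorization p
  set e := d / p ^ k
  have hde : d = p ^ k * e := (Nat.ordProj_mul_ordCompl_eq_self d p).symm
  have hew : MemLocalRing M ((e : ℂ) * w) := LR.mul hM (LR.natCast hM _) hw
  have h' : (z : ℂ) = (p : ℂ) ^ k * ((e : ℂ) * w) := by
    rw [h, ← mul_assoc, hde]; push_cast; ring
  have hk := prime_pow_dvd_of_LR hM k z _ hew h'
  refine ⟨hk, ?_⟩
  obtain ⟨z', rfl⟩ := hk
  have hz' : (z' : ℂ) = (e : ℂ) * w := by
    apply mul_left_cancel₀ (pow_ne_zero k (show (p : ℂ) ≠ 0 by exact_mod_cast hM.1.ne_zero))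
    push_cast at h'
    exact h'
  rw [pow_succ, mul_dvd_mul_iff_left (pow_ne_zero _ (by exact_mod_cast hM.1.ne_zero)),
    ← LI.intCast_iff hM z', hz']
  refine ⟨fun hI => LI.mul_left hM (LR.natCast hM _) hI, fun hI => ?_⟩
  exact (LI.mem_or_mem hM (LR.natCast hM _) hw hI).resolve_left fun he =>
    Nat.not_dvd_ordCompl hM.1 hd ((LI.natCast_iff hM _).1 he)

/-! ### The integral matrix -/

/-- `regInner` as an integer. -/
noncomputable def regInt (p : ℕ) (χ ψ : IrrCharacter G) : ℤ :=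
  ⌊(regInner p (χ : G → ℂ) (ψ : G → ℂ)).re⌋

theorem cast_regInt (hp : p.Prime) (χ ψ : IrrCharacter G) :
    (regInt p χ ψ : ℂ) = regInner p (χ : G → ℂ) (ψ : G → ℂ) := by
  obtain ⟨n, hn⟩ := exists_int_regInner hp (CfsgLib.Char.isCharacter_irr χ)
    (CfsgLib.Char.isCharacter_irr ψ)
  rw [regInt, hn, Complex.intCast_re, Int.floor_intCast]

theorem regInt_comm (χ ψ : IrrCharacter G) : regInt p χ ψ = regInt p ψ χ := by
  rw [regInt, regInner_comm]; rfl

theorem regInt_mod (hM : IsPModular p M) (χ ψ : IrrCharacter G) :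
    (p : ℤ) ^ degVal p ψ ∣ regInt p χ ψ ∧
      (MemLocalIdeal M (omega (ψ : G → ℂ) (regClassFun p (χ : G → ℂ))) ↔
        (p : ℤ) ^ (degVal p ψ + 1) ∣ regInt p χ ψ) :=
  dvd_of_eq_natCast_mul hM (charDegree_pos ψ).ne'
    (omega_LR hM ψ (regClassFun_isClassFunction (CfsgLib.Char.IsIrrCharacter.isClassFunction χ.2))
      (regClassFun_LR hM χ))
    (by rw [cast_regInt hM.1, regInner_eq_omega, irr_one_eq])

theorem isGeneralizedCharacter_intSum (c : IrrCharacter G → ℤ) :
    IsGeneralizedCharacter G fun y => ∑ ψ : IrrCharacter G, (c ψ : ℂ) * (ψ : G → ℂ) y := by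
  refine ⟨fun y => ∑ ψ : IrrCharacter G, ((c ψ).toNat : ℂ) * (ψ : G → ℂ) y,
    fun y => ∑ ψ : IrrCharacter G, ((-c ψ).toNat : ℂ) * (ψ : G → ℂ) y, ?_, ?_, ?_⟩
  · have := CfsgLib.Char.isCharacter_sum Finset.univ
      (fun ψ : IrrCharacter G => (c ψ).toNat • (ψ : G → ℂ))
      fun ψ _ => CfsgLib.Char.IsCharacter.nsmul (CfsgLib.Char.isCharacter_irr ψ) _
    convert this using 1; ext y; simp
  · have := CfsgLib.Char.isCharacter_sum Finset.univ
      (fun ψ : IrrCharacter G => (-c ψ).toNat • (ψ : G → ℂ))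
      fun ψ _ => CfsgLib.Char.IsCharacter.nsmul (CfsgLib.Char.isCharacter_irr ψ) _
    convert this using 1; ext y; simp
  · ext y
    simp only [Pi.sub_apply, ← Finset.sum_sub_distrib, ← sub_mul]
    refine Finset.sum_congr rfl fun ψ _ => ?_
    congr 1
    have h := (c ψ).toNat_sub_toNat_neg
    exact_mod_cast h.symm

variable {B : Set (IrrCharacter G)}

theorem exists_not_dvd_regInt (hM : IsPModular p M) (hB : IsPBlock M B) {χ : IrrCharacter G}
    (hχ : χ ∈ B) : ∃ ψ ∈ B, ¬ (p : ℤ) ^ (degVal p χ + 1) ∣ regInt p χ ψ := by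
  by_contra h
  push Not at h
  set q : ℤ := (p : ℤ) ^ (degVal p χ + 1)
  have hq : (q : ℂ) ≠ 0 := by
    simp only [q, Int.cast_pow, Int.cast_natCast]
    exact pow_ne_zero _ (by exact_mod_cast hM.1.ne_zero)
  let c : IrrCharacter G → ℤ := fun ψ => if ψ ∈ B then regInt p χ ψ / q else 0
  have hc : ∀ y, (q : ℂ) * ∑ ψ : IrrCharacter G, (c ψ : ℂ) * (ψ : G → ℂ) y
      = if IsPRegular p y then (pPartCard p G : ℂ) * (χ : G → ℂ) y else 0 := by
    intro y
    have hs := sum_regInner_mul hM (IsPBlock.isLocalOn hM hB) χ y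
    rw [blockInd_of_mem hχ, mul_one] at hs
    rw [← hs, Finset.mul_sum]
    refine Finset.sum_congr rfl fun ψ _ => ?_
    by_cases hψ : ψ ∈ B
    · simp only [c, if_pos hψ, blockInd_of_mem hψ, one_mul, ← cast_regInt hM.1]
      rw [← mul_assoc, ← Int.cast_mul, Int.mul_ediv_cancel' (h ψ hψ)]
    · simp [c, hψ, blockInd_of_notMem hψ]
  obtain ⟨n, hn⟩ := pPartCard_dvd_of_vanish hM.1 (isGeneralizedCharacter_intSum c) fun x hx => by
    have := hc x
    rw [if_neg (not_isPRegular.2 hx)] at this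
    exact (mul_eq_zero.1 this).resolve_left hq
  have h1 := hc 1
  rw [if_pos (by simp [IsPRegular, hM.1.ne_one]), hn, irr_one_eq] at h1
  have h2 : ((charDegree (χ : G → ℂ) : ℤ) : ℂ) = ((q * n : ℤ) : ℂ) := by
    apply mul_left_cancel₀ (pPartCard_ne_zero (G := G) hM.1)
    push_cast
    rw [← h1]; ring
  have h3 : q ∣ (charDegree (χ : G → ℂ) : ℤ) := ⟨n, Int.cast_injective h2⟩
  have h4 : p ^ (degVal p χ + 1) ∣ charDegree (χ : G → ℂ) := by
    simp only [q] at h3; exact_mod_cast h3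
  have := (hM.1.pow_dvd_iff_le_factorization (charDegree_pos χ).ne').1 h4
  simp only [degVal] at this
  omega

theorem not_LI_omega_of_min (hM : IsPModular p M) (hB : IsPBlock M B) {χ : IrrCharacter G}
    (hχ : χ ∈ B) (h0 : degVal p χ = minDegVal p B) {φ : IrrCharacter G} (hφ : φ ∈ B) :
    ¬ MemLocalIdeal M (omega (φ : G → ℂ) (regClassFun p (χ : G → ℂ))) := by
  obtain ⟨ψ, hψ, hnd⟩ := exists_not_dvd_regInt hM hB hχ
  have hψn : ¬ MemLocalIdeal M (omega (ψ : G → ℂ) (regClassFun p (χ : G → ℂ))) := by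
    intro hI
    refine hnd (dvd_trans (pow_dvd_pow _ ?_) ((regInt_mod hM χ ψ).2.1 hI))
    have := minDegVal_le (p := p) hψ
    omega
  intro hI
  have := LI.add hM (omega_regClassFun_congr hM χ (IsPBlock.sameBlock hM hB hψ hφ)) hI
  rw [sub_add_cancel] at this
  exact hψn this

/-- For `χ` of height zero, `regInt p χ φ` has exactly the exponent of `p` of the degree of `φ`. -/
theorem regInt_exact_of_min (hM : IsPModular p M) (hB : IsPBlock M B) {χ : IrrCharacter G}
    (hχ : χ ∈ B) (h0 : degVal p χ = minDegVal p B) {φ : IrrCharacter G} (hφ : φ ∈ B) :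
    (p : ℤ) ^ degVal p φ ∣ regInt p χ φ ∧ ¬ (p : ℤ) ^ (degVal p φ + 1) ∣ regInt p χ φ :=
  ⟨(regInt_mod hM χ φ).1, fun h => not_LI_omega_of_min hM hB hχ h0 hφ ((regInt_mod hM χ φ).2.2 h)⟩

theorem regInt_ne_zero_of_min (hM : IsPModular p M) (hB : IsPBlock M B) {χ : IrrCharacter G}
    (hχ : χ ∈ B) (h0 : degVal p χ = minDegVal p B) {φ : IrrCharacter G} (hφ : φ ∈ B) :
    regInt p χ φ ≠ 0 :=
  fun h => (regInt_exact_of_min hM hB hχ h0 hφ).2 (h ▸ dvd_zero _)

/-- For `χ` of positive height, `regInt p χ φ` has larger exponent of `p` than the degree of `φ`. -/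
theorem regInt_dvd_of_pos (hM : IsPModular p M) (hB : IsPBlock M B) {χ : IrrCharacter G}
    (hχ : χ ∈ B) (h0 : minDegVal p B < degVal p χ) {φ : IrrCharacter G} (hφ : φ ∈ B) :
    (p : ℤ) ^ (degVal p φ + 1) ∣ regInt p χ φ := by
  obtain ⟨ψ, hψ, hψ0⟩ := exists_degVal_eq_min (p := p) (IsPBlock.nonempty hM hB)
  have hI : MemLocalIdeal M (omega (ψ : G → ℂ) (regClassFun p (χ : G → ℂ))) := by
    rw [(regInt_mod hM χ ψ).2, regInt_comm]
    exact dvd_trans (pow_dvd_pow _ (by omega)) (regInt_exact_of_min hM hB hψ hψ0 hχ).1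
  refine (regInt_mod hM χ φ).2.1 ?_
  have := LI.add hM (omega_regClassFun_congr hM χ (IsPBlock.sameBlock hM hB hφ hψ)) hI
  rwa [sub_add_cancel] at this

theorem sum_regInt_sq (hM : IsPModular p M) (hB : IsPBlock M B) {χ : IrrCharacter G}
    (hχ : χ ∈ B) :
    ∑ ψ ∈ B.toFinset, regInt p χ ψ ^ 2 = (pPartCard p G : ℤ) * regInt p χ χ := by
  apply Int.cast_injective (α := ℂ)
  push_cast
  simp only [cast_regInt hM.1]
  have h := sum_regInner_sq hM (IsPBlock.isLocalOn hM hB) χ χ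
  rw [blockInd_of_mem hχ, mul_one] at h
  rw [← h]
  calc _ = ∑ ψ : IrrCharacter G, if ψ ∈ B then
        regInner p (χ : G → ℂ) (ψ : G → ℂ) ^ 2 else 0 := by
        rw [← Finset.sum_filter]; exact Finset.sum_congr (by ext; simp) fun _ _ => rfl
    _ = _ := by
        refine Finset.sum_congr rfl fun ψ _ => ?_
        by_cases hψ : ψ ∈ B
        · rw [if_pos hψ, blockInd_of_mem hψ, regInner_comm (ψ : G → ℂ), one_mul, sq]
        · rw [if_neg hψ, blockInd_of_notMem hψ, zero_mul, zero_mul]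

/-- A character of positive height has degree divisible by `p` at most `|G|_p / p^2` times. -/
theorem degVal_add_two_le_of_pos (hM : IsPModular p M) (hB : IsPBlock M B) {χ : IrrCharacter G}
    (hχ : χ ∈ B) (h0 : minDegVal p B < degVal p χ) :
    degVal p χ + 2 ≤ (Nat.card G).factorization p := by
  obtain ⟨ψ, hψ, hψ0⟩ := exists_degVal_eq_min (p := p) (IsPBlock.nonempty hM hB)
  have hne : ψ ≠ χ := fun h => by subst h; omega
  set N := regInt p χ χ
  have hsq := sum_regInt_sq hM hB hχ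
  have hpos : 0 < regInt p χ ψ ^ 2 := by
    have := regInt_ne_zero_of_min hM hB hψ hψ0 hχ
    rw [regInt_comm] at this
    positivity
  have hle : regInt p χ ψ ^ 2 + N ^ 2 ≤ (pPartCard p G : ℤ) * N := by
    rw [← hsq, ← Finset.sum_pair (f := fun φ => regInt p χ φ ^ 2) hne]
    exact Finset.sum_le_sum_of_subset_of_nonneg
      (by simp [Set.insert_subset_iff, hψ, hχ]) fun _ _ _ => sq_nonneg _
  have hq : (0 : ℤ) ≤ pPartCard p G := Int.natCast_nonneg _
  have hN : 0 < N := by nlinarith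
  have hN' : N < (pPartCard p G : ℤ) := by nlinarith
  have hd := Int.le_of_dvd hN (regInt_dvd_of_pos hM hB hχ h0 hχ)
  have : p ^ (degVal p χ + 1) < p ^ (Nat.card G).factorization p := by
    have := lt_of_le_of_lt hd hN'
    rw [pPartCard] at this
    exact_mod_cast this
  have := (Nat.pow_lt_pow_iff_right hM.1.one_lt).1 this
  omega

/-- The Brauer–Feit inequality, with heights. -/
theorem four_mul_sum_pow_height_le (hM : IsPModular p M) (hB : IsPBlock M B) :
    4 * ∑ ψ ∈ B.toFinset, p ^ (2 * blockHeight p B (ψ : G → ℂ))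
      ≤ p ^ (2 * blockDefect p B) + 4 := by
  obtain ⟨χ, hχ, h0⟩ := exists_degVal_eq_min (p := p) (IsPBlock.nonempty hM hB)
  set m := minDegVal p B
  set q : ℤ := (pPartCard p G : ℤ)
  set N := regInt p χ χ
  have hsq := sum_regInt_sq hM hB hχ
  have hterm : ∀ ψ ∈ B.toFinset, ((p : ℤ) ^ degVal p ψ) ^ 2 ≤ regInt p χ ψ ^ 2 := by
    intro ψ hψ
    rw [Set.mem_toFinset] at hψ
    have h1 := (regInt_exact_of_min hM hB hχ h0 hψ).1
    have h2 := regInt_ne_zero_of_min hM hB hχ h0 hψ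
    exact Int.le_of_dvd (by positivity) (pow_dvd_pow_of_dvd h1 2)
  rw [← Finset.add_sum_erase _ _ (Set.mem_toFinset.2 hχ)] at hsq
  have hrest := Finset.sum_le_sum (s := B.toFinset.erase χ)
    fun ψ hψ => hterm ψ (Finset.mem_of_mem_erase hψ)
  have hmain : 4 * ∑ ψ ∈ B.toFinset, ((p : ℤ) ^ degVal p ψ) ^ 2
      ≤ q ^ 2 + 4 * ((p : ℤ) ^ m) ^ 2 := by
    rw [← Finset.add_sum_erase _ _ (Set.mem_toFinset.2 hχ), h0]
    nlinarith [sq_nonneg (2 * N - q)]
  have hfac : ∀ ψ ∈ B.toFinset, ((p : ℤ) ^ degVal p ψ) ^ 2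
      = ((p : ℤ) ^ m) ^ 2 * (p : ℤ) ^ (2 * blockHeight p B (ψ : G → ℂ)) := by
    intro ψ hψ
    rw [← pow_mul, ← pow_mul, ← pow_add, blockHeight_eq]
    congr 1
    have := minDegVal_le (p := p) (Set.mem_toFinset.1 hψ)
    omega
  have hq : q ^ 2 = ((p : ℤ) ^ m) ^ 2 * (p : ℤ) ^ (2 * blockDefect p B) := by
    simp only [q, pPartCard, Nat.cast_pow, ← pow_mul, ← pow_add]
    congr 1
    have := blockDefect_add_min (p := p) (IsPBlock.nonempty hM hB)
    omega
  rw [Finset.sum_congr rfl hfac, ← Finset.mul_sum, hq, mul_left_comm] at hmain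
  have hpm : (0 : ℤ) < ((p : ℤ) ^ m) ^ 2 := by
    have := hM.1.pos
    positivity
  have : 4 * ∑ ψ ∈ B.toFinset, (p : ℤ) ^ (2 * blockHeight p B (ψ : G → ℂ))
      ≤ (p : ℤ) ^ (2 * blockDefect p B) + 4 := by
    refine le_of_mul_le_mul_left ?_ hpm
    linarith
  exact_mod_cast this

theorem four_mul_card_le (hM : IsPModular p M) (hB : IsPBlock M B) :
    4 * Nat.card B ≤ p ^ (2 * blockDefect p B) + 4 := by
  refine le_trans (Nat.mul_le_mul_left 4 ?_) (four_mul_sum_pow_height_le hM hB)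
  rw [Nat.card_eq_fintype_card, ← Set.toFinset_card, Finset.card_eq_sum_ones]
  exact Finset.sum_le_sum fun ψ _ => Nat.one_le_pow _ _ hM.1.pos

end CfsgLib.Blocks
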