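import Cfsg.Agent.Lib.Blocks.BrauerHom
import Cfsg.Agent.Lib.Blocks.Height
import Cfsg.Agent.Lib.Char.Induced

/-!
# Induced blocks
-/

set_option autoImplicit false

namespace CfsgLib.Blocks

open Cfsg
open scoped Classical ComplexConjugate

variable {G : Type*} [Group G] [Fintype G] {p : ℕ} {M : Ideal AlgInt}

theorem resFun_isClassFunction (H : Subgroup G) {f : G → ℂ} (hf : IsClassFunction G f) :
    IsClassFunction H fun h : H => f h := fun x y => hf (x : G) (y : G)

theorem inducedCentralChar_eq (H : Subgroup G) (ξ : H → ℂ) (g : G) :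
    inducedCentralChar H ξ g = omega ξ fun h : H => classInd g (h : G) := by
  rw [inducedCentralChar, omega, finsum_mem_eq_toFinset_sum, Finset.sum_div]
  rw [Set.toFinset_ofPred, Finset.sum_filter]
  refine Finset.sum_congr rfl fun h _ => ?_
  unfold classInd
  split <;> simp

theorem omega_res_eq_sum (H : Subgroup G) (ξ : H → ℂ) {f : G → ℂ} (hf : IsClassFunction G f) :
    omega ξ (fun h : H => f h)
      = ∑ C : ConjClasses G, f C.out * inducedCentralChar H ξ C.out := by
  simp only [inducedCentralChar_eq, omega, mul_div, ← Finset.sum_div]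
  congr 1
  simp only [Finset.mul_sum]
  rw [Finset.sum_comm]
  refine Finset.sum_congr rfl fun h _ => ?_
  rw [classFunction_eq_sum_classInd hf (h : G), Finset.sum_mul]
  exact Finset.sum_congr rfl fun C _ => by ring

variable {H : Subgroup G} {b : Set (IrrCharacter H)} {B : Set (IrrCharacter G)}

theorem IsInducedBlock.omega_congr (hM : IsPModular p M) (h : IsInducedBlock M H b B)
    {ξ : IrrCharacter H} (hξ : ξ ∈ b) {χ : IrrCharacter G} (hχ : χ ∈ B) {f : G → ℂ}
    (hf : IsClassFunction G f) (hR : ∀ x, MemLocalRing M (f x)) :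
    MemLocalIdeal M (omega (ξ : H → ℂ) (fun k : H => f k) - omega (χ : G → ℂ) f) := by
  rw [omega_res_eq_sum H _ hf, omega_eq_sum_centralChar χ hf, ← Finset.sum_sub_distrib]
  refine LI.sum hM fun C _ => ?_
  rw [← mul_sub]
  exact LI.mul_left hM (hR _) (h.2.2 ξ hξ χ hχ _)

theorem IsInducedBlock.unique (hM : IsPModular p M) {B' : Set (IrrCharacter G)}
    (h : IsInducedBlock M H b B) (h' : IsInducedBlock M H b B') : B = B' := by
  obtain ⟨ξ, hξ⟩ := IsPBlock.nonempty hM h.1
  obtain ⟨χ, hχ⟩ := IsPBlock.nonempty hM h.2.1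
  obtain ⟨χ', hχ'⟩ := IsPBlock.nonempty hM h'.2.1
  refine IsPBlock.eq_of_mem hM h.2.1 h'.2.1 ?_ hχ'
  exact (IsPBlock.mem_iff hM h.2.1 hχ).2 fun g =>
    LI.trans hM (LI.sub_comm (h.2.2 ξ hξ χ hχ g)) (h'.2.2 ξ hξ χ' hχ' g)

/-- Blocks of `C_G(P)` induce blocks of `G`. -/
theorem exists_isInducedBlock_centralizer (hM : IsPModular p M) {P K : Subgroup G}
    (hP : IsPGroup p P) (hK : K = Subgroup.centralizer (P : Set G))
    {c : Set (IrrCharacter K)} (hc : IsPBlock M c) :
    ∃ B : Set (IrrCharacter G), IsInducedBlock M K c B := by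
  obtain ⟨ξ, hξ⟩ := IsPBlock.nonempty hM hc
  have hKN : K ≤ Subgroup.normalizer (P : Set G) := by
    subst hK
    intro x hx
    refine Subgroup.mem_normalizer_iff.2 fun u => ⟨fun hu => ?_, fun hu => ?_⟩
    · rw [← Subgroup.mem_centralizer_iff.1 hx u hu]; simpa using hu
    · have h1 := Subgroup.mem_centralizer_iff.1 hx _ hu
      have h2 : x * u * x⁻¹ = u := by
        have := congrArg (fun z => x⁻¹ * z) h1
        simp [mul_assoc] at this
        rw [mul_assoc, ← this]
      rwa [h2] at hu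
  obtain ⟨χ, hχ⟩ := exists_brLam_eval hM hP hK.ge hKN ξ
  refine ⟨blockOf M (χ : G → ℂ), hc, isPBlock_blockOf χ, fun ξ' hξ' χ' hχ' g => ?_⟩
  have hR : ∀ x, MemLocalRing M (classInd g x) := fun x => by
    unfold classInd; split
    · exact LR.one hM
    · exact LR.zero hM
  have e : (fun k : K => classInd g (k : G)) = brTrunc P K (classInd g) := funext fun k =>
    (if_pos (hK ▸ k.2 : (k : G) ∈ Subgroup.centralizer (P : Set G))).symm
  rw [inducedCentralChar_eq, e]
  refine LI.trans hM (Blocks.omega_congr hM (IsPBlock.sameBlock hM hc hξ' hξ)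
    (brTrunc_isClassFunction hKN (classInd_isClassFunction g)) (brTrunc_LR hM hR)) ?_
  refine LI.trans hM (hχ _ (classInd_isClassFunction g) hR) ?_
  rw [omega_classInd]
  exact hχ' g

theorem centralizer_zpowers (x : G) :
    Subgroup.centralizer (Subgroup.zpowers x : Set G) = Subgroup.centralizer ({x} : Set G) := by
  rw [Subgroup.zpowers_eq_closure, Subgroup.centralizer_closure]

theorem exists_isInducedBlock_centralizer_singleton (hM : IsPModular p M) {x : G}
    (hx : ∃ k : ℕ, orderOf x = p ^ k)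
    {c : Set (IrrCharacter (Subgroup.centralizer ({x} : Set G)))} (hc : IsPBlock M c) :
    ∃ B : Set (IrrCharacter G), IsInducedBlock M (Subgroup.centralizer ({x} : Set G)) c B := by
  obtain ⟨k, hk⟩ := hx
  exact exists_isInducedBlock_centralizer hM
    (IsPGroup.of_card (n := k) (by rw [Nat.card_zpowers, hk])) (centralizer_zpowers x).symm hc

/-! ### Degrees of induced characters in blocks -/

theorem blockPart_indFun_one (B : Set (IrrCharacter G)) (ξ : IrrCharacter H) :
    blockPart B (indFun H (ξ : H → ℂ)) 1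
      = (H.index : ℂ) * (ξ : H → ℂ) 1 * omega (ξ : H → ℂ) (fun h : H => blockCoeff B h) := by
  have e : blockPart B (indFun H (ξ : H → ℂ)) 1 = ∑ ψ : IrrCharacter G, blockInd B ψ *
      (classInner (ξ : H → ℂ) (fun h : H => (ψ : G → ℂ) h) * (ψ : G → ℂ) 1) := by
    rw [blockPart]
    rw [Subsingleton.elim (Fintype.ofFinite G) ‹Fintype G›, finsum_mem_eq_toFinset_sum]
    refine (Finset.sum_congr rfl fun ψ hψ => ?_).trans
      (Finset.sum_subset (Finset.subset_univ _) fun ψ _ hψ => ?_)
    · rw [blockInd_of_mem (Set.mem_toFinset.1 hψ), one_mul,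
        CfsgLib.Char.classInner_indFun H _ (CfsgLib.Char.IsIrrCharacter.isClassFunction ψ.2)]
    · rw [blockInd_of_notMem (by simpa using hψ), zero_mul]
  rw [e, omega, mul_assoc, mul_div_cancel₀ _ (irr_one_ne_zero ξ)]
  simp only [Cfsg.classInner, blockCoeff_eq_fourierInv, fourierInv, conj_irr, Finset.mul_sum,
    Finset.sum_mul]
  rw [Finset.sum_comm]
  refine Finset.sum_congr rfl fun h _ => Finset.sum_congr rfl fun ψ _ => ?_
  have hidx : (H.index : ℂ) * (Nat.card G : ℂ)⁻¹ = (Nat.card H : ℂ)⁻¹ := by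
    have h0 : (H.index : ℂ) ≠ 0 := Nat.cast_ne_zero.2 Subgroup.index_ne_zero_of_finite
    rw [← Subgroup.card_mul_index H, Nat.cast_mul, mul_inv, mul_comm ((Nat.card H : ℂ))⁻¹,
      ← mul_assoc, mul_inv_cancel₀ h0, one_mul]
  rw [← hidx]
  ring

/-! ### The regular inner product across an induced block -/

/-- The scalar `[p^a χ_reg |_H, ψ] / ψ 1`. -/
noncomputable def resRegRatio (p : ℕ) (H : Subgroup G) (χ : G → ℂ) (ψ : H → ℂ) : ℂ :=
  regInner p (fun h : H => χ h) ψ / ψ 1

theorem regClassFun_res (hM : IsPModular p M) (H : Subgroup G) (χ : IrrCharacter G) :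
    ∃ c, MemLocalRing M c ∧ ¬ MemLocalIdeal M c ∧ ∀ h : H,
      regClassFun p (fun k : H => (χ : G → ℂ) k) h = c * regClassFun p (χ : G → ℂ) (h : G) := by
  set u := ((Nat.card H / p ^ (Nat.card H).factorization p : ℕ) : ℂ)
  set v := ((Nat.card G / p ^ (Nat.card G).factorization p : ℕ) : ℂ)
  have huI : ¬ MemLocalIdeal M u := fun h =>
    Nat.not_dvd_ordCompl hM.1 Nat.card_pos.ne' ((LI.natCast_iff hM _).1 h)
  have hvI : ¬ MemLocalIdeal M v := fun h =>
    Nat.not_dvd_ordCompl hM.1 Nat.card_pos.ne' ((LI.natCast_iff hM _).1 h)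
  have hu0 := ne_zero_of_not_LI hM huI
  have hv0 := ne_zero_of_not_LI hM hvI
  have hLRu : MemLocalRing M u⁻¹ := LR.inv hM (LR.natCast hM _) huI
  refine ⟨u⁻¹ * v, LR.mul hM hLRu (LR.natCast hM _), ?_, fun h => ?_⟩
  · intro hI
    have := LI.mul_left hM (LR.natCast hM (Nat.card H / p ^ (Nat.card H).factorization p)) hI
    change MemLocalIdeal M (u * (u⁻¹ * v)) at this
    rw [mul_inv_cancel_left₀ hu0] at this
    exact hvI this
  · unfold regClassFun
    have hiff : IsPRegular p h ↔ IsPRegular p (h : G) := by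
      simp only [IsPRegular, Subgroup.orderOf_coe]
    rw [if_congr hiff rfl rfl]
    split
    · rw [pPartCard_div hM.1, pPartCard_div hM.1]
      simp only [Subgroup.coe_inv]
      change u⁻¹ * _ = u⁻¹ * v * (v⁻¹ * _)
      rw [mul_assoc, mul_inv_cancel_left₀ hv0]
    · simp

theorem resRegRatio_congr (hM : IsPModular p M) (h : IsInducedBlock M H b B) (χ : IrrCharacter G)
    {ψ : IrrCharacter H} (hψ : ψ ∈ b) :
    ∃ c, MemLocalRing M c ∧ ¬ MemLocalIdeal M c ∧ ∀ φ ∈ B,
      MemLocalIdeal M (resRegRatio p H (χ : G → ℂ) (ψ : H → ℂ)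
        - c * omega (φ : G → ℂ) (regClassFun p (χ : G → ℂ))) := by
  obtain ⟨c, hc, hcu, he⟩ := regClassFun_res hM H χ
  refine ⟨c, hc, hcu, fun φ hφ => ?_⟩
  have e : resRegRatio p H (χ : G → ℂ) (ψ : H → ℂ)
      = c * omega (ψ : H → ℂ) (fun k : H => regClassFun p (χ : G → ℂ) k) := by
    rw [resRegRatio, ← omega_regClassFun, omega, omega, mul_div, Finset.mul_sum]
    congr 1
    exact Finset.sum_congr rfl fun k _ => by rw [he, mul_assoc]
  rw [e, ← mul_sub]
  exact LI.mul_left hM hc (IsInducedBlock.omega_congr hM h hψ hφ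
    (regClassFun_isClassFunction (CfsgLib.Char.IsIrrCharacter.isClassFunction χ.2))
    (regClassFun_LR hM χ))

theorem resRegRatio_LI_of_notMem (hM : IsPModular p M) (h : IsInducedBlock M H b B)
    {χ : IrrCharacter G} (hχ : χ ∉ B) {ψ : IrrCharacter H} (hψ : ψ ∈ b) :
    MemLocalIdeal M (resRegRatio p H (χ : G → ℂ) (ψ : H → ℂ)) := by
  obtain ⟨c, hc, hcu, hcong⟩ := resRegRatio_congr hM h χ hψ
  obtain ⟨φ, hφ⟩ := IsPBlock.nonempty hM h.2.1
  have := hcong φ hφ
  rwa [omega_regClassFun, regInner_comm, IsPBlock.regInner_eq_zero hM h.2.1 hφ hχ, zero_div,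
    mul_zero, sub_zero] at this

theorem resRegRatio_not_LI (hM : IsPModular p M) (h : IsInducedBlock M H b B)
    {χ : IrrCharacter G} (hχ : χ ∈ B) (h0 : degVal p χ = minDegVal p B) {ψ : IrrCharacter H}
    (hψ : ψ ∈ b) : ¬ MemLocalIdeal M (resRegRatio p H (χ : G → ℂ) (ψ : H → ℂ)) := by
  obtain ⟨c, hc, hcu, hcong⟩ := resRegRatio_congr hM h χ hψ
  intro hI
  have := LI.sub hM hI (hcong χ hχ)
  rw [sub_sub_cancel] at this
  refine not_LI_mul hM hc (omega_LR hM χ
    (regClassFun_isClassFunction (CfsgLib.Char.IsIrrCharacter.isClassFunction χ.2))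
    (regClassFun_LR hM χ)) hcu (not_LI_omega_of_min hM h.2.1 hχ h0 hχ) this

/-- A block inducing `B` has a character of height zero whose multiplicity in the restriction of a
height zero character of `B` is prime to `p`. -/
theorem exists_multiplicity_prime_to (hM : IsPModular p M) (h : IsInducedBlock M H b B)
    {χ : IrrCharacter G} (hχ : χ ∈ B) (h0 : degVal p χ = minDegVal p B) :
    ∃ ξ ∈ b, degVal p ξ = minDegVal p b ∧ ∃ n : ℕ,
      classInner (fun k : H => (χ : G → ℂ) k) (ξ : H → ℂ) = (n : ℂ) ∧ ¬ p ∣ n := by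
  obtain ⟨ξ₀, hξ₀⟩ := IsPBlock.nonempty hM h.1
  choose n hn using fun φ : IrrCharacter H => CfsgLib.Char.IsCharacter.classInner_nat
    (CfsgLib.Char.IsCharacter.restrict (CfsgLib.Char.isCharacter_irr χ) H)
    (CfsgLib.Char.isCharacter_irr φ)
  by_contra hcon
  push Not at hcon
  refine resRegRatio_not_LI hM h hχ h0 hξ₀ ?_
  have hexp : (fun k : H => (χ : G → ℂ) k)
      = ∑ φ : IrrCharacter H, (n φ : ℂ) • (φ : H → ℂ) := by
    conv_lhs => rw [CfsgLib.Char.IsClassFunction.eq_sum_irr
      (CfsgLib.Char.IsCharacter.isClassFunction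
        (CfsgLib.Char.IsCharacter.restrict (CfsgLib.Char.isCharacter_irr χ) H))]
    simp only [hn]
  have hlin : resRegRatio p H (χ : G → ℂ) (ξ₀ : H → ℂ)
      = ∑ φ : IrrCharacter H, (n φ : ℂ) * omega (ξ₀ : H → ℂ) (regClassFun p (φ : H → ℂ)) := by
    rw [resRegRatio, hexp]
    simp only [omega_regClassFun, mul_div, ← Finset.sum_div]
    congr 1
    simp only [regInner, Finset.sum_apply, Pi.smul_apply, smul_eq_mul, Finset.mul_sum,
      Finset.sum_mul]
    rw [Finset.sum_comm]
    exact Finset.sum_congr rfl fun φ _ => Finset.sum_congr rfl fun k _ => by ring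
  rw [hlin]
  refine LI.sum hM fun φ _ => ?_
  by_cases hφ : φ ∈ b
  · by_cases hmin : degVal p φ = minDegVal p b
    · exact LI.mul_right hM ((LI.natCast_iff hM _).2 (hcon φ hφ hmin (n φ) (hn φ)))
        (omega_LR hM ξ₀ (regClassFun_isClassFunction
          (CfsgLib.Char.IsIrrCharacter.isClassFunction φ.2)) (regClassFun_LR hM φ))
    · have hlt : minDegVal p b < degVal p φ := lt_of_le_of_ne (minDegVal_le hφ) (Ne.symm hmin)
      exact LI.mul_left hM (LR.natCast hM _)
        ((regInt_mod hM φ ξ₀).2.2 (regInt_dvd_of_pos hM h.1 hφ hlt hξ₀))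
  · rw [omega_regClassFun, regInner_comm, IsPBlock.regInner_eq_zero hM h.1 hξ₀ hφ, zero_div,
      mul_zero]
    exact LI.zero hM

/-- A block inducing the block of a character with irreducible restriction, both of height zero, is
the block of the restriction; and conversely. -/
theorem isInducedBlock_iff_res (hM : IsPModular p M) {χ : IrrCharacter G}
    (hres : IsIrrCharacter H (fun h : H => (χ : G → ℂ) h))
    (hχ0 : degVal p χ = minDegVal p (blockOf M (χ : G → ℂ)))
    (hψ0 : degVal p (⟨_, hres⟩ : IrrCharacter H)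
      = minDegVal p (blockOf M (fun h : H => (χ : G → ℂ) h)))
    {e : Set (IrrCharacter H)} (he : InducedBlockDefined M H e) :
    IsInducedBlock M H e (blockOf M (χ : G → ℂ))
      ↔ e = blockOf M (fun h : H => (χ : G → ℂ) h) := by
  set ψ : IrrCharacter H := ⟨_, hres⟩ with hψdef
  have hψb : IsPBlock M (blockOf M (fun h : H => (χ : G → ℂ) h)) := ⟨ψ, rfl⟩
  have hψmem : ψ ∈ blockOf M (fun h : H => (χ : G → ℂ) h) := SameBlock_refl hM _
  have hχmem : χ ∈ blockOf M (χ : G → ℂ) := SameBlock_refl hM _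
  constructor
  · intro hind
    obtain ⟨ξ, hξ, _, n, hn, hpn⟩ := exists_multiplicity_prime_to hM hind hχmem hχ0
    have hξψ : ξ = ψ := by
      by_contra hne
      have h1 := CfsgLib.Char.classInner_irr_ne hres ξ.2 fun h => hne (Subtype.ext h).symm
      rw [h1] at hn
      exact hpn (by
        have : n = 0 := by exact_mod_cast hn.symm
        rw [this]; exact dvd_zero p)
    subst hξψ
    exact IsPBlock.eq_of_mem hM hind.1 hψb hξ hψmem
  · intro heq
    obtain ⟨B, hind⟩ := he
    have hψe : ψ ∈ e := heq ▸ hψmem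
    have hmem : χ ∈ B := by
      by_contra hne
      refine not_LI_omega_of_min hM hψb hψmem hψ0 hψmem ?_
      rw [omega_regClassFun]
      exact resRegRatio_LI_of_notMem hM hind hne hψe
    rwa [← IsPBlock.eq_blockOf hM hind.2.1 hmem]

end CfsgLib.Blocks
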