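import Cfsg.Agent.Lib.Blocks.LocalRing
import Mathlib.GroupTheory.PGroup
import Mathlib.GroupTheory.GroupAction.ConjAct
import Mathlib.GroupTheory.Subgroup.Centralizer

/-!
# Congruences from `p`-group actions; the Brauer map

Truncating functions fixed under conjugation by a `p`-subgroup `P` to `C_G(P)` respects
convolution modulo the local ideal.
-/

namespace CfsgLib.Blocks

open Cfsg MulAction

open scoped Classical

variable {p : ℕ} {M : Ideal AlgInt}

/-- A sum of an invariant function over a `p`-group set is congruent to the sum over the fixed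
points. -/
theorem sum_congr_fixedPoints (hM : IsPModular p M) {P : Type*} [Group P] (hP : IsPGroup p P)
    {Ω : Type*} [Fintype Ω] [MulAction P Ω] (φ : Ω → ℂ) (hR : ∀ x, MemLocalRing M (φ x))
    (hinv : ∀ (u : P) x, φ (u • x) = φ x) :
    MemLocalIdeal M ((∑ x, φ x) - ∑ x : Ω with x ∈ fixedPoints P Ω, φ x) := by
  haveI : Fact p.Prime := ⟨hM.1⟩
  have hsplit : (∑ x, φ x) - ∑ x : Ω with x ∈ fixedPoints P Ω, φ x
      = ∑ x : Ω with x ∉ fixedPoints P Ω, φ x := by
    rw [← Finset.sum_filter_add_sum_filter_not Finset.univ (fun x => x ∈ fixedPoints P Ω),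
      add_sub_cancel_left]
  rw [hsplit, ← Finset.sum_fiberwise_of_maps_to (g := fun x => orbit P x)
    (t := (Finset.univ.filter fun x => x ∉ fixedPoints P Ω).image fun x => orbit P x)
    fun y hy => Finset.mem_image_of_mem (fun x => orbit P x) hy]
  refine LI.sum hM fun o ho => ?_
  obtain ⟨x, hx, rfl⟩ := Finset.mem_image.1 ho
  simp only [Finset.mem_filter, Finset.mem_univ, true_and] at hx
  have hfilt : ((Finset.univ.filter fun y => y ∉ fixedPoints P Ω).filter fun y =>
      orbit P y = orbit P x) = (orbit P x).toFinset := by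
    ext y
    simp only [Finset.mem_filter, Finset.mem_univ, true_and, Set.mem_toFinset]
    constructor
    · rintro ⟨_, h⟩; rw [← h]; exact mem_orbit_self y
    · intro h
      refine ⟨fun hf => hx ?_, orbit_eq_iff.2 h⟩
      obtain ⟨u, rfl⟩ := h
      intro v
      have : x = u • x := by
        conv_lhs => rw [← inv_smul_smul u x, hf u⁻¹]
      rw [this]; exact hf v
  rw [hfilt, Finset.sum_congr rfl (g := fun _ => φ x) fun y hy => by
    obtain ⟨u, rfl⟩ := Set.mem_toFinset.1 hy
    exact hinv u x, Finset.sum_const, nsmul_eq_mul]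
  refine LI.mul_right hM ((LI.natCast_iff hM _).2 ?_) (hR x)
  obtain ⟨n, hn⟩ := hP.card_orbit x
  rw [Set.toFinset_card, Fintype.card_eq_nat_card, hn]
  refine dvd_pow_self p fun h0 => hx ?_
  rw [h0, pow_zero, Nat.card_eq_one_iff_unique] at hn
  intro u
  have := hn.1.elim ⟨u • x, mem_orbit x u⟩ ⟨x, mem_orbit_self x⟩
  exact congrArg Subtype.val this

variable {G : Type*} [Group G] [Fintype G]

/-- Multiplicativity of the Brauer map. -/
theorem conv_congr_centralizer (hM : IsPModular p M) {P : Subgroup G} (hP : IsPGroup p P)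
    {f g : G → ℂ} (hf : ∀ x, MemLocalRing M (f x)) (hg : ∀ x, MemLocalRing M (g x))
    (hfP : ∀ u ∈ P, ∀ x, f (u * x * u⁻¹) = f x) (hgP : ∀ u ∈ P, ∀ x, g (u * x * u⁻¹) = g x)
    {c : G} (hc : c ∈ Subgroup.centralizer (P : Set G)) :
    MemLocalIdeal M ((∑ x, f x * g (x⁻¹ * c))
      - ∑ x : G with x ∈ Subgroup.centralizer (P : Set G), f x * g (x⁻¹ * c)) := by
  let act : MulAction P G := MulAction.compHom G (ConjAct.toConjAct.toMonoidHom.comp P.subtype)
  have hsmul : ∀ (u : P) (x : G), act.smul u x = (u : G) * x * (u : G)⁻¹ := fun u x => rfl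
  letI := act
  have h := sum_congr_fixedPoints hM hP (fun x => f x * g (x⁻¹ * c))
    (fun x => LR.mul hM (hf _) (hg _)) fun u x => by
    show f ((u : G) * x * (u : G)⁻¹) * g (((u : G) * x * (u : G)⁻¹)⁻¹ * c) = _
    rw [hfP u u.2]
    congr 1
    rw [← hgP u u.2 (x⁻¹ * c)]
    congr 1
    have := Subgroup.mem_centralizer_iff.1 hc ((u : G)⁻¹) (P.inv_mem u.2)
    simp only [mul_inv_rev, inv_inv, mul_assoc]
    rw [this]
  convert h using 4
  simp only [MulAction.mem_fixedPoints, Subgroup.mem_centralizer_iff]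
  constructor
  · intro hx u
    show (u : G) * _ * (u : G)⁻¹ = _
    rw [hx u u.2, mul_inv_cancel_right]
  · intro hx u hu
    exact mul_inv_eq_iff_eq_mul.1 (hx ⟨u, hu⟩)

end CfsgLib.Blocks
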