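import Cfsg.Agent.Lib.Blocks.Idempotent
import Cfsg.Agent.Lib.Blocks.BrauerMap

/-!
# Homomorphisms from the centre of the group algebra to the residue field; the Brauer map

Every homomorphism modulo `M` on local integral central elements is congruent to a central
character.  For a `p`-subgroup `P` and `C_G(P) ≤ K ≤ N_G(P)` the truncation to `C_G(P)` followed
by a central character of `K` is such a homomorphism.
-/

set_option autoImplicit false

namespace CfsgLib.Blocks

open Cfsg
open scoped Classical ComplexConjugate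

variable {G : Type*} [Group G] [Fintype G] {p : ℕ} {M : Ideal AlgInt}

theorem isLocalOn_omega (hM : IsPModular p M) {C : Subgroup G} {f : G → ℂ}
    (hf : IsClassFunction G f) (hR : ∀ x, MemLocalRing M (f x)) (h0 : ∀ x ∉ C, f x = 0) :
    IsLocalOn M C fun ψ : IrrCharacter G => omega (ψ : G → ℂ) f := fun g => by
  rw [fourierInv_omega hf]
  exact ⟨hR g, h0 g⟩

theorem IsLocalOn.top_of {C : Subgroup G} {F : IrrCharacter G → ℂ} (h : IsLocalOn M C F) :
    IsLocalOn M (⊤ : Subgroup G) F :=
  fun g => ⟨(h g).1, fun hg => absurd (Subgroup.mem_top g) hg⟩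

theorem IsLocalOn.LR_value (hM : IsPModular p M) {C : Subgroup G} {F : IrrCharacter G → ℂ}
    (h : IsLocalOn M C F) (χ : IrrCharacter G) : MemLocalRing M (F χ) := by
  rw [← omega_fourierInv χ F]
  exact omega_LR hM χ (fourierInv_isClassFunction F) fun x => (h x).1

/-- A homomorphism modulo `M` on local integral central elements. -/
structure IsLocalHom (M : Ideal AlgInt) (Λ : (IrrCharacter G → ℂ) → ℂ) : Prop where
  lr : ∀ F, IsLocalOn M (⊤ : Subgroup G) F → MemLocalRing M (Λ F)
  mul : ∀ F F', IsLocalOn M (⊤ : Subgroup G) F → IsLocalOn M (⊤ : Subgroup G) F' →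
    MemLocalIdeal M (Λ (fun ψ => F ψ * F' ψ) - Λ F * Λ F')
  sub : ∀ F F', IsLocalOn M (⊤ : Subgroup G) F → IsLocalOn M (⊤ : Subgroup G) F' →
    MemLocalIdeal M (Λ (fun ψ => F ψ - F' ψ) - (Λ F - Λ F'))
  const : ∀ c, MemLocalRing M c → MemLocalIdeal M (Λ (fun _ => c) - c)

theorem IsLocalHom.prod (hM : IsPModular p M) {Λ : (IrrCharacter G → ℂ) → ℂ}
    (hΛ : IsLocalHom M Λ) {ι : Type*} (s : Finset ι) {F : ι → IrrCharacter G → ℂ}
    (hF : ∀ i ∈ s, IsLocalOn M (⊤ : Subgroup G) (F i)) :
    MemLocalIdeal M (Λ (fun ψ => ∏ i ∈ s, F i ψ) - ∏ i ∈ s, Λ (F i)) := by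
  induction s using Finset.induction_on with
  | empty => simpa using hΛ.const 1 (LR.one hM)
  | insert a s ha ih =>
    have h1 := hF a (Finset.mem_insert_self a s)
    have hs := fun i hi => hF i (Finset.mem_insert_of_mem hi)
    simp only [Finset.prod_insert ha]
    refine LI.trans hM (hΛ.mul _ _ h1 (IsLocalOn.prod hM s hs)) ?_
    rw [← mul_sub]
    exact LI.mul_left hM (hΛ.lr _ h1) (ih hs)

theorem IsLocalHom.exists_eval (hM : IsPModular p M) {Λ : (IrrCharacter G → ℂ) → ℂ}
    (hΛ : IsLocalHom M Λ) :
    ∃ χ : IrrCharacter G, ∀ F, IsLocalOn M (⊤ : Subgroup G) F → MemLocalIdeal M (Λ F - F χ) := by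
  by_contra h
  push Not at h
  choose F hF hne using h
  have hc : ∀ χ : IrrCharacter G, IsLocalOn M (⊤ : Subgroup G) fun _ => F χ χ :=
    fun χ => IsLocalOn.const hM ((hF χ).LR_value hM χ)
  have hd : ∀ χ ∈ (Finset.univ : Finset (IrrCharacter G)),
      IsLocalOn M (⊤ : Subgroup G) fun ψ => F χ ψ - F χ χ :=
    fun χ _ => IsLocalOn.sub hM (hF χ) (hc χ)
  have h0 : (fun ψ : IrrCharacter G => ∏ χ : IrrCharacter G, (F χ ψ - F χ χ)) = fun _ => 0 :=
    funext fun ψ => Finset.prod_eq_zero (Finset.mem_univ ψ) (sub_self _)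
  have h1 := hΛ.prod hM Finset.univ hd
  rw [h0] at h1
  have h2 : MemLocalIdeal M (∏ χ : IrrCharacter G, Λ fun ψ => F χ ψ - F χ χ) := by
    have := LI.sub hM (hΛ.const 0 (LR.zero hM)) h1
    simpa using this
  have key : ∀ s : Finset (IrrCharacter G),
      ¬ MemLocalIdeal M (∏ χ ∈ s, Λ fun ψ => F χ ψ - F χ χ) := by
    intro s
    induction s using Finset.induction_on with
    | empty => simpa using LI.not_one hM
    | insert a s ha ih =>
      rw [Finset.prod_insert ha]
      have hla : IsLocalOn M (⊤ : Subgroup G) fun ψ => F a ψ - F a a := hd a (Finset.mem_univ a)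
      refine not_LI_mul hM (hΛ.lr _ hla) (LR.prod hM fun i _ => hΛ.lr _ (hd i (Finset.mem_univ i)))
        (fun hI => hne a ?_) ih
      have e := hΛ.sub _ _ (hF a) (hc a)
      have e2 := hΛ.const _ ((hF a).LR_value hM a)
      have := LI.add hM (LI.sub hM hI e) e2
      simpa using this
  exact key _ h2

/-- Evaluation points of the same homomorphism lie in one block. -/
theorem sameBlock_of_eval (hM : IsPModular p M) {Λ : (IrrCharacter G → ℂ) → ℂ}
    {χ ψ : IrrCharacter G}
    (hχ : ∀ F, IsLocalOn M (⊤ : Subgroup G) F → MemLocalIdeal M (Λ F - F χ))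
    (hψ : ∀ F, IsLocalOn M (⊤ : Subgroup G) F → MemLocalIdeal M (Λ F - F ψ)) :
    SameBlock M (χ : G → ℂ) (ψ : G → ℂ) := fun g => by
  have hl : IsLocalOn M (⊤ : Subgroup G) fun φ : IrrCharacter G => centralChar (φ : G → ℂ) g :=
    IsLocalOn.centralChar hM (Subgroup.mem_top g)
  exact LI.trans hM (LI.sub_comm (hχ _ hl)) (hψ _ hl)

/-! ### Truncation -/

/-- Restriction to `K` of the truncation of `f` to the centralizer of `P`. -/
noncomputable def brTrunc (P K : Subgroup G) (f : G → ℂ) : K → ℂ :=
  fun k => if (k : G) ∈ Subgroup.centralizer (P : Set G) then f k else 0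

/-- The Brauer homomorphism at `P` followed by the central character of `ξ`. -/
noncomputable def brLam (P K : Subgroup G) (ξ : IrrCharacter K) (F : IrrCharacter G → ℂ) : ℂ :=
  omega (ξ : K → ℂ) (brTrunc P K (fourierInv F))

variable {P K : Subgroup G}

theorem mem_centralizer_conj {k x : G} (hk : k ∈ Subgroup.normalizer (P : Set G))
    (hx : x ∈ Subgroup.centralizer (P : Set G)) :
    k * x * k⁻¹ ∈ Subgroup.centralizer (P : Set G) := by
  rw [Subgroup.mem_centralizer_iff] at hx ⊢
  intro u hu
  have hu' : k⁻¹ * u * k ∈ P := by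
    have := (Subgroup.mem_normalizer_iff.1 (inv_mem hk) u).1 hu
    simpa using this
  have := hx _ hu'
  have h2 := congrArg (fun z => k * z * k⁻¹) this
  simpa [mul_assoc] using h2

theorem brTrunc_isClassFunction (hKN : K ≤ Subgroup.normalizer (P : Set G)) {f : G → ℂ}
    (hf : IsClassFunction G f) : IsClassFunction K (brTrunc P K f) := fun x y => by
  refine if_congr ⟨fun h => ?_, fun h => ?_⟩ (hf (x : G) (y : G)) rfl
  · have := mem_centralizer_conj (inv_mem (hKN y.2)) h
    simpa [mul_assoc] using this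
  · simpa using mem_centralizer_conj (hKN y.2) h

theorem brTrunc_LR (hM : IsPModular p M) {f : G → ℂ} (hR : ∀ x, MemLocalRing M (f x)) (k : K) :
    MemLocalRing M (brTrunc P K f k) := by
  unfold brTrunc; split
  · exact hR _
  · exact LR.zero hM

/-- Multiplicativity of truncation for functions invariant under `P`. -/
theorem brTrunc_conv (hM : IsPModular p M) (hP : IsPGroup p P)
    (hCK : Subgroup.centralizer (P : Set G) ≤ K) {f g : G → ℂ}
    (hf : ∀ x, MemLocalRing M (f x)) (hg : ∀ x, MemLocalRing M (g x))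
    (hfP : ∀ u ∈ P, ∀ x, f (u * x * u⁻¹) = f x) (hgP : ∀ u ∈ P, ∀ x, g (u * x * u⁻¹) = g x)
    (k : K) :
    MemLocalIdeal M (brTrunc P K (fun c => ∑ x, f x * g (x⁻¹ * c)) k
      - ∑ y : K, brTrunc P K f y * brTrunc P K g (y⁻¹ * k)) := by
  by_cases hk : (k : G) ∈ Subgroup.centralizer (P : Set G)
  · have h := conv_congr_centralizer hM hP hf hg hfP hgP hk
    have e : ∑ y : K, brTrunc P K f y * brTrunc P K g (y⁻¹ * k)
        = ∑ x : G with x ∈ Subgroup.centralizer (P : Set G), f x * g (x⁻¹ * (k : G)) := by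
      refine (Finset.sum_filter_of_ne (p := fun y : K => (y : G) ∈ Subgroup.centralizer (P : Set G))
        fun y _ hy => ?_).symm.trans ?_
      · by_contra hc
        exact hy (by rw [brTrunc, if_neg hc, zero_mul])
      refine Finset.sum_bij (fun y _ => (y : G)) (fun y hy => by simpa using hy)
        (fun _ _ _ _ h => Subtype.ext h) (fun x hx => ?_) fun y hy => ?_
      · simp only [Finset.mem_filter, Finset.mem_univ, true_and] at hx
        exact ⟨⟨x, hCK hx⟩, by simpa using hx, rfl⟩
      · simp only [Finset.mem_filter, Finset.mem_univ, true_and] at hy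
        have hy2 : ((y⁻¹ * k : K) : G) ∈ Subgroup.centralizer (P : Set G) := by
          simpa using mul_mem (inv_mem hy) hk
        rw [brTrunc, if_pos hy, brTrunc, if_pos hy2]
        simp
    rw [e, brTrunc, if_pos hk]
    exact h
  · rw [brTrunc, if_neg hk, Finset.sum_eq_zero, sub_zero]
    · exact LI.zero hM
    · intro y _
      by_cases hy : (y : G) ∈ Subgroup.centralizer (P : Set G)
      · have : ((y⁻¹ * k : K) : G) ∉ Subgroup.centralizer (P : Set G) := fun h =>
          hk (by simpa using mul_mem hy h)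
        rw [show brTrunc P K g (y⁻¹ * k) = 0 from if_neg this, mul_zero]
      · simp [brTrunc, hy]

theorem omega_conv {H : Type*} [Group H] [Fintype H] (ξ : IrrCharacter H) {f g : H → ℂ}
    (hf : IsClassFunction H f) (hg : IsClassFunction H g) :
    omega (ξ : H → ℂ) (fun c => ∑ x, f x * g (x⁻¹ * c))
      = omega (ξ : H → ℂ) f * omega (ξ : H → ℂ) g := by
  have h : (fun c => ∑ x, f x * g (x⁻¹ * c)) = fourierInv fun ψ : IrrCharacter H =>
      omega (ψ : H → ℂ) f * omega (ψ : H → ℂ) g := by
    funext c
    rw [← fourierInv_mul, fourierInv_omega hf, fourierInv_omega hg]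
  rw [h, omega_fourierInv]

theorem conv_isClassFunction {H : Type*} [Group H] [Fintype H] {f g : H → ℂ}
    (hf : IsClassFunction H f) (hg : IsClassFunction H g) :
    IsClassFunction H fun c => ∑ x, f x * g (x⁻¹ * c) := by
  intro c y
  refine (Fintype.sum_equiv (MulAut.conj y).toEquiv _ _ fun x => ?_).symm
  show f x * g (x⁻¹ * c) = f (y * x * y⁻¹) * g ((y * x * y⁻¹)⁻¹ * (y * c * y⁻¹))
  rw [hf x y, show (y * x * y⁻¹)⁻¹ * (y * c * y⁻¹) = y * (x⁻¹ * c) * y⁻¹ by simp [mul_assoc],
    hg (x⁻¹ * c) y]

theorem isLocalHom_brLam (hM : IsPModular p M) (hP : IsPGroup p P)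
    (hCK : Subgroup.centralizer (P : Set G) ≤ K) (hKN : K ≤ Subgroup.normalizer (P : Set G))
    (ξ : IrrCharacter K) : IsLocalHom M (brLam P K ξ) where
  lr F hF := omega_LR hM ξ (brTrunc_isClassFunction hKN (fourierInv_isClassFunction F))
    (brTrunc_LR hM fun x => (hF x).1)
  mul F F' hF hF' := by
    have hc1 := brTrunc_isClassFunction hKN (fourierInv_isClassFunction F) (P := P)
    have hc2 := brTrunc_isClassFunction hKN (fourierInv_isClassFunction F') (P := P)
    simp only [brLam]
    rw [← omega_conv ξ hc1 hc2,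
      ← show (fun c => ∑ x, fourierInv F x * fourierInv F' (x⁻¹ * c))
        = fourierInv (fun ψ => F ψ * F' ψ) from funext fun c => fourierInv_mul F F' c]
    rw [omega, omega, ← sub_div, ← Finset.sum_sub_distrib]
    simp only [← sub_mul]
    exact omega_LI hM ξ (f := fun k => brTrunc P K
        (fun c => ∑ x, fourierInv F x * fourierInv F' (x⁻¹ * c)) k
        - ∑ y : K, brTrunc P K (fourierInv F) y * brTrunc P K (fourierInv F') (y⁻¹ * k))
      (fun x y => by
        have e1 := brTrunc_isClassFunction hKN (conv_isClassFunction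
          (fourierInv_isClassFunction F) (fourierInv_isClassFunction F')) (P := P) x y
        have e2 := conv_isClassFunction hc1 hc2 x y
        exact congrArg₂ (fun a b : ℂ => a - b) e1 e2)
      (brTrunc_conv hM hP hCK (fun x => (hF x).1) (fun x => (hF' x).1)
        (fun u _ x => fourierInv_isClassFunction F x u)
        (fun u _ x => fourierInv_isClassFunction F' x u))
  sub F F' _ _ := by
    have : ∀ g, fourierInv (fun ψ => F ψ - F' ψ) g = fourierInv F g - fourierInv F' g := fun g => by
      simp only [fourierInv, sub_mul, Finset.sum_sub_distrib, mul_sub]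
    have e : brLam P K ξ (fun ψ => F ψ - F' ψ) = brLam P K ξ F - brLam P K ξ F' := by
      simp only [brLam, omega, ← sub_div, ← Finset.sum_sub_distrib, ← sub_mul]
      congr 1
      refine Finset.sum_congr rfl fun k _ => ?_
      congr 1
      unfold brTrunc; split
      · exact this _
      · simp
    rw [e, sub_self]; exact LI.zero hM
  const c _ := by
    have e : brLam P K ξ (fun _ => c) = c := by
      have h1 : fourierInv (fun _ : IrrCharacter G => c) = fun g => if g = 1 then c else 0 := by
        have h := fourierInv_one (G := G)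
        funext g
        have hg := congrFun h g
        simp only [fourierInv, one_mul] at hg
        simp only [fourierInv, ← Finset.mul_sum]
        rw [mul_left_comm, hg]
        split <;> simp
      rw [brLam, omega, h1, Finset.sum_eq_single (1 : K)]
      · rw [brTrunc, if_pos (by simp), div_eq_iff (irr_one_ne_zero ξ)]
        simp
      · intro k _ hk
        have : (k : G) ≠ 1 := fun h => hk (Subtype.ext h)
        simp [brTrunc, this]
      · simp
    rw [e, sub_self]; exact LI.zero hM

/-- Truncation followed by a central character is congruent to a central character. -/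
theorem exists_brLam_eval (hM : IsPModular p M) (hP : IsPGroup p P)
    (hCK : Subgroup.centralizer (P : Set G) ≤ K) (hKN : K ≤ Subgroup.normalizer (P : Set G))
    (ξ : IrrCharacter K) :
    ∃ χ : IrrCharacter G, ∀ f : G → ℂ, IsClassFunction G f → (∀ x, MemLocalRing M (f x)) →
      MemLocalIdeal M (omega (ξ : K → ℂ) (brTrunc P K f) - omega (χ : G → ℂ) f) := by
  obtain ⟨χ, hχ⟩ := (isLocalHom_brLam hM hP hCK hKN ξ).exists_eval hM
  refine ⟨χ, fun f hf hR => ?_⟩
  have := hχ _ (isLocalOn_omega hM (C := ⊤) hf hR fun x hx => absurd (Subgroup.mem_top x) hx)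
  rwa [brLam, fourierInv_omega hf] at this

/-! ### Idempotents modulo `M` -/

/-- All coefficients of the central element lie in the local ideal. -/
def IsLocalZero (M : Ideal AlgInt) (F : IrrCharacter G → ℂ) : Prop :=
  ∀ g, MemLocalIdeal M (fourierInv F g)

theorem IsLocalZero.add (hM : IsPModular p M) {F F' : IrrCharacter G → ℂ}
    (h : IsLocalZero M F) (h' : IsLocalZero M F') : IsLocalZero M fun ψ => F ψ + F' ψ := by
  intro g
  have : fourierInv (fun ψ => F ψ + F' ψ) g = fourierInv F g + fourierInv F' g := by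
    simp only [fourierInv, add_mul, Finset.sum_add_distrib, mul_add]
  rw [this]; exact LI.add hM (h g) (h' g)

theorem IsLocalZero.mul_left (hM : IsPModular p M) {C : Subgroup G} {F F' : IrrCharacter G → ℂ}
    (h : IsLocalOn M C F) (h' : IsLocalZero M F') : IsLocalZero M fun ψ => F ψ * F' ψ := by
  intro g
  rw [← fourierInv_mul]
  exact LI.sum hM fun x _ => LI.mul_left hM (h x).1 (h' _)

theorem IsLocalZero.zero (hM : IsPModular p M) :
    IsLocalZero M fun _ : IrrCharacter G => (0 : ℂ) := fun g => by
  simp only [fourierInv, zero_mul, Finset.sum_const_zero, mul_zero]; exact LI.zero hM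

theorem IsLocalZero.const_mul (hM : IsPModular p M) {c : ℂ} (hc : MemLocalIdeal M c)
    {C : Subgroup G} {F : IrrCharacter G → ℂ} (h : IsLocalOn M C F) :
    IsLocalZero M fun ψ => c * F ψ := fun g => by
  have : fourierInv (fun ψ => c * F ψ) g = c * fourierInv F g := by
    simp only [fourierInv, Finset.mul_sum]
    exact Finset.sum_congr rfl fun ψ _ => by ring
  rw [this]; exact LI.mul_right hM hc (h g).1

theorem IsLocalZero.congr {F F' : IrrCharacter G → ℂ} (h : IsLocalZero M F)
    (he : ∀ ψ, F ψ = F' ψ) : IsLocalZero M F' := (funext he : F = F') ▸ h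

/-- An element idempotent modulo `M` all of whose central character values on `S` vanish modulo
`M` has `S`-component zero modulo `M`. -/
theorem isLocalZero_of_idem (hM : IsPModular p M) {C : Subgroup G} {F E : IrrCharacter G → ℂ}
    (hF : IsLocalOn M C F) (hE : IsLocalOn M C E)
    (hidem : IsLocalZero M fun ψ => F ψ * F ψ - F ψ)
    (hvals : ∀ ψ, E ψ ≠ 0 → MemLocalIdeal M (F ψ)) :
    IsLocalZero M fun ψ => F ψ * E ψ := by
  set S := Finset.univ.filter fun ψ : IrrCharacter G => E ψ ≠ 0
  have hpow : ∀ s : Finset (IrrCharacter G), s ⊆ S →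
      IsLocalZero M fun ψ => (∏ φ ∈ s, (F ψ - F φ)) * E ψ - F ψ ^ s.card * E ψ := by
    intro s
    induction s using Finset.induction_on with
    | empty => exact fun _ => (IsLocalZero.zero hM).congr fun ψ => by simp
    | insert a s ha ih =>
      intro hs
      have has : a ∈ S := hs (Finset.mem_insert_self a s)
      have hFa : MemLocalIdeal M (F a) := hvals a (Finset.mem_filter.1 has).2
      have hPs : IsLocalOn M C fun ψ => (∏ φ ∈ s, (F ψ - F φ)) * E ψ :=
        IsLocalOn.mul hM (IsLocalOn.prod hM s fun φ _ =>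
          IsLocalOn.sub hM hF (IsLocalOn.const hM (hF.LR_value hM φ))) hE
      refine (IsLocalZero.add hM
        (IsLocalZero.mul_left hM hF (ih fun x hx => hs (Finset.mem_insert_of_mem hx)))
        (IsLocalZero.const_mul hM (LI.neg hFa) hPs)).congr fun ψ => ?_
      rw [Finset.prod_insert ha, Finset.card_insert_of_notMem ha]
      ring
  have hid : ∀ n : ℕ, IsLocalZero M fun ψ => F ψ ^ (n + 1) * E ψ - F ψ * E ψ := by
    intro n
    induction n with
    | zero => exact (IsLocalZero.zero hM).congr fun ψ => by simp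
    | succ n ih =>
      refine (IsLocalZero.add hM (IsLocalZero.mul_left hM hF ih)
        (IsLocalZero.mul_left hM hE hidem)).congr fun ψ => ?_
      ring
  by_cases hS : S = ∅
  · refine (IsLocalZero.zero hM).congr fun ψ => ?_
    have : ψ ∉ S := by simp [hS]
    simp only [S, Finset.mem_filter, Finset.mem_univ, true_and, not_not] at this
    rw [this, mul_zero]
  obtain ⟨n, hn⟩ : ∃ n, S.card = n + 1 :=
    ⟨S.card - 1, by have := Finset.card_pos.2 (Finset.nonempty_iff_ne_empty.2 hS); omega⟩
  have h1 := hpow S subset_rfl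
  rw [hn] at h1
  refine (IsLocalZero.const_mul hM (C := C) (c := (0 : ℂ)) (LI.zero hM) hE |>.add hM
    (IsLocalZero.add hM (IsLocalZero.mul_left hM (IsLocalOn.const hM (C := C) (LR.neg (LR.one hM))) h1)
      (IsLocalZero.mul_left hM (IsLocalOn.const hM (C := C) (LR.neg (LR.one hM))) (hid n)))).congr
    fun ψ => ?_
  by_cases hψ : E ψ = 0
  · simp [hψ]
  · rw [Finset.prod_eq_zero (show ψ ∈ S by simp [S, hψ]) (sub_self _)]
    ring

end CfsgLib.Blocks
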