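import Cfsg.Agent.Lib.Blocks.Idempotent
import Cfsg.Agent.Lib.Blocks.BrauerHom

/-!
# Kernels of blocks
-/

set_option autoImplicit false

namespace CfsgLib.Blocks

open Cfsg
open scoped Classical ComplexConjugate

variable {G : Type*} [Group G] [Fintype G] {p : ℕ} {M : Ideal AlgInt}

theorem norm_irr_le (χ : IrrCharacter G) (g : G) :
    ‖(χ : G → ℂ) g‖ ≤ (charDegree (χ : G → ℂ) : ℝ) := by
  obtain ⟨n, ρ, hρ, he⟩ := χ.2
  have h := CfsgLib.Char.norm_char_le ρ g
  have h1 : ρ.character 1 = (Module.finrank ℂ (Fin n → ℂ) : ℂ) := Representation.char_one ρ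
  rw [he, irr_one_eq] at h1
  rw [he, ← Nat.cast_injective h1] at h
  exact h

/-- The kernel of an irreducible character. -/
noncomputable def irrKer (χ : IrrCharacter G) : Subgroup G where
  carrier := {g | (χ : G → ℂ) g = (χ : G → ℂ) 1}
  one_mem' := rfl
  mul_mem' := by
    intro a b ha hb
    obtain ⟨n, ρ, hρ, he⟩ := χ.2
    simp only [Set.mem_ofPred_eq, ← he, Representation.char_one,
      CfsgLib.Char.char_eq_finrank_iff] at ha hb ⊢
    rw [map_mul, ha, hb]
    rfl
  inv_mem' := by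
    intro a ha
    simp only [Set.mem_ofPred_eq] at ha ⊢
    rw [← conj_irr, ha, irr_one_eq, Complex.conj_natCast]

theorem mem_irrKer {χ : IrrCharacter G} {g : G} :
    g ∈ irrKer χ ↔ (χ : G → ℂ) g = (χ : G → ℂ) 1 := Iff.rfl

theorem irrKer_normal (χ : IrrCharacter G) : (irrKer χ).Normal :=
  ⟨fun g hg u => by rw [mem_irrKer, irr_conj_apply]; exact hg⟩

/-- A normal `p'`-subgroup in the kernel of one character of a block is in the kernel of all. -/
theorem le_irrKer_of_sameBlock (hM : IsPModular p M) {N : Subgroup G} (hN : N.Normal)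
    (hcop : ¬ p ∣ Nat.card N) {χ ψ : IrrCharacter G} (h : SameBlock M (χ : G → ℂ) (ψ : G → ℂ))
    (hχ : N ≤ irrKer χ) : N ≤ irrKer ψ := by
  have hN0 : (Nat.card N : ℂ) ≠ 0 := CfsgLib.Char.card_ne_zero
  set f : G → ℂ := fun x => if x ∈ N then (Nat.card N : ℂ)⁻¹ else 0
  have hf : IsClassFunction G f := fun x y => by
    refine if_congr ⟨fun h => ?_, fun h => hN.conj_mem x h y⟩ rfl rfl
    simpa [mul_assoc] using hN.conj_mem _ h y⁻¹
  have hR : ∀ x, MemLocalRing M (f x) := fun x => by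
    simp only [f]; split
    · exact LR.inv hM (LR.natCast hM _) fun hI => hcop ((LI.natCast_iff hM _).1 hI)
    · exact LR.zero hM
  have hsum : ∀ φ : IrrCharacter G, omega (φ : G → ℂ) f
      = (Nat.card N : ℂ)⁻¹ * (∑ n : N, (φ : G → ℂ) n) / (φ : G → ℂ) 1 := by
    intro φ
    rw [omega, Finset.mul_sum]
    congr 1
    refine (Finset.sum_filter_of_ne (p := fun x => x ∈ N) fun x _ hne => ?_).symm.trans ?_
    · by_contra hx; exact hne (by simp [f, hx])
    refine Finset.sum_bij (fun x hx => (⟨x, (Finset.mem_filter.1 hx).2⟩ : N))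
      (fun _ _ => Finset.mem_univ _) (fun _ _ _ _ h => congrArg Subtype.val h)
      (fun n _ => ⟨(n : G), by simp, rfl⟩) fun x hx => ?_
    simp [f, (Finset.mem_filter.1 hx).2]
  have hff : (fun c => ∑ x, f x * f (x⁻¹ * c)) = f := by
    funext c
    refine (Finset.sum_filter_of_ne (p := fun x => x ∈ N) fun x _ hne => ?_).symm.trans ?_
    · by_contra hx; exact hne (by simp [f, hx])
    rw [Finset.sum_congr rfl (g := fun _ => (Nat.card N : ℂ)⁻¹ * f c) fun x hx => ?_,
      Finset.sum_const, nsmul_eq_mul, ← mul_assoc]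
    · have : (Finset.univ.filter fun x => x ∈ N).card = Nat.card N := by
        rw [Nat.card_eq_fintype_card, Fintype.card_subtype]
      rw [this, mul_inv_cancel₀ hN0, one_mul]
    · have hx' : x ∈ N := (Finset.mem_filter.1 hx).2
      simp only [f, if_pos hx']
      congr 1
      exact if_congr ⟨fun h => by simpa using N.mul_mem hx' h, fun h =>
        N.mul_mem (N.inv_mem hx') h⟩ rfl rfl
  have hidem : ∀ φ : IrrCharacter G, omega (φ : G → ℂ) f * omega (φ : G → ℂ) f = omega (φ : G → ℂ) f :=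
    fun φ => by rw [← omega_conv φ hf hf, hff]
  have h1 : omega (χ : G → ℂ) f = 1 := by
    have hval : ∑ n : N, (χ : G → ℂ) n = (Nat.card N : ℂ) * (χ : G → ℂ) 1 := by
      rw [Finset.sum_congr rfl fun n _ => mem_irrKer.1 (hχ n.2), Finset.sum_const, nsmul_eq_mul,
        Finset.card_univ, Fintype.card_eq_nat_card]
    rw [hsum, hval, inv_mul_cancel_left₀ hN0, div_self (irr_one_ne_zero χ)]
  have h2 : omega (ψ : G → ℂ) f = 1 := by
    rcases (mul_left_eq_self₀.1 (hidem ψ) : omega (ψ : G → ℂ) f = 1 ∨ omega (ψ : G → ℂ) f = 0)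
      with h2 | h2
    · exact h2
    · have := omega_congr hM h hf hR
      rw [h1, h2, sub_zero] at this
      exact absurd this (LI.not_one hM)
  rw [hsum, div_eq_one_iff_eq (irr_one_ne_zero ψ), inv_mul_eq_iff_eq_mul₀ hN0] at h2
  intro n hn
  rw [mem_irrKer, irr_one_eq]
  set d : ℝ := (charDegree (ψ : G → ℂ) : ℝ)
  have hre : ∀ m : N, ((ψ : G → ℂ) m).re ≤ d := fun m =>
    (Complex.re_le_norm _).trans (norm_irr_le ψ m)
  have hs : ∑ m : N, ((ψ : G → ℂ) m).re = ∑ _m : N, d := by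
    rw [← Complex.re_sum, h2, irr_one_eq, Finset.sum_const, nsmul_eq_mul, Finset.card_univ,
      Fintype.card_eq_nat_card]
    simp [d]
  have hall := (Finset.sum_eq_sum_iff_of_le fun m _ => hre m).1 hs ⟨n, hn⟩ (Finset.mem_univ _)
  have hnorm : ‖(ψ : G → ℂ) n‖ = ((ψ : G → ℂ) n).re :=
    le_antisymm ((norm_irr_le ψ n).trans hall.ge) (Complex.re_le_norm _)
  have him : ((ψ : G → ℂ) n).im = 0 := by
    have := Complex.re_eq_norm.1 hnorm.symm
    exact (Complex.nonneg_iff.1 this).2.symm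
  exact Complex.ext (by rw [Complex.natCast_re]; exact hall) (by rw [Complex.natCast_im]; exact him)

/-- The kernel of a block has order prime to `p`. -/
theorem not_dvd_card_of_le_kernels (hM : IsPModular p M) {B : Set (IrrCharacter G)}
    (hB : IsPBlock M B) {K : Subgroup G} (hK : ∀ ψ ∈ B, K ≤ irrKer ψ) : ¬ p ∣ Nat.card K := by
  haveI := Fact.mk hM.1
  intro hdvd
  obtain ⟨x, hx⟩ := exists_prime_orderOf_dvd_card' (G := K) p hdvd
  have h := IsPBlock.sum_mul_eq_zero hM hB (g := (x : G)) (h := (1 : G))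
    (by rw [Subgroup.orderOf_coe, hx]) (by simp [hM.1.ne_one])
  have h2 : ∑ ψ : IrrCharacter G, blockInd B ψ * ((ψ : G → ℂ) (x : G) * (ψ : G → ℂ) 1)
      = ((∑ ψ ∈ B.toFinset, charDegree (ψ : G → ℂ) ^ 2 : ℕ) : ℂ) := by
    rw [Nat.cast_sum]
    refine ((Finset.sum_subset (Finset.subset_univ B.toFinset) fun ψ _ hψ => ?_).symm.trans
      (Finset.sum_congr rfl fun ψ hψ => ?_))
    · rw [blockInd_of_notMem (by simpa using hψ), zero_mul]
    · rw [blockInd_of_mem (Set.mem_toFinset.1 hψ),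
        mem_irrKer.1 (hK ψ (Set.mem_toFinset.1 hψ) x.2), irr_one_eq]
      push_cast; ring
  rw [h2] at h
  obtain ⟨χ, hχ⟩ := IsPBlock.nonempty hM hB
  have : 0 < ∑ ψ ∈ B.toFinset, charDegree (ψ : G → ℂ) ^ 2 :=
    Finset.sum_pos (fun ψ _ => pow_pos (charDegree_pos ψ) 2) ⟨χ, Set.mem_toFinset.2 hχ⟩
  rw [Nat.cast_eq_zero] at h
  omega

end CfsgLib.Blocks
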