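import Cfsg.Agent.Lib.Blocks.Section
import Cfsg.Agent.Lib.Blocks.InducedBlock
import Cfsg.Agent.Lib.BrauerSuzuki.PrincipalSection
import Cfsg.Agent.S0936

/-!
# Inner products of columns of the principal block at `p`-elements
-/

set_option autoImplicit false

namespace CfsgLib.Blocks

open Cfsg
open scoped Classical ComplexConjugate

variable {G : Type*} [Group G] [Fintype G] {p : ℕ} {M : Ideal AlgInt}

/-- The sum of the squared degrees in the principal block of the centralizer. -/
noncomputable def principalLambda (M : Ideal AlgInt) (y : G) : ℕ :=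
  ∑ᶠ ψ ∈ principalBlock M (Subgroup.centralizer ({y} : Set G)),
    charDegree (ψ : Subgroup.centralizer ({y} : Set G) → ℂ) ^ 2

theorem sectionSet_principal (hM : IsPModular p M) {x : G} (hx : ∃ k : ℕ, orderOf x = p ^ k) :
    sectionSet M (Subgroup.centralizer ({x} : Set G)) (principalBlock M G)
      = principalBlock M (Subgroup.centralizer ({x} : Set G)) := by
  haveI := Fact.mk hM.1
  set K := Subgroup.centralizer ({x} : Set G)
  ext ψ
  refine ⟨fun h => ?_, fun hψ => ?_⟩
  · by_contra hψ
    exact CfsgLib.BrauerSuzuki.not_induces_principalBlock hM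
      (fun he => hψ (he ▸ SameBlock_refl hM _ : ψ ∈ principalBlock M K)) h
  · show IsInducedBlock M K (blockOf M (ψ : K → ℂ)) (principalBlock M G)
    rw [← IsPBlock.eq_blockOf hM isPBlock_principalBlock hψ]
    exact (Cfsg.Agent.S0936.result p M hM K _
      (exists_isInducedBlock_centralizer_singleton hM hx isPBlock_principalBlock)).2 rfl

/-- Orthogonality of the columns at `p`-elements inside the principal block. -/
theorem sum_principal_columns (hM : IsPModular p M) {y z : G} (hy : ∃ k : ℕ, orderOf y = p ^ k)
    (hz : ∃ k : ℕ, orderOf z = p ^ k) :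
    ∑ χ : IrrCharacter G, blockInd (principalBlock M G) χ * ((χ : G → ℂ) y * (χ : G → ℂ) z⁻¹)
      = if IsConj y z then (principalLambda M y : ℂ) else 0 := by
  have hpp : ∀ w : G, (∃ k : ℕ, orderOf w = p ^ k) → IsPPart p w w := fun w hw =>
    ⟨1, mul_one w, Commute.one_right w, hw, by rw [orderOf_one]; exact hM.1.not_dvd_one⟩
  split_ifs with h
  · obtain ⟨g, hg⟩ := isConj_iff.1 h
    have hone : ¬ p ∣ orderOf (1 : Subgroup.centralizer ({y} : Set G)) := by
      rw [orderOf_one]; exact hM.1.not_dvd_one
    have h1 := sum_block_section hM rfl hy (isPBlock_principalBlock (M := M) (G := G)) hone hone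
    simp only [OneMemClass.coe_one, mul_one] at h1
    refine Eq.trans (Finset.sum_congr rfl fun χ _ => ?_) (h1.trans ?_)
    · rw [← hg, show (g * y * g⁻¹)⁻¹ = g * y⁻¹ * g⁻¹ by simp [mul_assoc], irr_conj_apply]
    · rw [sectionSet_principal hM hy, blockKernel, principalLambda, finsum_mem_eq_toFinset_sum,
        Nat.cast_sum, ← Finset.sum_subset (Finset.subset_univ (principalBlock M _).toFinset)
          (fun ψ _ hψ => by rw [blockInd_of_notMem (by simpa using hψ), zero_mul])]
      refine Finset.sum_congr rfl fun ψ hψ => ?_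
      rw [blockInd_of_mem (Set.mem_toFinset.1 hψ), one_mul, inv_one, irr_one_eq, Nat.cast_pow, sq]
  · exact sum_block_mul_eq_zero hM isPBlock_principalBlock (hpp y hy) (hpp z hz) h

end CfsgLib.Blocks
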