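import Cfsg.Prelude.Def_Blocks
import Cfsg.Agent.Lib.Blocks.RegularSum

/-!
# `p`-parts of elements
-/

set_option autoImplicit false

namespace CfsgLib.Blocks

open Cfsg

variable {G : Type*} [Group G] [Finite G] {p : ℕ}

theorem dvd_ordCompl_of_not_dvd (hp : p.Prime) {g : G} (h : ¬ p ∣ orderOf g) :
    orderOf g ∣ Nat.card G / p ^ (Nat.card G).factorization p :=
  (Nat.Coprime.pow_right _ (Nat.Coprime.symm (hp.coprime_iff_not_dvd.2 h))).dvd_of_dvd_mul_left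
    (by rw [Nat.ordProj_mul_ordCompl_eq_self]; exact orderOf_dvd_natCard g)

theorem dvd_ordProj_of_pow (hp : p.Prime) {g : G} {k : ℕ} (h : orderOf g = p ^ k) :
    orderOf g ∣ p ^ (Nat.card G).factorization p := by
  rw [h]
  exact pow_dvd_pow _ ((hp.pow_dvd_iff_le_factorization Nat.card_pos.ne').1
    (h ▸ orderOf_dvd_natCard g))

/-- Every element is the product of a `p`-element and a `p`-regular element, both powers of it. -/
theorem exists_isPPart (hp : p.Prime) (g : G) :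
    ∃ x y : G, IsPPart p g x ∧ x * y = g ∧ Commute x y ∧ ¬ p ∣ orderOf y ∧
      (∃ k, orderOf x = p ^ k) ∧ x ∈ Subgroup.zpowers g ∧ y ∈ Subgroup.zpowers g := by
  haveI := Fact.mk hp
  obtain ⟨E, E', h1, -, -, h4, h5⟩ := qPart_exponents (G := G) p
  obtain ⟨k, -, hk⟩ := (Nat.dvd_prime_pow hp).1 (h5 g)
  have hreg : ¬ p ∣ orderOf (g ^ E) := fun h =>
    Nat.not_dvd_ordCompl hp Nat.card_pos.ne' (h.trans (h4 g))
  have hc : Commute (g ^ E') (g ^ E) := (Commute.refl g).pow_pow _ _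
  have he : g ^ E' * g ^ E = g := by rw [hc.eq, h1]
  exact ⟨g ^ E', g ^ E, ⟨g ^ E, he, hc, ⟨k, hk⟩, hreg⟩, he, hc, hreg, ⟨k, hk⟩,
    pow_mem (Subgroup.mem_zpowers g) _, pow_mem (Subgroup.mem_zpowers g) _⟩

/-- The `p`-part is unique. -/
theorem isPPart_unique (hp : p.Prime) {g x x' : G} (h : IsPPart p g x) (h' : IsPPart p g x') :
    x = x' := by
  haveI := Fact.mk hp
  obtain ⟨E, E', -, h2, h3, -, -⟩ := qPart_exponents (G := G) p
  have key : ∀ z, IsPPart p g z → z = g ^ E' := by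
    rintro z ⟨y, he, hc, ⟨k, hk⟩, hy⟩
    rw [← he, hc.mul_pow, (h2 z (dvd_ordProj_of_pow hp hk)).2,
      (h3 y (dvd_ordCompl_of_not_dvd hp hy)).2, mul_one]
  rw [key x h, key x' h']

theorem isPPart_conj {g x : G} (h : IsPPart p g x) (u : G) :
    IsPPart p (u * g * u⁻¹) (u * x * u⁻¹) := by
  obtain ⟨y, he, hc, ⟨k, hk⟩, hy⟩ := h
  have e : ∀ z : G, orderOf (u * z * u⁻¹) = orderOf z := fun z => (MulAut.conj u).orderOf_eq z
  refine ⟨u * y * u⁻¹, ?_, ?_, ⟨k, by rw [e, hk]⟩, by rwa [e]⟩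
  · rw [← he]; simp [mul_assoc]
  · show _ = _
    have := hc.eq
    simp only [mul_assoc, inv_mul_cancel_left]
    rw [← mul_assoc x, this, mul_assoc]

theorem isPPart_mul {x y : G} (hxy : Commute x y) {k : ℕ} (hx : orderOf x = p ^ k)
    (hy : ¬ p ∣ orderOf y) : IsPPart p (x * y) x :=
  ⟨y, rfl, hxy, ⟨k, hx⟩, hy⟩

end CfsgLib.Blocks
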