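import Cfsg.Prelude.Def_BlockRank
import Cfsg.Agent.Lib.Blocks.Height
import Mathlib.LinearAlgebra.Trace

/-!
# The `p`-regular rank of a block
-/

set_option autoImplicit false

namespace CfsgLib.Blocks

open Cfsg
open scoped Classical ComplexConjugate

variable {G : Type*} [Group G] [Fintype G] {p : ℕ} {M : Ideal AlgInt}

theorem pRegularPart_apply (χ : G → ℂ) (g : G) :
    pRegularPart p χ g = if IsPRegular p g then χ g else 0 := by
  by_cases h : IsPRegular p g <;> simp [pRegularPart, h]

/-- `blockRank` is the trace of the projection `regInner / |G|_p`. -/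
theorem pPartCard_mul_blockRank (hM : IsPModular p M) {B : Set (IrrCharacter G)}
    (hB : IsPBlock M B) :
    (pPartCard p G : ℂ) * (blockRank p B : ℂ)
      = ∑ χ : B, regInner p ((χ : IrrCharacter G) : G → ℂ) ((χ : IrrCharacter G) : G → ℂ) := by
  set q : ℂ := (pPartCard p G : ℂ) with hq
  have hq0 : q ≠ 0 := pPartCard_ne_zero hM.1
  let A : Matrix B B ℂ := Matrix.of fun i j => q⁻¹ * regInner p ((i : IrrCharacter G) : G → ℂ)
    ((j : IrrCharacter G) : G → ℂ)
  let L : (B → ℂ) →ₗ[ℂ] (G → ℂ) := Fintype.linearCombination ℂ fun i : B => ((i : IrrCharacter G) : G → ℂ)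
  let R : (B → ℂ) →ₗ[ℂ] (G → ℂ) := Fintype.linearCombination ℂ fun i : B =>
    pRegularPart p ((i : IrrCharacter G) : G → ℂ)
  have hexp : ∀ (i : B) (y : G), ∑ j : B, A i j * ((j : IrrCharacter G) : G → ℂ) y
      = pRegularPart p ((i : IrrCharacter G) : G → ℂ) y := by
    intro i y
    have h := sum_regInner_mul hM (IsPBlock.isLocalOn hM hB) (i : IrrCharacter G) y
    rw [blockInd_of_mem i.2, mul_one] at h
    have h2 : ∑ j : B, q⁻¹ * (regInner p ((i : IrrCharacter G) : G → ℂ)
        ((j : IrrCharacter G) : G → ℂ) * ((j : IrrCharacter G) : G → ℂ) y)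
        = q⁻¹ * ∑ ψ : IrrCharacter G, blockInd B ψ *
          regInner p ((i : IrrCharacter G) : G → ℂ) (ψ : G → ℂ) * (ψ : G → ℂ) y := by
      rw [Finset.mul_sum]
      refine ((Finset.sum_subtype B.toFinset (fun x => Set.mem_toFinset) (fun ψ : IrrCharacter G =>
        q⁻¹ * (regInner p ((i : IrrCharacter G) : G → ℂ) (ψ : G → ℂ) * (ψ : G → ℂ) y))).symm.trans
        ?_)
      refine (Finset.sum_congr rfl fun ψ hψ => ?_).trans
        (Finset.sum_subset (Finset.subset_univ _) fun ψ _ hψ => ?_)
      · rw [blockInd_of_mem (Set.mem_toFinset.1 hψ), one_mul]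
      · rw [blockInd_of_notMem (by simpa using hψ), zero_mul, zero_mul, mul_zero]
    simp only [A, Matrix.of_apply, mul_assoc]
    rw [h2, h, pRegularPart_apply]
    split
    · rw [inv_mul_cancel_left₀ hq0]
    · rw [mul_zero]
  have hsymm : ∀ i j, A i j = A j i := fun i j => by simp only [A, Matrix.of_apply, regInner_comm]
  have hLA : L ∘ₗ A.toLin' = R := by
    refine LinearMap.ext fun c => funext fun y => ?_
    simp only [L, R, LinearMap.comp_apply, Fintype.linearCombination_apply, Finset.sum_apply,
      Pi.smul_apply, smul_eq_mul, Matrix.toLin'_apply, Matrix.mulVec, dotProduct, Finset.sum_mul]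
    rw [Finset.sum_comm]
    refine Finset.sum_congr rfl fun i _ => ?_
    rw [← hexp i y, Finset.mul_sum]
    exact Finset.sum_congr rfl fun j _ => by rw [hsymm j i]; ring
  have hL : Function.Injective L := by
    have h : LinearIndependent ℂ fun i : B => ((i : IrrCharacter G) : G → ℂ) :=
      (CfsgLib.Char.linearIndependent_irr (G := G)).comp _ Subtype.val_injective
    exact h.fintypeLinearCombination_injective
  have hidem : A * A = A := by
    ext i j
    have h := sum_regInner_sq hM (IsPBlock.isLocalOn hM hB) (i : IrrCharacter G) (j : IrrCharacter G)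
    rw [blockInd_of_mem i.2, mul_one] at h
    rw [Matrix.mul_apply]
    simp only [A, Matrix.of_apply]
    calc ∑ k : B, q⁻¹ * regInner p ((i : IrrCharacter G) : G → ℂ) ((k : IrrCharacter G) : G → ℂ)
          * (q⁻¹ * regInner p ((k : IrrCharacter G) : G → ℂ) ((j : IrrCharacter G) : G → ℂ))
        = q⁻¹ * q⁻¹ * ∑ ψ : IrrCharacter G, blockInd B ψ *
            regInner p ((i : IrrCharacter G) : G → ℂ) (ψ : G → ℂ)
              * regInner p (ψ : G → ℂ) ((j : IrrCharacter G) : G → ℂ) := by
          rw [Finset.mul_sum]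
          refine ((Finset.sum_subtype B.toFinset (fun x => Set.mem_toFinset) (fun ψ : IrrCharacter G =>
            q⁻¹ * regInner p ((i : IrrCharacter G) : G → ℂ) (ψ : G → ℂ)
              * (q⁻¹ * regInner p (ψ : G → ℂ) ((j : IrrCharacter G) : G → ℂ)))).symm.trans ?_)
          refine (Finset.sum_congr rfl fun ψ hψ => ?_).trans
            (Finset.sum_subset (Finset.subset_univ _) fun ψ _ hψ => ?_)
          · rw [blockInd_of_mem (Set.mem_toFinset.1 hψ)]; ring
          · rw [blockInd_of_notMem (by simpa using hψ)]; ring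
      _ = _ := by rw [h]; field_simp; simp [hq]
  have hrank : blockRank p B = Module.finrank ℂ (LinearMap.range A.toLin') := by
    rw [blockRank]
    have h1 : Submodule.span ℂ ((fun χ : IrrCharacter G => pRegularPart p (χ : G → ℂ)) '' B)
        = LinearMap.range R := by
      rw [Fintype.range_linearCombination, Set.image_eq_range]
    rw [h1, ← hLA, LinearMap.range_comp]
    exact (Submodule.equivMapOfInjective L hL _).finrank_eq.symm
  have hproj : LinearMap.IsProj (LinearMap.range A.toLin') A.toLin' := by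
    refine ⟨fun x => LinearMap.mem_range_self _ _, ?_⟩
    rintro _ ⟨x, rfl⟩
    rw [← LinearMap.comp_apply, ← Matrix.toLin'_mul, hidem]
  have htr := hproj.trace
  rw [Matrix.trace_toLin'_eq] at htr
  rw [hrank, ← htr, Matrix.trace, Finset.mul_sum]
  refine Finset.sum_congr rfl fun i _ => ?_
  simp only [A, Matrix.diag_apply, Matrix.of_apply]
  rw [mul_inv_cancel_left₀ hq0]

/-- The rank of a block times the group order as a sum over regular elements. -/
theorem card_mul_blockRank (hM : IsPModular p M) {B : Set (IrrCharacter G)} (hB : IsPBlock M B) :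
    (Nat.card G : ℂ) * (blockRank p B : ℂ)
      = ∑ x : G, ∑ᶠ χ ∈ B, pRegularPart p (χ : G → ℂ) x * (χ : G → ℂ) x⁻¹ := by
  have h := pPartCard_mul_blockRank hM hB
  have hq0 := pPartCard_ne_zero (G := G) hM.1
  have e : ∑ χ : B, regInner p ((χ : IrrCharacter G) : G → ℂ) ((χ : IrrCharacter G) : G → ℂ)
      = (pPartCard p G : ℂ) * (Nat.card G : ℂ)⁻¹
        * ∑ x : G, ∑ᶠ χ ∈ B, pRegularPart p (χ : G → ℂ) x * (χ : G → ℂ) x⁻¹ := by
    simp only [finsum_mem_eq_toFinset_sum]
    rw [Finset.sum_comm, Finset.mul_sum, Finset.sum_subtype B.toFinset (fun x => Set.mem_toFinset)]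
    refine Finset.sum_congr rfl fun i _ => ?_
    rw [regInner, Finset.sum_filter]
    congr 1
    refine Finset.sum_congr rfl fun x _ => ?_
    rw [pRegularPart_apply]
    split <;> simp
  rw [e, mul_assoc] at h
  rw [mul_left_cancel₀ hq0 h, mul_inv_cancel_left₀ CfsgLib.Char.card_ne_zero]

end CfsgLib.Blocks
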