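import Cfsg.Agent.Lib.Blocks.SecondMainBlocks
import Cfsg.Agent.Lib.Blocks.Parts
import Cfsg.Agent.Lib.Blocks.Rank

/-!
# `p`-sections: orthogonality inside a block
-/

set_option autoImplicit false

namespace CfsgLib.Blocks

open Cfsg
open scoped Classical ComplexConjugate

variable {G : Type*} [Group G] [Fintype G] {p : ℕ} {M : Ideal AlgInt}

/-- The finite set of blocks. -/
noncomputable def blockFinset (M : Ideal AlgInt) (G : Type*) [Group G] [Fintype G] :
    Finset (Set (IrrCharacter G)) :=
  Finset.univ.image fun χ : IrrCharacter G => blockOf M (χ : G → ℂ)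

theorem mem_blockFinset {b : Set (IrrCharacter G)} :
    b ∈ blockFinset M G ↔ IsPBlock M b := by
  simp only [blockFinset, Finset.mem_image, Finset.mem_univ, true_and, IsPBlock]
  exact ⟨fun ⟨χ, h⟩ => ⟨χ, h.symm⟩, fun ⟨χ, h⟩ => ⟨χ, h.symm⟩⟩

theorem blockInd_blockOf (hM : IsPModular p M) {b : Set (IrrCharacter G)} (hb : IsPBlock M b)
    (ψ : IrrCharacter G) :
    blockInd b ψ = if blockOf M (ψ : G → ℂ) = b then 1 else 0 := by
  by_cases h : ψ ∈ b
  · rw [blockInd_of_mem h, if_pos (IsPBlock.eq_blockOf hM hb h).symm]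
  · rw [blockInd_of_notMem h, if_neg fun e => h (by rw [← e]; exact SameBlock_refl hM _)]

theorem sum_eq_sum_blocks (hM : IsPModular p M) (w : Set (IrrCharacter G) → ℂ)
    (g : IrrCharacter G → ℂ) :
    ∑ ψ : IrrCharacter G, w (blockOf M (ψ : G → ℂ)) * g ψ
      = ∑ b ∈ blockFinset M G, w b * ∑ ψ : IrrCharacter G, blockInd b ψ * g ψ := by
  simp only [Finset.mul_sum]
  rw [Finset.sum_comm]
  refine Finset.sum_congr rfl fun ψ _ => ?_
  rw [Finset.sum_eq_single (blockOf M (ψ : G → ℂ))]
  · rw [blockInd_of_mem (SameBlock_refl hM _), one_mul]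
  · intro b hb hne
    rw [blockInd_blockOf hM (mem_blockFinset.1 hb), if_neg (Ne.symm hne), zero_mul, mul_zero]
  · exact fun h => absurd (mem_blockFinset.2 (isPBlock_blockOf ψ)) h

theorem blockPart_eq_sum (b : Set (IrrCharacter G)) (ϑ : G → ℂ) (y : G) :
    blockPart b ϑ y = ∑ φ : IrrCharacter G,
      blockInd b φ * (classInner ϑ (φ : G → ℂ) * (φ : G → ℂ) y) := by
  rw [blockPart, Subsingleton.elim (Fintype.ofFinite G) ‹Fintype G›, finsum_mem_eq_toFinset_sum]
  refine (Finset.sum_congr rfl fun φ hφ => ?_).trans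
    (Finset.sum_subset (Finset.subset_univ _) fun φ _ hφ => ?_)
  · rw [blockInd_of_mem (Set.mem_toFinset.1 hφ), one_mul]
  · rw [blockInd_of_notMem (by simpa using hφ), zero_mul]

/-- The kernel of the projection to `S`. -/
noncomputable def blockKernel (S : Set (IrrCharacter G)) (c s : G) : ℂ :=
  ∑ ψ : IrrCharacter G, blockInd S ψ * ((ψ : G → ℂ) c⁻¹ * (ψ : G → ℂ) s)

theorem blockKernel_inv (S : Set (IrrCharacter G)) (c s : G) :
    blockKernel S c⁻¹ s⁻¹ = blockKernel S s c := by
  simp only [blockKernel, inv_inv]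
  exact Finset.sum_congr rfl fun ψ _ => by rw [mul_comm ((ψ : G → ℂ) c)]

theorem blockKernel_conj (S : Set (IrrCharacter G)) (c s g : G) :
    blockKernel S (g * c * g⁻¹) s = blockKernel S c s := by
  refine Finset.sum_congr rfl fun ψ _ => ?_
  rw [show (g * c * g⁻¹)⁻¹ = g * c⁻¹ * g⁻¹ by simp [mul_assoc], irr_conj_apply]

/-- At regular elements the projection to `S` only sees regular values. -/
theorem blockPart_eq_sum_regular (hM : IsPModular p M) {C : Subgroup G}
    {S : Set (IrrCharacter G)} (hS : IsLocalOn M C (blockInd S)) (ϑ : G → ℂ) {s : G}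
    (hs : ¬ p ∣ orderOf s) :
    blockPart S ϑ s
      = (Nat.card G : ℂ)⁻¹ * ∑ c : G with IsPRegular p c, ϑ c * blockKernel S c s := by
  rw [blockPart_eq_sum, Finset.sum_filter_of_ne fun c _ hne => by
    by_contra hc
    exact hne (by
      rw [blockKernel, hS.sum_mul_eq_zero hM (blockInd_mul_self S)
        (by simpa using not_isPRegular.1 hc) hs, mul_zero])]
  simp only [Cfsg.classInner, conj_irr, blockKernel, Finset.mul_sum, Finset.sum_mul]
  rw [Finset.sum_comm]
  exact Finset.sum_congr rfl fun c _ => Finset.sum_congr rfl fun ψ _ => by ring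

theorem sum_irr_mul_inv (a b : G) :
    ∑ χ : IrrCharacter G, (χ : G → ℂ) a * (χ : G → ℂ) b⁻¹
      = ((Finset.univ.filter fun g : G => g * a * g⁻¹ = b).card : ℂ) := by
  have h := CfsgLib.Char.sum_irr_mul_conj a b
  simp only [conj_irr] at h
  rw [h]
  by_cases hab : IsConj a b
  · rw [if_pos hab]
    obtain ⟨c, hc⟩ := isConj_iff.1 hab
    rw [Nat.card_eq_fintype_card, Fintype.card_subtype]
    congr 1
    refine Finset.card_bij' (fun u _ => u * c) (fun u _ => u * c⁻¹) ?_ ?_ ?_ ?_
    · intro u hu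
      simp only [Finset.mem_filter, Finset.mem_univ, true_and,
        Subgroup.mem_centralizer_singleton_iff] at hu ⊢
      calc u * c * a * (u * c)⁻¹ = u * (c * a * c⁻¹) * u⁻¹ := by simp [mul_assoc]
        _ = b := by rw [hc, hu, mul_inv_cancel_right]
    · intro u hu
      simp only [Finset.mem_filter, Finset.mem_univ, true_and,
        Subgroup.mem_centralizer_singleton_iff] at hu ⊢
      have h2 : u * c⁻¹ * b * (u * c⁻¹)⁻¹ = b := by
        conv_rhs => rw [← hu]
        rw [← hc]; simp [mul_assoc]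
      exact mul_inv_eq_iff_eq_mul.1 h2
    · intro u _; simp
    · intro u _; simp
  · rw [if_neg hab, Finset.filter_false_of_mem]
    · simp
    · exact fun g _ hg => hab (isConj_iff.2 ⟨g, hg⟩)

variable {x : G}

/-- The characters of `K = C_G(x)` in blocks inducing `B`. -/
def sectionSet (M : Ideal AlgInt) (K : Subgroup G) (B : Set (IrrCharacter G)) :
    Set (IrrCharacter K) :=
  {ψ | IsInducedBlock M K (blockOf M (ψ : K → ℂ)) B}

theorem sectionSet_isLocalOn (hM : IsPModular p M) (K : Subgroup G) (B : Set (IrrCharacter G)) :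
    IsLocalOn M (⊤ : Subgroup K) (blockInd (sectionSet M K B)) := by
  refine IsLocalOn.blockInd_of_separated hM fun χ hχ ψ hψ => ?_
  by_contra h
  push Not at h
  refine hψ ?_
  show IsInducedBlock M K (blockOf M (ψ : K → ℂ)) B
  rw [← blockOf_eq_of_sameBlock hM (show SameBlock M (χ : K → ℂ) (ψ : K → ℂ) from
    fun g => h g (Subgroup.mem_top g))]
  exact hχ

theorem blockInd_sectionSet (K : Subgroup G) (B : Set (IrrCharacter G)) (ψ : IrrCharacter K) :
    blockInd (sectionSet M K B) ψ = if IsInducedBlock M K (blockOf M (ψ : K → ℂ)) B then 1 else 0 := by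
  unfold blockInd sectionSet
  exact if_congr Iff.rfl rfl rfl

theorem mul_left_isClassFunction {K : Subgroup G} (hK : K = Subgroup.centralizer ({x} : Set G))
    (χ : IrrCharacter G) : IsClassFunction K fun c : K => (χ : G → ℂ) (x * (c : G)) := by
  intro c z
  have hz : (z : G) * x = x * (z : G) :=
    Subgroup.mem_centralizer_singleton_iff.1 (hK ▸ z.2)
  show (χ : G → ℂ) (x * ((z : G) * (c : G) * (z : G)⁻¹)) = (χ : G → ℂ) (x * (c : G))
  rw [← mul_assoc, ← mul_assoc, ← hz, mul_assoc (z : G) x (c : G), irr_conj_apply]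

theorem blockPart_eq_zero_of_not_induced (hM : IsPModular p M)
    {K : Subgroup G} (hK : K = Subgroup.centralizer ({x} : Set G))
    (hx : ∃ k : ℕ, orderOf x = p ^ k) {B : Set (IrrCharacter G)} (hB : IsPBlock M B)
    {χ : IrrCharacter G} (hχ : χ ∈ B) {b : Set (IrrCharacter K)} (hb : IsPBlock M b)
    (hnot : ¬ IsInducedBlock M K b B) {y : K} (hy : ¬ p ∣ orderOf y) :
    blockPart b (fun c : K => (χ : G → ℂ) (x * (c : G))) y = 0 := by
  subst hK
  exact blockPart_section_eq_zero hM hx hB hχ hb hnot hy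

/-- Brauer's decomposition of a section. -/
theorem blockPart_sectionSet (hM : IsPModular p M)
    {K : Subgroup G} (hK : K = Subgroup.centralizer ({x} : Set G))
    (hx : ∃ k : ℕ, orderOf x = p ^ k) {B : Set (IrrCharacter G)} (hB : IsPBlock M B)
    (χ : IrrCharacter G) {s : K} (hs : ¬ p ∣ orderOf s) :
    blockPart (sectionSet M K B) (fun c : K => (χ : G → ℂ) (x * (c : G))) s
      = blockInd B χ * (χ : G → ℂ) (x * (s : G)) := by
  set ϑ : K → ℂ := fun c => (χ : G → ℂ) (x * (c : G))
  have hϑ : IsClassFunction K ϑ := mul_left_isClassFunction hK χ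
  set T := fun ψ : IrrCharacter K => classInner ϑ (ψ : K → ℂ) * (ψ : K → ℂ) s
  have hb0 : ∀ b ∈ blockFinset M K, ¬ IsInducedBlock M K b (blockOf M (χ : G → ℂ)) →
      ∑ ψ : IrrCharacter K, blockInd b ψ * T ψ = 0 := fun b hb hnot => by
    rw [← blockPart_eq_sum]
    exact blockPart_eq_zero_of_not_induced hM hK hx (isPBlock_blockOf χ) (SameBlock_refl hM _)
      (mem_blockFinset.1 hb) hnot hs
  rw [blockPart_eq_sum]
  simp only [blockInd_sectionSet]
  rw [sum_eq_sum_blocks hM (fun b => if IsInducedBlock M K b B then 1 else 0)]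
  by_cases hχ : χ ∈ B
  · have hBe := IsPBlock.eq_blockOf hM hB hχ
    rw [blockInd_of_mem hχ, one_mul]
    have h1 : (χ : G → ℂ) (x * (s : G)) = ∑ ψ : IrrCharacter K, T ψ := by
      conv_lhs => rw [show (χ : G → ℂ) (x * (s : G)) = ϑ s from rfl,
        CfsgLib.Char.IsClassFunction.eq_sum_irr hϑ]
      simp [T]
    have h2 := sum_eq_sum_blocks hM (fun _ : Set (IrrCharacter K) => (1 : ℂ)) T
    simp only [one_mul] at h2
    rw [h1, h2]
    refine Finset.sum_congr rfl fun b hb => ?_
    by_cases hind : IsInducedBlock M K b B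
    · rw [if_pos hind, one_mul]
    · rw [if_neg hind, zero_mul, hb0 b hb (hBe ▸ hind)]
  · rw [blockInd_of_notMem hχ, zero_mul]
    refine Finset.sum_eq_zero fun b hb => ?_
    by_cases hind : IsInducedBlock M K b B
    · rw [if_pos hind, one_mul]
      refine hb0 b hb fun h => hχ ?_
      rw [IsInducedBlock.unique hM hind h]
      exact SameBlock_refl hM _
    · rw [if_neg hind, zero_mul]

theorem conj_mul_eq_iff (hp : p.Prime) (hx : ∃ k : ℕ, orderOf x = p ^ k) {c d g : G}
    (hc : Commute x c) (hd : Commute x d) (hcr : ¬ p ∣ orderOf c) (hdr : ¬ p ∣ orderOf d) :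
    g * (x * c) * g⁻¹ = x * d ↔ g * x * g⁻¹ = x ∧ g * c * g⁻¹ = d := by
  obtain ⟨k, hk⟩ := hx
  refine ⟨fun h => ?_, fun ⟨h1, h2⟩ => ?_⟩
  · have h1 := isPPart_conj (isPPart_mul hc hk hcr) g
    rw [h] at h1
    have h2 := isPPart_unique hp h1 (isPPart_mul hd hk hdr)
    refine ⟨h2, mul_left_cancel (a := x) ?_⟩
    conv_lhs => arg 1; rw [← h2]
    rw [← h]; simp [mul_assoc]
  · conv_rhs => rw [← h1, ← h2]
    simp [mul_assoc]

/-- The full orthogonality relation on one section. -/
theorem sum_irr_section (hp : p.Prime)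
    {K : Subgroup G} (hK : K = Subgroup.centralizer ({x} : Set G))
    (hx : ∃ k : ℕ, orderOf x = p ^ k) {c t : K} (hc : IsPRegular p c) (ht : IsPRegular p t) :
    ∑ χ : IrrCharacter G, (χ : G → ℂ) (x * (c : G)) * (χ : G → ℂ) (x * (t : G))⁻¹
      = ((Finset.univ.filter fun g : K => g * c * g⁻¹ = t).card : ℂ) := by
  rw [sum_irr_mul_inv]
  congr 1
  have hcomm : ∀ z : K, Commute x (z : G) := fun z =>
    (Subgroup.mem_centralizer_singleton_iff.1 (hK ▸ z.2)).symm
  have hcr : ¬ p ∣ orderOf (c : G) := by rwa [Subgroup.orderOf_coe]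
  have htr : ¬ p ∣ orderOf (t : G) := by rwa [Subgroup.orderOf_coe]
  have hiff : ∀ g : G, g * (x * (c : G)) * g⁻¹ = x * (t : G) ↔
      g * x * g⁻¹ = x ∧ g * (c : G) * g⁻¹ = (t : G) := fun g =>
    conj_mul_eq_iff hp hx (hcomm c) (hcomm t) hcr htr
  symm
  refine Finset.card_bij (fun (g : K) _ => (g : G)) ?_ (fun _ _ _ _ h => Subtype.ext h) ?_
  · intro g hg
    simp only [Finset.mem_filter, Finset.mem_univ, true_and] at hg ⊢
    refine (hiff g).2 ⟨?_, congrArg Subtype.val hg⟩
    rw [← (hcomm g).eq, mul_inv_cancel_right]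
  · intro g hg
    simp only [Finset.mem_filter, Finset.mem_univ, true_and] at hg
    obtain ⟨h1, h2⟩ := (hiff g).1 hg
    refine ⟨⟨g, ?_⟩, ?_, rfl⟩
    · rw [hK, Subgroup.mem_centralizer_singleton_iff]
      exact mul_inv_eq_iff_eq_mul.1 h1
    · simp only [Finset.mem_filter, Finset.mem_univ, true_and]
      exact Subtype.ext h2

theorem sum_mul_card_conj (p : ℕ) {H : Type*} [Group H] [Fintype H] (f : H → ℂ)
    (hf : IsClassFunction H f) {t : H} (ht : IsPRegular p t) :
    ∑ c : H with IsPRegular p c, f c * ((Finset.univ.filter fun g : H => g * c * g⁻¹ = t).card : ℂ)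
      = (Nat.card H : ℂ) * f t := by
  have e : ∀ c : H, f c * ((Finset.univ.filter fun g : H => g * c * g⁻¹ = t).card : ℂ)
      = ∑ g : H, if g * c * g⁻¹ = t then f t else 0 := fun c => by
    rw [Finset.natCast_card_filter, Finset.mul_sum]
    refine Finset.sum_congr rfl fun g _ => ?_
    by_cases h : g * c * g⁻¹ = t
    · rw [if_pos h, if_pos h, mul_one, ← h, hf c g]
    · rw [if_neg h, if_neg h, mul_zero]
  rw [Finset.sum_congr rfl fun c _ => e c, Finset.sum_comm]
  have h2 : ∀ g : H, ∑ c : H with IsPRegular p c, (if g * c * g⁻¹ = t then f t else 0) = f t := by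
    intro g
    rw [Finset.sum_eq_single (g⁻¹ * t * g)]
    · rw [if_pos (by simp [mul_assoc])]
    · intro c _ hne
      rw [if_neg fun h => hne (by rw [← h]; simp [mul_assoc])]
    · intro h
      refine absurd (Finset.mem_filter.2 ⟨Finset.mem_univ _, ?_⟩) h
      have := (MulAut.conj g⁻¹).orderOf_eq t
      simp only [MulAut.conj_apply, inv_inv] at this
      simpa only [IsPRegular, this] using ht
  rw [Finset.sum_congr rfl fun g _ => h2 g, Finset.sum_const, nsmul_eq_mul, Finset.card_univ,
    Fintype.card_eq_nat_card]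

/-- Orthogonality on a section inside a block. -/
theorem sum_block_section (hM : IsPModular p M)
    {K : Subgroup G} (hK : K = Subgroup.centralizer ({x} : Set G))
    (hx : ∃ k : ℕ, orderOf x = p ^ k) {B : Set (IrrCharacter G)} (hB : IsPBlock M B)
    {s t : K} (hs : ¬ p ∣ orderOf s) (ht : ¬ p ∣ orderOf t) :
    ∑ χ : IrrCharacter G, blockInd B χ *
        ((χ : G → ℂ) (x * (s : G)) * (χ : G → ℂ) (x * (t : G))⁻¹)
      = blockKernel (sectionSet M K B) t s := by
  have e : ∀ χ : IrrCharacter G, blockInd B χ *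
      ((χ : G → ℂ) (x * (s : G)) * (χ : G → ℂ) (x * (t : G))⁻¹)
      = (Nat.card K : ℂ)⁻¹ * ∑ c : K with IsPRegular p c,
          blockKernel (sectionSet M K B) c s *
            ((χ : G → ℂ) (x * (c : G)) * (χ : G → ℂ) (x * (t : G))⁻¹) := by
    intro χ
    rw [← mul_assoc, ← blockPart_sectionSet hM hK hx hB χ hs,
      blockPart_eq_sum_regular hM (sectionSet_isLocalOn hM K B) _ hs, mul_assoc, Finset.sum_mul]
    congr 1
    exact Finset.sum_congr rfl fun c _ => by ring
  rw [Finset.sum_congr rfl fun χ _ => e χ, ← Finset.mul_sum, Finset.sum_comm]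
  simp only [← Finset.mul_sum]
  rw [Finset.sum_congr rfl (g := fun c : K => blockKernel (sectionSet M K B) c s *
    ((Finset.univ.filter fun g : K => g * c * g⁻¹ = t).card : ℂ)) fun c hc => by
      rw [sum_irr_section hM.1 hK hx (Finset.mem_filter.1 hc).2 ht],
    inv_mul_eq_iff_eq_mul₀ CfsgLib.Char.card_ne_zero]
  have h5 := sum_mul_card_conj p (fun c : K => blockKernel (sectionSet M K B) c s)
    (fun c g => blockKernel_conj _ c s g) ht
  convert h5 using 1
  congr! 5

/-- Block orthogonality between different sections. -/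
theorem sum_block_mul_eq_zero (hM : IsPModular p M) {B : Set (IrrCharacter G)} (hB : IsPBlock M B)
    {g h z w : G} (hg : IsPPart p g z) (hh : IsPPart p h w) (hne : ¬ IsConj z w) :
    ∑ χ : IrrCharacter G, blockInd B χ * ((χ : G → ℂ) g * (χ : G → ℂ) h⁻¹) = 0 := by
  obtain ⟨s, hgs, hcomm, hz, hs⟩ := hg
  set K := Subgroup.centralizer ({z} : Set G) with hK
  let sK : K := ⟨s, Subgroup.mem_centralizer_singleton_iff.2 hcomm.eq.symm⟩
  have hsK : ¬ p ∣ orderOf sK := by rwa [← Subgroup.orderOf_coe]
  have e : ∀ χ : IrrCharacter G, blockInd B χ * ((χ : G → ℂ) g * (χ : G → ℂ) h⁻¹)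
      = (Nat.card K : ℂ)⁻¹ * ∑ c : K with IsPRegular p c,
          blockKernel (sectionSet M K B) c sK *
            ((χ : G → ℂ) (z * (c : G)) * (χ : G → ℂ) h⁻¹) := by
    intro χ
    rw [← hgs, show z * s = z * (sK : G) from rfl, ← mul_assoc,
      ← blockPart_sectionSet hM hK hz hB χ hsK,
      blockPart_eq_sum_regular hM (sectionSet_isLocalOn hM K B) _ hsK, mul_assoc, Finset.sum_mul]
    congr 1
    exact Finset.sum_congr rfl fun c _ => by ring
  rw [Finset.sum_congr rfl fun χ _ => e χ, ← Finset.mul_sum, Finset.sum_comm]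
  simp only [← Finset.mul_sum]
  rw [Finset.sum_eq_zero, mul_zero]
  intro c hc
  rw [sum_irr_mul_inv, Finset.filter_false_of_mem]
  · simp
  · intro u _ hu
    obtain ⟨k, hk⟩ := hz
    have hcomm' : Commute z (c : G) := (Subgroup.mem_centralizer_singleton_iff.1 c.2).symm
    have h1 := isPPart_conj (isPPart_mul hcomm' hk
      (show ¬ p ∣ orderOf (c : G) by
        rw [Subgroup.orderOf_coe]; exact (Finset.mem_filter.1 hc).2)) u
    rw [hu] at h1
    exact hne (isConj_iff.2 ⟨u, isPPart_unique hM.1 h1 hh⟩)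

/-- Summing a class function by sections. -/
theorem sum_eq_sum_sections (hp : p.Prime) {X : Finset G}
    (hX : ∀ x ∈ X, ∃ k : ℕ, orderOf x = p ^ k)
    (hXrep : ∀ g : G, (∃ k : ℕ, orderOf g = p ^ k) → ∃! x, x ∈ X ∧ IsConj g x)
    {F : G → ℂ} (hF : IsClassFunction G F) :
    ∑ u : G, F u = ∑ x ∈ X, (Nat.card G : ℂ) * (Nat.card (Subgroup.centralizer ({x} : Set G)) : ℂ)⁻¹
      * ∑ s : Subgroup.centralizer ({x} : Set G) with IsPRegular p s, F (x * (s : G)) := by
  have inner : ∀ x ∈ X, ∀ g : G,
      ∑ u : G, (if IsPPart p u (g * x * g⁻¹) then F u else 0)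
        = ∑ s : Subgroup.centralizer ({x} : Set G) with IsPRegular p s, F (x * (s : G)) := by
    intro x hx g
    calc ∑ u : G, (if IsPPart p u (g * x * g⁻¹) then F u else 0)
        = ∑ u : G, (if IsPPart p u x then F u else 0) := by
          refine (Fintype.sum_equiv (MulAut.conj g).toEquiv _ _ fun u => ?_).symm
          show _ = if IsPPart p (g * u * g⁻¹) (g * x * g⁻¹) then F (g * u * g⁻¹) else 0
          refine if_congr ⟨fun h => isPPart_conj h g, fun h => ?_⟩ (hF u g).symm rfl
          simpa [mul_assoc] using isPPart_conj h g⁻¹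
      _ = ∑ u : G with IsPPart p u x, F u := (Finset.sum_filter _ _).symm
      _ = _ := by
          symm
          refine Finset.sum_bij (fun s _ => x * (s : G)) ?_ ?_ ?_ fun s _ => rfl
          · intro s hs
            obtain ⟨k, hk⟩ := hX x hx
            refine Finset.mem_filter.2 ⟨Finset.mem_univ _, isPPart_mul
              (Subgroup.mem_centralizer_singleton_iff.1 s.2).symm hk ?_⟩
            rw [Subgroup.orderOf_coe]; exact (Finset.mem_filter.1 hs).2
          · intro s _ s' _ h
            exact Subtype.ext (mul_left_cancel h)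
          · intro u hu
            obtain ⟨y, he, hc, -, hy⟩ := (Finset.mem_filter.1 hu).2
            refine ⟨⟨y, Subgroup.mem_centralizer_singleton_iff.2 hc.eq.symm⟩, ?_, he⟩
            refine Finset.mem_filter.2 ⟨Finset.mem_univ _, ?_⟩
            show ¬ p ∣ orderOf _
            rwa [← Subgroup.orderOf_coe]
  have one : ∀ u : G, ∑ x ∈ X, (Nat.card (Subgroup.centralizer ({x} : Set G)) : ℂ)⁻¹
      * ∑ g : G, (if IsPPart p u (g * x * g⁻¹) then F u else 0) = F u := by
    intro u
    obtain ⟨z, y, hz, -, -, -, hk, -, -⟩ := exists_isPPart (G := G) hp u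
    obtain ⟨x₀, ⟨hx₀, hzx⟩, huniq⟩ := hXrep z hk
    rw [Finset.sum_eq_single x₀]
    · have hcard : (Finset.univ.filter fun g : G => IsPPart p u (g * x₀ * g⁻¹)).card
          = Nat.card (Subgroup.centralizer ({x₀} : Set G)) := by
        obtain ⟨c, hc⟩ := isConj_iff.1 hzx.symm
        rw [Nat.card_eq_fintype_card, Fintype.card_subtype]
        refine Finset.card_bij' (fun v _ => c⁻¹ * v) (fun v _ => c * v) ?_ ?_ ?_ ?_
        · intro v hv
          simp only [Finset.mem_filter, Finset.mem_univ, true_and,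
            Subgroup.mem_centralizer_singleton_iff] at hv ⊢
          have h2 := (isPPart_unique hp hv hz).trans hc.symm
          have h3 := congrArg (fun w => c⁻¹ * w * v) h2
          simpa [mul_assoc] using h3
        · intro v hv
          simp only [Finset.mem_filter, Finset.mem_univ, true_and,
            Subgroup.mem_centralizer_singleton_iff] at hv ⊢
          have h4 : v * x₀ * v⁻¹ = x₀ := by rw [hv, mul_inv_cancel_right]
          have h5 : c * v * x₀ * (c * v)⁻¹ = z := by
            calc _ = c * (v * x₀ * v⁻¹) * c⁻¹ := by simp [mul_assoc]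
              _ = _ := by rw [h4, hc]
          rwa [h5]
        · intro v _; simp
        · intro v _; simp
      rw [← Finset.sum_filter, Finset.sum_const, nsmul_eq_mul, hcard, ← mul_assoc,
        inv_mul_cancel₀ CfsgLib.Char.card_ne_zero, one_mul]
    · intro x hx hne
      rw [Finset.sum_eq_zero, mul_zero]
      intro g _
      rw [if_neg]
      intro hg
      exact hne (huniq x ⟨hx, (isConj_iff.2 ⟨g, isPPart_unique hp hg hz⟩).symm⟩)
    · exact fun h => absurd hx₀ h
  calc ∑ u : G, F u = ∑ u : G, ∑ x ∈ X, (Nat.card (Subgroup.centralizer ({x} : Set G)) : ℂ)⁻¹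
      * ∑ g : G, (if IsPPart p u (g * x * g⁻¹) then F u else 0) :=
        Finset.sum_congr rfl fun u _ => (one u).symm
    _ = _ := by
        rw [Finset.sum_comm]
        refine Finset.sum_congr rfl fun x hx => ?_
        rw [← Finset.mul_sum, Finset.sum_comm, Finset.sum_congr rfl fun g _ => inner x hx g,
          Finset.sum_const, nsmul_eq_mul, Finset.card_univ, Fintype.card_eq_nat_card]
        ring

/-- Summing the kernel over regular elements gives ranks. -/
theorem sum_blockKernel_regular (hM : IsPModular p M) {b : Set (IrrCharacter G)}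
    (hb : IsPBlock M b) :
    ∑ s : G with IsPRegular p s, blockKernel b s s = (Nat.card G : ℂ) * (blockRank p b : ℂ) := by
  rw [card_mul_blockRank hM hb, Finset.sum_filter]
  refine Finset.sum_congr rfl fun s _ => ?_
  rw [finsum_mem_eq_toFinset_sum]
  by_cases hs : IsPRegular p s
  · rw [if_pos hs, blockKernel]
    symm
    refine (Finset.sum_congr rfl fun φ hφ => ?_).trans
      (Finset.sum_subset (Finset.subset_univ _) fun φ _ hφ => ?_)
    · rw [blockInd_of_mem (Set.mem_toFinset.1 hφ), one_mul, pRegularPart_apply, if_pos hs, mul_comm]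
    · rw [blockInd_of_notMem (by simpa using hφ), zero_mul]
  · rw [if_neg hs, Finset.sum_eq_zero]
    intro φ _
    rw [pRegularPart_apply, if_neg hs, zero_mul]

/-- Brauer's count of characters by subsections. -/
theorem card_eq_sum_blockRank (hM : IsPModular p M) {B : Set (IrrCharacter G)} (hB : IsPBlock M B)
    {X : Finset G} (hX : ∀ x ∈ X, ∃ k : ℕ, orderOf x = p ^ k)
    (hXrep : ∀ g : G, (∃ k : ℕ, orderOf g = p ^ k) → ∃! x, x ∈ X ∧ IsConj g x) :
    Nat.card B = ∑ x ∈ X, ∑ᶠ b ∈ {b : Set (IrrCharacter (Subgroup.centralizer ({x} : Set G))) |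
      IsInducedBlock M (Subgroup.centralizer ({x} : Set G)) b B}, blockRank p b := by
  apply Nat.cast_injective (R := ℂ)
  set F : G → ℂ := fun u => ∑ χ : IrrCharacter G, blockInd B χ * ((χ : G → ℂ) u * (χ : G → ℂ) u⁻¹)
  have hF : IsClassFunction G F := fun u g => by
    refine Finset.sum_congr rfl fun χ _ => ?_
    rw [irr_conj_apply, show (g * u * g⁻¹)⁻¹ = g * u⁻¹ * g⁻¹ by simp [mul_assoc], irr_conj_apply]
  have h1 : ∑ u : G, F u = (Nat.card G : ℂ) * (Nat.card B : ℂ) := by
    simp only [F]
    rw [Finset.sum_comm]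
    simp only [← Finset.mul_sum, sum_mul_inv, if_true]
    rw [Nat.card_eq_fintype_card (α := B), ← Set.toFinset_card, Finset.card_eq_sum_ones, Nat.cast_sum,
      Finset.mul_sum]
    refine ((Finset.sum_congr rfl fun φ hφ => ?_).trans
      (Finset.sum_subset (Finset.subset_univ _) fun φ _ hφ => ?_)).symm
    · rw [blockInd_of_mem (Set.mem_toFinset.1 hφ)]; simp
    · rw [blockInd_of_notMem (by simpa using hφ), zero_mul]
  rw [sum_eq_sum_sections hM.1 hX hXrep hF] at h1
  have h2 : ∀ x ∈ X, (Nat.card (Subgroup.centralizer ({x} : Set G)) : ℂ)⁻¹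
      * ∑ s : Subgroup.centralizer ({x} : Set G) with IsPRegular p s, F (x * (s : G))
      = ((∑ᶠ b ∈ {b : Set (IrrCharacter (Subgroup.centralizer ({x} : Set G))) |
          IsInducedBlock M (Subgroup.centralizer ({x} : Set G)) b B}, blockRank p b : ℕ) : ℂ) := by
    intro x hx
    set K := Subgroup.centralizer ({x} : Set G) with hK
    rw [show ∑ s : K with IsPRegular p s, F (x * (s : G))
        = ∑ s : K with IsPRegular p s, blockKernel (sectionSet M K B) s s from
      Finset.sum_congr rfl fun s hs =>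
        sum_block_section hM hK (hX x hx) hB (Finset.mem_filter.1 hs).2 (Finset.mem_filter.1 hs).2]
    have h3 : ∑ s : K with IsPRegular p s, blockKernel (sectionSet M K B) s s
        = ∑ b ∈ blockFinset M K, (if IsInducedBlock M K b B then 1 else 0) *
            ∑ s : K with IsPRegular p s, blockKernel b s s := by
      simp only [blockKernel, blockInd_sectionSet]
      conv_rhs => arg 2; ext b; rw [Finset.mul_sum]
      conv_rhs => rw [Finset.sum_comm]
      exact Finset.sum_congr rfl fun s _ => sum_eq_sum_blocks hM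
        (fun b => if IsInducedBlock M K b B then (1 : ℂ) else 0)
        fun ψ => (ψ : K → ℂ) s⁻¹ * (ψ : K → ℂ) s
    rw [h3, Finset.sum_congr rfl (g := fun b => (Nat.card K : ℂ) *
      (if IsInducedBlock M K b B then (blockRank p b : ℂ) else 0)) fun b hb => by
        rw [sum_blockKernel_regular hM (mem_blockFinset.1 hb)]; split <;> simp,
      ← Finset.mul_sum, inv_mul_cancel_left₀ CfsgLib.Char.card_ne_zero, ← Finset.sum_filter,
      ← Nat.cast_sum]
    congr 1
    rw [finsum_mem_eq_toFinset_sum]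
    refine Finset.sum_congr ?_ fun _ _ => rfl
    ext b
    simp only [Finset.mem_filter, mem_blockFinset, Set.mem_toFinset, Set.mem_ofPred_eq]
    exact ⟨fun h => h.2, fun h => ⟨h.1, h⟩⟩
  rw [Finset.sum_congr rfl fun x hx => by rw [mul_assoc, h2 x hx], ← Finset.mul_sum] at h1
  rw [Nat.cast_sum]
  exact (mul_left_cancel₀ CfsgLib.Char.card_ne_zero h1).symm

end CfsgLib.Blocks
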