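import Cfsg.Agent.Lib.Blocks.CoverPrincipal

/-!
# Blocks when there is a normal `p`-complement
-/

set_option autoImplicit false

namespace CfsgLib.Blocks

open Cfsg CfsgLib.CharDeep.Clifford
open scoped Classical ComplexConjugate

variable {G : Type*} [Group G] [Fintype G] {p : ℕ} {M : Ideal AlgInt}
  {N : Subgroup G} [N.Normal] [Fintype N]

theorem exists_over (χ : IrrCharacter G) :
    ∃ θ : IrrCharacter N, classInner (fun n : N => (χ : G → ℂ) n) (θ : N → ℂ) ≠ 0 := by
  by_contra h
  push Not at h
  have := congrFun (CfsgLib.Char.IsClassFunction.eq_sum_irr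
    (CfsgLib.Char.IsCharacter.isClassFunction
      (CfsgLib.Char.IsCharacter.restrict (CfsgLib.Char.isCharacter_irr χ) N))) 1
  simp [h, irr_one_ne_zero χ] at this

/-- Characters in one block of a group whose normal subgroup `N` has order prime to `p` lie over a
common constituent. -/
theorem over_of_sameBlock (hM : IsPModular p M) (hN : ¬ p ∣ Nat.card N) {χ ψ : IrrCharacter G}
    {θ : IrrCharacter N} (hθ : classInner (fun n : N => (χ : G → ℂ) n) (θ : N → ℂ) ≠ 0)
    (h : SameBlock M (χ : G → ℂ) (ψ : G → ℂ)) :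
    classInner (fun n : N => (ψ : G → ℂ) n) (θ : N → ℂ) ≠ 0 := by
  set O : Set (IrrCharacter N) := {φ | ∃ g : G, (φ : N → ℂ) = conjFun N g θ}
  have hθO : θ ∈ O := ⟨1, funext fun n => by simp [conjFun]⟩
  have hcomp : ∀ (g g' : G) (φ : N → ℂ),
      conjFun N g (conjFun N g' φ) = conjFun N (g' * g) φ := fun g g' φ => funext fun n => by
    simp [conjFun, MulAut.mul_apply, map_mul]
  set f : N → ℂ := fourierInv (blockInd O)
  have hfR : ∀ n, MemLocalRing M (f n) := fun n =>
    LR.mul hM (LR.inv hM (LR.natCast hM _) fun hI => hN ((LI.natCast_iff hM _).1 hI))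
      (LR.sum hM fun φ _ => LR.mul hM (by
        unfold blockInd; split
        · exact LR.one hM
        · exact LR.zero hM)
        (LR.mul hM (LR.of_isIntegral hM (irr_isIntegral φ 1))
          (LR.of_isIntegral hM (irr_isIntegral φ _))))
  have hf : ∀ (g : G) (n : N), f (MulAut.conjNormal g n) = f n := by
    intro g n
    simp only [f, fourierInv]
    congr 1
    let e : IrrCharacter N ≃ IrrCharacter N :=
      { toFun := fun φ => ⟨conjFun N g φ, isIrrCharacter_conjFun N g φ.2⟩
        invFun := fun φ => ⟨conjFun N g⁻¹ φ, isIrrCharacter_conjFun N g⁻¹ φ.2⟩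
        left_inv := fun φ => Subtype.ext ((hcomp _ _ _).trans (by simp [conjFun]))
        right_inv := fun φ => Subtype.ext ((hcomp _ _ _).trans (by simp [conjFun])) }
    refine Fintype.sum_equiv e _ _ fun φ => ?_
    have hiff : φ ∈ O ↔ e φ ∈ O := by
      refine ⟨fun ⟨a, ha⟩ => ⟨a * g, ?_⟩, fun ⟨a, ha⟩ => ⟨a * g⁻¹, ?_⟩⟩
      · show conjFun N g φ = _
        rw [ha, hcomp]
      · have ha' : conjFun N g φ = conjFun N a θ := ha
        have := congrArg (conjFun N g⁻¹) ha'
        rw [hcomp, hcomp] at this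
        rw [← this]; simp [conjFun]
    have h1 : blockInd O (e φ) = blockInd O φ := by
      by_cases hm : φ ∈ O
      · rw [blockInd_of_mem hm, blockInd_of_mem (hiff.1 hm)]
      · rw [blockInd_of_notMem hm, blockInd_of_notMem fun h' => hm (hiff.2 h')]
    rw [h1]
    simp [e, conjFun]
  set F : G → ℂ := fun x => if hx : x ∈ N then f ⟨x, hx⟩ else 0
  have hFcl : IsClassFunction G F := by
    intro x y
    simp only [F]
    by_cases hx : x ∈ N
    · rw [dif_pos hx, dif_pos (Subgroup.Normal.conj_mem inferInstance x hx y)]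
      exact (congrArg f (Subtype.ext (MulAut.conjNormal_apply y ⟨x, hx⟩).symm)).trans (hf y ⟨x, hx⟩)
    · rw [dif_neg hx, dif_neg fun h' => hx (by
        simpa [mul_assoc] using Subgroup.Normal.conj_mem inferInstance _ h' y⁻¹)]
  obtain ⟨θ', hθ'⟩ := exists_over (N := N) ψ
  have h1 := omega_congr hM h hFcl fun x => by
    simp only [F]; split
    · exact hfR _
    · exact LR.zero hM
  rw [omega_extend, omega_extend, omega_eq_of_over hθ hf, omega_eq_of_over hθ' hf,
    omega_fourierInv, omega_fourierInv, blockInd_of_mem hθO] at h1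
  by_contra hne
  have hnot : θ' ∉ O := fun ⟨g, hg⟩ => hθ' (by
    rw [hg, classInner_restrict_conjFun N g
      (CfsgLib.Char.IsIrrCharacter.isClassFunction ψ.2)]
    exact hne)
  rw [blockInd_of_notMem hnot, sub_zero] at h1
  exact LI.not_one hM h1

/-- When the index is a power of `p`, characters over a common constituent share their block. -/
theorem sameBlock_of_over (hM : IsPModular p M) (hidx : ∃ k, N.index = p ^ k)
    {χ ψ : IrrCharacter G} {θ : IrrCharacter N}
    (hχ : classInner (fun n : N => (χ : G → ℂ) n) (θ : N → ℂ) ≠ 0)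
    (hψ : classInner (fun n : N => (ψ : G → ℂ) n) (θ : N → ℂ) ≠ 0) :
    SameBlock M (χ : G → ℂ) (ψ : G → ℂ) := by
  haveI := Fact.mk hM.1
  have hB : IsPBlock M (blockOf M (χ : G → ℂ)) := isPBlock_blockOf χ
  have hloc : IsLocalOn M N (blockInd (blockOf M (χ : G → ℂ))) := fun g =>
    ⟨(IsPBlock.isLocalOn hM hB g).1, fun hg => by
      rw [← blockCoeff_eq_fourierInv]
      refine IsPBlock.blockCoeff_eq_zero hM hB ?_
      obtain ⟨k, hk⟩ := hidx
      have h1 : orderOf (QuotientGroup.mk' N g) ∣ p ^ k := by
        rw [← hk, Subgroup.index_eq_card]; exact orderOf_dvd_natCard _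
      obtain ⟨j, -, hj⟩ := (Nat.dvd_prime_pow hM.1).1 h1
      have hj0 : j ≠ 0 := fun h0 => hg (by
        rw [h0, pow_zero, orderOf_eq_one_iff] at hj
        exact (QuotientGroup.eq_one_iff g).1 hj)
      exact (dvd_pow_self p hj0).trans (hj ▸ orderOf_map_dvd (QuotientGroup.mk' N) g)⟩
  refine mem_blockOf.1 (hloc.mem_of_congr hM (SameBlock_refl hM _) fun g hg => ?_)
  have e : classInd g = fun x => if hx : x ∈ N then classInd g ((⟨x, hx⟩ : N) : G) else 0 := by
    funext x
    by_cases hx : x ∈ N
    · rw [dif_pos hx]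
    · rw [dif_neg hx, classInd, if_neg]
      intro hc
      obtain ⟨c, rfl⟩ := isConj_iff.1 hc
      exact hx (Subgroup.Normal.conj_mem inferInstance g hg c)
  have hinv : ∀ (c : G) (n : N),
      classInd g ((MulAut.conjNormal c n : N) : G) = classInd g (n : G) := fun c n => by
    rw [MulAut.conjNormal_apply]; exact classInd_isClassFunction g (n : G) c
  rw [← omega_classInd, ← omega_classInd, e, omega_extend (f := fun n : N => classInd g (n : G)),
    omega_extend (f := fun n : N => classInd g (n : G)),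
    omega_eq_of_over hχ hinv, omega_eq_of_over hψ hinv, sub_self]
  exact LI.zero hM

end CfsgLib.Blocks
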