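import Cfsg.Agent.Lib.Blocks.Twist
import Mathlib.Algebra.MonoidAlgebra.Basic
import Mathlib.LinearAlgebra.FiniteDimensional.Basic
import Mathlib.LinearAlgebra.Trace
import Mathlib.RepresentationTheory.Character

/-!
# An idempotent with trivial Brauer image kills a `p`-section

Let `x` be a `p`-element, `y` a `p`-regular element commuting with `x`, and `a` an idempotent of
the group algebra, with local-integer coefficients, commuting with `x` and `y`.  If the
coefficients of `a` on `C_G(x)` lie in the local ideal, then `ρ (x * y) ρ a` has trace zero in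
every representation.  (This is the heart of Brauer's Second Main Theorem.)
-/

namespace CfsgLib.Blocks

open Cfsg

variable {p : ℕ} {M : Ideal AlgInt} {G : Type*} [Group G] [Fintype G]

/-- The element of the group algebra with coefficient function `f`. -/
noncomputable def toAlg (f : G → ℂ) : MonoidAlgebra ℂ G :=
  MonoidAlgebra.ofCoeff (Finsupp.equivFunOnFinite.symm f)

@[simp] theorem toAlg_coeff (f : G → ℂ) (g : G) : (toAlg f).coeff g = f g := by
  simp [toAlg]

theorem coeff_mul_eq_sum (x y : MonoidAlgebra ℂ G) (g : G) :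
    (x * y).coeff g = ∑ h, x.coeff h * y.coeff (h⁻¹ * g) := by
  rw [MonoidAlgebra.coeff_mul_apply_left, Finsupp.sum_fintype]
  simp

theorem toAlg_mul (f f' : G → ℂ) :
    toAlg f * toAlg f' = toAlg fun g => ∑ h, f h * f' (h⁻¹ * g) := by
  refine MonoidAlgebra.coeff_injective (Finsupp.ext fun g => ?_)
  simp [coeff_mul_eq_sum]

/-- An element of the group algebra congruent to `1` is a unit. -/
theorem isUnit_of_congr_one (hM : IsPModular p M) (a : MonoidAlgebra ℂ G)
    (h : ∀ g, MemLocalIdeal M (a.coeff g - (1 : MonoidAlgebra ℂ G).coeff g)) : IsUnit a := by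
  classical
  have hinj : Function.Injective (LinearMap.mulLeft ℂ a) := by
    rw [injective_iff_map_eq_zero]
    intro v hv
    let X : Matrix G G ℂ := Matrix.of fun g k => a.coeff (g * k⁻¹)
    have hdet : X.det ≠ 0 := det_ne_zero_of_congr_one hM X fun g k => by
      have := h (g * k⁻¹)
      simp only [MonoidAlgebra.one_def, MonoidAlgebra.coeff_single, Finsupp.single_apply] at this
      simp only [X, Matrix.of_apply, Matrix.one_apply]
      by_cases hgk : g = k
      · subst hgk; simpa using this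
      · have h1 : (1 : G) ≠ g * k⁻¹ := fun h => hgk (mul_inv_eq_one.1 h.symm)
        simpa [hgk, h1] using this
    have hmv : X.mulVec (fun k => v.coeff k) = 0 := by
      funext g
      have := congrArg (fun z : MonoidAlgebra ℂ G => z.coeff g) hv
      simp only [LinearMap.mulLeft_apply, coeff_mul_eq_sum, MonoidAlgebra.coeff_zero,
        Finsupp.coe_zero, Pi.zero_apply] at this
      rw [Pi.zero_apply, ← this, Matrix.mulVec, dotProduct]
      exact Fintype.sum_equiv ((Equiv.inv G).trans (Equiv.mulLeft g)) _ _ fun k => by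
        simp [X]
    have := Matrix.eq_zero_of_mulVec_eq_zero hdet hmv
    exact MonoidAlgebra.coeff_injective (Finsupp.ext fun g => by simpa using congrFun this g)
  obtain ⟨b, hb⟩ : ∃ b, a * b = 1 := by
    haveI : Module.Finite ℂ (MonoidAlgebra ℂ G) :=
      Module.Finite.equiv (MonoidAlgebra.coeffLinearEquiv ℂ).symm
    exact (LinearMap.injective_iff_surjective.1 hinj) 1
  refine ⟨⟨a, b, hb, hinj ?_⟩, rfl⟩
  simp [LinearMap.mulLeft_apply, ← mul_assoc, hb]

theorem LR_coeff_mul (hM : IsPModular p M) {a b : MonoidAlgebra ℂ G}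
    (ha : ∀ g, MemLocalRing M (a.coeff g)) (hb : ∀ g, MemLocalRing M (b.coeff g)) (g : G) :
    MemLocalRing M ((a * b).coeff g) := by
  rw [coeff_mul_eq_sum]; exact LR.sum hM fun h _ => LR.mul hM (ha _) (hb _)

theorem LI_coeff_mul_left (hM : IsPModular p M) {a b : MonoidAlgebra ℂ G}
    (ha : ∀ g, MemLocalRing M (a.coeff g)) (hb : ∀ g, MemLocalIdeal M (b.coeff g)) (g : G) :
    MemLocalIdeal M ((a * b).coeff g) := by
  rw [coeff_mul_eq_sum]; exact LI.sum hM fun h _ => LI.mul_left hM (ha _) (hb _)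

theorem LI_coeff_mul_right (hM : IsPModular p M) {a b : MonoidAlgebra ℂ G}
    (ha : ∀ g, MemLocalIdeal M (a.coeff g)) (hb : ∀ g, MemLocalRing M (b.coeff g)) (g : G) :
    MemLocalIdeal M ((a * b).coeff g) := by
  rw [coeff_mul_eq_sum]; exact LI.sum hM fun h _ => LI.mul_right hM (ha _) (hb _)

/-- A function with values in `p`-th roots of unity, twisted under conjugation by a `p`-element
at every element not centralised by it. -/
theorem exists_conj_twist {x : G} (hp : p.Prime) {k : ℕ} (hk : orderOf x = p ^ k) {ω : ℂ}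
    (hω : ω ^ p = 1) :
    ∃ θ : G → ℂ, (∀ g, ¬ Commute x g → θ (x * g * x⁻¹) = ω * θ g) ∧ ∀ g, θ g ^ p = 1 := by
  classical
  let act : MulAction (Subgroup.zpowers x) G :=
    MulAction.compHom G (ConjAct.toConjAct.toMonoidHom.comp (Subgroup.zpowers x).subtype)
  letI := act
  have hsmul : ∀ (u : Subgroup.zpowers x) (g : G), u • g = (u : G) * g * (u : G)⁻¹ := fun u g => rfl
  let r : G → G := fun g => (Quotient.mk (MulAction.orbitRel (Subgroup.zpowers x) G) g).out
  have hr : ∀ g, ∃ j : ℤ, x ^ j * r g * (x ^ j)⁻¹ = g := by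
    intro g
    have h := Quotient.mk_out (s := MulAction.orbitRel (Subgroup.zpowers x) G) g
    obtain ⟨u, hu⟩ := MulAction.orbitRel_apply.1 ((MulAction.orbitRel (Subgroup.zpowers x) G).symm h)
    obtain ⟨j, hj⟩ := Subgroup.mem_zpowers_iff.1 u.2
    refine ⟨j, ?_⟩
    rw [hj, ← hsmul]; exact hu
  choose j hj using hr
  have hω0 : ω ≠ 0 := fun h => by simp [h, zero_pow hp.ne_zero] at hω
  refine ⟨fun g => ω ^ j g, fun g hg => ?_, fun g => ?_⟩
  · have hrr : r (x * g * x⁻¹) = r g := by
      refine congrArg Quotient.out (Quotient.sound ?_)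
      refine MulAction.orbitRel_apply.2 ⟨⟨x, Subgroup.mem_zpowers x⟩, ?_⟩
      exact hsmul _ g
    set t : ℤ := j (x * g * x⁻¹) - j g - 1
    have h1 := hj (x * g * x⁻¹)
    rw [hrr] at h1
    have hfix : Commute (x ^ t) (r g) := by
      have h2 : x ^ (j g + 1) * r g * (x ^ (j g + 1))⁻¹ = x * g * x⁻¹ := by
        conv_rhs => rw [← hj g]
        rw [zpow_add, zpow_one]
        have hc : x ^ j g * x = x * x ^ j g := ((Commute.refl x).zpow_left (j g)).eq
        rw [hc]; simp [mul_assoc]
      have h3 : x ^ (j (x * g * x⁻¹)) * r g * (x ^ (j (x * g * x⁻¹)))⁻¹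
          = x ^ (j g + 1) * r g * (x ^ (j g + 1))⁻¹ := h1.trans h2.symm
      show x ^ t * r g = r g * x ^ t
      have ht : t = -(j g + 1) + j (x * g * x⁻¹) := by simp only [t]; ring
      rw [ht, zpow_add, zpow_neg]
      calc (x ^ (j g + 1))⁻¹ * x ^ j (x * g * x⁻¹) * r g
          = (x ^ (j g + 1))⁻¹ * (x ^ j (x * g * x⁻¹) * r g * (x ^ j (x * g * x⁻¹))⁻¹)
              * x ^ j (x * g * x⁻¹) := by simp [mul_assoc]
        _ = r g * ((x ^ (j g + 1))⁻¹ * x ^ j (x * g * x⁻¹)) := by
            rw [h3]; simp [mul_assoc]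
    have hpt : (p : ℤ) ∣ t := by
      by_contra hnd
      have hco : Int.gcd t (orderOf x) = 1 := by
        rw [hk]
        have : Nat.Coprime t.natAbs p := Nat.Coprime.symm
          ((Nat.Prime.coprime_iff_not_dvd hp).2 fun h => hnd (Int.natCast_dvd.2 h))
        simpa [Int.gcd] using (Nat.Coprime.pow_right k this)
      obtain ⟨a, b, hab⟩ : ∃ a b : ℤ, t * a + (orderOf x : ℤ) * b = 1 :=
        ⟨Int.gcdA t (orderOf x), Int.gcdB t (orderOf x), by
          rw [← Int.gcd_eq_gcd_ab, hco]; simp⟩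
      have hx : x = (x ^ t) ^ a := by
        conv_lhs => rw [← zpow_one x, ← hab]
        rw [zpow_add, zpow_mul, zpow_mul, zpow_natCast, pow_orderOf_eq_one, one_zpow, mul_one]
      have hxr : Commute x (r g) := hx ▸ hfix.zpow_left a
      apply hg
      rw [← hj g]
      exact (((Commute.refl x).zpow_right _).mul_right hxr).mul_right
        ((Commute.refl x).zpow_right _).inv_right
    obtain ⟨c, hc⟩ := hpt
    show ω ^ j (x * g * x⁻¹) = ω * ω ^ j g
    rw [show j (x * g * x⁻¹) = j g + 1 + p * c by simp only [t] at hc; linarith,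
      zpow_add₀ hω0, zpow_mul, zpow_natCast, hω, one_zpow, mul_one, zpow_add₀ hω0, zpow_one,
      mul_comm]
  · show (ω ^ j g) ^ p = 1
    rw [← zpow_natCast, ← zpow_mul, mul_comm, zpow_mul, zpow_natCast, hω, one_zpow]

/-- The vanishing theorem. -/
theorem trace_eq_zero_of_brauer_zero (hM : IsPModular p M) {V : Type*} [AddCommGroup V]
    [Module ℂ V] [FiniteDimensional ℂ V] (ρ : Representation ℂ G V) {a : G → ℂ}
    (hR : ∀ g, MemLocalRing M (a g)) (hidem : ∀ g, ∑ h, a h * a (h⁻¹ * g) = a g)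
    {x y : G} {k : ℕ} (hx : orderOf x = p ^ k) (hy : ¬ p ∣ orderOf y) (hxy : Commute x y)
    (hax : ∀ g, a (x * g * x⁻¹) = a g) (hay : ∀ g, a (y * g * y⁻¹) = a g)
    (hbr : ∀ g, Commute x g → MemLocalIdeal M (a g)) :
    ∑ g : G, a g * ρ.character (x * y * g) = 0 := by
  classical
  have hp : p.Prime := hM.1
  haveI : Fact p.Prime := ⟨hp⟩
  obtain ⟨ω, hω⟩ : ∃ ω : ℂ, IsPrimitiveRoot ω p :=
    ⟨_, Complex.isPrimitiveRoot_exp p hp.ne_zero⟩
  obtain ⟨θ, hθ, hθp⟩ := exists_conj_twist hp hx hω.pow_eq_one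
  let φ₀ : G → ℂ := fun g => if Commute x g then 0 else a g * θ g
  have hφ₀tw : ∀ g, φ₀ (x * g * x⁻¹) = ω * φ₀ g := by
    intro g
    have hiff : Commute x (x * g * x⁻¹) ↔ Commute x g := by
      constructor
      · intro h
        have := h.map (MulAut.conj x⁻¹)
        simpa [mul_assoc] using this
      · intro h
        have := h.map (MulAut.conj x)
        simpa [mul_assoc] using this
    by_cases hg : Commute x g
    · simp [φ₀, hiff.2 hg, hg]
    · simp only [φ₀, mt hiff.1 hg, hg, if_false, hax, hθ g hg]; ring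
  have hφ₀c : ∀ g, MemLocalIdeal M (φ₀ g - a g) := by
    intro g
    by_cases hg : Commute x g
    · simpa [φ₀, hg] using LI.neg (hbr g hg)
    · simp only [φ₀, hg, if_false]
      rw [show a g * θ g - a g = a g * (θ g - 1) by ring]
      exact LI.mul_left hM (hR g) (LI.root_sub_one hM (k := 1) (by simpa using hθp g))
  set n := orderOf y with hn
  have hn0 : (n : ℂ) ≠ 0 := by exact_mod_cast (orderOf_pos y).ne'
  have hninv : MemLocalRing M ((n : ℂ))⁻¹ :=
    LR.inv hM (LR.natCast hM n) fun h => hy ((LI.natCast_iff hM n).1 h)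
  let φ₁ : G → ℂ := fun g => (n : ℂ)⁻¹ * ∑ l ∈ Finset.range n, φ₀ (y ^ l * g * (y ^ l)⁻¹)
  have hφ₁tw : ∀ g, φ₁ (x * g * x⁻¹) = ω * φ₁ g := by
    intro g
    simp only [φ₁]
    rw [mul_left_comm ω, Finset.mul_sum _ _ ω]
    congr 1
    refine Finset.sum_congr rfl fun l _ => ?_
    rw [← hφ₀tw]
    congr 1
    have hc : x * y ^ l = y ^ l * x := (hxy.pow_right l).eq
    calc y ^ l * (x * g * x⁻¹) * (y ^ l)⁻¹ = (y ^ l * x) * g * (y ^ l * x)⁻¹ := by simp [mul_assoc]
      _ = (x * y ^ l) * g * (x * y ^ l)⁻¹ := by rw [hc]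
      _ = x * (y ^ l * g * (y ^ l)⁻¹) * x⁻¹ := by simp [mul_assoc]
  have hayl : ∀ (l : ℕ) g, a (y ^ l * g * (y ^ l)⁻¹) = a g := by
    intro l
    induction l with
    | zero => simp
    | succ l ih =>
      intro g
      rw [pow_succ', show y * y ^ l * g * (y * y ^ l)⁻¹ = y * (y ^ l * g * (y ^ l)⁻¹) * y⁻¹ by
        simp [mul_assoc], hay, ih]
  have hφ₁c : ∀ g, MemLocalIdeal M (φ₁ g - a g) := by
    intro g
    have : φ₁ g - a g = (n : ℂ)⁻¹ * ∑ l ∈ Finset.range n,
        (φ₀ (y ^ l * g * (y ^ l)⁻¹) - a (y ^ l * g * (y ^ l)⁻¹)) := by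
      rw [Finset.sum_sub_distrib, mul_sub]
      simp only [φ₁, hayl, Finset.sum_const, Finset.card_range, nsmul_eq_mul]
      rw [inv_mul_cancel_left₀ hn0]
    rw [this]
    exact LI.mul_left hM hninv (LI.sum hM fun l _ => hφ₀c _)
  have hφ₁y : ∀ g, φ₁ (y * g * y⁻¹) = φ₁ g := by
    intro g
    simp only [φ₁]
    congr 1
    let F : ℕ → ℂ := fun l => φ₀ (y ^ l * g * (y ^ l)⁻¹)
    have e : ∀ l, φ₀ (y ^ l * (y * g * y⁻¹) * (y ^ l)⁻¹) = F (l + 1) := fun l => by
      simp [F, pow_succ, mul_assoc]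
    simp only [e]
    have h1 : ∑ l ∈ Finset.range n, F (l + 1) + F 0 = ∑ l ∈ Finset.range n, F l + F n := by
      rw [← Finset.sum_range_succ', Finset.sum_range_succ]
    have h2 : F n = F 0 := by simp [F, n, pow_orderOf_eq_one]
    rw [h2] at h1
    exact add_right_cancel h1
  -- into the group algebra
  set A := toAlg a
  set D := toAlg φ₁
  set X : MonoidAlgebra ℂ G := MonoidAlgebra.single x 1
  set Y : MonoidAlgebra ℂ G := MonoidAlgebra.single y 1
  have hAA : A * A = A := by
    simp only [A, toAlg_mul]; exact congrArg toAlg (funext hidem)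
  have hconj : ∀ (u : G) (f : G → ℂ) (c : ℂ), (∀ g, f (u * g * u⁻¹) = c * f g) →
      toAlg f * MonoidAlgebra.single u 1 = c • (MonoidAlgebra.single u 1 * toAlg f) := by
    intro u f c hf
    refine MonoidAlgebra.coeff_injective (Finsupp.ext fun g => ?_)
    simp only [MonoidAlgebra.coeff_smul, Finsupp.smul_apply, smul_eq_mul,
      MonoidAlgebra.coeff_mul_single_apply, MonoidAlgebra.coeff_single_mul_apply, toAlg_coeff,
      mul_one, one_mul]
    rw [← hf (u⁻¹ * g)]
    simp [mul_assoc]
  have hAX : A * X = X * A := by simpa using hconj x a 1 (by simpa using hax)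
  have hAY : A * Y = Y * A := by simpa using hconj y a 1 (by simpa using hay)
  have hDX : D * X = ω • (X * D) := hconj x φ₁ ω hφ₁tw
  have hDY : D * Y = Y * D := by simpa using hconj y φ₁ 1 (by simpa using hφ₁y)
  set Φ := A * D * A + (1 - A)
  have hΦ : IsUnit Φ := by
    refine isUnit_of_congr_one hM Φ fun g => ?_
    have e : Φ.coeff g - (1 : MonoidAlgebra ℂ G).coeff g = (A * (D - A) * A).coeff g := by
      have : A * (D - A) * A = Φ - 1 := by
        rw [mul_sub, sub_mul, hAA, hAA]; simp only [Φ]; abel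
      rw [this, MonoidAlgebra.coeff_sub, Finsupp.sub_apply]
    rw [e]
    refine LI_coeff_mul_right hM (fun g => LI_coeff_mul_left hM (fun g => ?_) (fun g => ?_) g)
      (fun g => ?_) g
    · simpa [A] using hR g
    · simpa [A, D, MonoidAlgebra.coeff_sub] using hφ₁c g
    · simpa [A] using hR g
  set Z := X * Y * A
  have hZΦ : Φ * Z = ω • (Z * Φ) := by
    have h1 : Φ * A = A * D * A := by
      simp only [Φ]; rw [add_mul, sub_mul, one_mul, hAA, sub_self, add_zero, mul_assoc, hAA]
    have h2 : A * Φ = A * D * A := by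
      simp only [Φ]
      rw [mul_add, mul_sub, mul_one, hAA, sub_self, add_zero, ← mul_assoc, ← mul_assoc, hAA]
    have hAXY : A * (X * Y) = X * Y * A := by
      rw [← mul_assoc, hAX, mul_assoc, hAY, ← mul_assoc]
    have hDXY : D * (X * Y) = ω • (X * Y * D) := by
      rw [← mul_assoc, hDX, smul_mul_assoc, mul_assoc, hDY, ← mul_assoc]
    calc Φ * Z = Φ * A * (X * Y) := by rw [show Z = A * (X * Y) from hAXY.symm, mul_assoc]
      _ = A * (D * (X * Y)) * A := by
          rw [h1]; simp only [mul_assoc]; rw [← mul_assoc X Y A, ← hAXY]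
      _ = ω • (A * (X * Y) * D * A) := by
          rw [hDXY, mul_smul_comm, smul_mul_assoc]; simp only [mul_assoc]
      _ = ω • (Z * Φ) := by
          congr 1
          rw [hAXY, show Z * Φ = X * Y * (A * Φ) from mul_assoc _ _ _, h2]
          simp only [mul_assoc]
  let R : MonoidAlgebra ℂ G →ₐ[ℂ] Module.End ℂ V := ρ.asAlgebraHom
  obtain ⟨u, hu⟩ := hΦ
  have hfix : LinearMap.trace ℂ V (R Z) = ω * LinearMap.trace ℂ V (R Z) := by
    have h3 : (↑u⁻¹ : MonoidAlgebra ℂ G) * (Φ * Z) = Z := by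
      rw [← hu, Units.inv_mul_cancel_left]
    conv_lhs => rw [← h3, hZΦ, mul_smul_comm, map_smul, map_smul, map_mul,
      LinearMap.trace_mul_comm, ← map_mul, ← hu, Units.mul_inv_cancel_right]
    rfl
  have h0 : LinearMap.trace ℂ V (R Z) = 0 := by
    have h5 : (ω - 1) * LinearMap.trace ℂ V (R Z) = 0 := by
      rw [sub_mul, one_mul, ← hfix, sub_self]
    exact (mul_eq_zero.1 h5).resolve_left (sub_ne_zero.2 (hω.ne_one hp.one_lt))
  rw [← h0]
  have hA : A = ∑ g : G, MonoidAlgebra.single g (a g) := by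
    refine MonoidAlgebra.coeff_injective (Finsupp.ext fun g => ?_)
    simp [A, MonoidAlgebra.coeff_sum, Finsupp.single_apply]
  simp only [Z, X, Y, MonoidAlgebra.single_mul_single, mul_one, hA, Finset.mul_sum, map_sum]
  refine Finset.sum_congr rfl fun g _ => ?_
  simp [R, Representation.asAlgebraHom_single, Representation.character]

end CfsgLib.Blocks
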