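import Cfsg.Agent.Lib.Blocks.Defect2
import Cfsg.Agent.Lib.Blocks.BrauerHom
import Cfsg.Agent.Lib.Blocks.SecondMain
import Cfsg.Agent.Lib.Blocks.InducedBlock
import Cfsg.Agent.Lib.Blocks.Parts
import Cfsg.Agent.Lib.Blocks.Eigen

/-!
# Defect groups: maximality, conjugacy, and their consequences
-/

set_option autoImplicit false

namespace CfsgLib.Blocks

open Cfsg
open scoped Classical ComplexConjugate

variable {G : Type*} [Group G] [Fintype G] {p : ℕ} {M : Ideal AlgInt} {B : Set (IrrCharacter G)}

theorem centralizer_le_normalizer (P : Subgroup G) :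
    Subgroup.centralizer (P : Set G) ≤ Subgroup.normalizer (P : Set G) := by
  intro z hz
  refine Subgroup.mem_normalizer_iff.2 fun u => ⟨fun hu => ?_, fun hu => ?_⟩
  · rw [← Subgroup.mem_centralizer_iff.1 hz u hu]; simpa using hu
  · have h1 := Subgroup.mem_centralizer_iff.1 hz _ hu
    have h2 : z * u * z⁻¹ = u := by
      have := congrArg (fun w => z⁻¹ * w) h1
      simp [mul_assoc] at this
      rw [mul_assoc, ← this]
    rwa [h2] at hu

/-- If the idempotent of `B` does not vanish modulo `M` on `C_G(P)`, some character of `C_G(P)` has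
Brauer image in `B`. -/
theorem exists_brauer_eval (hM : IsPModular p M) (hB : IsPBlock M B) {P : Subgroup G}
    (hP : IsPGroup p P) {c : G} (hc : c ∈ Subgroup.centralizer (P : Set G))
    (hne : ¬ MemLocalIdeal M (blockCoeff B c)) :
    ∃ (ψ : IrrCharacter (Subgroup.centralizer (P : Set G))) (χ : IrrCharacter G), χ ∈ B ∧
      ∀ f : G → ℂ, IsClassFunction G f → (∀ x, MemLocalRing M (f x)) →
        MemLocalIdeal M (omega (ψ : _ → ℂ)
          (brTrunc P (Subgroup.centralizer (P : Set G)) f) - omega (χ : G → ℂ) f) := by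
  set K := Subgroup.centralizer (P : Set G)
  by_contra hcon
  push Not at hcon
  set eB : G → ℂ := fun g => blockCoeff B g
  have hcl : IsClassFunction G eB := blockCoeff_isClassFunction B
  have hR : ∀ x, MemLocalRing M (eB x) := blockCoeff_LR hM hB
  set w := brTrunc P K eB
  have hKN : K ≤ Subgroup.normalizer (P : Set G) := centralizer_le_normalizer P
  have hwc : IsClassFunction K w := brTrunc_isClassFunction hKN hcl
  set W : IrrCharacter K → ℂ := fun ψ => omega (ψ : K → ℂ) w
  have hW : IsLocalOn M (⊤ : Subgroup K) W :=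
    isLocalOn_omega hM hwc (brTrunc_LR hM hR) fun z hz => absurd (Subgroup.mem_top z) hz
  have hidem : IsLocalZero M fun ψ => W ψ * W ψ - W ψ := by
    intro k
    have e : fourierInv (fun ψ => W ψ * W ψ - W ψ) k
        = fourierInv (fun ψ => W ψ * W ψ) k - fourierInv W k := by
      simp only [fourierInv, sub_mul, Finset.sum_sub_distrib, mul_sub]
    rw [e, ← fourierInv_mul, show fourierInv W = w from fourierInv_omega hwc]
    have h1 := brTrunc_conv hM hP (le_refl K) hR hR (fun u _ x => hcl x u) (fun u _ x => hcl x u) k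
    have h2 : (fun c => ∑ x, eB x * eB (x⁻¹ * c)) = eB := funext fun c => by
      simp only [eB]; rw [blockCoeff_conv, Set.inter_self]
    rw [h2] at h1
    exact LI.sub_comm h1
  have hvals : ∀ ψ : IrrCharacter K, (1 : ℂ) ≠ 0 → MemLocalIdeal M (W ψ) := by
    intro ψ _
    obtain ⟨χ, hχ⟩ := exists_brLam_eval hM hP (le_refl K) hKN ψ
    have hnot : χ ∉ B := fun h => by
      obtain ⟨f, hf, hfR, hfne⟩ := hcon ψ χ h
      exact hfne (hχ f hf hfR)
    have := hχ eB hcl hR
    rwa [omega_blockCoeff, blockInd_of_notMem hnot, sub_zero] at this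
  have h3 := isLocalZero_of_idem hM hW (IsLocalOn.one hM) hidem hvals ⟨c, hc⟩
  simp only [mul_one] at h3
  rw [show fourierInv (fun ψ => W ψ) = w from fourierInv_omega hwc,
    show w ⟨c, hc⟩ = blockCoeff B c from if_pos hc] at h3
  exact hne h3

theorem exists_classInd_of_not_LI (hM : IsPModular p M) {K : Subgroup G} (ψ : IrrCharacter K)
    {f : G → ℂ} (hf : IsClassFunction G f) (hR : ∀ x, MemLocalRing M (f x))
    (h : ¬ MemLocalIdeal M (omega (ψ : K → ℂ) fun k : K => f k)) :
    ∃ l : K, ¬ MemLocalIdeal M (f l) ∧ ¬ MemLocalIdeal M (centralChar (ψ : K → ℂ) l) := by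
  by_contra hcon
  push Not at hcon
  refine h ?_
  rw [omega_eq_sum_centralChar ψ (resFun_isClassFunction K hf)]
  refine LI.sum hM fun C _ => ?_
  by_cases hC : MemLocalIdeal M (f (C.out : G))
  · exact LI.mul_right hM hC (centralChar_LR hM ψ _)
  · exact LI.mul_left hM (hR _) (hcon _ hC)

theorem classInd_LR (hM : IsPModular p M) (g x : G) : MemLocalRing M (classInd g x) := by
  unfold classInd; split
  · exact LR.one hM
  · exact LR.zero hM

theorem isConj_of_not_LI_classInd (hM : IsPModular p M) {g x : G}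
    (h : ¬ MemLocalIdeal M (classInd g x)) : IsConj g x := by
  by_contra hn
  exact h (by rw [classInd, if_neg hn]; exact LI.zero hM)

/-- If the central character at `h` is a unit, a conjugate of `h` centralizes `P`, together with a
character of `C_G(P)` whose central character there is a unit. -/
theorem exists_conj_mem_centralizer (hM : IsPModular p M) (hB : IsPBlock M B) {P : Subgroup G}
    (hP : IsPGroup p P) {c : G} (hc : c ∈ Subgroup.centralizer (P : Set G))
    (hne : ¬ MemLocalIdeal M (blockCoeff B c)) {χ : IrrCharacter G} (hχ : χ ∈ B) {h : G}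
    (hh : ¬ MemLocalIdeal M (centralChar (χ : G → ℂ) h)) :
    ∃ h' : G, IsConj h h' ∧ h' ∈ Subgroup.centralizer (P : Set G) := by
  obtain ⟨ψ, χ', hχ', heval⟩ := exists_brauer_eval hM hB hP hc hne
  by_contra hcon
  push Not at hcon
  refine hh ?_
  have h1 := heval _ (classInd_isClassFunction h) (classInd_LR hM h)
  have h2 : brTrunc P (Subgroup.centralizer (P : Set G)) (classInd h) = fun _ => 0 := by
    funext k
    rw [brTrunc, if_pos k.2, classInd, if_neg fun hk => hcon _ hk k.2]
  rw [h2, omega_classInd] at h1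
  simp only [omega, zero_mul, Finset.sum_const_zero, zero_div, zero_sub] at h1
  have h3 := LI.neg h1
  rw [neg_neg] at h3
  have := LI.add hM (IsPBlock.sameBlock hM hB hχ hχ' h) h3
  rwa [sub_add_cancel] at this

theorem exists_isDefectGroup_ge_of_defectClass (hM : IsPModular p M) {P : Subgroup G}
    (hP : IsPGroup p P) {k : G} (hk : IsDefectClass M B k)
    (hkP : k ∈ Subgroup.centralizer (P : Set G)) :
    ∃ D : Subgroup G, IsDefectGroup p M B D ∧ P ≤ D := by
  haveI := Fact.mk hM.1
  have hle : P ≤ Subgroup.centralizer ({k} : Set G) := fun u hu =>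
    Subgroup.mem_centralizer_singleton_iff.2 (Subgroup.mem_centralizer_iff.1 hkP u hu)
  obtain ⟨S, hS⟩ := (hP.comap_subtype (K := Subgroup.centralizer ({k} : Set G))).exists_le_sylow
  exact ⟨_, ⟨k, hk, S, rfl⟩, fun u hu => ⟨⟨u, hle hu⟩, hS hu, rfl⟩⟩

/-- A `p`-subgroup at whose centralizer the idempotent is a unit lies in a defect group. -/
theorem exists_isDefectGroup_ge (hM : IsPModular p M) (hB : IsPBlock M B) {P : Subgroup G}
    (hP : IsPGroup p P) {c : G} (hc : c ∈ Subgroup.centralizer (P : Set G))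
    (hne : ¬ MemLocalIdeal M (blockCoeff B c)) :
    ∃ D : Subgroup G, IsDefectGroup p M B D ∧ P ≤ D := by
  obtain ⟨g, hg⟩ := exists_isDefectClass hM hB
  obtain ⟨χ, hχ⟩ := IsPBlock.nonempty hM hB
  obtain ⟨k, hk, hkP⟩ := exists_conj_mem_centralizer hM hB hP hc hne hχ (hg.2.2 χ hχ)
  obtain ⟨y, rfl⟩ := isConj_iff.1 hk
  exact exists_isDefectGroup_ge_of_defectClass hM hP (isDefectClass_conj hg y) hkP

theorem exists_unit_coeff_centralizer (hM : IsPModular p M) {D : Subgroup G}
    (hD : IsDefectGroup p M B D) :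
    ∃ c ∈ Subgroup.centralizer (D : Set G), IsDefectClass M B c := by
  obtain ⟨g, hg, P, rfl⟩ := hD
  refine ⟨g, ?_, hg⟩
  rw [Subgroup.mem_centralizer_iff]
  rintro u ⟨⟨v, hv⟩, -, rfl⟩
  exact Subgroup.mem_centralizer_singleton_iff.1 hv

/-- A central character that is a unit at `h` forces a conjugate of `h` into the centralizer of any
defect group. -/
theorem exists_conj_centralizes_defectGroup (hM : IsPModular p M) (hB : IsPBlock M B)
    {D : Subgroup G} (hD : IsDefectGroup p M B D) {χ : IrrCharacter G} (hχ : χ ∈ B) {h : G}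
    (hh : ¬ MemLocalIdeal M (centralChar (χ : G → ℂ) h)) :
    ∃ h' : G, IsConj h h' ∧ h' ∈ Subgroup.centralizer (D : Set G) := by
  obtain ⟨c, hc, hcl⟩ := exists_unit_coeff_centralizer hM hD
  exact exists_conj_mem_centralizer hM hB (isPGroup_defectGroup hD) hc hcl.2.1 hχ hh

/-- Defect groups are conjugate. -/
theorem exists_conj_eq_defectGroup (hM : IsPModular p M) (hB : IsPBlock M B) {D D' : Subgroup G}
    (hD : IsDefectGroup p M B D) (hD' : IsDefectGroup p M B D') :
    ∃ y : G, D' = D.map (MulAut.conj y).toMonoidHom := by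
  haveI := Fact.mk hM.1
  obtain ⟨g, hg, S, hS⟩ := hD'
  obtain ⟨χ, hχ⟩ := IsPBlock.nonempty hM hB
  obtain ⟨k, hk, hkD⟩ := exists_conj_centralizes_defectGroup hM hB hD hχ (hg.2.2 χ hχ)
  obtain ⟨y, hy⟩ := isConj_iff.1 hk
  set E := D.map (MulAut.conj y⁻¹).toMonoidHom
  have hE : E ≤ Subgroup.centralizer ({g} : Set G) := by
    rintro _ ⟨u, hu, rfl⟩
    have h1 := Subgroup.mem_centralizer_iff.1 hkD u hu
    rw [← hy] at h1
    refine Subgroup.mem_centralizer_singleton_iff.2 ?_
    have := congrArg (fun w => y⁻¹ * w * y) h1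
    simpa [mul_assoc] using this
  have hEcard : Nat.card E = Nat.card S := by
    rw [Subgroup.card_map_of_injective (MulAut.conj y⁻¹).injective, card_defectGroup hM hB hD,
      S.card_eq_multiplicity, ← centExp_eq_of_isDefectClass hM hB hg]
    rfl
  set E' := E.subgroupOf (Subgroup.centralizer ({g} : Set G))
  have hE'card : Nat.card E'
      = p ^ (Nat.card (Subgroup.centralizer ({g} : Set G))).factorization p := by
    rw [Nat.card_congr (Subgroup.subgroupOfEquivOfLe hE).toEquiv, hEcard, S.card_eq_multiplicity]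
  obtain ⟨z, hz⟩ := MulAction.exists_smul_eq (Subgroup.centralizer ({g} : Set G))
    (Sylow.ofCard E' hE'card) S
  refine ⟨(z : G) * y⁻¹, ?_⟩
  rw [hS, ← hz, Sylow.coe_subgroup_smul, Sylow.coe_ofCard]
  ext u
  constructor
  · rintro ⟨v, ⟨w, hw, rfl⟩, rfl⟩
    obtain ⟨d, hd, hdw⟩ := hw
    refine ⟨d, hd, ?_⟩
    show ((z : G) * y⁻¹) * d * ((z : G) * y⁻¹)⁻¹ = ((z * w * z⁻¹ : Subgroup.centralizer _) : G)
    have hdw' : y⁻¹ * d * y = (w : G) := by
      rw [show ((w : G)) = (Subgroup.centralizer ({g} : Set G)).subtype w from rfl, ← hdw]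
      simp
    simp only [Subgroup.coe_mul, Subgroup.coe_inv, ← hdw', mul_inv_rev, inv_inv, mul_assoc]
  · rintro ⟨d, hd, rfl⟩
    have hdE : y⁻¹ * d * y ∈ E := ⟨d, hd, by simp⟩
    refine ⟨z * ⟨_, hE hdE⟩ * z⁻¹, ⟨⟨_, hE hdE⟩, hdE, rfl⟩, ?_⟩
    simp [mul_assoc]

/-- An element outside every defect group has `p`-section killed by the characters of the block. -/
theorem char_eq_zero_of_not_mem_defectGroup (hM : IsPModular p M) (hB : IsPBlock M B)
    {χ : IrrCharacter G} (hχ : χ ∈ B) {g x : G} (hx : IsPPart p g x)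
    (hD : ∀ D : Subgroup G, IsDefectGroup p M B D → x ∉ D) : (χ : G → ℂ) g = 0 := by
  obtain ⟨y, hxy, hcomm, ⟨k, hk⟩, hy⟩ := hx
  have hbr : ∀ c, Commute x c → MemLocalIdeal M (blockCoeff B c) := by
    intro c hc
    by_contra hne
    have hP : IsPGroup p (Subgroup.zpowers x) :=
      IsPGroup.of_card (n := k) (by rw [Nat.card_zpowers, hk])
    have hcP : c ∈ Subgroup.centralizer (Subgroup.zpowers x : Set G) := by
      rw [centralizer_zpowers]
      exact Subgroup.mem_centralizer_singleton_iff.2 hc.eq.symm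
    obtain ⟨D, hDd, hle⟩ := exists_isDefectGroup_ge hM hB hP hcP hne
    exact hD D hDd (hle (Subgroup.mem_zpowers x))
  obtain ⟨n, ρ, hρ, he⟩ := χ.2
  have h0 := trace_eq_zero_of_brauer_zero hM ρ (a := fun c => blockCoeff B c)
    (blockCoeff_LR hM hB) (fun c => by rw [blockCoeff_conv, Set.inter_self]) hk hy hcomm
    (fun c => blockCoeff_isClassFunction B c x) (fun c => blockCoeff_isClassFunction B c y) hbr
  rw [he, hxy] at h0
  have h1 : ∑ c, blockCoeff B c * (χ : G → ℂ) (g * c) = (χ : G → ℂ) g := by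
    have hh : ∀ c : G, (χ : G → ℂ) (g * c)
        = ∑ φ : IrrCharacter G, (if φ = χ then (φ : G → ℂ) (g * c) else 0) := fun c => by simp
    calc _ = ∑ c, fourierInv (blockInd B) c * (χ : G → ℂ) (g * c) := by
          simp only [blockCoeff_eq_fourierInv]
      _ = _ := by
          simp only [fourierInv, Finset.mul_sum, Finset.sum_mul]
          rw [Finset.sum_comm, Finset.sum_eq_single χ]
          · have h := gen_orth χ χ g
            rw [if_pos rfl] at h
            have e : ∑ c, (χ : G → ℂ) c⁻¹ * (χ : G → ℂ) (g * c)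
                = (Nat.card G : ℂ) * (χ : G → ℂ) g / (χ : G → ℂ) 1 := by
              rw [← h]
              refine Fintype.sum_equiv (Equiv.mulLeft g) _ _ fun c => ?_
              simp [mul_assoc, mul_comm]
            calc _ = (Nat.card G : ℂ)⁻¹ * blockInd B χ * (χ : G → ℂ) 1 *
                  ∑ c, (χ : G → ℂ) c⁻¹ * (χ : G → ℂ) (g * c) := by
                  rw [Finset.mul_sum]; exact Finset.sum_congr rfl fun c _ => by ring
              _ = _ := by
                  rw [e, blockInd_of_mem hχ]
                  have := irr_one_ne_zero χ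
                  have := CfsgLib.Char.card_ne_zero (G := G)
                  field_simp
          · intro φ _ hne
            have h := gen_orth χ φ g
            rw [if_neg (Ne.symm hne)] at h
            have e : ∑ c, (φ : G → ℂ) c⁻¹ * (χ : G → ℂ) (g * c) = 0 := by
              rw [← h]
              refine Fintype.sum_equiv (Equiv.mulLeft g) _ _ fun c => ?_
              simp [mul_assoc, mul_comm]
            calc _ = (Nat.card G : ℂ)⁻¹ * blockInd B φ * (φ : G → ℂ) 1 *
                  ∑ c, (φ : G → ℂ) c⁻¹ * (χ : G → ℂ) (g * c) := by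
                  rw [Finset.mul_sum]; exact Finset.sum_congr rfl fun c _ => by ring
              _ = 0 := by rw [e, mul_zero]
          · simp
  rw [← h1]
  exact h0

/-- Height zero characters are units at `x y`, `y` a defect class, `x` in its defect group. -/
theorem not_LI_apply_mul_defectClass (hM : IsPModular p M) (hB : IsPBlock M B) {y x : G}
    (hy : IsDefectClass M B y) (hxy : Commute x y) {k : ℕ} (hx : orderOf x = p ^ k)
    {χ : IrrCharacter G} (hχ : χ ∈ B) (h0 : degVal p χ = minDegVal p B) :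
    ¬ MemLocalIdeal M ((χ : G → ℂ) (x * y)) := by
  intro hI
  obtain ⟨n, ρ, hρ, he⟩ := χ.2
  have h1 := character_mul_congr hM ρ hx hxy
  rw [he] at h1
  have h2 : MemLocalIdeal M ((χ : G → ℂ) y) := by
    have := LI.sub hM hI h1
    rwa [sub_sub_cancel] at this
  refine hy.2.2 χ hχ ?_
  rw [centralChar, irr_one_eq, mul_div_right_comm]
  refine LI.mul_left hM (natCast_div_LR hM (charDegree_pos χ).ne' ?_) h2
  have hc := centExp_eq_of_isDefectClass hM hB hy
  have hi := index_factorization_add (p := p) y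
  have hd := blockDefect_add_min (p := p) (IsPBlock.nonempty hM hB)
  refine (hM.1.pow_dvd_iff_le_factorization Subgroup.index_ne_zero_of_finite).2 ?_
  simp only [degVal] at h0
  omega

/-- Central characters are units at `x y` for `x` central in the defect group of `y`. -/
theorem not_LI_centralChar_mul_defectClass (hM : IsPModular p M) (hB : IsPBlock M B) {y x : G}
    (hy : IsDefectClass M B y) (hxy : Commute x y) {k : ℕ} (hx : orderOf x = p ^ k)
    (hcent : centExp p y ≤ centExp p (x * y))
    {φ : IrrCharacter G} (hφ : φ ∈ B) :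
    ¬ MemLocalIdeal M (centralChar (φ : G → ℂ) (x * y)) := by
  obtain ⟨χ, hχ, h0⟩ := exists_degVal_eq_min (p := p) (IsPBlock.nonempty hM hB)
  intro hI
  have hI' : MemLocalIdeal M (centralChar (χ : G → ℂ) (x * y)) := by
    have := LI.add hM (IsPBlock.sameBlock hM hB hχ hφ (x * y)) hI
    rwa [sub_add_cancel] at this
  refine hy.2.2 χ hχ ?_
  have hu := not_LI_apply_mul_defectClass hM hB hy hxy hx hχ h0
  set I := (Subgroup.centralizer ({x * y} : Set G)).index
  set J := (Subgroup.centralizer ({y} : Set G)).index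
  have hI0 : I ≠ 0 := Subgroup.index_ne_zero_of_finite
  have hd : p ^ I.factorization p ∣ J := by
    refine (hM.1.pow_dvd_iff_le_factorization Subgroup.index_ne_zero_of_finite).2 ?_
    have h1 := index_factorization_add (p := p) y
    have h2 := index_factorization_add (p := p) (x * y)
    simp only [I]
    omega
  have hinv := LR.inv hM (LR.of_isIntegral hM (irr_isIntegral χ (x * y))) hu
  have e : centralChar (χ : G → ℂ) y = centralChar (χ : G → ℂ) (x * y) *
      (((J : ℂ) / (I : ℂ)) * ((χ : G → ℂ) y * ((χ : G → ℂ) (x * y))⁻¹)) := by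
    have h1 := irr_one_ne_zero χ
    have h2 := ne_zero_of_not_LI hM hu
    have h3 : (I : ℂ) ≠ 0 := Nat.cast_ne_zero.2 hI0
    simp only [centralChar, I, J] at h3 ⊢
    field_simp
  rw [e]
  exact LI.mul_right hM hI' (LR.mul hM (natCast_div_LR hM hI0 hd)
    (LR.mul hM (LR.of_isIntegral hM (irr_isIntegral χ y)) hinv))

/-- Elements with unit central character: some conjugate centralizes the defect group and has its
`p`-part in its centre. -/
theorem exists_conj_pPart_mem (hM : IsPModular p M) (hB : IsPBlock M B) {P : Subgroup G}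
    (hP : IsDefectGroup p M B P) {χ : IrrCharacter G} (hχ : χ ∈ B) {g : G}
    (hg : ¬ MemLocalIdeal M (centralChar (χ : G → ℂ) g)) :
    ∃ x : G, IsConj g x ∧ x ∈ Subgroup.centralizer (P : Set G) ∧
      ∀ z : G, IsPPart p x z → z ∈ P ∧ z ∈ Subgroup.centralizer (P : Set G) := by
  haveI := Fact.mk hM.1
  have hPp := isPGroup_defectGroup hP
  obtain ⟨c, hc, hcl⟩ := exists_unit_coeff_centralizer hM hP
  set K := Subgroup.centralizer (P : Set G) with hK
  obtain ⟨ψ, χ', hχ', heval⟩ := exists_brauer_eval hM hB hPp (hK ▸ hc) hcl.2.1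
  have key : ∀ h : G, ¬ MemLocalIdeal M (centralChar (χ : G → ℂ) h) →
      ∃ l : K, IsConj h (l : G) ∧ ¬ MemLocalIdeal M (centralChar (ψ : K → ℂ) l) := by
    intro h hh
    have h1 := heval _ (classInd_isClassFunction h) (classInd_LR hM h)
    have e : brTrunc P K (classInd h) = fun k : K => classInd h (k : G) :=
      funext fun k => if_pos k.2
    rw [e, omega_classInd] at h1
    obtain ⟨l, hl1, hl2⟩ := exists_classInd_of_not_LI hM ψ (classInd_isClassFunction h)
      (classInd_LR hM h) (fun hI => hh (by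
        have h2 := LI.sub hM hI h1
        rw [sub_sub_cancel] at h2
        have := LI.add hM (IsPBlock.sameBlock hM hB hχ hχ' h) h2
        rwa [sub_add_cancel] at this))
    exact ⟨l, isConj_of_not_LI_classInd hM hl1, hl2⟩
  obtain ⟨l, hgl, hl⟩ := key g hg
  refine ⟨l, hgl, l.2, fun z hz => ?_⟩
  obtain ⟨z', y', hpart, he, hc', hy', ⟨j, hj⟩, -, -⟩ := exists_isPPart (G := K) hM.1 l
  have hzz' : z = (z' : G) := by
    refine isPPart_unique hM.1 hz ⟨y', congrArg Subtype.val he, congrArg Subtype.val hc'.eq,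
      ⟨j, by rw [Subgroup.orderOf_coe, hj]⟩, by rwa [Subgroup.orderOf_coe]⟩
  subst hzz'
  refine ⟨?_, z'.2⟩
  set b := blockOf M (ψ : K → ℂ)
  have hb : IsPBlock M b := isPBlock_blockOf ψ
  have hψb : ψ ∈ b := SameBlock_refl hM _
  obtain ⟨φ, hφ, -⟩ := exists_degVal_eq_min (p := p) (IsPBlock.nonempty hM hb)
  have hφl : (φ : K → ℂ) l ≠ 0 := by
    intro h0
    refine hl ?_
    have := LI.add hM (IsPBlock.sameBlock hM hb hψb hφ l)
      (show MemLocalIdeal M (centralChar (φ : K → ℂ) l) by
        rw [centralChar, h0, mul_zero, zero_div]; exact LI.zero hM)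
    rwa [sub_add_cancel] at this
  obtain ⟨E, hE, hzE⟩ : ∃ E : Subgroup K, IsDefectGroup p M b E ∧ z' ∈ E := by
    by_contra hcon
    push Not at hcon
    exact hφl (char_eq_zero_of_not_mem_defectGroup hM hb hφ hpart hcon)
  obtain ⟨q, hq⟩ := exists_isDefectClass hM hB
  obtain ⟨k, hqk, hk⟩ := key q (hq.2.2 χ hχ)
  obtain ⟨k', hkk', hk'E⟩ := exists_conj_centralizes_defectGroup hM hb hE hψb hk
  set T := P ⊔ E.map K.subtype
  have hTp : IsPGroup p T := by
    have hEp : IsPGroup p (E.map K.subtype) := IsPGroup.map (isPGroup_defectGroup hE) _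
    have hEn : E.map K.subtype ≤ Subgroup.normalizer (P : Set G) := by
      rintro _ ⟨u, -, rfl⟩
      exact centralizer_le_normalizer P u.2
    rw [show T = E.map K.subtype ⊔ P from sup_comm _ _]
    exact hEp.to_sup_of_normal_right' hPp hEn
  have hk'T : (k' : G) ∈ Subgroup.centralizer (T : Set G) := by
    have : T ≤ Subgroup.centralizer ({(k' : G)} : Set G) := by
      refine sup_le (fun u hu => ?_) ?_
      · exact Subgroup.mem_centralizer_singleton_iff.2 (Subgroup.mem_centralizer_iff.1 k'.2 u hu)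
      · rintro _ ⟨u, hu, rfl⟩
        exact Subgroup.mem_centralizer_singleton_iff.2
          (congrArg Subtype.val (Subgroup.mem_centralizer_iff.1 hk'E u hu))
    exact Subgroup.mem_centralizer_iff.2 fun u hu =>
      Subgroup.mem_centralizer_singleton_iff.1 (this hu)
  have hconj : IsConj q (k' : G) := hqk.trans (MonoidHom.map_isConj K.subtype hkk')
  obtain ⟨w, hw⟩ := isConj_iff.1 hconj
  obtain ⟨D, hD, hTD⟩ := exists_isDefectGroup_ge_of_defectClass hM hTp
    (show IsDefectClass M B (k' : G) from hw ▸ isDefectClass_conj hq w) hk'T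
  have hPD : P = D := Subgroup.eq_of_le_of_card_ge (le_trans le_sup_left hTD)
    (by rw [card_defectGroup hM hB hD, card_defectGroup hM hB hP])
  rw [hPD]
  exact hTD (Subgroup.mem_sup_right ⟨z', hzE, rfl⟩)

/-- The defect of an inducing block is at most that of the induced block. -/
theorem blockDefect_le_of_induced (hM : IsPModular p M) {H : Subgroup G}
    {b : Set (IrrCharacter H)} (h : IsInducedBlock M H b B) :
    blockDefect p b ≤ blockDefect p B := by
  obtain ⟨D, hD⟩ := exists_isDefectGroup hM h.1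
  obtain ⟨q, hq⟩ := exists_isDefectClass hM h.2.1
  obtain ⟨ξ, hξ⟩ := IsPBlock.nonempty hM h.1
  obtain ⟨χ, hχ⟩ := IsPBlock.nonempty hM h.2.1
  have h1 : ¬ MemLocalIdeal M (omega (ξ : H → ℂ) fun k : H => classInd q (k : G)) := fun hI => by
    rw [← inducedCentralChar_eq] at hI
    have := LI.sub hM hI (h.2.2 ξ hξ χ hχ q)
    rw [sub_sub_cancel] at this
    exact hq.2.2 χ hχ this
  obtain ⟨l, hl1, hl2⟩ := exists_classInd_of_not_LI hM ξ (classInd_isClassFunction q)
    (classInd_LR hM q) h1
  obtain ⟨k, hlk, hkD⟩ := exists_conj_centralizes_defectGroup hM h.1 hD hξ hl2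
  have hconj : IsConj q (k : G) :=
    (isConj_of_not_LI_classInd hM hl1).trans (MonoidHom.map_isConj H.subtype hlk)
  obtain ⟨w, hw⟩ := isConj_iff.1 hconj
  obtain ⟨E, hE, hle⟩ := exists_isDefectGroup_ge_of_defectClass hM
    (IsPGroup.map (isPGroup_defectGroup hD) H.subtype)
    (show IsDefectClass M B (k : G) from hw ▸ isDefectClass_conj hq w)
    (Subgroup.mem_centralizer_iff.2 fun u hu => by
      obtain ⟨v, hv, rfl⟩ := hu
      exact congrArg Subtype.val (Subgroup.mem_centralizer_iff.1 hkD v hv))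
  have := Subgroup.card_le_of_le hle
  rw [Subgroup.card_map_of_injective H.subtype_injective, card_defectGroup hM h.1 hD,
    card_defectGroup hM h.2.1 hE] at this
  exact (Nat.pow_le_pow_iff_right hM.1.one_lt).1 this

end CfsgLib.Blocks
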