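import Cfsg.Agent.Lib.Blocks.BrauerHom
import Cfsg.Agent.Lib.Blocks.SecondMain
import Mathlib.GroupTheory.QuotientGroup.Basic

/-!
# Blocks of groups with a normal `p`-subgroup

For a normal `p`-subgroup `P`, central characters vanish modulo `M` outside `C_G(P)`, and block
idempotents are supported on `C_G(P)`.
-/

set_option autoImplicit false

namespace CfsgLib.Blocks

open Cfsg
open scoped Classical ComplexConjugate

variable {G : Type*} [Group G] [Fintype G] {p : ℕ} {M : Ideal AlgInt}

theorem blockCoeff_one_ne_zero (hM : IsPModular p M) {B : Set (IrrCharacter G)}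
    (hB : IsPBlock M B) : blockCoeff B 1 ≠ 0 := by
  intro h
  obtain ⟨χ, hχ⟩ := IsPBlock.nonempty hM hB
  have h1 : (Nat.card G : ℂ) * blockCoeff B 1
      = ((∑ ψ ∈ B.toFinset, charDegree (ψ : G → ℂ) ^ 2 : ℕ) : ℂ) := by
    rw [blockCoeff_eq_fourierInv, fourierInv, mul_inv_cancel_left₀ CfsgLib.Char.card_ne_zero,
      Nat.cast_sum]
    calc _ = ∑ ψ : IrrCharacter G, if ψ ∈ B then ((charDegree (ψ : G → ℂ) ^ 2 : ℕ) : ℂ) else 0 :=
          Finset.sum_congr rfl fun ψ _ => by
            by_cases hψ : ψ ∈ B
            · rw [if_pos hψ, blockInd_of_mem hψ, inv_one, irr_one_eq]; push_cast; ring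
            · rw [if_neg hψ, blockInd_of_notMem hψ, zero_mul]
      _ = _ := by
          rw [← Finset.sum_filter]
          exact Finset.sum_congr (by ext; simp) fun _ _ => rfl
  rw [h, mul_zero] at h1
  have : 0 < ∑ ψ ∈ B.toFinset, charDegree (ψ : G → ℂ) ^ 2 :=
    Finset.sum_pos (fun ψ _ => pow_pos (charDegree_pos ψ) 2) ⟨χ, Set.mem_toFinset.2 hχ⟩
  have h2 : (∑ ψ ∈ B.toFinset, charDegree (ψ : G → ℂ) ^ 2) = 0 :=
    Nat.cast_injective (h1.symm.trans Nat.cast_zero.symm)
  omega

variable {P : Subgroup G} [P.Normal]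

/-- A block idempotent does not vanish modulo `M` on the centralizer of a normal `p`-subgroup. -/
theorem exists_coeff_not_LI_centralizer (hM : IsPModular p M) (hP : IsPGroup p P)
    {B : Set (IrrCharacter G)} (hB : IsPBlock M B) :
    ∃ c ∈ Subgroup.centralizer (P : Set G), ¬ MemLocalIdeal M (blockCoeff B c) := by
  by_contra h
  push Not at h
  let mk : G → G ⧸ P := fun x => QuotientGroup.mk' P x
  let fbar : G ⧸ P → ℂ := fun q => ∑ x : G, if mk x = q then blockCoeff B x else 0
  have hLI : ∀ q, MemLocalIdeal M (fbar q) := by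
    intro q
    let act : MulAction P G := MulAction.compHom G (ConjAct.toConjAct.toMonoidHom.comp P.subtype)
    letI := act
    have h1 := sum_congr_fixedPoints hM hP (fun x => if mk x = q then blockCoeff B x else 0)
      (fun x => by
        split
        · exact blockCoeff_LR hM hB x
        · exact LR.zero hM)
      fun u x => by
        show (if mk ((u : G) * x * (u : G)⁻¹) = q then blockCoeff B ((u : G) * x * (u : G)⁻¹)
          else 0) = _
        have hmk : mk ((u : G) * x * (u : G)⁻¹) = mk x := by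
          have h1 : (QuotientGroup.mk' P (u : G)) = 1 := (QuotientGroup.eq_one_iff _).2 u.2
          simp [mk, h1]
        have hbc : blockCoeff B ((u : G) * x * (u : G)⁻¹) = blockCoeff B x :=
          blockCoeff_isClassFunction B x u
        rw [hmk, hbc]
    have h2 : MemLocalIdeal M (∑ x : G with x ∈ MulAction.fixedPoints P G,
        if mk x = q then blockCoeff B x else 0) := LI.sum hM fun x hx => by
      split
      · refine h x ?_
        rw [Subgroup.mem_centralizer_iff]
        intro u hu
        have := (Finset.mem_filter.1 hx).2 ⟨u, hu⟩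
        exact mul_inv_eq_iff_eq_mul.1 this
      · exact LI.zero hM
    have := LI.add hM h1 h2
    rwa [sub_add_cancel] at this
  have hconv : ∀ q, ∑ r, fbar r * fbar (r⁻¹ * q) = fbar q := by
    intro q
    calc _ = ∑ x : G, blockCoeff B x * fbar ((mk x)⁻¹ * q) := by
          simp only [fbar, Finset.sum_mul, ite_mul, zero_mul]
          rw [Finset.sum_comm]
          exact Finset.sum_congr rfl fun x _ => by
            rw [Finset.sum_ite_eq, if_pos (Finset.mem_univ _)]
      _ = ∑ x : G, ∑ z : G, if mk z = q then blockCoeff B x * blockCoeff B (x⁻¹ * z) else 0 := by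
          refine Finset.sum_congr rfl fun x _ => ?_
          simp only [fbar, Finset.mul_sum, mul_ite, mul_zero]
          refine Fintype.sum_equiv (Equiv.mulLeft x) _ _ fun y => ?_
          simp only [Equiv.coe_mulLeft, inv_mul_cancel_left]
          refine if_congr ?_ rfl rfl
          simp only [mk, map_mul, eq_inv_mul_iff_mul_eq]
      _ = _ := by
          rw [Finset.sum_comm]
          refine Finset.sum_congr rfl fun z _ => ?_
          by_cases hz : mk z = q
          · simp only [if_pos hz]
            rw [blockCoeff_conv, Set.inter_self]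
          · simp [hz]
  set A := toAlg fbar
  have hAA : A * A = A := by simp only [A, toAlg_mul]; exact congrArg toAlg (funext hconv)
  obtain ⟨u, hu⟩ : IsUnit (1 - A) := isUnit_of_congr_one hM _ fun g => by
    simpa [A, MonoidAlgebra.coeff_sub] using LI.neg (hLI g)
  have hA : A = 0 := by
    have h0 : A * (1 - A) = 0 := by rw [mul_sub, mul_one, hAA, sub_self]
    rw [← hu] at h0
    simpa using congrArg (· * (↑u⁻¹ : MonoidAlgebra ℂ (G ⧸ P))) h0
  have h1 : fbar 1 = 0 := by
    have := congrArg (fun z : MonoidAlgebra ℂ (G ⧸ P) => z.coeff 1) hA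
    simpa [A] using this
  refine blockCoeff_one_ne_zero hM hB ?_
  rw [← h1]
  simp only [fbar]
  rw [Finset.sum_eq_single (1 : G)]
  · simp [mk]
  · intro x _ hx
    by_cases hxP : mk x = 1
    · rw [if_pos hxP, IsPBlock.blockCoeff_eq_zero hM hB]
      have hxP' : x ∈ P := (QuotientGroup.eq_one_iff x).1 hxP
      haveI := Fact.mk hM.1
      obtain ⟨j, hj⟩ := (IsPGroup.iff_orderOf.1 hP) ⟨x, hxP'⟩
      rw [← Subgroup.orderOf_coe] at hj
      change orderOf x = p ^ j at hj
      rw [hj]
      refine dvd_pow_self p fun h => hx ?_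
      rwa [h, pow_zero, orderOf_eq_one_iff] at hj
    · rw [if_neg hxP]
  · simp

/-- A class function vanishing modulo `M` on `C_G(P)` has all central character values in the local
ideal. -/
theorem omega_LI_of_vanish_centralizer (hM : IsPModular p M) (hP : IsPGroup p P) {f : G → ℂ}
    (hf : IsClassFunction G f) (hR : ∀ x, MemLocalRing M (f x))
    (h0 : ∀ c ∈ Subgroup.centralizer (P : Set G), MemLocalIdeal M (f c)) (χ : IrrCharacter G) :
    MemLocalIdeal M (omega (χ : G → ℂ) f) := by
  by_contra hne
  set F : IrrCharacter G → ℂ := fun ψ => omega (ψ : G → ℂ) f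
  have hF : IsLocalOn M (⊤ : Subgroup G) F :=
    isLocalOn_omega hM hf hR fun x hx => absurd (Subgroup.mem_top x) hx
  set B := blockOf M (χ : G → ℂ)
  have hB : IsPBlock M B := isPBlock_blockOf χ
  have hE := IsPBlock.isLocalOn hM hB
  let Van : (IrrCharacter G → ℂ) → Prop := fun X =>
    ∀ c ∈ Subgroup.centralizer (P : Set G), MemLocalIdeal M (fourierInv X c)
  have hVF : Van F := fun c hc => by
    show MemLocalIdeal M (fourierInv (fun ψ : IrrCharacter G => omega (ψ : G → ℂ) f) c)
    rw [fourierInv_omega hf]; exact h0 c hc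
  have hVmul : ∀ X Y, IsLocalOn M (⊤ : Subgroup G) X → IsLocalOn M (⊤ : Subgroup G) Y → Van Y →
      Van fun ψ => X ψ * Y ψ := by
    intro X Y hX hY hV c hc
    rw [← fourierInv_mul]
    have h := conv_congr_centralizer hM hP (fun x => (hX x).1) (fun x => (hY x).1)
      (fun u _ x => fourierInv_isClassFunction X x u)
      (fun u _ x => fourierInv_isClassFunction Y x u) hc
    have h2 : MemLocalIdeal M (∑ x : G with x ∈ Subgroup.centralizer (P : Set G),
        fourierInv X x * fourierInv Y (x⁻¹ * c)) := LI.sum hM fun x hx =>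
      LI.mul_left hM (hX x).1 (hV _ (mul_mem (inv_mem (Finset.mem_filter.1 hx).2) hc))
    have := LI.add hM h h2
    rwa [sub_add_cancel] at this
  have hkey : ∀ s : Finset (IrrCharacter G), Van fun ψ =>
      (∏ φ ∈ s, (F ψ - F φ)) * blockInd B ψ - (∏ φ ∈ s, (-F φ)) * blockInd B ψ := by
    intro s
    induction s using Finset.induction_on with
    | empty =>
      intro c _
      simp only [Finset.prod_empty, sub_self]
      exact IsLocalZero.zero hM c
    | insert a s ha ih =>
      intro c hc
      have hX : IsLocalOn M (⊤ : Subgroup G) fun ψ => (∏ φ ∈ s, (F ψ - F φ)) * blockInd B ψ :=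
        IsLocalOn.mul hM (IsLocalOn.prod hM s fun φ _ =>
          IsLocalOn.sub hM hF (IsLocalOn.const hM (hF.LR_value hM φ))) hE
      have e : (fun ψ => (∏ φ ∈ insert a s, (F ψ - F φ)) * blockInd B ψ
            - (∏ φ ∈ insert a s, (-F φ)) * blockInd B ψ)
          = fun ψ => ((∏ φ ∈ s, (F ψ - F φ)) * blockInd B ψ) * F ψ
            + (-F a) * ((∏ φ ∈ s, (F ψ - F φ)) * blockInd B ψ
              - (∏ φ ∈ s, (-F φ)) * blockInd B ψ) := by
        funext ψ; rw [Finset.prod_insert ha, Finset.prod_insert ha]; ring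
      rw [e]
      have hadd : fourierInv (fun ψ => ((∏ φ ∈ s, (F ψ - F φ)) * blockInd B ψ) * F ψ
            + (-F a) * ((∏ φ ∈ s, (F ψ - F φ)) * blockInd B ψ
              - (∏ φ ∈ s, (-F φ)) * blockInd B ψ)) c
          = fourierInv (fun ψ => ((∏ φ ∈ s, (F ψ - F φ)) * blockInd B ψ) * F ψ) c
            + (-F a) * fourierInv (fun ψ => (∏ φ ∈ s, (F ψ - F φ)) * blockInd B ψ
              - (∏ φ ∈ s, (-F φ)) * blockInd B ψ) c := by
        simp only [fourierInv, add_mul, Finset.sum_add_distrib, mul_add, Finset.mul_sum]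
        congr 1
        exact Finset.sum_congr rfl fun ψ _ => by ring
      rw [hadd]
      exact LI.add hM (hVmul _ _ hX hF hVF c hc)
        (LI.mul_left hM (LR.neg (hF.LR_value hM a)) (ih c hc))
  obtain ⟨c, hc, hce⟩ := exists_coeff_not_LI_centralizer (P := P) hM hP hB
  have h1 := hkey B.toFinset c hc
  have e : (fun ψ => (∏ φ ∈ B.toFinset, (F ψ - F φ)) * blockInd B ψ
        - (∏ φ ∈ B.toFinset, (-F φ)) * blockInd B ψ)
      = fun ψ => (-(∏ φ ∈ B.toFinset, (-F φ))) * blockInd B ψ := by
    funext ψ
    by_cases hψ : ψ ∈ B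
    · rw [Finset.prod_eq_zero (Set.mem_toFinset.2 hψ) (sub_self _)]; ring
    · rw [blockInd_of_notMem hψ]; ring
  rw [e] at h1
  have e2 : fourierInv (fun ψ => (-(∏ φ ∈ B.toFinset, (-F φ))) * blockInd B ψ) c
      = (-(∏ φ ∈ B.toFinset, (-F φ))) * blockCoeff B c := by
    rw [blockCoeff_eq_fourierInv]
    simp only [fourierInv, Finset.mul_sum]
    exact Finset.sum_congr rfl fun ψ _ => by ring
  rw [e2] at h1
  have hprodLR : MemLocalRing M (-(∏ φ ∈ B.toFinset, (-F φ))) :=
    LR.neg (LR.prod hM fun φ _ => LR.neg (hF.LR_value hM φ))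
  refine not_LI_mul hM hprodLR (blockCoeff_LR hM hB c) ?_ hce h1
  intro hI
  have : ∀ s : Finset (IrrCharacter G), (∀ φ ∈ s, φ ∈ B) →
      ¬ MemLocalIdeal M (∏ φ ∈ s, (-F φ)) := by
    intro s
    induction s using Finset.induction_on with
    | empty => intro _; simpa using LI.not_one hM
    | insert a s ha ih =>
      intro hs
      rw [Finset.prod_insert ha]
      refine not_LI_mul hM (LR.neg (hF.LR_value hM a))
        (LR.prod hM fun φ _ => LR.neg (hF.LR_value hM φ)) (fun hI => hne ?_)
        (ih fun φ hφ => hs φ (Finset.mem_insert_of_mem hφ))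
      have h2 := omega_congr hM (hs a (Finset.mem_insert_self a s)) hf hR
      have := LI.sub hM h2 hI
      simpa [F] using this
  have h3 := LI.neg hI
  rw [neg_neg] at h3
  exact this B.toFinset (fun φ hφ => Set.mem_toFinset.1 hφ) h3

/-- Central characters vanish modulo `M` outside `C_G(P)`. -/
theorem centralChar_LI_of_notMem (hM : IsPModular p M) (hP : IsPGroup p P) (χ : IrrCharacter G)
    {g : G} (hg : g ∉ Subgroup.centralizer (P : Set G)) :
    MemLocalIdeal M (centralChar (χ : G → ℂ) g) := by
  rw [← omega_classInd]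
  refine omega_LI_of_vanish_centralizer hM hP (classInd_isClassFunction g) (fun x => ?_)
    (fun c hc => ?_) χ
  · unfold classInd; split
    · exact LR.one hM
    · exact LR.zero hM
  · rw [classInd, if_neg]
    · exact LI.zero hM
    · intro hgc
      obtain ⟨y, hy⟩ := isConj_iff.1 hgc.symm
      exact hg (hy ▸ mem_centralizer_conj
        (by rw [Subgroup.normalizer_eq_top]; exact Subgroup.mem_top y) hc)

/-- Characters with congruent central characters on `C_G(P)` lie in one block. -/
theorem sameBlock_of_congr_centralizer (hM : IsPModular p M) (hP : IsPGroup p P)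
    {χ ψ : IrrCharacter G}
    (h : ∀ g ∈ Subgroup.centralizer (P : Set G),
      MemLocalIdeal M (centralChar (χ : G → ℂ) g - centralChar (ψ : G → ℂ) g)) :
    SameBlock M (χ : G → ℂ) (ψ : G → ℂ) := fun g => by
  by_cases hg : g ∈ Subgroup.centralizer (P : Set G)
  · exact h g hg
  · exact LI.sub hM (centralChar_LI_of_notMem hM hP χ hg) (centralChar_LI_of_notMem hM hP ψ hg)

theorem IsPBlock.isLocalOn_centralizer (hM : IsPModular p M) (hP : IsPGroup p P)
    {B : Set (IrrCharacter G)} (hB : IsPBlock M B) :
    IsLocalOn M (Subgroup.centralizer (P : Set G)) (blockInd B) := by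
  refine IsLocalOn.blockInd_of_separated hM fun χ hχ ψ hψ => ?_
  by_contra h
  push Not at h
  exact hψ ((IsPBlock.mem_iff hM hB hχ).2 (sameBlock_of_congr_centralizer hM hP h))

theorem blockCoeff_eq_zero_of_notMem_centralizer (hM : IsPModular p M) (hP : IsPGroup p P)
    {B : Set (IrrCharacter G)} (hB : IsPBlock M B) {g : G}
    (hg : g ∉ Subgroup.centralizer (P : Set G)) : blockCoeff B g = 0 := by
  rw [blockCoeff_eq_fourierInv]
  exact (IsPBlock.isLocalOn_centralizer hM hP hB g).2 hg

end CfsgLib.Blocks
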