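import Cfsg.Agent.Lib.Blocks.InducedBlock
import Cfsg.Agent.Lib.Blocks.DefectGroup
import Cfsg.Agent.Lib.Blocks.Defect2
import Cfsg.Agent.Lib.Blocks.NormalP
import Cfsg.Agent.Lib.Char.Perm

/-!
# Local subgroups `P C_G(P) ≤ H ≤ N_G(P)` and blocks
-/

set_option autoImplicit false

namespace CfsgLib.Blocks

open Cfsg
open scoped Classical ComplexConjugate

variable {G : Type*} [Group G] [Fintype G] {p : ℕ} {M : Ideal AlgInt} {B : Set (IrrCharacter G)}
  {P H : Subgroup G}

theorem normal_subgroupOf_of_le_normalizer (hPH : P ≤ H)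
    (hHN : H ≤ Subgroup.normalizer (P : Set G)) : (P.subgroupOf H).Normal :=
  (Subgroup.normal_subgroupOf_iff_le_normalizer hPH).2 hHN

theorem mem_centralizer_subgroupOf (hPH : P ≤ H) (k : H) :
    k ∈ Subgroup.centralizer (P.subgroupOf H : Set H)
      ↔ (k : G) ∈ Subgroup.centralizer (P : Set G) := by
  simp only [Subgroup.mem_centralizer_iff, SetLike.mem_coe, Subgroup.mem_subgroupOf]
  exact ⟨fun h u hu => congrArg Subtype.val (h ⟨u, hPH hu⟩ hu),
    fun h u hu => Subtype.ext (h u hu)⟩

/-- Central characters of `H` only see `C_G(P)`. -/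
theorem omega_brTrunc_congr (hM : IsPModular p M) (hP : IsPGroup p P) (hPH : P ≤ H)
    (hHN : H ≤ Subgroup.normalizer (P : Set G)) (ξ : IrrCharacter H) {f : G → ℂ}
    (hf : IsClassFunction G f) (hR : ∀ x, MemLocalRing M (f x)) :
    MemLocalIdeal M (omega (ξ : H → ℂ) (fun k : H => f k)
      - omega (ξ : H → ℂ) (brTrunc P H f)) := by
  haveI := normal_subgroupOf_of_le_normalizer hPH hHN
  have e : omega (ξ : H → ℂ) (fun k : H => f k) - omega (ξ : H → ℂ) (brTrunc P H f)
      = omega (ξ : H → ℂ) (fun k : H => f k - brTrunc P H f k) := by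
    simp only [omega, sub_mul, Finset.sum_sub_distrib, sub_div]
  rw [e]
  refine omega_LI_of_vanish_centralizer hM (P := P.subgroupOf H)
    (hP.of_injective (Subgroup.subgroupOfEquivOfLe hPH).toMonoidHom
      (Subgroup.subgroupOfEquivOfLe hPH).injective) ?_ ?_ (fun c hc => ?_) ξ
  · exact fun x y => congrArg₂ (· - ·) (resFun_isClassFunction H hf x y)
      (brTrunc_isClassFunction hHN hf x y)
  · exact fun k => LR.sub hM (hR _) (brTrunc_LR hM hR k)
  · rw [brTrunc, if_pos ((mem_centralizer_subgroupOf hPH c).1 hc), sub_self]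
    exact LI.zero hM

theorem brauerCentralChar_eq (ξ : H → ℂ) (g : G) :
    brauerCentralChar P H ξ g = omega ξ (brTrunc P H (classInd g)) := by
  rw [brauerCentralChar, finsum_mem_eq_toFinset_sum, omega, Finset.sum_div]
  refine (Finset.sum_congr rfl fun h hh => ?_).trans
    (Finset.sum_subset (Finset.subset_univ _) fun h _ hh => ?_)
  · rw [Set.mem_toFinset, Set.mem_setOf_eq] at hh
    rw [brTrunc, if_pos hh.2, classInd, if_pos hh.1, one_mul]
  · rw [Set.mem_toFinset, Set.mem_setOf_eq, not_and] at hh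
    by_cases hc : (h : G) ∈ Subgroup.centralizer (P : Set G)
    · rw [brTrunc, if_pos hc, classInd, if_neg fun h' => hh h' hc, zero_mul, zero_div]
    · rw [brTrunc, if_neg hc, zero_mul, zero_div]

theorem inducedCentralChar_congr_brauer (hM : IsPModular p M) (hP : IsPGroup p P) (hPH : P ≤ H)
    (hHN : H ≤ Subgroup.normalizer (P : Set G)) (ξ : IrrCharacter H) (g : G) :
    MemLocalIdeal M (inducedCentralChar H (ξ : H → ℂ) g - brauerCentralChar P H (ξ : H → ℂ) g) := by
  rw [inducedCentralChar_eq, brauerCentralChar_eq]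
  exact omega_brTrunc_congr hM hP hPH hHN ξ (classInd_isClassFunction g) (classInd_LR hM g)

/-- Blocks of `H` induce blocks of `G`. -/
theorem exists_isInducedBlock_local (hM : IsPModular p M) (hP : IsPGroup p P) (hPH : P ≤ H)
    (hCH : Subgroup.centralizer (P : Set G) ≤ H) (hHN : H ≤ Subgroup.normalizer (P : Set G))
    {b : Set (IrrCharacter H)} (hb : IsPBlock M b) :
    ∃ B : Set (IrrCharacter G), IsInducedBlock M H b B := by
  obtain ⟨ξ, hξ⟩ := IsPBlock.nonempty hM hb
  obtain ⟨χ, hχ⟩ := exists_brLam_eval hM hP hCH hHN ξ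
  refine ⟨blockOf M (χ : G → ℂ), hb, isPBlock_blockOf χ, fun ξ' hξ' χ' hχ' g => ?_⟩
  have h1 := omega_brTrunc_congr hM hP hPH hHN ξ' (classInd_isClassFunction g) (classInd_LR hM g)
  rw [← inducedCentralChar_eq] at h1
  refine LI.trans hM h1 (LI.trans hM (omega_congr hM (IsPBlock.sameBlock hM hb hξ' hξ)
    (brTrunc_isClassFunction hHN (classInd_isClassFunction g)) (brTrunc_LR hM (classInd_LR hM g))) ?_)
  refine LI.trans hM (hχ _ (classInd_isClassFunction g) (classInd_LR hM g)) ?_
  rw [omega_classInd]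
  exact hχ' g

/-- The truncated idempotent of `B` is modulo `M` the idempotent of some blocks of `K`. -/
theorem isLocalZero_trunc_sub (hM : IsPModular p M) (hB : IsPBlock M B) (hP : IsPGroup p P)
    {K : Subgroup G} (hCK : Subgroup.centralizer (P : Set G) ≤ K)
    (hKN : K ≤ Subgroup.normalizer (P : Set G)) :
    ∃ S : Set (IrrCharacter K),
      (∀ ψ ∈ S, ∃ χ ∈ B, ∀ f : G → ℂ, IsClassFunction G f → (∀ x, MemLocalRing M (f x)) →
        MemLocalIdeal M (omega (ψ : K → ℂ) (brTrunc P K f) - omega (χ : G → ℂ) f)) ∧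
      (∀ ψ ∈ S, ∀ φ : IrrCharacter K, SameBlock M (ψ : K → ℂ) (φ : K → ℂ) → φ ∈ S) ∧
      ∀ k : K, MemLocalIdeal M (brTrunc P K (fun g => blockCoeff B g) k
        - fourierInv (blockInd S) k) := by
  set eB : G → ℂ := fun g => blockCoeff B g
  have hcl : IsClassFunction G eB := blockCoeff_isClassFunction B
  have hR : ∀ x, MemLocalRing M (eB x) := blockCoeff_LR hM hB
  set w := brTrunc P K eB
  have hwc : IsClassFunction K w := brTrunc_isClassFunction hKN hcl
  set W : IrrCharacter K → ℂ := fun ψ => omega (ψ : K → ℂ) w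
  have hW : IsLocalOn M (⊤ : Subgroup K) W :=
    isLocalOn_omega hM hwc (brTrunc_LR hM hR) fun z hz => absurd (Subgroup.mem_top z) hz
  have hidem : IsLocalZero M fun ψ => W ψ * W ψ - W ψ := by
    intro k
    have e : fourierInv (fun ψ => W ψ * W ψ - W ψ) k
        = fourierInv (fun ψ => W ψ * W ψ) k - fourierInv W k := by
      simp only [fourierInv, sub_mul, Finset.sum_sub_distrib, mul_sub]
    rw [e, ← fourierInv_mul, show fourierInv W = w from fourierInv_omega hwc]
    have h1 := brTrunc_conv hM hP hCK hR hR (fun u _ x => hcl x u) (fun u _ x => hcl x u) k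
    have h2 : (fun c => ∑ x, eB x * eB (x⁻¹ * c)) = eB := funext fun c => by
      simp only [eB]; rw [blockCoeff_conv, Set.inter_self]
    rw [h2] at h1
    exact LI.sub_comm h1
  set S : Set (IrrCharacter K) := {ψ | ¬ MemLocalIdeal M (W ψ)}
  have hsat : ∀ ψ ∈ S, ∀ φ : IrrCharacter K, SameBlock M (ψ : K → ℂ) (φ : K → ℂ) → φ ∈ S := by
    intro ψ hψ φ h hI
    refine hψ ?_
    have := LI.add hM (omega_congr hM h hwc (brTrunc_LR hM hR)) hI
    rwa [sub_add_cancel] at this
  have hval : ∀ ψ, MemLocalIdeal M (W ψ - blockInd S ψ) ∧ (ψ ∈ S → ∃ χ ∈ B,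
      ∀ f : G → ℂ, IsClassFunction G f → (∀ x, MemLocalRing M (f x)) →
        MemLocalIdeal M (omega (ψ : K → ℂ) (brTrunc P K f) - omega (χ : G → ℂ) f)) := by
    intro ψ
    obtain ⟨χ, hχ⟩ := exists_brLam_eval hM hP hCK hKN ψ
    have h := hχ eB hcl hR
    rw [omega_blockCoeff] at h
    by_cases hm : χ ∈ B
    · rw [blockInd_of_mem hm] at h
      have hS : ψ ∈ S := fun hI => LI.not_one hM (by
        have := LI.sub hM hI h
        rwa [sub_sub_cancel] at this)
      exact ⟨by rwa [blockInd_of_mem hS], fun _ => ⟨χ, hm, hχ⟩⟩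
    · rw [blockInd_of_notMem hm, sub_zero] at h
      have hS : ψ ∉ S := fun hS => hS h
      exact ⟨by rw [blockInd_of_notMem hS, sub_zero]; exact h, fun hψ => absurd hψ hS⟩
  refine ⟨S, fun ψ hψ => (hval ψ).2 hψ, hsat, fun k => ?_⟩
  -- the indicator of `S` is local
  have hSloc : IsLocalOn M (⊤ : Subgroup K) (blockInd S) :=
    IsLocalOn.blockInd_of_separated hM fun χ hχ φ hφ => by
      by_contra h
      push Not at h
      exact hφ (hsat χ hχ φ fun g => h g (Subgroup.mem_top g))
  have hcomp : IsLocalOn M (⊤ : Subgroup K) fun ψ => 1 - blockInd S ψ :=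
    IsLocalOn.sub hM (IsLocalOn.one hM) hSloc
  have hcW : IsLocalOn M (⊤ : Subgroup K) fun ψ => 1 - W ψ :=
    IsLocalOn.sub hM (IsLocalOn.one hM) hW
  have hidem' : IsLocalZero M fun ψ => (1 - W ψ) * (1 - W ψ) - (1 - W ψ) :=
    hidem.congr fun ψ => by ring
  have h1 := isLocalZero_of_idem hM hW hcomp hidem fun ψ hne => by
    have hS : ψ ∉ S := fun hS => hne (by simp [blockInd_of_mem hS])
    have := (hval ψ).1
    rwa [blockInd_of_notMem hS, sub_zero] at this
  have h2 := isLocalZero_of_idem hM hcW hSloc hidem' fun ψ hne => by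
    have hS : ψ ∈ S := by_contra fun hS => hne (blockInd_of_notMem hS)
    have := LI.neg (hval ψ).1
    rwa [blockInd_of_mem hS, neg_sub] at this
  have h3 := LI.sub hM (h1 k) (h2 k)
  have e : fourierInv (fun ψ => W ψ * (1 - blockInd S ψ)) k
      - fourierInv (fun ψ => (1 - W ψ) * blockInd S ψ) k
      = fourierInv W k - fourierInv (blockInd S) k := by
    simp only [fourierInv, ← mul_sub, ← Finset.sum_sub_distrib]
    congr 1
    exact Finset.sum_congr rfl fun ψ _ => by ring
  rw [e, show fourierInv W = w from fourierInv_omega hwc] at h3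
  exact h3

/-- A block whose idempotent is a unit somewhere in `C_G(P)` is induced from `H`. -/
theorem exists_inducing_block_local (hM : IsPModular p M) (hB : IsPBlock M B) (hP : IsPGroup p P)
    (hPH : P ≤ H) (hCH : Subgroup.centralizer (P : Set G) ≤ H)
    (hHN : H ≤ Subgroup.normalizer (P : Set G)) {c : G}
    (hc : c ∈ Subgroup.centralizer (P : Set G)) (hne : ¬ MemLocalIdeal M (blockCoeff B c)) :
    ∃ b : Set (IrrCharacter H), IsInducedBlock M H b B := by
  obtain ⟨S, hev, -, hS⟩ := isLocalZero_trunc_sub hM hB hP hCH hHN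
  obtain ⟨ψ, hψ⟩ : S.Nonempty := by
    by_contra hE
    rw [Set.not_nonempty_iff_eq_empty] at hE
    refine hne ?_
    have h := hS ⟨c, hCH hc⟩
    have e : fourierInv (blockInd S) ⟨c, hCH hc⟩ = 0 := by simp [fourierInv, hE, blockInd]
    rwa [e, sub_zero, show brTrunc P H (fun g => blockCoeff B g) ⟨c, hCH hc⟩ = blockCoeff B c
      from if_pos hc] at h
  obtain ⟨χ, hχ, heval⟩ := hev ψ hψ
  refine ⟨blockOf M (ψ : H → ℂ), isPBlock_blockOf ψ, hB, fun ξ hξ χ' hχ' g => ?_⟩
  have hg := classInd_isClassFunction (G := G) g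
  refine LI.trans hM (y := omega (ξ : H → ℂ) (brTrunc P H (classInd g))) ?_ ?_
  · rw [inducedCentralChar_eq]
    exact omega_brTrunc_congr hM hP hPH hHN ξ hg (classInd_LR hM g)
  refine LI.trans hM (omega_congr hM (SameBlock_symm (mem_blockOf.1 hξ))
    (brTrunc_isClassFunction hHN hg) (brTrunc_LR hM (classInd_LR hM g))) ?_
  refine LI.trans hM (heval _ hg (classInd_LR hM g)) ?_
  rw [omega_classInd]
  exact IsPBlock.sameBlock hM hB hχ hχ' g

/-- A block induced from `H` has an idempotent that is a unit somewhere in `C_G(P)`. -/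
theorem exists_coeff_of_induced (hM : IsPModular p M) (hP : IsPGroup p P) (hPH : P ≤ H)
    (hHN : H ≤ Subgroup.normalizer (P : Set G)) {b : Set (IrrCharacter H)}
    (h : IsInducedBlock M H b B) :
    ∃ c ∈ Subgroup.centralizer (P : Set G), ¬ MemLocalIdeal M (blockCoeff B c) := by
  obtain ⟨ξ, hξ⟩ := IsPBlock.nonempty hM h.1
  obtain ⟨χ, hχ⟩ := IsPBlock.nonempty hM h.2.1
  by_contra hcon
  push Not at hcon
  have hcl : IsClassFunction G fun g => blockCoeff B g := blockCoeff_isClassFunction B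
  have hR := blockCoeff_LR hM h.2.1
  have h1 : MemLocalIdeal M (omega (ξ : H → ℂ) (brTrunc P H fun g => blockCoeff B g)) := by
    refine omega_LI hM ξ (brTrunc_isClassFunction hHN hcl) fun k => ?_
    unfold brTrunc; split
    · exact hcon _ ‹_›
    · exact LI.zero hM
  have h2 := LI.add hM (omega_brTrunc_congr hM hP hPH hHN ξ hcl hR) h1
  rw [sub_add_cancel] at h2
  have h3 := LI.sub hM h2 (IsInducedBlock.omega_congr hM h hξ hχ hcl hR)
  rw [sub_sub_cancel, omega_blockCoeff, blockInd_of_mem hχ] at h3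
  exact LI.not_one hM h3

/-- Defect groups of an inducing block lie in defect groups of the induced block. -/
theorem exists_defectGroup_ge_of_induced (hM : IsPModular p M) {b : Set (IrrCharacter H)}
    (h : IsInducedBlock M H b B) {D : Subgroup H} (hD : IsDefectGroup p M b D) :
    ∃ E : Subgroup G, IsDefectGroup p M B E ∧ D.map H.subtype ≤ E := by
  obtain ⟨q, hq⟩ := exists_isDefectClass hM h.2.1
  obtain ⟨ξ, hξ⟩ := IsPBlock.nonempty hM h.1
  obtain ⟨χ, hχ⟩ := IsPBlock.nonempty hM h.2.1
  have h1 : ¬ MemLocalIdeal M (omega (ξ : H → ℂ) fun k : H => classInd q (k : G)) := fun hI => by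
    rw [← inducedCentralChar_eq] at hI
    have := LI.sub hM hI (h.2.2 ξ hξ χ hχ q)
    rw [sub_sub_cancel] at this
    exact hq.2.2 χ hχ this
  obtain ⟨l, hl1, hl2⟩ := exists_classInd_of_not_LI hM ξ (classInd_isClassFunction q)
    (classInd_LR hM q) h1
  obtain ⟨k, hlk, hkD⟩ := exists_conj_centralizes_defectGroup hM h.1 hD hξ hl2
  obtain ⟨w, hw⟩ := isConj_iff.1
    ((isConj_of_not_LI_classInd hM hl1).trans (MonoidHom.map_isConj H.subtype hlk))
  exact exists_isDefectGroup_ge_of_defectClass hM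
    (IsPGroup.map (isPGroup_defectGroup hD) H.subtype)
    (by have := isDefectClass_conj hq w; rwa [hw] at this : IsDefectClass M B (k : G))
    (Subgroup.mem_centralizer_iff.2 fun u hu => by
      obtain ⟨v, hv, rfl⟩ := hu
      exact congrArg Subtype.val (Subgroup.mem_centralizer_iff.1 hkD v hv))

/-- Every normal `p`-subgroup lies in every defect group. -/
theorem le_defectGroup_of_normal (hM : IsPModular p M) (hB : IsPBlock M B) {N : Subgroup G}
    [N.Normal] (hN : IsPGroup p N) {D : Subgroup G} (hD : IsDefectGroup p M B D) : N ≤ D := by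
  haveI := Fact.mk hM.1
  obtain ⟨c, hc, hne⟩ := exists_coeff_not_LI_centralizer hM hN hB
  obtain ⟨E, hE, hle⟩ := exists_isDefectGroup_ge hM hB hN hc hne
  obtain ⟨y, hy⟩ := exists_conj_eq_defectGroup hM hB hE hD
  intro u hu
  rw [hy]
  exact ⟨y⁻¹ * u * y, hle (Subgroup.Normal.conj_mem' ‹N.Normal› u hu y), by simp [mul_assoc]⟩

/-- A defect group is the largest normal `p`-subgroup of its normalizer. -/
theorem le_defectGroup_of_normalizer (hM : IsPModular p M) (hB : IsPBlock M B) {D : Subgroup G}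
    (hD : IsDefectGroup p M B D) {Q : Subgroup G} (hQ : IsPGroup p Q) (hDQ : D ≤ Q)
    (hQN : Q ≤ Subgroup.normalizer (D : Set G))
    (hNQ : Subgroup.normalizer (D : Set G) ≤ Subgroup.normalizer (Q : Set G)) : Q = D := by
  haveI := Fact.mk hM.1
  set K := Subgroup.normalizer (D : Set G)
  have hCK : Subgroup.centralizer (D : Set G) ≤ K := centralizer_le_normalizer D
  obtain ⟨S, -, hsat, hS⟩ := isLocalZero_trunc_sub hM hB (isPGroup_defectGroup hD) hCK le_rfl
  obtain ⟨c, hc, hcl⟩ := exists_unit_coeff_centralizer hM hD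
  haveI := normal_subgroupOf_of_le_normalizer hQN hNQ
  have hQ' : IsPGroup p (Q.subgroupOf K) := hQ.of_injective
    (Subgroup.subgroupOfEquivOfLe hQN).toMonoidHom (Subgroup.subgroupOfEquivOfLe hQN).injective
  have hloc : IsLocalOn M (Subgroup.centralizer (Q.subgroupOf K : Set K)) (blockInd S) :=
    IsLocalOn.blockInd_of_separated hM fun χ hχ φ hφ => by
      by_contra h
      push Not at h
      exact hφ (hsat χ hχ φ (sameBlock_of_congr_centralizer hM hQ' h))
  have hcQ : c ∈ Subgroup.centralizer (Q : Set G) := by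
    by_contra hcQ
    refine hcl.2.1 ?_
    have h := hS ⟨c, hCK hc⟩
    rwa [(hloc ⟨c, hCK hc⟩).2 fun h' => hcQ ((mem_centralizer_subgroupOf hQN _).1 h'), sub_zero,
      show brTrunc D K (fun g => blockCoeff B g) ⟨c, hCK hc⟩ = blockCoeff B c from if_pos hc] at h
  obtain ⟨E, hE, hle⟩ := exists_isDefectGroup_ge hM hB hQ hcQ hcl.2.1
  refine (Subgroup.eq_of_le_of_card_ge hDQ ?_).symm
  rw [card_defectGroup hM hB hD, ← card_defectGroup hM hB hE]
  exact Subgroup.card_le_of_le hle

/-- A character is alone in its block iff it has defect zero. -/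
theorem blockOf_eq_singleton_iff (hM : IsPModular p M) (χ : IrrCharacter G) :
    blockOf M (χ : G → ℂ) = {χ} ↔ degVal p χ = (Nat.card G).factorization p := by
  constructor
  · intro h
    set B := blockOf M (χ : G → ℂ)
    have hB : IsPBlock M B := isPBlock_blockOf χ
    have hχ : χ ∈ B := SameBlock_refl hM _
    have h0 : degVal p χ = minDegVal p B := by
      obtain ⟨ψ, hψ, he⟩ := exists_degVal_eq_min (p := p) (B := B) ⟨χ, hχ⟩
      have : ψ = χ := by rw [h] at hψ; exact hψ
      rw [← he, this]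
    have hsq := sum_regInt_sq hM hB hχ
    rw [show B.toFinset = {χ} by ext; simp [h], Finset.sum_singleton, sq] at hsq
    have hN0 := regInt_ne_zero_of_min hM hB hχ h0 hχ
    have hN : regInt p χ χ = (pPartCard p G : ℤ) := mul_right_cancel₀ hN0 hsq
    have hex := (regInt_exact_of_min hM hB hχ h0 hχ).2
    rw [hN, pPartCard] at hex
    have := degVal_le (p := p) χ
    by_contra hne
    exact hex (by push_cast; exact pow_dvd_pow _ (by omega))
  · intro h
    have hloc : IsLocalOn M (⊤ : Subgroup G) (blockInd ({χ} : Set (IrrCharacter G))) := by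
      intro g
      refine ⟨?_, fun hg => absurd (Subgroup.mem_top g) hg⟩
      rw [fourierInv, Finset.sum_eq_single χ (fun ψ _ hne => by
        rw [blockInd_of_notMem (by simpa using hne), zero_mul]) (fun h => absurd (Finset.mem_univ _) h),
        blockInd_of_mem (Set.mem_singleton χ), one_mul, irr_one_eq, ← mul_assoc, mul_comm (Nat.card G : ℂ)⁻¹,
        ← div_eq_mul_inv]
      refine LR.mul hM (natCast_div_LR hM Nat.card_pos.ne' ?_) (LR.of_isIntegral hM (irr_isIntegral χ _))
      rw [← h]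
      exact Nat.ordProj_dvd _ _
    exact Set.eq_singleton_iff_unique_mem.2 ⟨SameBlock_refl hM _, fun ψ hψ =>
      hloc.mem_of_sameBlock hM rfl (mem_blockOf.1 hψ)⟩

/-- Blocks of defect at least `d`. -/
theorem card_blocks_defect_ge_le (hM : IsPModular p M) (d : ℕ) :
    Nat.card {B : Set (IrrCharacter G) // IsPBlock M B ∧ d ≤ blockDefect p B}
      ≤ Nat.card {C : ConjClasses G // ∃ g : G, ConjClasses.mk g = C ∧ IsPRegular p g ∧
          d ≤ centExp p g} := by
  have hconj : ∀ {g g' : G}, ConjClasses.mk g = ConjClasses.mk g' → centExp p g = centExp p g' := by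
    intro g g' h
    unfold centExp
    rw [CfsgLib.Char.card_centralizer_eq_of_isConj (ConjClasses.mk_eq_mk_iff_isConj.1 h)]
  set n := (Nat.card G).factorization p
  set bd := fun B : {B : Set (IrrCharacter G) // IsPBlock M B ∧ d ≤ blockDefect p B} =>
    blockDefect p B.1
  set cd := fun C : {C : ConjClasses G // ∃ g : G, ConjClasses.mk g = C ∧ IsPRegular p g ∧
    d ≤ centExp p g} => centExp p C.1.out
  rw [Nat.card_eq_fintype_card, Nat.card_eq_fintype_card, ← Finset.card_univ, ← Finset.card_univ,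
    Finset.card_eq_sum_card_fiberwise (f := bd) (t := Finset.Icc d n) (fun B _ => by
      simp only [bd, Finset.coe_Icc, Set.mem_Icc]; exact ⟨B.2.2, Nat.sub_le _ _⟩),
    Finset.card_eq_sum_card_fiberwise (f := cd) (t := Finset.Icc d n) (fun C _ => by
      obtain ⟨g, hg, -, hge⟩ := C.2
      simp only [cd, Finset.coe_Icc, Set.mem_Icc]
      exact ⟨hge.trans_eq (hconj (hg.trans (Quotient.out_eq _).symm)), centExp_le _⟩)]
  refine Finset.sum_le_sum fun σ hσ => ?_
  rw [← Fintype.card_subtype, ← Fintype.card_subtype, ← Nat.card_eq_fintype_card,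
    ← Nat.card_eq_fintype_card]
  have hle := (Finset.mem_Icc.1 hσ).1
  refine le_trans (le_of_eq (Nat.card_congr ?_)) (le_trans (card_blocks_defect_le (G := G) hM σ)
    (le_of_eq (Nat.card_congr ?_)))
  · exact ⟨fun B => ⟨B.1.1, B.1.2.1, B.2⟩, fun B => ⟨⟨B.1, B.2.1, B.2.2.ge.trans' hle⟩, B.2.2⟩,
      fun B => rfl, fun B => rfl⟩
  · exact ⟨fun C => ⟨⟨C.1, by
        obtain ⟨g, hg, hr, he⟩ := C.2
        exact ⟨g, hg, hr, he ▸ hle⟩⟩, by
        obtain ⟨g, hg, hr, he⟩ := C.2
        exact (hconj ((Quotient.out_eq _).trans hg.symm)).trans he⟩,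
      fun C => ⟨C.1.1, by
        obtain ⟨g, hg, hr, -⟩ := C.1.2
        exact ⟨g, hg, hr, (hconj (hg.trans (Quotient.out_eq _).symm)).trans C.2⟩⟩,
      fun C => rfl, fun C => rfl⟩

end CfsgLib.Blocks
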