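import Cfsg.Agent.Lib.Blocks.CoverPrincipal
import Cfsg.Agent.Lib.Blocks.InducedBlock
import Cfsg.Agent.Lib.Blocks.Complement
import Cfsg.Agent.Lib.Blocks.Local
import Cfsg.Agent.Lib.Char.Constituent

/-!
# The Fong–Reynolds correspondence for covering blocks
-/

set_option autoImplicit false

namespace CfsgLib.Blocks.FongReynolds

open Cfsg CfsgLib.CharDeep.Clifford CfsgLib.Blocks
open scoped Classical ComplexConjugate

variable {G : Type*} [Group G] [Fintype G] {p : ℕ} {M : Ideal AlgInt}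
  {N : Subgroup G} [N.Normal] [Fintype N]

/-- Conjugation on the irreducible characters of a normal subgroup. -/
noncomputable def conjIrr (g : G) (θ : IrrCharacter N) : IrrCharacter N :=
  ⟨conjFun N g θ, isIrrCharacter_conjFun N g θ.2⟩

theorem conjIrr_mul (g h : G) (θ : IrrCharacter N) :
    conjIrr g (conjIrr h θ) = conjIrr (h * g) θ :=
  Subtype.ext (funext fun n => by simp [conjIrr, conjFun, MulAut.mul_apply, map_mul])

theorem conjIrr_one (θ : IrrCharacter N) : conjIrr (1 : G) θ = θ :=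
  Subtype.ext (funext fun n => by simp [conjIrr, conjFun])

theorem conjIrr_sameBlock {θ φ : IrrCharacter N} (g : G)
    (h : SameBlock M (θ : N → ℂ) (φ : N → ℂ)) :
    SameBlock M (conjIrr g θ : N → ℂ) (conjIrr g φ : N → ℂ) := fun n => by
  show MemLocalIdeal M (centralChar (conjFun N g θ) n - centralChar (conjFun N g φ) n)
  rw [centralChar_conjFun, centralChar_conjFun]
  exact h _

/-- The characters which `g` sends into `b`. -/
def preim (b : Set (IrrCharacter N)) (g : G) : Set (IrrCharacter N) := {φ | conjIrr g φ ∈ b}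

theorem isPBlock_preim (hM : IsPModular p M) {b : Set (IrrCharacter N)} (hb : IsPBlock M b)
    (g : G) : IsPBlock M (preim b g) := by
  obtain ⟨θ, hθ⟩ := IsPBlock.nonempty hM hb
  refine ⟨conjIrr g⁻¹ θ, Set.ext fun φ => ?_⟩
  rw [mem_blockOf]
  show conjIrr g φ ∈ b ↔ _
  rw [IsPBlock.mem_iff hM hb hθ]
  constructor
  · intro h
    have := conjIrr_sameBlock g⁻¹ h
    rwa [conjIrr_mul, mul_inv_cancel, conjIrr_one] at this
  · intro h
    have := conjIrr_sameBlock g h
    rwa [conjIrr_mul, inv_mul_cancel, conjIrr_one] at this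

theorem blockCoeff_conjNormal (b : Set (IrrCharacter N)) (g : G) (n : N) :
    blockCoeff b (MulAut.conjNormal g n) = blockCoeff (preim b g⁻¹) n := by
  simp only [blockCoeff_eq_fourierInv, fourierInv]
  congr 1
  let e : IrrCharacter N ≃ IrrCharacter N :=
    { toFun := conjIrr g
      invFun := conjIrr g⁻¹
      left_inv := fun φ => by rw [conjIrr_mul, mul_inv_cancel, conjIrr_one]
      right_inv := fun φ => by rw [conjIrr_mul, inv_mul_cancel, conjIrr_one] }
  refine Fintype.sum_equiv e _ _ fun φ => ?_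
  have hmem : φ ∈ b ↔ e φ ∈ preim b g⁻¹ := by
    show φ ∈ b ↔ conjIrr g⁻¹ (conjIrr g φ) ∈ b
    rw [conjIrr_mul, mul_inv_cancel, conjIrr_one]
  have h1 : blockInd (preim b g⁻¹) (e φ) = blockInd b φ := by
    by_cases h : φ ∈ b
    · rw [blockInd_of_mem h, blockInd_of_mem (hmem.1 h)]
    · rw [blockInd_of_notMem h, blockInd_of_notMem fun h' => h (hmem.2 h')]
  rw [h1]
  simp [e, conjIrr, conjFun]

/-- A block is separated from its translate unless it is stabilized. -/
theorem preim_eq_or_disjoint (hM : IsPModular p M) {b : Set (IrrCharacter N)}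
    (hb : IsPBlock M b) (g : G) : preim b g = b ∨ b ∩ preim b g = ∅ := by
  by_cases h : ∃ φ, φ ∈ b ∧ φ ∈ preim b g
  · obtain ⟨φ, h1, h2⟩ := h
    exact Or.inl (IsPBlock.eq_of_mem hM (isPBlock_preim hM hb g) hb h2 h1)
  · exact Or.inr (Set.eq_empty_iff_forall_notMem.2 fun φ hφ => h ⟨φ, hφ⟩)

variable {T : Subgroup G} [Fintype T] (hNT : N ≤ T)

/-- Restriction from `T` to `N`. -/
def res (ψ : T → ℂ) : N → ℂ := fun n => ψ ⟨(n : G), hNT n.2⟩

theorem isCharacter_res {ψ : T → ℂ} (hψ : IsCharacter T ψ) : IsCharacter N (res hNT ψ) :=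
  CfsgLib.Char.IsCharacter.comp hψ (Subgroup.inclusion hNT)

theorem classInner_res_conj {ψ : T → ℂ} (hψ : IsClassFunction T ψ) {x : G} (hx : x ∈ T)
    (φ : N → ℂ) : classInner (res hNT ψ) (conjFun N x φ) = classInner (res hNT ψ) φ := by
  unfold Cfsg.classInner
  congr 1
  refine Fintype.sum_equiv (MulAut.conjNormal x : MulAut N).toEquiv _ _ fun n => ?_
  simp only [conjFun, Function.comp_apply, MulEquiv.toEquiv_eq_coe, EquivLike.coe_coe, res]
  have h := hψ ⟨(n : G), hNT n.2⟩ ⟨x, hx⟩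
  rw [← h]
  congr 2

/-- Clifford's theorem inside `T`. -/
theorem exists_conj_of_constituent_le {ψ : IrrCharacter T} {θ φ : IrrCharacter N}
    (h : classInner (res hNT (ψ : T → ℂ)) (θ : N → ℂ) ≠ 0)
    (h' : classInner (res hNT (ψ : T → ℂ)) (φ : N → ℂ) ≠ 0) :
    ∃ t ∈ T, φ = conjIrr t θ := by
  let e : N.subgroupOf T ≃* N := Subgroup.subgroupOfEquivOfLe hNT
  have hi : ∀ φ : IrrCharacter N, IsIrrCharacter (N.subgroupOf T) ((φ : N → ℂ) ∘ e) := fun φ =>
    CfsgLib.Char.IsIrrCharacter.comp_surjective φ.2 e.toMonoidHom e.surjective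
  have key : ∀ φ : IrrCharacter N,
      classInner (fun n : N.subgroupOf T => (ψ : T → ℂ) n) ((φ : N → ℂ) ∘ e)
        = classInner (res hNT (ψ : T → ℂ)) (φ : N → ℂ) := fun φ => by
    unfold Cfsg.classInner
    rw [Nat.card_congr e.toEquiv]
    congr 1
    refine Fintype.sum_equiv e.toEquiv _ _ fun n => ?_
    rfl
  obtain ⟨t, ht⟩ := exists_conj_of_constituent (N.subgroupOf T) ψ.2 (hi θ) (hi φ)
    (by rw [key]; exact h) (by rw [key]; exact h')
  refine ⟨t, t.2, Subtype.ext (funext fun n => ?_)⟩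
  have := congrFun ht (e.symm n)
  simp only [Function.comp_apply, MulEquiv.apply_symm_apply] at this
  rw [this]
  simp only [conjIrr, conjFun, Function.comp_apply]
  congr 1

variable {b : Set (IrrCharacter N)}

/-- `ψ` has a constituent in `b`. -/
def Covers (ψ : IrrCharacter T) (b : Set (IrrCharacter N)) : Prop :=
  ∃ θ ∈ b, classInner (res hNT (ψ : T → ℂ)) (θ : N → ℂ) ≠ 0

variable (hM : IsPModular p M) (hb : IsPBlock M b) (hT : ∀ g : G, g ∈ T ↔ ∀ θ ∈ b, conjIrr g θ ∈ b)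
include hM hb hT

omit [Fintype T] in
theorem conjIrr_mem_iff {θ : IrrCharacter N} (hθ : θ ∈ b) (g : G) : conjIrr g θ ∈ b ↔ g ∈ T := by
  refine ⟨fun h => (hT g).2 fun φ hφ => ?_, fun h => (hT g).1 h θ hθ⟩
  rw [IsPBlock.mem_iff hM hb h]
  exact conjIrr_sameBlock g (IsPBlock.sameBlock hM hb hθ hφ)

omit [Fintype T] in
theorem preim_of_mem {x : G} (hx : x ∈ T) : preim b x = b := by
  refine (preim_eq_or_disjoint hM hb x).resolve_right fun h => ?_
  obtain ⟨θ, hθ⟩ := IsPBlock.nonempty hM hb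
  exact (h ▸ ⟨hθ, (conjIrr_mem_iff hM hb hT hθ x).2 hx⟩ : θ ∈ (∅ : Set (IrrCharacter N)))

theorem constituents_mem {ψ : IrrCharacter T} (hψ : Covers hNT ψ b) {φ : IrrCharacter N}
    (h : classInner (res hNT (ψ : T → ℂ)) (φ : N → ℂ) ≠ 0) : φ ∈ b := by
  obtain ⟨θ, hθ, h0⟩ := hψ
  obtain ⟨t, ht, rfl⟩ := exists_conj_of_constituent_le hNT h0 h
  exact (hT t).1 ht θ hθ

theorem classInner_res_conj_of_notMem {ψ : IrrCharacter T} (hψ : Covers hNT ψ b)
    {θ : IrrCharacter N} (hθ : θ ∈ b) {x : G} (hx : x ∉ T) :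
    classInner (res hNT (ψ : T → ℂ)) (conjIrr x θ : N → ℂ) = 0 := by
  by_contra h
  exact hx ((conjIrr_mem_iff hM hb hT hθ x).1 (constituents_mem hNT hM hb hT hψ h))

theorem classInner_indFun_res {ψ : IrrCharacter T} (hψ : Covers hNT ψ b) {θ : IrrCharacter N}
    (hθ : θ ∈ b) :
    classInner (fun n : N => indFun T (ψ : T → ℂ) n) (θ : N → ℂ)
      = classInner (res hNT (ψ : T → ℂ)) (θ : N → ℂ) := by
  have e : (fun n : N => indFun T (ψ : T → ℂ) n) =
      (Nat.card T : ℂ)⁻¹ • ∑ x : G, (res hNT (ψ : T → ℂ)) ∘ (MulAut.conjNormal x⁻¹ : MulAut N) := by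
    funext n
    rw [CfsgLib.Char.indFun_def, Pi.smul_apply, Finset.sum_apply, smul_eq_mul]
    congr 1
    refine Finset.sum_congr rfl fun x _ => ?_
    rw [CfsgLib.Char.extendByZero_apply_mem T _
      (hNT (by simpa using Subgroup.Normal.conj_mem inferInstance (n : G) n.2 x⁻¹))]
    simp only [Function.comp_apply, res]
    refine congrArg (ψ : T → ℂ) (Subtype.ext ?_)
    show x⁻¹ * (n : G) * x = ((MulAut.conjNormal x⁻¹ n : N) : G)
    rw [MulAut.conjNormal_apply, inv_inv]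
  have h2 : ∀ x : G, classInner ((res hNT (ψ : T → ℂ)) ∘ (MulAut.conjNormal x⁻¹ : MulAut N)) (θ : N → ℂ)
      = classInner (res hNT (ψ : T → ℂ)) (conjFun N x θ) := fun x => by
    unfold Cfsg.classInner
    congr 1
    refine Fintype.sum_equiv (MulAut.conjNormal x⁻¹ : MulAut N).toEquiv _ _ fun n => ?_
    simp only [conjFun, Function.comp_apply, MulEquiv.toEquiv_eq_coe, EquivLike.coe_coe]
    rw [← MulAut.mul_apply, ← map_mul, mul_inv_cancel, map_one, MulAut.one_apply]
  rw [e, CfsgLib.Char.classInner_smul_left, CfsgLib.Char.classInner_sum_left,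
    ← Finset.sum_filter_add_sum_filter_not Finset.univ (fun x : G => x ∈ T)]
  rw [Finset.sum_eq_zero (s := Finset.univ.filter fun x : G => ¬ x ∈ T) fun x hx => by
      rw [h2]; exact classInner_res_conj_of_notMem hNT hM hb hT hψ hθ (Finset.mem_filter.1 hx).2,
    add_zero, Finset.sum_congr rfl fun x hx => (h2 x).trans
      (classInner_res_conj hNT (CfsgLib.Char.IsIrrCharacter.isClassFunction ψ.2)
        (Finset.mem_filter.1 hx).2 (θ : N → ℂ)),
    Finset.sum_const, nsmul_eq_mul, ← mul_assoc, ← Fintype.card_subtype,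
    ← Nat.card_eq_fintype_card]
  rw [inv_mul_cancel₀ (Nat.cast_ne_zero.2 Nat.card_pos.ne'), one_mul]

theorem isIrrCharacter_indFun {ψ : IrrCharacter T} (hψ : Covers hNT ψ b) :
    IsIrrCharacter G (indFun T (ψ : T → ℂ)) := by
  have hψc := CfsgLib.Char.isCharacter_irr ψ
  have hI := CfsgLib.Char.IsCharacter.indFun T hψc
  refine CfsgLib.Char.IsCharacter.isIrrCharacter_of_norm_one hI ?_
  rw [CfsgLib.Char.classInner_indFun T _ (CfsgLib.Char.IsCharacter.isClassFunction hI)]
  have hR := CfsgLib.Char.IsCharacter.restrict hI T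
  rw [CfsgLib.Char.IsCharacter.classInner_comm hψc hR]
  obtain ⟨m, hm, hexp⟩ := CfsgLib.Char.IsCharacter.exists_multiplicity hR
  rw [hm ψ]
  obtain ⟨θ, hθ, h0⟩ := hψ
  choose e he using fun η : IrrCharacter T => CfsgLib.Char.IsCharacter.classInner_nat
    (isCharacter_res hNT (CfsgLib.Char.isCharacter_irr η)) (CfsgLib.Char.isCharacter_irr θ)
  have e0 : (fun n : N => indFun T (ψ : T → ℂ) n)
      = ∑ η : IrrCharacter T, (m η : ℂ) • res hNT (η : T → ℂ) := by
    funext n
    rw [Finset.sum_apply]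
    exact hexp ⟨(n : G), hNT n.2⟩
  have h1 := classInner_indFun_res hNT hM hb hT ⟨θ, hθ, h0⟩ hθ
  rw [e0, CfsgLib.Char.classInner_sum_left] at h1
  simp only [CfsgLib.Char.classInner_smul_left, he] at h1
  have h2 : ∑ η : IrrCharacter T, m η * e η = e ψ := by exact_mod_cast h1
  have h3 : m ψ * e ψ ≤ e ψ :=
    (Finset.single_le_sum (fun η _ => Nat.zero_le (m η * e η)) (Finset.mem_univ ψ)).trans_eq h2
  have he0 : 0 < e ψ := Nat.pos_of_ne_zero fun h => h0 (by rw [he, h, Nat.cast_zero])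
  have hle : m ψ ≤ 1 := Nat.le_of_mul_le_mul_right (by rwa [one_mul]) he0
  have hne : m ψ ≠ 0 := by
    intro h
    have h4 : classInner (indFun T (ψ : T → ℂ)) (indFun T (ψ : T → ℂ)) = 0 := by
      rw [CfsgLib.Char.classInner_indFun T _ (CfsgLib.Char.IsCharacter.isClassFunction hI),
        CfsgLib.Char.IsCharacter.classInner_comm hψc hR, hm ψ, h, Nat.cast_zero]
    have h5 := congrFun (CfsgLib.Char.classInner_self_eq_zero.1 h4) 1
    rw [CfsgLib.Char.indFun_one, Pi.zero_apply, mul_eq_zero] at h5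
    exact h5.elim (Nat.cast_ne_zero.2 Subgroup.index_ne_zero_of_finite) (irr_one_ne_zero ψ)
  rw [show m ψ = 1 by omega, Nat.cast_one]

/-- The induced irreducible character. -/
noncomputable def ind {ψ : IrrCharacter T} (hψ : Covers hNT ψ b) : IrrCharacter G :=
  ⟨indFun T (ψ : T → ℂ), isIrrCharacter_indFun hNT hM hb hT hψ⟩

theorem exists_covers_of_over {χ : IrrCharacter G} {θ : IrrCharacter N} (hθ : θ ∈ b)
    (h : classInner (fun n : N => (χ : G → ℂ) n) (θ : N → ℂ) ≠ 0) :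
    ∃ ψ : IrrCharacter T, Covers hNT ψ b ∧ (χ : G → ℂ) = indFun T (ψ : T → ℂ) := by
  have hR := CfsgLib.Char.IsCharacter.restrict (CfsgLib.Char.isCharacter_irr χ) T
  obtain ⟨m, hm, hexp⟩ := CfsgLib.Char.IsCharacter.exists_multiplicity hR
  have e0 : (fun n : N => (χ : G → ℂ) n)
      = ∑ η : IrrCharacter T, (m η : ℂ) • res hNT (η : T → ℂ) := by
    funext n
    rw [Finset.sum_apply]
    exact hexp ⟨(n : G), hNT n.2⟩
  rw [e0, CfsgLib.Char.classInner_sum_left] at h
  obtain ⟨ψ, -, hψ⟩ := Finset.exists_ne_zero_of_sum_ne_zero h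
  rw [CfsgLib.Char.classInner_smul_left] at hψ
  have hc : Covers hNT ψ b := ⟨θ, hθ, right_ne_zero_of_mul hψ⟩
  refine ⟨ψ, hc, ?_⟩
  by_contra hne
  refine left_ne_zero_of_mul hψ ?_
  rw [← hm ψ, ← CfsgLib.Char.classInner_indFun_right T _ (CfsgLib.Char.IsIrrCharacter.isClassFunction χ.2)]
  exact CfsgLib.Char.classInner_irr_ne χ.2 (isIrrCharacter_indFun hNT hM hb hT hc) hne

omit [Fintype N] [Fintype T] hM hb hT in
theorem omega_indFun {T : Subgroup G} [Fintype T] (ψ : IrrCharacter T) {F : G → ℂ}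
    (hF : IsClassFunction G F) :
    omega (indFun T (ψ : T → ℂ)) F = omega (ψ : T → ℂ) fun t : T => F t := by
  have hF' : IsClassFunction G fun g => conj (F g) := fun a c => congrArg conj (hF a c)
  have h := CfsgLib.Char.classInner_indFun T (ψ : T → ℂ) hF'
  simp only [Cfsg.classInner, Complex.conj_conj] at h
  rw [omega, omega, CfsgLib.Char.indFun_one,
    show (∑ g, F g * indFun T (ψ : T → ℂ) g) = (T.index : ℂ) * ∑ t : T, F t * (ψ : T → ℂ) t from ?_,
    mul_div_mul_left _ _ (Nat.cast_ne_zero.2 Subgroup.index_ne_zero_of_finite)]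
  simp only [mul_comm (F _)]
  rw [inv_mul_eq_iff_eq_mul₀ (Nat.cast_ne_zero.2 Nat.card_pos.ne')] at h
  rw [h, ← mul_assoc, ← Subgroup.index_mul_card T, Nat.cast_mul,
    mul_inv_cancel_right₀ (Nat.cast_ne_zero.2 Nat.card_pos.ne')]

omit [Fintype N] [Fintype T] hM hb hT in
theorem centralChar_indFun {T : Subgroup G} [Fintype T] (ψ : IrrCharacter T)
    (h : IsIrrCharacter G (indFun T (ψ : T → ℂ))) (g : G) :
    centralChar (indFun T (ψ : T → ℂ)) g = inducedCentralChar T (ψ : T → ℂ) g := by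
  rw [inducedCentralChar_eq]
  convert (omega_classInd ⟨_, h⟩ g).symm.trans (omega_indFun ψ (classInd_isClassFunction g))

omit [Fintype T] hT in
/-- The block idempotent of `b`, extended by zero to `T`, is local integral. -/
theorem idem_LR (t : T) :
    MemLocalRing M (if h : (t : G) ∈ N then blockCoeff b ⟨(t : G), h⟩ else 0) := by
  split
  · exact blockCoeff_LR hM hb _
  · exact LR.zero hM

omit [Fintype T] in
theorem idem_isClassFunction :
    IsClassFunction T fun t : T => if h : (t : G) ∈ N then blockCoeff b ⟨(t : G), h⟩ else 0 := by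
  intro x y
  simp only []
  by_cases hx : (x : G) ∈ N
  · rw [dif_pos hx, dif_pos (show ((y * x * y⁻¹ : T) : G) ∈ N from
      Subgroup.Normal.conj_mem inferInstance _ hx _)]
    have e := blockCoeff_conjNormal b (y : G) ⟨(x : G), hx⟩
    rw [preim_of_mem hM hb hT (inv_mem y.2)] at e
    rw [← e]
    exact congrArg (blockCoeff b) (Subtype.ext (by simp))
  · rw [dif_neg hx, dif_neg fun h' => hx (by
      simpa [mul_assoc] using Subgroup.Normal.conj_mem (inferInstance : N.Normal) _ h' (y : G)⁻¹)]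

omit hM hb hT in
theorem omega_idem (ψ : IrrCharacter T) (b : Set (IrrCharacter N)) :
    omega (ψ : T → ℂ) (fun t : T => if h : (t : G) ∈ N then blockCoeff b ⟨(t : G), h⟩ else 0)
      = (∑ φ : IrrCharacter N, classInner (res hNT (ψ : T → ℂ)) (φ : N → ℂ) *
          ((φ : N → ℂ) 1 * blockInd b φ)) / (ψ : T → ℂ) 1 := by
  rw [omega]
  congr 1
  have hexp : ∀ n : N, res hNT (ψ : T → ℂ) n = ∑ φ : IrrCharacter N,
      classInner (res hNT (ψ : T → ℂ)) (φ : N → ℂ) * (φ : N → ℂ) n := fun n => by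
    have := congrFun (CfsgLib.Char.IsClassFunction.eq_sum_irr
      (CfsgLib.Char.IsCharacter.isClassFunction
        (isCharacter_res hNT (CfsgLib.Char.isCharacter_irr ψ)))) n
    simpa using this
  have h1 : ∑ t : T, (if h : (t : G) ∈ N then blockCoeff b ⟨(t : G), h⟩ else 0) * (ψ : T → ℂ) t
      = ∑ n : N, blockCoeff b n * res hNT (ψ : T → ℂ) n := by
    symm
    refine Finset.sum_bij_ne_zero (fun n _ _ => (⟨(n : G), hNT n.2⟩ : T))
      (fun _ _ _ => Finset.mem_univ _)
      (fun _ _ _ _ _ _ h => Subtype.ext (congrArg Subtype.val h :)) ?_ ?_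
    · intro t _ ht
      by_cases hN : (t : G) ∈ N
      · refine ⟨⟨t, hN⟩, Finset.mem_univ _, ?_, Subtype.ext rfl⟩
        rw [dif_pos hN] at ht
        exact ht
      · rw [dif_neg hN, zero_mul] at ht; exact absurd rfl ht
    · intro n _ _
      rw [dif_pos n.2]
      rfl
  rw [h1]
  simp only [hexp, Finset.mul_sum]
  rw [Finset.sum_comm]
  refine Finset.sum_congr rfl fun φ _ => ?_
  have h2 : ∑ n : N, blockCoeff b n * (φ : N → ℂ) n = (φ : N → ℂ) 1 * blockInd b φ := by
    rw [← omega_blockCoeff b φ, omega, mul_div_cancel₀ _ (irr_one_ne_zero φ)]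
  rw [← h2, Finset.mul_sum]
  exact Finset.sum_congr rfl fun n _ => by ring

theorem omega_idem_eq_one {ψ : IrrCharacter T} (hψ : Covers hNT ψ b) :
    omega (ψ : T → ℂ) (fun t : T => if h : (t : G) ∈ N then blockCoeff b ⟨(t : G), h⟩ else 0)
      = 1 := by
  rw [omega_idem hNT, div_eq_one_iff_eq (irr_one_ne_zero ψ)]
  have hexp := congrFun (CfsgLib.Char.IsClassFunction.eq_sum_irr
    (CfsgLib.Char.IsCharacter.isClassFunction
      (isCharacter_res hNT (CfsgLib.Char.isCharacter_irr ψ)))) 1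
  simp only [Finset.sum_apply, Pi.smul_apply, smul_eq_mul] at hexp
  rw [show (ψ : T → ℂ) 1 = res hNT (ψ : T → ℂ) 1 from rfl, hexp]
  refine Finset.sum_congr rfl fun φ _ => ?_
  by_cases hc : classInner (res hNT (ψ : T → ℂ)) (φ : N → ℂ) = 0
  · rw [hc, zero_mul, zero_mul]
  · rw [blockInd_of_mem (constituents_mem hNT hM hb hT hψ hc), mul_one]

theorem covers_of_sameBlock {ψ ψ' : IrrCharacter T} (hψ : Covers hNT ψ b)
    (h : SameBlock M (ψ : T → ℂ) (ψ' : T → ℂ)) : Covers hNT ψ' b := by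
  by_contra hne
  have h1 := Blocks.omega_congr hM h (idem_isClassFunction hM hb hT) (idem_LR hM hb)
  rw [omega_idem_eq_one hNT hM hb hT hψ, omega_idem hNT, Finset.sum_eq_zero fun φ _ => ?_,
    zero_div, sub_zero] at h1
  · exact LI.not_one hM h1
  · by_cases hφ : φ ∈ b
    · rw [show classInner (res hNT (ψ' : T → ℂ)) (φ : N → ℂ) = 0 from
        by_contra fun hc => hne ⟨φ, hφ, hc⟩, zero_mul]
    · rw [blockInd_of_notMem hφ, mul_zero, mul_zero]

omit [N.Normal] [Fintype N] [Fintype T] hb hT in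
theorem indFun_LR {θ : T → ℂ} (hθ : IsClassFunction T θ) (hR : ∀ t, MemLocalRing M (θ t)) (g : G) :
    MemLocalRing M (indFun T θ g) := by
  set f : G → ℂ := fun x => extendByZero T θ (x⁻¹ * g * x) with hf
  have hinv : ∀ x t, t ∈ T → f (x * t) = f x := by
    intro x t ht
    have e : (x * t)⁻¹ * g * (x * t) = t⁻¹ * (x⁻¹ * g * x) * t := by group
    simp only [hf, e]
    by_cases hm : x⁻¹ * g * x ∈ T
    · rw [CfsgLib.Char.extendByZero_apply_mem T θ hm,
        CfsgLib.Char.extendByZero_apply_mem T θ (mul_mem (mul_mem (inv_mem ht) hm) ht),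
        ← hθ ⟨_, hm⟩ (⟨t, ht⟩⁻¹ : T)]
      congr 1
      exact Subtype.ext (by simp)
    · rw [CfsgLib.Char.extendByZero_apply_notMem T θ hm,
        CfsgLib.Char.extendByZero_apply_notMem T θ fun h' => hm (by
          have := mul_mem (mul_mem ht h') (inv_mem ht)
          simpa [mul_assoc] using this)]
  rw [CfsgLib.Char.indFun_def, ← Finset.sum_fiberwise Finset.univ (QuotientGroup.mk : G → G ⧸ T) f]
  rw [Finset.mul_sum]
  refine LR.sum hM fun q _ => ?_
  have hfib : ∀ x ∈ Finset.univ.filter (fun x : G => (x : G ⧸ T) = q), f x = f q.out := by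
    intro x hx
    have hx' := (Finset.mem_filter.1 hx).2
    have hm : q.out⁻¹ * x ∈ T := QuotientGroup.eq.1 ((QuotientGroup.out_eq' q).trans hx'.symm)
    rw [← hinv q.out _ hm, mul_inv_cancel_left]
  rw [Finset.sum_congr rfl hfib, Finset.sum_const, nsmul_eq_mul, ← mul_assoc]
  have hc : (Finset.univ.filter fun x : G => (x : G ⧸ T) = q).card = Nat.card T := by
    rw [← Fintype.card_subtype, ← Nat.card_eq_fintype_card]
    refine Nat.card_congr
      { toFun := fun x => ⟨q.out⁻¹ * x, QuotientGroup.eq.1 ((QuotientGroup.out_eq' q).trans x.2.symm)⟩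
        invFun := fun t => ⟨q.out * t, by
          rw [QuotientGroup.mk_mul_of_mem _ t.2, QuotientGroup.out_eq']⟩
        left_inv := fun x => Subtype.ext (by simp)
        right_inv := fun t => Subtype.ext (by simp) }
  rw [hc, inv_mul_cancel₀ (Nat.cast_ne_zero.2 Nat.card_pos.ne'), one_mul]
  simp only [hf]
  by_cases hm : q.out⁻¹ * g * q.out ∈ T
  · rw [CfsgLib.Char.extendByZero_apply_mem T θ hm]; exact hR _
  · rw [CfsgLib.Char.extendByZero_apply_notMem T θ hm]; exact LR.zero hM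

theorem sameBlock_of_ind {ψ₁ ψ₂ : IrrCharacter T} (h₁ : Covers hNT ψ₁ b) (h₂ : Covers hNT ψ₂ b)
    (h : SameBlock M (indFun T (ψ₁ : T → ℂ)) (indFun T (ψ₂ : T → ℂ))) :
    SameBlock M (ψ₁ : T → ℂ) (ψ₂ : T → ℂ) := by
  intro g
  set α : T → ℂ := fun t => if h : (t : G) ∈ N then blockCoeff b ⟨(t : G), h⟩ else 0 with hα
  set c : T → ℂ := classInd g with hcdef
  set γ : T → ℂ := fun y => ∑ x, α x * c (x⁻¹ * y) with hγ
  have hαc : IsClassFunction T α := idem_isClassFunction hM hb hT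
  have hcc : IsClassFunction T c := classInd_isClassFunction g
  have hγc : IsClassFunction T γ := conv_isClassFunction hαc hcc
  have hγR : ∀ y, MemLocalRing M (γ y) := fun y => LR.sum hM fun x _ =>
    LR.mul hM (idem_LR hM hb x) (by
      rw [hcdef]; unfold classInd; split
      · exact LR.one hM
      · exact LR.zero hM)
  set F : G → ℂ := indFun T γ with hF
  have hFc : IsClassFunction G F := CfsgLib.Char.indFun_isClassFunction T γ
  have hFR : ∀ x, MemLocalRing M (F x) := indFun_LR hM hγc hγR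
  -- the key identity `α ∗ F|T = γ`
  have key : ∀ y : T, ∑ x : T, α x * F ((x⁻¹ * y : T) : G) = γ y := by
    intro y
    set C : G → ℂ := extendByZero T c with hC
    have hγext : ∀ z : G, extendByZero T γ z = ∑ m : N, blockCoeff b m * C ((m : G)⁻¹ * z) := by
      intro z
      by_cases hz : z ∈ T
      · rw [CfsgLib.Char.extendByZero_apply_mem T γ hz, hγ]
        simp only []
        symm
        refine Finset.sum_bij_ne_zero (fun m _ _ => (⟨(m : G), hNT m.2⟩ : T))
          (fun _ _ _ => Finset.mem_univ _)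
          (fun _ _ _ _ _ _ h => Subtype.ext (congrArg Subtype.val h :)) ?_ ?_
        · intro t _ ht
          by_cases hN : (t : G) ∈ N
          · refine ⟨⟨t, hN⟩, Finset.mem_univ _, ?_, Subtype.ext rfl⟩
            simp only [hα, dif_pos hN] at ht
            rw [hC, CfsgLib.Char.extendByZero_apply_mem T c (mul_mem (inv_mem t.2) hz)]
            exact ht
          · simp only [hα, dif_neg hN, zero_mul] at ht; exact absurd rfl ht
        · intro m _ _
          simp only [hα, dif_pos m.2]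
          rw [hC, CfsgLib.Char.extendByZero_apply_mem T c (mul_mem (inv_mem (hNT m.2)) hz)]
          rfl
      · rw [CfsgLib.Char.extendByZero_apply_notMem T γ hz]
        symm
        refine Finset.sum_eq_zero fun m _ => ?_
        rw [hC, CfsgLib.Char.extendByZero_apply_notMem T c fun h' => hz (by
          simpa using mul_mem (hNT m.2) h'), mul_zero]
    have hinner : ∀ x : G, ∑ n : N, blockCoeff b n *
        extendByZero T γ (x⁻¹ * ((n : G)⁻¹ * y) * x) =
        ∑ k : N, (if x ∈ T then blockCoeff b k else 0) * C (x⁻¹ * ((k : G)⁻¹ * y) * x) := by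
      intro x
      simp only [hγext, Finset.mul_sum]
      have e1 : ∀ n : N, ∑ m : N, blockCoeff b n * (blockCoeff b m *
            C ((m : G)⁻¹ * (x⁻¹ * ((n : G)⁻¹ * y) * x)))
          = ∑ k : N, blockCoeff b n * blockCoeff (preim b x) (n⁻¹ * k) *
              C (x⁻¹ * ((k : G)⁻¹ * y) * x) := by
        intro n
        refine Fintype.sum_equiv ((MulAut.conjNormal x : MulAut N).toEquiv.trans
          (Equiv.mulLeft n)) _ _ fun m => ?_
        simp only [Equiv.trans_apply, Equiv.coe_mulLeft, MulEquiv.toEquiv_eq_coe,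
          EquivLike.coe_coe, inv_mul_cancel_left]
        rw [show blockCoeff (preim b x) (MulAut.conjNormal x m) = blockCoeff b m from ?_, ← mul_assoc (blockCoeff b n)]
        · congr 1
          refine congrArg C ?_
          rw [Subgroup.coe_mul, MulAut.conjNormal_apply]
          group
        · have := blockCoeff_conjNormal b x⁻¹ (MulAut.conjNormal x m)
          rw [inv_inv, ← MulAut.mul_apply, ← map_mul, inv_mul_cancel, map_one,
            MulAut.one_apply] at this
          exact this.symm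
      rw [Finset.sum_congr rfl fun n _ => e1 n, Finset.sum_comm]
      refine Finset.sum_congr rfl fun k _ => ?_
      rw [← Finset.sum_mul, blockCoeff_conv]
      congr 1
      by_cases hx : x ∈ T
      · rw [if_pos hx, preim_of_mem hM hb hT hx, Set.inter_self]
      · rw [if_neg hx]
        rcases preim_eq_or_disjoint hM hb x with h' | h'
        · exfalso
          obtain ⟨θ, hθ⟩ := IsPBlock.nonempty hM hb
          exact hx ((conjIrr_mem_iff hM hb hT hθ x).1 (h'.symm ▸ hθ : θ ∈ preim b x))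
        · rw [h', blockCoeff_eq_fourierInv, fourierInv]
          simp [blockInd]
    have e2 : ∑ x : T, α x * F ((x⁻¹ * y : T) : G) =
        ∑ n : N, blockCoeff b n * F ((n : G)⁻¹ * y) := by
      symm
      refine Finset.sum_bij_ne_zero (fun n _ _ => (⟨(n : G), hNT n.2⟩ : T))
        (fun _ _ _ => Finset.mem_univ _)
        (fun _ _ _ _ _ _ h => Subtype.ext (congrArg Subtype.val h :)) ?_ ?_
      · intro t _ ht
        by_cases hN : (t : G) ∈ N
        · refine ⟨⟨t, hN⟩, Finset.mem_univ _, ?_, Subtype.ext rfl⟩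
          simp only [hα, dif_pos hN] at ht
          exact ht
        · simp only [hα, dif_neg hN, zero_mul] at ht; exact absurd rfl ht
      · intro n _ _
        simp only [hα, dif_pos n.2]
        rfl
    rw [e2]
    simp only [hF, CfsgLib.Char.indFun_def, Finset.mul_sum]
    rw [Finset.sum_comm]
    have e3 : ∀ x : G, ∑ n : N, blockCoeff b n * ((Nat.card T : ℂ)⁻¹ *
          extendByZero T γ (x⁻¹ * ((n : G)⁻¹ * y) * x))
        = (Nat.card T : ℂ)⁻¹ * if x ∈ T then γ y else 0 := by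
      intro x
      simp only [mul_left_comm _ ((Nat.card T : ℂ)⁻¹), ← Finset.mul_sum]
      rw [hinner x]
      congr 1
      by_cases hx : x ∈ T
      · simp only [if_pos hx]
        have hz : ∀ z : G, C (x⁻¹ * z * x) = C z := fun z => by
          rw [hC]
          by_cases hm : z ∈ T
          · rw [CfsgLib.Char.extendByZero_apply_mem T c hm,
              CfsgLib.Char.extendByZero_apply_mem T c (mul_mem (mul_mem (inv_mem hx) hm) hx),
              ← hcc ⟨z, hm⟩ (⟨x, hx⟩⁻¹ : T)]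
            congr 1
            exact Subtype.ext (by simp)
          · rw [CfsgLib.Char.extendByZero_apply_notMem T c hm,
              CfsgLib.Char.extendByZero_apply_notMem T c fun h' => hm (by
                simpa [mul_assoc] using mul_mem (mul_mem hx h') (inv_mem hx))]
        simp only [hz]
        rw [← CfsgLib.Char.extendByZero_coe T γ y, hγext]
      · simp [if_neg hx]
    rw [Finset.sum_congr rfl fun x _ => e3 x, ← Finset.mul_sum, ← Finset.sum_filter,
      Finset.sum_const, nsmul_eq_mul, ← Fintype.card_subtype, ← Nat.card_eq_fintype_card,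
      inv_mul_cancel_left₀ (Nat.cast_ne_zero.2 Nat.card_pos.ne')]
  have hval : ∀ ψ : IrrCharacter T, Covers hNT ψ b →
      omega (indFun T (ψ : T → ℂ)) F = centralChar (ψ : T → ℂ) g := by
    intro ψ hψ
    have hFT : IsClassFunction T fun t : T => F t := resFun_isClassFunction T hFc
    have h1 := omega_conv ψ hαc hFT
    rw [omega_idem_eq_one hNT hM hb hT hψ, one_mul] at h1
    rw [omega_indFun ψ hFc, ← h1, funext key, hγ, omega_conv ψ hαc hcc,
      omega_idem_eq_one hNT hM hb hT hψ, one_mul, hcdef, omega_classInd]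
  have h3 := Blocks.omega_congr hM (χ := ind hNT hM hb hT h₁) (ψ := ind hNT hM hb hT h₂) h hFc hFR
  rw [show ((ind hNT hM hb hT h₁ : IrrCharacter G) : G → ℂ) = indFun T (ψ₁ : T → ℂ) from rfl,
    show ((ind hNT hM hb hT h₂ : IrrCharacter G) : G → ℂ) = indFun T (ψ₂ : T → ℂ) from rfl,
    hval ψ₁ h₁, hval ψ₂ h₂] at h3
  exact h3

theorem sameBlock_ind {ψ₁ ψ₂ : IrrCharacter T} (h₁ : Covers hNT ψ₁ b) (h₂ : Covers hNT ψ₂ b)
    (h : SameBlock M (ψ₁ : T → ℂ) (ψ₂ : T → ℂ)) :
    SameBlock M (indFun T (ψ₁ : T → ℂ)) (indFun T (ψ₂ : T → ℂ)) := fun g => by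
  rw [centralChar_indFun ψ₁ (isIrrCharacter_indFun hNT hM hb hT h₁),
    centralChar_indFun ψ₂ (isIrrCharacter_indFun hNT hM hb hT h₂), inducedCentralChar_eq,
    inducedCentralChar_eq]
  have h3 := Blocks.omega_congr hM h (resFun_isClassFunction T (classInd_isClassFunction g))
    fun t => classInd_LR hM g _
  convert h3

theorem exists_over_of_sameBlock {χ χ' : IrrCharacter G} {θ : IrrCharacter N} (hθ : θ ∈ b)
    (h : classInner (fun n : N => (χ : G → ℂ) n) (θ : N → ℂ) ≠ 0)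
    (hs : SameBlock M (χ : G → ℂ) (χ' : G → ℂ)) :
    ∃ θ' ∈ b, classInner (fun n : N => (χ' : G → ℂ) n) (θ' : N → ℂ) ≠ 0 := by
  set O : Set (IrrCharacter N) := {φ | ∃ g : G, conjIrr g φ ∈ b} with hO
  have hsat : ∀ φ ∈ O, ∀ φ' : IrrCharacter N, SameBlock M (φ : N → ℂ) (φ' : N → ℂ) → φ' ∈ O := by
    rintro φ ⟨g, hg⟩ φ' hs'
    exact ⟨g, (IsPBlock.mem_iff hM hb hg).2 (conjIrr_sameBlock g hs')⟩
  have hloc : IsLocalOn M (⊤ : Subgroup N) (blockInd O) :=
    IsLocalOn.blockInd_of_separated hM fun φ hφ φ' hφ' => by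
      by_contra hall
      push Not at hall
      exact hφ' (hsat φ hφ φ' fun n => hall n (Subgroup.mem_top n))
  set f : N → ℂ := fun n => blockCoeff O n
  have hf : ∀ (g : G) (n : N), f (MulAut.conjNormal g n) = f n := fun g n => by
    show blockCoeff O _ = blockCoeff O n
    rw [blockCoeff_conjNormal]
    congr 1
    ext φ
    show (∃ a, conjIrr a (conjIrr g⁻¹ φ) ∈ b) ↔ ∃ a, conjIrr a φ ∈ b
    simp only [conjIrr_mul]
    exact ⟨fun ⟨a, ha⟩ => ⟨_, ha⟩, fun ⟨a, ha⟩ => ⟨g * a, by rwa [inv_mul_cancel_left]⟩⟩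
  set F : G → ℂ := fun x => if hx : x ∈ N then f ⟨x, hx⟩ else 0
  have hFcl : IsClassFunction G F := by
    intro x y
    simp only [F]
    by_cases hx : x ∈ N
    · rw [dif_pos hx, dif_pos (Subgroup.Normal.conj_mem inferInstance x hx y)]
      exact (congrArg f (Subtype.ext (MulAut.conjNormal_apply y ⟨x, hx⟩).symm)).trans (hf y ⟨x, hx⟩)
    · rw [dif_neg hx, dif_neg fun h' => hx (by
        simpa [mul_assoc] using Subgroup.Normal.conj_mem (inferInstance : N.Normal) _ h' y⁻¹)]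
  obtain ⟨θ', hθ'⟩ := CfsgLib.Blocks.exists_over (N := N) χ'
  have h1 := Blocks.omega_congr hM hs hFcl fun x => by
    simp only [F]; split
    · show MemLocalRing M (blockCoeff O _)
      rw [blockCoeff_eq_fourierInv]
      exact (hloc _).1
    · exact LR.zero hM
  rw [omega_extend, omega_extend, omega_eq_of_over h hf, omega_eq_of_over hθ' hf] at h1
  rw [omega_blockCoeff, omega_blockCoeff,
    blockInd_of_mem (show θ ∈ O from ⟨1, by rwa [conjIrr_one]⟩)] at h1
  by_cases hm : θ' ∈ O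
  · obtain ⟨g, hg⟩ := hm
    refine ⟨conjIrr g θ', hg, ?_⟩
    show classInner _ (conjFun N g θ') ≠ 0
    rwa [classInner_restrict_conjFun N g (CfsgLib.Char.IsIrrCharacter.isClassFunction χ'.2)]
  · rw [blockInd_of_notMem hm, sub_zero] at h1
    exact absurd h1 (LI.not_one hM)

theorem exists_induced {B' : Set (IrrCharacter T)} (hB' : IsPBlock M B')
    (hcov : ∃ ψ ∈ B', Covers hNT ψ b) :
    ∃ B : Set (IrrCharacter G), IsInducedBlock M T B' B ∧
      (∃ χ ∈ B, ∃ θ ∈ b, classInner (fun n : N => (χ : G → ℂ) n) (θ : N → ℂ) ≠ 0) ∧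
      (∀ ψ ∈ B', Covers hNT ψ b) ∧
      ∀ χ : IrrCharacter G, χ ∈ B ↔ ∃ ψ ∈ B', (χ : G → ℂ) = indFun T (ψ : T → ℂ) := by
  obtain ⟨ψ₀, hψ₀, hc₀⟩ := hcov
  have hall : ∀ ψ ∈ B', Covers hNT ψ b := fun ψ hψ =>
    covers_of_sameBlock hNT hM hb hT hc₀ (IsPBlock.sameBlock hM hB' hψ₀ hψ)
  set χ₀ := ind hNT hM hb hT hc₀
  obtain ⟨θ, hθ, h0⟩ := hc₀
  have hθ₀ : classInner (fun n : N => (χ₀ : G → ℂ) n) (θ : N → ℂ) ≠ 0 := by
    show classInner (fun n : N => indFun T (ψ₀ : T → ℂ) n) (θ : N → ℂ) ≠ 0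
    rwa [classInner_indFun_res hNT hM hb hT ⟨θ, hθ, h0⟩ hθ]
  have hiff : ∀ χ : IrrCharacter G, χ ∈ blockOf M (χ₀ : G → ℂ) ↔
      ∃ ψ ∈ B', (χ : G → ℂ) = indFun T (ψ : T → ℂ) := by
    intro χ
    constructor
    · intro hχ
      obtain ⟨θ', hθ', h'⟩ := exists_over_of_sameBlock hM hb hT hθ hθ₀ hχ
      obtain ⟨ψ, hψc, he⟩ := exists_covers_of_over hNT hM hb hT hθ' h'
      refine ⟨ψ, (IsPBlock.mem_iff hM hB' hψ₀).2 ?_, he⟩
      refine sameBlock_of_ind hNT hM hb hT (hall ψ₀ hψ₀) hψc ?_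
      rw [← he]
      exact hχ
    · rintro ⟨ψ, hψ, he⟩
      show SameBlock M _ (χ : G → ℂ)
      rw [he]
      exact sameBlock_ind hNT hM hb hT (hall ψ₀ hψ₀) (hall ψ hψ)
        (IsPBlock.sameBlock hM hB' hψ₀ hψ)
  refine ⟨blockOf M (χ₀ : G → ℂ), ⟨hB', isPBlock_blockOf χ₀, fun ξ hξ χ hχ g => ?_⟩,
    ⟨χ₀, SameBlock_refl hM _, θ, hθ, hθ₀⟩, hall, hiff⟩
  rw [← centralChar_indFun ξ (isIrrCharacter_indFun hNT hM hb hT (hall ξ hξ))]
  exact LI.trans hM
    (sameBlock_ind hNT hM hb hT (hall ξ hξ) (hall ψ₀ hψ₀) (IsPBlock.sameBlock hM hB' hξ hψ₀) g)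
    (hχ g)

theorem eq_of_induced {B₁ B₂ : Set (IrrCharacter T)} (hB₁ : IsPBlock M B₁) (hB₂ : IsPBlock M B₂)
    (h₁ : ∃ ψ ∈ B₁, Covers hNT ψ b) (h₂ : ∃ ψ ∈ B₂, Covers hNT ψ b) {B : Set (IrrCharacter G)}
    (i₁ : IsInducedBlock M T B₁ B) (i₂ : IsInducedBlock M T B₂ B) : B₁ = B₂ := by
  obtain ⟨ψ₁, hψ₁, c₁⟩ := h₁
  obtain ⟨ψ₂, hψ₂, c₂⟩ := h₂
  obtain ⟨χ, hχ⟩ := IsPBlock.nonempty hM i₁.2.1
  refine IsPBlock.eq_of_mem hM hB₁ hB₂ ((IsPBlock.mem_iff hM hB₁ hψ₁).2 ?_) hψ₂
  refine sameBlock_of_ind hNT hM hb hT c₁ c₂ fun g => ?_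
  rw [centralChar_indFun ψ₁ (isIrrCharacter_indFun hNT hM hb hT c₁),
    centralChar_indFun ψ₂ (isIrrCharacter_indFun hNT hM hb hT c₂)]
  exact LI.trans hM (i₁.2.2 ψ₁ hψ₁ χ hχ g) (LI.sub_comm (i₂.2.2 ψ₂ hψ₂ χ hχ g))

theorem exists_inducing {B : Set (IrrCharacter G)} (hB : IsPBlock M B)
    (hcov : ∃ χ ∈ B, ∃ θ ∈ b, classInner (fun n : N => (χ : G → ℂ) n) (θ : N → ℂ) ≠ 0) :
    ∃ B' : Set (IrrCharacter T), IsPBlock M B' ∧ (∃ ψ ∈ B', Covers hNT ψ b) ∧
      IsInducedBlock M T B' B := by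
  obtain ⟨χ, hχ, θ, hθ, h⟩ := hcov
  obtain ⟨ψ, hψ, he⟩ := exists_covers_of_over hNT hM hb hT hθ h
  have hψm : ψ ∈ blockOf M (ψ : T → ℂ) := SameBlock_refl hM _
  obtain ⟨B₂, hi, -, -, hiff⟩ := exists_induced hNT hM hb hT (isPBlock_blockOf ψ) ⟨ψ, hψm, hψ⟩
  refine ⟨_, isPBlock_blockOf ψ, ⟨ψ, hψm, hψ⟩, ?_⟩
  rwa [IsPBlock.eq_of_mem hM hB hi.2.1 hχ ((hiff χ).2 ⟨ψ, hψm, he⟩)]

theorem minDegVal_eq {B' : Set (IrrCharacter T)} (hB' : IsPBlock M B')
    (hcov : ∃ ψ ∈ B', Covers hNT ψ b) {B : Set (IrrCharacter G)} (hind : IsInducedBlock M T B' B) :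
    (∀ ψ ∈ B', ∃ χ ∈ B, (χ : G → ℂ) = indFun T (ψ : T → ℂ) ∧
      degVal p χ = T.index.factorization p + degVal p ψ) ∧
      minDegVal p B = T.index.factorization p + minDegVal p B' := by
  obtain ⟨B₂, hi, -, hall, hiff⟩ := exists_induced hNT hM hb hT hB' hcov
  rw [IsInducedBlock.unique hM hind hi]
  have hdeg : ∀ (χ : IrrCharacter G) (ψ : IrrCharacter T), (χ : G → ℂ) = indFun T (ψ : T → ℂ) →
      degVal p χ = T.index.factorization p + degVal p ψ := by
    intro χ ψ he
    have h1 : charDegree (χ : G → ℂ) = T.index * charDegree (ψ : T → ℂ) := by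
      have h2 := irr_one_eq χ
      rw [he, CfsgLib.Char.indFun_one, irr_one_eq ψ] at h2
      rw [← he] at h2
      exact_mod_cast h2.symm
    rw [degVal, degVal, h1, Nat.factorization_mul Subgroup.index_ne_zero_of_finite
      (charDegree_pos ψ).ne', Finsupp.add_apply]
  have hex : ∀ ψ ∈ B', ∃ χ ∈ B₂, (χ : G → ℂ) = indFun T (ψ : T → ℂ) ∧
      degVal p χ = T.index.factorization p + degVal p ψ := fun ψ hψ =>
    ⟨ind hNT hM hb hT (hall ψ hψ), (hiff _).2 ⟨ψ, hψ, rfl⟩, rfl, hdeg _ ψ rfl⟩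
  refine ⟨hex, le_antisymm ?_ ?_⟩
  · obtain ⟨ψ, hψ, he⟩ := exists_degVal_eq_min (p := p) (IsPBlock.nonempty hM hB')
    obtain ⟨χ, hχ, -, hd⟩ := hex ψ hψ
    rw [← he, ← hd]
    exact minDegVal_le hχ
  · obtain ⟨χ, hχ, he⟩ := exists_degVal_eq_min (p := p) (IsPBlock.nonempty hM hi.2.1)
    obtain ⟨ψ, hψ, hi'⟩ := (hiff χ).1 hχ
    rw [← he, hdeg χ ψ hi']
    exact Nat.add_le_add_left (minDegVal_le hψ) _

theorem defectGroup_and_height {B' : Set (IrrCharacter T)} (hB' : IsPBlock M B')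
    (hcov : ∃ ψ ∈ B', Covers hNT ψ b) {B : Set (IrrCharacter G)} (hind : IsInducedBlock M T B' B) :
    (∀ D : Subgroup T, IsDefectGroup p M B' D → IsDefectGroup p M B (D.map T.subtype)) ∧
      ∀ ψ ∈ B', ∃ χ ∈ B, (χ : G → ℂ) = indFun T (ψ : T → ℂ) ∧
        blockHeight p B (χ : G → ℂ) = blockHeight p B' (ψ : T → ℂ) := by
  obtain ⟨hex, hmin⟩ := minDegVal_eq hNT hM hb hT hB' hcov hind
  refine ⟨fun D hD => ?_, fun ψ hψ => ?_⟩
  · obtain ⟨E, hE, hle⟩ := exists_defectGroup_ge_of_induced hM hind hD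
    suffices h : D.map T.subtype = E by rw [h]; exact hE
    refine Subgroup.eq_of_le_of_card_ge hle (le_of_eq ?_)
    rw [Subgroup.card_map_of_injective T.subtype_injective, card_defectGroup hM hind.2.1 hE,
      card_defectGroup hM hB' hD]
    congr 1
    have h1 := blockDefect_add_min (p := p) (IsPBlock.nonempty hM hB')
    have h2 := blockDefect_add_min (p := p) (IsPBlock.nonempty hM hind.2.1)
    have h3 : (Nat.card G).factorization p =
        T.index.factorization p + (Nat.card T).factorization p := by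
      rw [← Subgroup.index_mul_card T, Nat.factorization_mul Subgroup.index_ne_zero_of_finite
        Nat.card_pos.ne', Finsupp.add_apply]
    omega
  · obtain ⟨χ, hχ, he, hd⟩ := hex ψ hψ
    refine ⟨χ, hχ, he, ?_⟩
    rw [blockHeight_eq, blockHeight_eq, hd, hmin]
    omega

end CfsgLib.Blocks.FongReynolds
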