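import Cfsg.Agent.Lib.Blocks.ContribBound
import Cfsg.Agent.Lib.Blocks.FongReynolds

/-!
# Contributions of major subsections as values of central characters

`contrib χ φ / p ^ m = p ^ h(χ) * w χ φ` with `w χ φ` in the local ring, and `w χ φ` in the ideal
for one `χ` of the block when it is for any other.
-/

set_option autoImplicit false

namespace CfsgLib.Blocks.MajorContrib

open Cfsg CfsgLib.Blocks
open scoped Classical ComplexConjugate

variable {G : Type*} [Group G] [Fintype G] {p : ℕ} {M : Ideal AlgInt} {K : Subgroup G} {x : G}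

theorem secPart_conj_apply (b : Set (IrrCharacter K)) (χ : IrrCharacter G) (s g : K) :
    secPart x K b χ (g * s * g⁻¹) = secPart x K b χ s := by
  rw [secPart, blockPart_eq_sum, blockPart_eq_sum]
  exact Finset.sum_congr rfl fun ψ _ => by rw [irr_conj_apply]

theorem secPart_inv_LR (hM : IsPModular p M) {z : K} (hzx : (z : G) = x)
    (hz : z ∈ Subgroup.center K) (b : Set (IrrCharacter K)) (χ : IrrCharacter G) (s : K) :
    MemLocalRing M (secPart x⁻¹ K b χ s) := by
  rw [secPart_eq_sum_mult (z := z⁻¹) (by rw [Subgroup.coe_inv, hzx]) (inv_mem hz)]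
  refine LR.sum hM fun ψ _ => ?_
  obtain ⟨n, hn⟩ := resMult_nat χ ψ
  rw [hn]
  refine LR.mul hM (LR.mul hM ?_ (LR.mul hM (LR.natCast hM n) ?_))
    (LR.of_isIntegral hM (irr_isIntegral ψ _))
  · by_cases h : ψ ∈ b
    · rw [blockInd_of_mem h]; exact LR.one hM
    · rw [blockInd_of_notMem h]; exact LR.zero hM
  · exact LR.of_isIntegral hM (CfsgLib.Char.isIntegral_of_pow_eq_one
      (orderOf_pos z⁻¹).ne' (centScalar_pow_eq_one ψ (inv_mem hz) (pow_orderOf_eq_one _)))

theorem sum_secPart_kernel (hM : IsPModular p M) {b : Set (IrrCharacter K)} (hb : IsPBlock M b)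
    (x : G) (φ : IrrCharacter G) {c : K} (hc : ¬ p ∣ orderOf c) :
    ∑ s : K with IsPRegular p s, blockKernel b c s * secPart x K b φ s⁻¹
      = (Nat.card K : ℂ) * secPart x K b φ c⁻¹ := by
  rw [← sum_secPart_mul_blockKernel hM hb x φ (t := c⁻¹) (by rwa [orderOf_inv])]
  refine Finset.sum_nbij' (fun s => s⁻¹) (fun s => s⁻¹) ?_ ?_ ?_ ?_ ?_
  · intro s hs; simpa [card_conj_filter_inv] using hs
  · intro s hs; simpa [card_conj_filter_inv] using hs
  · intro s _; simp
  · intro s _; simp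
  · intro s _
    rw [blockKernel_inv, mul_comm]

/-- The projection to `b` is self-adjoint on the regular elements. -/
theorem sum_secPart_mul_eq (hM : IsPModular p M) {b : Set (IrrCharacter K)} (hb : IsPBlock M b)
    (x : G) (θ φ : IrrCharacter G) :
    ∑ s : K with IsPRegular p s, secPart x K b θ s * secPart x⁻¹ K b φ s⁻¹
      = ∑ c : K with IsPRegular p c, (θ : G → ℂ) (x * (c : G)) * secPart x⁻¹ K b φ c⁻¹ := by
  rw [Finset.sum_congr rfl fun s hs => by
    rw [secPart_eq_sum_regular hM hb x θ (Finset.mem_filter.1 hs).2]]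
  simp only [Finset.mul_sum, Finset.sum_mul]
  rw [Finset.sum_comm]
  refine Finset.sum_congr rfl fun c hc => ?_
  rw [Finset.sum_congr rfl (g := fun s => ((Nat.card K : ℂ)⁻¹ * (θ : G → ℂ) (x * (c : G))) *
      (blockKernel b c s * secPart x⁻¹ K b φ s⁻¹)) fun s _ => by ring, ← Finset.mul_sum,
    sum_secPart_kernel hM hb x⁻¹ φ (Finset.mem_filter.1 hc).2]
  have := CfsgLib.Char.card_ne_zero (G := K)
  field_simp

/-- A class function whose central character values are the contributions to `φ`. -/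
theorem exists_dual (hM : IsPModular p M) {b : Set (IrrCharacter K)} (hb : IsPBlock M b) {z : K}
    (hzx : (z : G) = x) (hz : z ∈ Subgroup.center K) (φ : IrrCharacter G) :
    ∃ F : G → ℂ, IsClassFunction G F ∧ (∀ g, MemLocalRing M (F g)) ∧
      ∀ θ : IrrCharacter G, (pPartCard p K : ℂ) * ((θ : G → ℂ) 1 * omega (θ : G → ℂ) F)
        = (Nat.card G : ℂ) * contrib p x K b θ φ := by
  set f : K → ℂ := fun c => if IsPRegular p (z⁻¹ * c) then secPart x⁻¹ K b φ (z⁻¹ * c)⁻¹ else 0
    with hf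
  have hcl : IsClassFunction K f := fun c g => by
    have e : z⁻¹ * (g * c * g⁻¹) = g * (z⁻¹ * c) * g⁻¹ := by
      rw [← mul_assoc, ← mul_assoc, ← Subgroup.mem_center_iff.1 (inv_mem hz) g]
      simp [mul_assoc]
    have hord : orderOf (g * (z⁻¹ * c) * g⁻¹) = orderOf (z⁻¹ * c) :=
      orderOf_injective (MulAut.conj g).toMonoidHom (MulAut.conj g).injective _
    have hreg : IsPRegular p (g * (z⁻¹ * c) * g⁻¹) ↔ IsPRegular p (z⁻¹ * c) := by
      simp only [IsPRegular, hord]
    simp only [hf, e]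
    refine if_congr hreg ?_ rfl
    rw [show (g * (z⁻¹ * c) * g⁻¹)⁻¹ = g * (z⁻¹ * c)⁻¹ * g⁻¹ by simp [mul_assoc],
      secPart_conj_apply]
  have hR : ∀ c, MemLocalRing M (f c) := fun c => by
    simp only [hf]
    split
    · exact secPart_inv_LR hM hzx hz b φ _
    · exact LR.zero hM
  refine ⟨indFun K f, CfsgLib.Char.indFun_isClassFunction K f,
    fun g => FongReynolds.indFun_LR hM hcl hR g, fun θ => ?_⟩
  have hK := CfsgLib.Char.card_ne_zero (G := K)
  have h1 : ∑ g, indFun K f g * (θ : G → ℂ) g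
      = (K.index : ℂ) * ∑ c : K, f c * (θ : G → ℂ) c := by
    have h := CfsgLib.Char.classInner_indFun K f (χ := fun g => conj ((θ : G → ℂ) g))
      (fun a c => congrArg conj (CfsgLib.Char.IsIrrCharacter.isClassFunction θ.2 a c))
    simp only [Cfsg.classInner, Complex.conj_conj] at h
    rw [inv_mul_eq_iff_eq_mul₀ (Nat.cast_ne_zero.2 Nat.card_pos.ne')] at h
    rw [h, ← mul_assoc, ← Subgroup.index_mul_card K, Nat.cast_mul,
      mul_inv_cancel_right₀ hK]
  have h2 : ∑ c : K, f c * (θ : G → ℂ) c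
      = ∑ c : K with IsPRegular p c, (θ : G → ℂ) (x * (c : G)) * secPart x⁻¹ K b φ c⁻¹ := by
    rw [Finset.sum_filter]
    refine Fintype.sum_equiv (Equiv.mulLeft z⁻¹) _ _ fun c => ?_
    simp only [hf, Equiv.coe_mulLeft, Subgroup.coe_mul, Subgroup.coe_inv, hzx,
      mul_inv_cancel_left]
    by_cases h : IsPRegular p (z⁻¹ * c)
    · rw [if_pos h, if_pos h, mul_comm]
    · rw [if_neg h, if_neg h, zero_mul]
  rw [omega, mul_div_cancel₀ _ (irr_one_ne_zero θ), h1, h2, ← sum_secPart_mul_eq hM hb x θ φ,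
    contrib, ← Subgroup.index_mul_card K, Nat.cast_mul]
  field_simp

/-- Contributions to characters of height `h` of a major subsection are divisible by `p ^ h`. -/
theorem exists_scaled (hM : IsPModular p M) {B : Set (IrrCharacter G)}
    {b : Set (IrrCharacter K)} (hind : IsInducedBlock M K b B)
    (hd : blockDefect p b = blockDefect p B) {z : K} (hzx : (z : G) = x)
    (hz : z ∈ Subgroup.center K) (φ : IrrCharacter G) :
    ∃ w : IrrCharacter G → ℂ,
      (∀ θ ∈ B, MemLocalRing M (w θ) ∧ contrib p x K b θ φ / (p : ℂ) ^ minDegVal p b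
          = (p : ℂ) ^ (degVal p θ - minDegVal p B) * w θ) ∧
      ∀ θ ∈ B, ∀ θ' ∈ B, MemLocalIdeal M (w θ) → MemLocalIdeal M (w θ') := by
  obtain ⟨F, hFcl, hFR, hF⟩ := exists_dual hM hind.1 hzx hz φ
  set m := minDegVal p b
  let N : IrrCharacter G → ℕ := fun θ => pPartCard p K * charDegree (θ : G → ℂ)
  let D : IrrCharacter G → ℕ := fun θ =>
    Nat.card G * p ^ (m + (degVal p θ - minDegVal p B))
  have hp := hM.1
  have hN0 : ∀ θ, N θ ≠ 0 := fun θ =>
    Nat.mul_ne_zero (pow_ne_zero _ hp.ne_zero) (charDegree_pos θ).ne'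
  have hD0 : ∀ θ, D θ ≠ 0 := fun θ => Nat.mul_ne_zero Nat.card_pos.ne' (pow_ne_zero _ hp.ne_zero)
  have hval : ∀ θ ∈ B, (N θ).factorization p = (D θ).factorization p := by
    intro θ hθ
    have h1 := blockDefect_add_min (p := p) (IsPBlock.nonempty hM hind.2.1)
    have h2 : blockDefect p b + m = (Nat.card K).factorization p :=
      blockDefect_add_min (p := p) (IsPBlock.nonempty hM hind.1)
    have h3 := minDegVal_le (p := p) hθ
    simp only [N, D, pPartCard]
    rw [Nat.factorization_mul (pow_ne_zero _ hp.ne_zero) (charDegree_pos θ).ne',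
      Nat.factorization_mul Nat.card_pos.ne' (pow_ne_zero _ hp.ne_zero), Finsupp.add_apply,
      Finsupp.add_apply, hp.factorization_pow, hp.factorization_pow, Finsupp.single_eq_same,
      Finsupp.single_eq_same]
    simp only [degVal] at h3 ⊢
    omega
  have hu : ∀ θ ∈ B, MemLocalRing M ((N θ : ℂ) / (D θ : ℂ)) := fun θ hθ =>
    natCast_div_LR hM (hD0 θ) ((hval θ hθ) ▸ Nat.ordProj_dvd _ _)
  have hu' : ∀ θ ∈ B, MemLocalRing M ((D θ : ℂ) / (N θ : ℂ)) := fun θ hθ =>
    natCast_div_LR hM (hN0 θ) ((hval θ hθ).symm ▸ Nat.ordProj_dvd _ _)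
  refine ⟨fun θ => (N θ : ℂ) / (D θ : ℂ) * omega (θ : G → ℂ) F, fun θ hθ => ⟨?_, ?_⟩, ?_⟩
  · exact LR.mul hM (hu θ hθ) (omega_LR hM θ hFcl hFR)
  · have h := hF θ
    rw [irr_one_eq] at h
    simp only [N, D, Nat.cast_mul, Nat.cast_pow, pow_add]
    have hp0 : (p : ℂ) ≠ 0 := by exact_mod_cast hp.ne_zero
    have hG : (Nat.card G : ℂ) ≠ 0 := Nat.cast_ne_zero.2 Nat.card_pos.ne'
    field_simp
    linear_combination -h
  · intro θ hθ θ' hθ' hI
    refine LI.mul_left hM (hu θ' hθ') ?_
    have h1 : MemLocalIdeal M (omega (θ : G → ℂ) F) := by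
      have := LI.mul_left hM (hu' θ hθ) hI
      rwa [← mul_assoc, div_mul_div_cancel₀ (Nat.cast_ne_zero.2 (hN0 θ)),
        div_self (Nat.cast_ne_zero.2 (hD0 θ)), one_mul] at this
    have h2 := omega_congr hM (IsPBlock.sameBlock hM hind.2.1 hθ' hθ) hFcl hFR
    have h3 := LI.add hM h2 h1
    rwa [sub_add_cancel] at h3

end CfsgLib.Blocks.MajorContrib
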