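import Cfsg.Agent.Lib.Blocks.TwoContrib
import Cfsg.Agent.Lib.Blocks.MajorContrib

/-!
# Major 2-subsections

The constant coefficients `a χ` of the diagonal contributions: odd at height zero, divisible by
`2 ^ (h + 1)` at height `h > 0`.
-/

set_option autoImplicit false

namespace CfsgLib.Blocks.TwoMajor

open Cfsg CfsgLib.Blocks CfsgLib.Blocks.TwoPowerTrace
open scoped Classical ComplexConjugate

variable {G : Type*} [Group G] [Fintype G] {M : Ideal AlgInt} {K : Subgroup G}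

/-- The height of a member. -/
noncomputable def ht (B : Set (IrrCharacter G)) (χ : IrrCharacter G) : ℕ :=
  degVal 2 χ - minDegVal 2 B

/-- The numerical data of a major subsection. -/
structure Data (B : Set (IrrCharacter G)) (l d : ℕ) where
  a : IrrCharacter G → ℕ
  c : IrrCharacter G → IrrCharacter G → ℕ
  sum_a : ∑ χ ∈ Finset.univ.filter (· ∈ B), a χ = l * 2 ^ d
  symm : ∀ χ φ, c χ φ = c φ χ
  idem : ∀ χ, ∑ φ, c χ φ = 2 ^ d * a χ
  odd_a : ∀ χ ∈ B, ht B χ = 0 → Odd (a χ)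
  dvd_a : ∀ χ ∈ B, ht B χ ≠ 0 → 2 ^ (ht B χ + 1) ∣ a χ
  low : ∀ χ ∈ B, ∀ φ ∈ B, ht B φ = 0 → 4 ^ ht B χ ≤ c χ φ
  compl : ∀ χ, (∑ φ ∈ Finset.univ.erase χ, c χ φ) + 2 ^ d * a χ ≤ 4 ^ d
  compl' : ∀ χ, 0 < d → Odd (a χ) → (∑ φ ∈ Finset.univ.erase χ, c χ φ) + 1 + 2 ^ d * a χ ≤ 4 ^ d

theorem nonempty_data (hM : IsPModular 2 M) {B : Set (IrrCharacter G)} {b : Set (IrrCharacter K)}
    {x : G} (hK : K = Subgroup.centralizer ({x} : Set G)) (hx : ∃ k : ℕ, orderOf x = 2 ^ k)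
    (hind : IsInducedBlock M K b B) (hmaj : blockDefect 2 b = blockDefect 2 B) :
    Nonempty (Data B (blockRank 2 b) (blockDefect 2 B)) := by
  obtain ⟨k, hk⟩ := hx
  have hxK : x ∈ K := by rw [hK, Subgroup.mem_centralizer_singleton_iff]
  set z : K := ⟨x, hxK⟩
  have hzx : (z : G) = x := rfl
  have hz : z ∈ Subgroup.center K := by
    rw [Subgroup.mem_center_iff]
    intro c
    exact Subtype.ext (Subgroup.mem_centralizer_singleton_iff.1 (hK ▸ c.2))
  have hzk : z ^ 2 ^ k = 1 := Subtype.ext (by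
    rw [Subgroup.coe_pow, Subgroup.coe_one, ← hk]; exact pow_orderOf_eq_one x)
  have hzk' : z ^ 2 ^ (k + 1) = 1 := by rw [pow_succ, pow_mul, hzk, one_pow]
  haveI : NeZero (2 ^ (k + 1)) := ⟨pow_ne_zero _ two_ne_zero⟩
  set ζ := Complex.exp (2 * Real.pi * Complex.I / (2 ^ (k + 1) : ℕ))
  have hζ : IsPrimitiveRoot ζ (2 ^ (k + 1)) := Complex.isPrimitiveRoot_exp _ (NeZero.ne _)
  obtain ⟨τ, hτ⟩ := exists_coeff_zero hζ
  set m := minDegVal 2 b
  set d := blockDefect 2 B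
  let e : IrrCharacter G → IrrCharacter G → ℂ := fun χ φ =>
    contrib 2 x K b χ φ / ((2 : ℕ) : ℂ) ^ m
  have hp0 : ((2 : ℕ) : ℂ) ^ m ≠ 0 := pow_ne_zero _ (by norm_num)
  have he : ∀ χ φ, e χ φ ∈ Algebra.adjoin ℤ ({ζ} : Set ℂ) := fun χ φ =>
    contrib_div_mem_adjoin hM hzx hz χ φ hζ hzk'
  have hconj : ∀ χ φ, conj (e χ φ) = e φ χ := fun χ φ => by
    simp only [e, map_div₀, map_pow, map_natCast, conj_contrib hM.1 hzx hz]
  have hq : (pPartCard 2 K : ℂ) = ((2 : ℕ) : ℂ) ^ m * ((2 : ℕ) : ℂ) ^ d := by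
    rw [pPartCard, Nat.cast_pow, ← pow_add, add_comm, ← hmaj,
      blockDefect_add_min (p := 2) (IsPBlock.nonempty hM hind.1)]
  have hidem : ∀ χ, ∑ φ : IrrCharacter G, e χ φ * conj (e χ φ)
      = (((2 ^ d : ℕ) : ℤ) : ℂ) * e χ χ := by
    intro χ
    simp only [hconj, e, div_mul_div_comm, ← Finset.sum_div]
    rw [sum_contrib_mul hM hK ⟨k, hk⟩ hind.1 χ]
    simp only [contrib, hq]
    push_cast
    field_simp
  have hsupp : ∀ χ, χ ∉ B → ∀ φ, e χ φ = 0 := fun χ hχ φ => by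
    simp only [e, contrib]
    rw [Finset.sum_eq_zero fun s hs => by
      rw [secPart_eq_zero_of_notMem hM hK ⟨k, hk⟩ hind hχ (Finset.mem_filter.1 hs).2, zero_mul]]
    simp
  have htr : ∑ χ ∈ Finset.univ.filter (· ∈ B), e χ χ
      = ((((blockRank 2 b * 2 ^ d : ℕ)) : ℤ) : ℂ) * ζ ^ 0 := by
    rw [Finset.sum_filter_of_ne fun χ _ h => by
      by_contra hχ
      exact h (hsupp χ hχ χ)]
    simp only [e, ← Finset.sum_div]
    rw [sum_contrib_self hM hK ⟨k, hk⟩ hind.1, hq]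
    push_cast
    field_simp
  choose t ht' using fun χ : IrrCharacter G => apply_mem_int hζ hτ (he χ χ)
  choose cc hcc using fun (χ φ : IrrCharacter G) =>
    apply_mem_int hζ hτ (mul_mem (he χ φ) (hconj χ φ ▸ he φ χ : conj (e χ φ) ∈ _))
  have hccnn : ∀ χ φ, 0 ≤ cc χ φ := fun χ φ => by
    have := (apply_mul_conj_nonneg hζ hτ (he χ φ)).1
    rw [hcc] at this
    exact_mod_cast this
  have hsum : ∀ χ, ∑ φ, cc χ φ = ((2 ^ d : ℕ) : ℤ) * t χ := by
    intro χ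
    have h := congrArg τ (hidem χ)
    rw [map_sum, Finset.sum_congr rfl fun φ _ => hcc χ φ, apply_intCast_mul, ht' χ] at h
    exact_mod_cast h
  have htnn : ∀ χ, 0 ≤ t χ := fun χ => by
    have h : 0 ≤ ((2 ^ d : ℕ) : ℤ) * t χ := hsum χ ▸ Finset.sum_nonneg fun φ _ => hccnn χ φ
    exact le_of_mul_le_mul_left (by simpa using h) (Nat.cast_pos.2 (pow_pos two_pos d))
  -- the complementary row
  have hcompl : ∀ χ, (∑ φ ∈ Finset.univ.erase χ, cc χ φ) +
      ((2 ^ d : ℕ) : ℤ) * t χ ≤ ((4 ^ d : ℕ) : ℤ) ∧ (e χ χ ≠ ((2 ^ d : ℕ) : ℤ) →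
        (∑ φ ∈ Finset.univ.erase χ, cc χ φ) + 1 + ((2 ^ d : ℕ) : ℤ) * t χ ≤ ((4 ^ d : ℕ) : ℤ)) := by
    intro χ
    set N : ℤ := ((2 ^ d : ℕ) : ℤ)
    have hw : ((N : ℂ) - e χ χ) ∈ Algebra.adjoin ℤ ({ζ} : Set ℂ) :=
      sub_mem (intCast_mem _ N) (he χ χ)
    have e1 : ((N : ℂ) - e χ χ) * conj ((N : ℂ) - e χ χ)
        = (N : ℂ) * ((N : ℂ) * ζ ^ 0) - ((2 * N : ℤ) : ℂ) * e χ χ + e χ χ * conj (e χ χ) := by
      rw [map_sub, map_intCast, hconj]
      push_cast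
      ring
    have h4 : τ (((N : ℂ) - e χ χ) * conj ((N : ℂ) - e χ χ))
        = (N : ℚ) * N - 2 * N * t χ + cc χ χ := by
      rw [e1, map_add, map_sub, apply_intCast_mul, apply_intCast_mul, apply_intCast_mul,
        hτ 0 (pow_pos two_pos _), if_pos rfl, ht', hcc]
      push_cast
      ring
    have h4d : ((4 ^ d : ℕ) : ℤ) = N * N := by
      simp only [N]; push_cast; rw [← mul_pow]; norm_num
    have hsp : ∑ φ ∈ Finset.univ.erase χ, cc χ φ = N * t χ - cc χ χ := by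
      rw [Finset.sum_erase_eq_sub (Finset.mem_univ χ), hsum]
    have hW := apply_mul_conj_nonneg hζ hτ hw
    rw [h4] at hW
    refine ⟨?_, fun hne => ?_⟩
    · have h : (0 : ℤ) ≤ N * N - 2 * N * t χ + cc χ χ := by exact_mod_cast hW.1
      rw [h4d, hsp]; linarith
    · have h : (1 : ℤ) ≤ N * N - 2 * N * t χ + cc χ χ := by
        exact_mod_cast hW.2 (sub_ne_zero.2 (Ne.symm hne))
      rw [h4d, hsp]; linarith
  have hreal : ∀ χ, MemLocalIdeal M (e χ χ - (t χ : ℂ)) := fun χ => by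
    have h := sub_apply_LI hζ hτ hM (he χ χ) (hconj χ χ)
    rwa [ht' χ, Rat.cast_intCast] at h
  have hodd : ∀ χ ∈ B, ht B χ = 0 → ¬ Even (t χ) := by
    intro χ hχ h0 hev
    have h0' : degVal 2 χ = minDegVal 2 B := by
      have := minDegVal_le (p := 2) hχ
      simp only [ht] at h0; omega
    refine contrib_not_LI_of_min hM hind hzx hz hzk hχ hχ h0' h0' ?_
    have h2 : MemLocalIdeal M (t χ : ℂ) := (LI.intCast_iff hM _).2 (by
      exact_mod_cast even_iff_two_dvd.1 hev)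
    have := LI.add hM (hreal χ) h2
    rwa [sub_add_cancel] at this
  have hscaled : ∀ χ ∈ B, ∀ φ ∈ B, ht B φ = 0 →
      ∃ z' ∈ Algebra.adjoin ℤ ({ζ} : Set ℂ), z' ≠ 0 ∧
        e χ φ = (((2 ^ ht B χ : ℕ) : ℤ) : ℂ) * z' := by
    intro χ hχ φ hφ h0
    have h0' : degVal 2 φ = minDegVal 2 B := by
      have := minDegVal_le (p := 2) hφ
      simp only [ht] at h0; omega
    obtain ⟨w, hw, hcongr⟩ := MajorContrib.exists_scaled hM hind hmaj hzx hz φ
    have hwu : ¬ MemLocalIdeal M (w χ) := fun hI => by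
      refine contrib_not_LI_of_min hM hind hzx hz hzk hφ hφ h0' h0' ?_
      rw [(hw φ hφ).2, h0', Nat.sub_self, pow_zero, one_mul]
      exact hcongr χ hχ φ hφ hI
    have e1 : e χ φ = (2 : ℂ) ^ ht B χ * w χ := by
      have := (hw χ hχ).2
      simpa [e, ht] using this
    have hmem := div_two_pow_mem hM hζ (ht B χ) (he χ φ) (by
      rw [e1, mul_div_cancel_left₀ _ (pow_ne_zero _ (two_ne_zero' ℂ))]; exact (hw χ hχ).1)
    rw [e1, mul_div_cancel_left₀ _ (pow_ne_zero _ (two_ne_zero' ℂ))] at hmem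
    exact ⟨w χ, hmem, ne_zero_of_not_LI hM hwu, by rw [e1]; push_cast; ring⟩
  refine ⟨⟨fun χ => (t χ).toNat, fun χ φ => (cc χ φ).toNat, ?_, ?_, ?_, ?_, ?_, ?_, ?_, ?_⟩⟩
  · have h := congrArg τ htr
    rw [map_sum, apply_intCast_mul, hτ 0 (pow_pos two_pos _), if_pos rfl, mul_one,
      Finset.sum_congr rfl fun χ _ => ht' χ] at h
    have h' : ∑ χ ∈ Finset.univ.filter (· ∈ B), t χ = ((blockRank 2 b * 2 ^ d : ℕ) : ℤ) := by
      exact_mod_cast h
    have h2 : ((∑ χ ∈ Finset.univ.filter (· ∈ B), (t χ).toNat : ℕ) : ℤ)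
        = ((blockRank 2 b * 2 ^ d : ℕ) : ℤ) := by
      rw [Nat.cast_sum, Finset.sum_congr rfl fun χ _ => Int.toNat_of_nonneg (htnn χ), h']
    exact_mod_cast h2
  · intro χ φ
    congr 1
    have h1 := hcc χ φ
    have h2 := hcc φ χ
    rw [hconj] at h1 h2
    rw [mul_comm, h2] at h1
    exact_mod_cast h1.symm
  · intro χ
    have h2 : ((∑ φ, (cc χ φ).toNat : ℕ) : ℤ) = ((2 ^ d * (t χ).toNat : ℕ) : ℤ) := by
      rw [Nat.cast_sum, Finset.sum_congr rfl fun φ _ => Int.toNat_of_nonneg (hccnn χ φ), hsum,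
        Nat.cast_mul, Int.toNat_of_nonneg (htnn χ)]
    exact_mod_cast h2
  · intro χ hχ h0
    rw [← Nat.not_even_iff_odd, ← Int.even_coe_nat, Int.toNat_of_nonneg (htnn χ)]
    exact hodd χ hχ h0
  · intro χ hχ hpos
    obtain ⟨χ₀, hχ₀, h00⟩ := exists_degVal_eq_min (p := 2) (IsPBlock.nonempty hM hind.2.1)
    have h00' : ht B χ₀ = 0 := by simp [ht, h00]
    obtain ⟨w, hw, hcongr⟩ := MajorContrib.exists_scaled hM hind hmaj hzx hz χ
    obtain ⟨z', hz', -, hz''⟩ := hscaled χ hχ χ₀ hχ₀ h00'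
    have hw0 : MemLocalIdeal M (w χ₀) := by
      have h1 : e χ₀ χ = w χ₀ := by
        have := (hw χ₀ hχ₀).2
        simpa [e, h00] using this
      rw [← h1, ← hconj χ χ₀, hz'', map_mul, map_intCast]
      have hcz : IsIntegral ℤ (conj z') :=
        (adjoin_le_integralClosure (IsIntegral.of_pow (pow_pos two_pos _)
          (hζ.pow_eq_one.symm ▸ isIntegral_one)) hz').map (RingHom.toIntAlgHom (starRingEnd ℂ))
      refine LI.mul_right hM ?_ (LR.of_isIntegral hM hcz)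
      exact (LI.intCast_iff hM _).2 (by exact_mod_cast dvd_pow_self 2 hpos)
    have hwχ := hcongr χ₀ hχ₀ χ hχ hw0
    have e1 : e χ χ = (2 : ℂ) ^ ht B χ * w χ := by
      have := (hw χ hχ).2
      simpa [e, ht] using this
    have hmem := div_two_pow_mem hM hζ (ht B χ) (he χ χ) (by
      rw [e1, mul_div_cancel_left₀ _ (pow_ne_zero _ (two_ne_zero' ℂ))]; exact (hw χ hχ).1)
    rw [e1, mul_div_cancel_left₀ _ (pow_ne_zero _ (two_ne_zero' ℂ))] at hmem
    have hwreal : conj (w χ) = w χ := by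
      have h := hconj χ χ
      rw [e1, map_mul, map_pow, map_ofNat] at h
      exact mul_left_cancel₀ (pow_ne_zero _ (two_ne_zero' ℂ)) h
    obtain ⟨s, hs⟩ := apply_mem_int hζ hτ hmem
    have h3 := sub_apply_LI hζ hτ hM hmem hwreal
    rw [hs, Rat.cast_intCast] at h3
    have h4 : MemLocalIdeal M (s : ℂ) := by
      have := LI.sub hM hwχ h3
      rwa [sub_sub_cancel] at this
    obtain ⟨r, hr⟩ := (LI.intCast_iff hM _).1 h4
    have h5 : t χ = ((2 ^ (ht B χ + 1) : ℕ) : ℤ) * r := by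
      have h := ht' χ
      rw [e1, show (2 : ℂ) ^ ht B χ = (((2 ^ ht B χ : ℕ) : ℤ) : ℂ) by push_cast; ring,
        apply_intCast_mul, hs] at h
      have h' : ((2 ^ ht B χ : ℕ) : ℤ) * s = t χ := by exact_mod_cast h
      rw [← h', hr]; push_cast; ring
    rw [← Int.natCast_dvd_natCast, Int.toNat_of_nonneg (htnn χ), h5]
    exact dvd_mul_right _ _
  · intro χ hχ φ hφ h0
    obtain ⟨z', hz', hne, he'⟩ := hscaled χ hχ φ hφ h0
    have h : (cc χ φ : ℚ) = ((4 ^ ht B χ : ℕ) : ℚ) * τ (z' * conj z') := by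
      rw [← hcc, he', map_mul conj, map_intCast,
        show ∀ A w w' : ℂ, A * w * (A * w') = A * (A * (w * w')) by intros; ring,
        apply_intCast_mul, apply_intCast_mul, ← mul_assoc]
      push_cast
      rw [← mul_pow]
      norm_num
    have h1 := (apply_mul_conj_nonneg hζ hτ hz').2 hne
    have h2 : ((4 ^ ht B χ : ℕ) : ℚ) ≤ (cc χ φ : ℚ) := by
      rw [h]; exact le_mul_of_one_le_right (by positivity) h1
    have h3 : ((4 ^ ht B χ : ℕ) : ℤ) ≤ (((cc χ φ).toNat : ℕ) : ℤ) := by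
      rw [Int.toNat_of_nonneg (hccnn χ φ)]; exact_mod_cast h2
    exact_mod_cast h3
  · intro χ
    have h2 : ((((∑ φ ∈ Finset.univ.erase χ, (cc χ φ).toNat) + 2 ^ d * (t χ).toNat : ℕ)) : ℤ)
        ≤ ((4 ^ d : ℕ) : ℤ) := by
      rw [Nat.cast_add, Nat.cast_sum, Finset.sum_congr rfl fun φ _ =>
        Int.toNat_of_nonneg (hccnn χ φ), Nat.cast_mul, Int.toNat_of_nonneg (htnn χ)]
      exact (hcompl χ).1
    exact_mod_cast h2
  · intro χ hd hoddt
    have hne : e χ χ ≠ ((2 ^ d : ℕ) : ℤ) := fun h => by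
      have ht2 : t χ = ((2 ^ d : ℕ) : ℤ) := by
        have h1 := ht' χ
        rw [h, show (((2 ^ d : ℕ) : ℤ) : ℂ) = (((2 ^ d : ℕ) : ℤ) : ℂ) * ζ ^ 0 by simp,
          apply_intCast_mul, hτ 0 (pow_pos two_pos _), if_pos rfl, mul_one] at h1
        exact_mod_cast h1.symm
      rw [← Nat.not_even_iff_odd, ← Int.even_coe_nat, Int.toNat_of_nonneg (htnn χ), ht2] at hoddt
      exact hoddt (by exact_mod_cast (Nat.even_pow.2 ⟨even_two, hd.ne'⟩))
    have h2 : ((((∑ φ ∈ Finset.univ.erase χ, (cc χ φ).toNat) + 1 + 2 ^ d * (t χ).toNat : ℕ)) : ℤ)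
        ≤ ((4 ^ d : ℕ) : ℤ) := by
      rw [Nat.cast_add, Nat.cast_add, Nat.cast_sum, Finset.sum_congr rfl fun φ _ =>
        Int.toNat_of_nonneg (hccnn χ φ), Nat.cast_mul, Int.toNat_of_nonneg (htnn χ), Nat.cast_one]
      exact (hcompl χ).2 hne
    exact_mod_cast h2

variable {B : Set (IrrCharacter G)} {l d : ℕ}

/-- `3 k₀ + 2 ∑ 2 ^ h ≤ 3 · 2 ^ d` when `l ≤ 3`. -/
theorem Data.weighted_bound (D : Data B l d) (hl : l ≤ 3) :
    (∑ χ ∈ Finset.univ.filter (· ∈ B), if ht B χ = 0 then 3 else 2 ^ (ht B χ + 1)) ≤ 3 * 2 ^ d := by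
  set S := Finset.univ.filter fun χ : IrrCharacter G => χ ∈ B
  have hS : ∀ χ, χ ∈ S ↔ χ ∈ B := fun χ => by simp [S]
  by_cases h : ∃ χ ∈ S, ht B χ = 0 ∧ D.a χ = 1
  · obtain ⟨χ, hχ, h0, h1⟩ := h
    have h2 := D.idem χ
    rw [h1, mul_one] at h2
    calc (∑ φ ∈ S, if ht B φ = 0 then 3 else 2 ^ (ht B φ + 1))
        ≤ ∑ φ ∈ S, 3 * D.c χ φ := Finset.sum_le_sum fun φ hφ => by
          have hlow := D.low φ ((hS φ).1 hφ) χ ((hS χ).1 hχ) h0
          rw [D.symm]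
          split_ifs with hh
          · rw [hh] at hlow; simp only [pow_zero] at hlow; omega
          · have h4 : 4 ^ ht B φ = 2 ^ ht B φ * 2 ^ ht B φ := by rw [← mul_pow]; norm_num
            rw [pow_succ]
            have := Nat.le_mul_self (2 ^ ht B φ)
            omega
      _ ≤ ∑ φ, 3 * D.c χ φ := Finset.sum_le_sum_of_subset (Finset.subset_univ S)
      _ = 3 * 2 ^ d := by rw [← Finset.mul_sum, h2]
  · push Not at h
    refine (Finset.sum_le_sum fun χ hχ => ?_).trans (D.sum_a.le.trans (Nat.mul_le_mul_right _ hl))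
    have hB := (hS χ).1 hχ
    split_ifs with hh
    · obtain ⟨j, hj⟩ := D.odd_a χ hB hh
      have := h χ hχ hh
      omega
    · refine Nat.le_of_dvd (Nat.pos_of_ne_zero fun h0 => ?_) (D.dvd_a χ hB hh)
      have hnz : ∀ χ₀ ∈ B, ht B χ₀ = 0 → False := fun χ₀ hχ₀ hh0 => by
        have h2 := D.idem χ
        rw [h0, mul_zero, Finset.sum_eq_zero_iff] at h2
        have := D.low χ hB χ₀ hχ₀ hh0
        rw [h2 χ₀ (Finset.mem_univ _)] at this
        exact absurd this (Nat.not_le.2 (pow_pos (by norm_num) _))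
      obtain ⟨χ₀, hχ₀, h00⟩ := exists_degVal_eq_min (p := 2) ⟨χ, hB⟩
      exact hnz χ₀ hχ₀ (by simp [ht, h00])

/-- `k(B) ≤ 2 ^ d` when `k(B) ≤ l + 3`. -/
theorem Data.card_le (D : Data B l d) (hd : 0 < d)
    (hh : ∀ χ ∈ B, ht B χ ≠ 0 → ht B χ + 1 ≤ d) (hk : Nat.card B ≤ l + 3) :
    Nat.card B ≤ 2 ^ d := by
  set S := Finset.univ.filter fun χ : IrrCharacter G => χ ∈ B
  have hS : ∀ χ, χ ∈ S ↔ χ ∈ B := fun χ => by simp [S]
  have hcard : Nat.card B = S.card := by rw [Nat.card_eq_fintype_card, Fintype.card_subtype]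
  have h4 : (4 : ℕ) ^ d = 2 ^ d * 2 ^ d := by rw [← mul_pow]; norm_num
  have hle : ∀ χ, D.a χ ≤ 2 ^ d := fun χ => by
    have := D.compl χ
    refine Nat.le_of_mul_le_mul_left (?_ : 2 ^ d * D.a χ ≤ 2 ^ d * 2 ^ d) (pow_pos two_pos _)
    omega
  by_cases h : ∃ χ ∈ S, ht B χ = 0 ∧ D.a χ + 1 = 2 ^ d
  · obtain ⟨χ, hχ, h0, h1⟩ := h
    have h2 := D.compl' χ hd (D.odd_a χ ((hS χ).1 hχ) h0)
    have h3 : S.card ≤ (∑ φ ∈ Finset.univ.erase χ, D.c χ φ) + 1 := by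
      rw [← Finset.card_erase_add_one hχ, Finset.card_eq_sum_ones]
      refine Nat.add_le_add_right ((Finset.sum_le_sum fun φ hφ => ?_).trans
        (Finset.sum_le_sum_of_subset (Finset.erase_subset_erase χ (Finset.subset_univ S)))) 1
      rw [D.symm]
      exact le_trans (Nat.one_le_pow _ _ (by norm_num))
        (D.low φ ((hS φ).1 (Finset.mem_of_mem_erase hφ)) χ ((hS χ).1 hχ) h0)
    rw [hcard]
    have h5 : 2 ^ d * D.a χ + 2 ^ d = 4 ^ d := by rw [h4, ← h1]; ring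
    omega
  · push Not at h
    have h3 : ∀ χ ∈ S, D.a χ + 3 ≤ 2 ^ d := by
      intro χ hχ
      have hB := (hS χ).1 hχ
      have hev : Even (2 ^ d) := Nat.even_pow.2 ⟨even_two, hd.ne'⟩
      by_cases hz : ht B χ = 0
      · obtain ⟨j, hj⟩ := D.odd_a χ hB hz
        obtain ⟨i, hi⟩ := hev
        have := hle χ
        have := h χ hχ hz
        omega
      · obtain ⟨χ₀, hχ₀, h00⟩ := exists_degVal_eq_min (p := 2) ⟨χ, hB⟩
        have h0' : ht B χ₀ = 0 := by simp [ht, h00]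
        have hlt : D.a χ < 2 ^ d := by
          have h1 := D.compl χ
          have h2 := D.low χ hB χ₀ hχ₀ h0'
          have h3 : D.c χ χ₀ ≤ ∑ φ ∈ Finset.univ.erase χ, D.c χ φ :=
            Finset.single_le_sum (f := fun φ => D.c χ φ) (fun φ _ => Nat.zero_le _)
              (Finset.mem_erase.2 ⟨fun e => hz (e ▸ h0'), Finset.mem_univ _⟩)
          have h5 : 0 < 4 ^ ht B χ := pow_pos (by norm_num) _
          refine Nat.lt_of_mul_lt_mul_left (a := 2 ^ d) ?_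
          omega
        have hdvd : 2 ^ (ht B χ + 1) ∣ 2 ^ d - D.a χ :=
          Nat.dvd_sub (pow_dvd_pow 2 (hh χ hB hz)) (D.dvd_a χ hB hz)
        have h1 := Nat.le_of_dvd (by omega) hdvd
        have h6 : 4 ≤ 2 ^ (ht B χ + 1) := by
          calc 4 = 2 ^ 2 := by norm_num
            _ ≤ 2 ^ (ht B χ + 1) := Nat.pow_le_pow_right two_pos (by omega)
        omega
    rw [hcard] at hk ⊢
    have h1 := Finset.sum_le_sum h3
    rw [Finset.sum_add_distrib, D.sum_a, Finset.sum_const, Finset.sum_const, smul_eq_mul,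
      smul_eq_mul] at h1
    have h2 : S.card * 2 ^ d ≤ (l + 3) * 2 ^ d := Nat.mul_le_mul_right _ hk
    rw [Nat.add_mul] at h2
    omega

end CfsgLib.Blocks.TwoMajor
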