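import Cfsg.Agent.Lib.Blocks.FirstMain
import Cfsg.Agent.Lib.Char.Quotient

/-!
# Blocks of `P C_G(P)` inducing a block with defect group `P`

They exist, and any two of them are conjugate in `N_G(P)`.
-/

set_option autoImplicit false

namespace CfsgLib.Blocks

open Cfsg
open scoped Classical ComplexConjugate

variable {G : Type*} [Group G] [Fintype G] {p : ℕ} {M : Ideal AlgInt}

/-- An irreducible character read along an isomorphism. -/
def irrRelabel {H K : Type*} [Group H] [Group K] [Finite H] [Finite K] (e : H ≃* K)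
    (φ : IrrCharacter K) : IrrCharacter H :=
  ⟨(φ : K → ℂ) ∘ e, CfsgLib.Char.IsIrrCharacter.comp_surjective φ.2 e.toMonoidHom e.surjective⟩

theorem irrRelabel_apply {H K : Type*} [Group H] [Group K] [Finite H] [Finite K] (e : H ≃* K)
    (φ : IrrCharacter K) (h : H) : (irrRelabel e φ : H → ℂ) h = (φ : K → ℂ) (e h) := rfl

theorem omega_irrRelabel {H K : Type*} [Group H] [Group K] [Fintype H] [Fintype K] (e : H ≃* K)
    (φ : IrrCharacter K) (f : K → ℂ) :
    omega (irrRelabel e φ : H → ℂ) (fun h => f (e h)) = omega (φ : K → ℂ) f := by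
  simp only [omega, irrRelabel_apply, map_one]
  congr 1
  exact Fintype.sum_equiv e.toEquiv _ _ fun h => rfl

theorem classInd_relabel {H K : Type*} [Group H] [Group K] [Fintype H] [Fintype K] (e : H ≃* K)
    (g h : H) : classInd (e g) (e h) = classInd g h := by
  refine if_congr ⟨fun hc => ?_, fun hc => MonoidHom.map_isConj e.toMonoidHom hc⟩ rfl rfl
  simpa using MonoidHom.map_isConj e.symm.toMonoidHom hc

theorem centralChar_irrRelabel {H K : Type*} [Group H] [Group K] [Fintype H] [Fintype K]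
    (e : H ≃* K) (φ : IrrCharacter K) (h : H) :
    centralChar (irrRelabel e φ : H → ℂ) h = centralChar (φ : K → ℂ) (e h) := by
  rw [← omega_classInd, ← omega_classInd, ← omega_irrRelabel e φ (classInd (e h))]
  exact congrArg _ (funext fun x => (classInd_relabel e h x).symm)

theorem sameBlock_irrRelabel {H K : Type*} [Group H] [Group K] [Fintype H] [Fintype K]
    (e : H ≃* K) {φ φ' : IrrCharacter K} (h : SameBlock M (φ : K → ℂ) (φ' : K → ℂ)) :
    SameBlock M (irrRelabel e φ : H → ℂ) (irrRelabel e φ' : H → ℂ) := fun g => by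
  rw [centralChar_irrRelabel, centralChar_irrRelabel]
  exact h (e g)

variable {B : Set (IrrCharacter G)} {P L : Subgroup G}

local notation "N(" P ")" => Subgroup.normalizer (SetLike.coe P)

/-- A block of `L = P C_G(P)` inducing a block with defect group `P` exists and has the same
defect group. -/
theorem exists_defectGroup_inducing_local (hM : IsPModular p M) (hB : IsPBlock M B)
    (hP : IsDefectGroup p M B P) (hPL : P ≤ L) (hCL : Subgroup.centralizer (P : Set G) ≤ L)
    (hLN : L ≤ N(P)) :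
    ∃ b : Set (IrrCharacter L), IsDefectGroup p M b (P.subgroupOf L) ∧
      IsInducedBlock M L b B := by
  haveI := Fact.mk hM.1
  obtain ⟨c, hc, hcl⟩ := exists_unit_coeff_centralizer hM hP
  obtain ⟨b, hind⟩ := exists_inducing_block_local hM hB (isPGroup_defectGroup hP) hPL hCL hLN
    hc hcl.2.1
  haveI := normal_subgroupOf_of_le_normalizer hPL hLN
  have hPp : IsPGroup p (P.subgroupOf L) := (isPGroup_defectGroup hP).of_injective
    (Subgroup.subgroupOfEquivOfLe hPL).toMonoidHom (Subgroup.subgroupOfEquivOfLe hPL).injective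
  obtain ⟨E, hE⟩ := exists_isDefectGroup hM hind.1
  have hle := le_defectGroup_of_normal hM hind.1 hPp hE
  obtain ⟨D, hD, hED⟩ := exists_defectGroup_ge_of_induced hM hind hE
  refine ⟨b, ?_, hind⟩
  rwa [Subgroup.eq_of_le_of_card_ge hle (by
    rw [Nat.card_congr (Subgroup.subgroupOfEquivOfLe hPL).toEquiv, card_defectGroup hM hB hP,
      ← card_defectGroup hM hB hD, ← Subgroup.card_map_of_injective L.subtype_injective]
    exact Subgroup.card_le_of_le hED)]

/-- Central characters of blocks of `L` inducing `B`, read on `N(P)`, are those of the Brauer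
correspondent. -/
theorem exists_correspondent_eval (hM : IsPModular p M) (hP : IsDefectGroup p M B P)
    (hPL : P ≤ L) (hCL : Subgroup.centralizer (P : Set G) ≤ L) (hLN : L ≤ N(P))
    {b : Set (IrrCharacter L)} (hind : IsInducedBlock M L b B)
    {bN : Set (IrrCharacter N(P))}
    (hbN : ∀ E : Set (IrrCharacter N(P)), IsPBlock M E →
      IsDefectGroup p M E (P.subgroupOf N(P)) → IsInducedBlock M N(P) E B → E = bN)
    {θ : IrrCharacter L} (hθ : θ ∈ b) :
    ∃ χ ∈ bN, ∀ F : N(P) → ℂ, IsClassFunction N(P) F → (∀ x, MemLocalRing M (F x)) →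
      MemLocalIdeal M (omega (θ : L → ℂ) (fun l : L =>
          if (l : G) ∈ Subgroup.centralizer (P : Set G) then F ⟨l, hLN l.2⟩ else 0)
        - omega (χ : N(P) → ℂ) F) := by
  haveI := Fact.mk hM.1
  have hPp := isPGroup_defectGroup hP
  set P' := P.subgroupOf N(P)
  haveI : P'.Normal := normal_subgroupOf_of_le_normalizer Subgroup.le_normalizer le_rfl
  have hP'p : IsPGroup p P' := isPGroup_subgroupOf_normalizer hPp
  set L' := L.subgroupOf N(P)
  have hCL' : Subgroup.centralizer (P' : Set N(P)) ≤ L' := fun x hx =>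
    hCL ((mem_centralizer_subgroupOf Subgroup.le_normalizer x).1 hx)
  set e : L' ≃* L := Subgroup.subgroupOfEquivOfLe hLN
  obtain ⟨χ, hχ⟩ := exists_brLam_eval hM hP'p hCL'
    (le_of_le_of_eq le_top (Subgroup.normalizer_eq_top (H := P')).symm) (irrRelabel e θ)
  have heval : ∀ F : N(P) → ℂ, IsClassFunction N(P) F → (∀ x, MemLocalRing M (F x)) →
      MemLocalIdeal M (omega (θ : L → ℂ) (fun l : L =>
          if (l : G) ∈ Subgroup.centralizer (P : Set G) then F ⟨l, hLN l.2⟩ else 0)
        - omega (χ : N(P) → ℂ) F) := fun F hF hR => by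
    have h := hχ F hF hR
    rwa [show brTrunc P' L' F = fun k : L' => (fun l : L =>
        if (l : G) ∈ Subgroup.centralizer (P : Set G) then F ⟨l, hLN l.2⟩ else 0) (e k) from
      funext fun k => by
        unfold brTrunc
        exact if_congr (mem_centralizer_subgroupOf Subgroup.le_normalizer _) rfl rfl,
      omega_irrRelabel e θ (fun l : L =>
        if (l : G) ∈ Subgroup.centralizer (P : Set G) then F ⟨l, hLN l.2⟩ else 0)] at h
  refine ⟨χ, ?_, heval⟩
  set E := blockOf M (χ : N(P) → ℂ)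
  have hE : IsPBlock M E := isPBlock_blockOf χ
  have hB : IsPBlock M B := hind.2.1
  have hEB : IsInducedBlock M N(P) E B := ⟨hE, hB, fun χ' hχ' φ hφ g => by
    have hg := classInd_isClassFunction (G := G) g
    have hgN := resFun_isClassFunction N(P) hg
    rw [inducedCentralChar_eq]
    refine LI.trans hM (omega_congr hM (SameBlock_symm (mem_blockOf.1 hχ')) hgN
      fun x => classInd_LR hM g x) ?_
    refine LI.trans hM (LI.sub_comm (heval _ hgN fun x => classInd_LR hM g x)) ?_
    refine LI.trans hM (LI.sub_comm (omega_brTrunc_congr hM hPp hPL hLN θ hg (classInd_LR hM g))) ?_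
    rw [← inducedCentralChar_eq]
    exact hind.2.2 θ hθ φ hφ g⟩
  suffices hdef : IsDefectGroup p M E P' by
    rw [← hbN E hE hdef hEB]; exact SameBlock_refl hM _
  obtain ⟨Q, hQ⟩ := exists_isDefectGroup hM hE
  have hle := le_defectGroup_of_normal hM hE hP'p hQ
  obtain ⟨D, hD, hQD⟩ := exists_defectGroup_ge_of_induced hM hEB hQ
  rwa [Subgroup.eq_of_le_of_card_ge hle (by
    rw [Nat.card_congr (Subgroup.subgroupOfEquivOfLe Subgroup.le_normalizer).toEquiv,
      card_defectGroup hM hB hP, ← card_defectGroup hM hB hD,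
      ← Subgroup.card_map_of_injective N(P).subtype_injective]
    exact Subgroup.card_le_of_le hQD)]

/-- Blocks of `L = P C_G(P)` inducing the same block with defect group `P` are conjugate in
`N_G(P)`. -/
theorem exists_conj_of_induced_local (hM : IsPModular p M) (hP : IsDefectGroup p M B P)
    (hPL : P ≤ L) (hCL : Subgroup.centralizer (P : Set G) ≤ L) (hLN : L ≤ N(P))
    (hLn : ∀ n ∈ N(P), ∀ x : G, x ∈ L → n * x * n⁻¹ ∈ L)
    {b b' : Set (IrrCharacter L)} (hb : IsInducedBlock M L b B) (hb' : IsInducedBlock M L b' B) :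
    ∃ n ∈ N(P), ∀ θ ∈ b, ∃ θ' ∈ b', ∀ x : L, ∀ hx : n * (x : G) * n⁻¹ ∈ L,
      (θ' : L → ℂ) x = (θ : L → ℂ) ⟨n * (x : G) * n⁻¹, hx⟩ := by
  haveI := Fact.mk hM.1
  have hPp := isPGroup_defectGroup hP
  have hB : IsPBlock M B := hb.2.1
  obtain ⟨bN, ⟨hbN, -, -⟩, huniq⟩ := existsUnique_correspondent hM hB hP
  have huniq' : ∀ E : Set (IrrCharacter N(P)), IsPBlock M E →
      IsDefectGroup p M E (P.subgroupOf N(P)) → IsInducedBlock M N(P) E B → E = bN :=
    fun E h1 h2 h3 => huniq E ⟨h1, h2, h3⟩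
  let c : N(P) → (L ≃* L) := fun n =>
    { toFun := fun x => ⟨(n : G) * x * (n : G)⁻¹, hLn n n.2 x x.2⟩
      invFun := fun x => ⟨(n : G)⁻¹ * x * (n : G), by
        simpa using hLn _ (inv_mem n.2) x x.2⟩
      left_inv := fun x => Subtype.ext (by simp [mul_assoc])
      right_inv := fun x => Subtype.ext (by simp [mul_assoc])
      map_mul' := fun x y => Subtype.ext (by simp [mul_assoc]) }
  have hc : ∀ (n : N(P)) (x : L), (c n x : G) = (n : G) * x * (n : G)⁻¹ := fun _ _ => rfl
  have hcomp : ∀ (n m : N(P)) (φ : IrrCharacter L),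
      irrRelabel (c n) (irrRelabel (c m) φ) = irrRelabel (c (m * n)) φ := fun n m φ =>
    Subtype.ext (funext fun x => congrArg (φ : L → ℂ) (Subtype.ext (by simp [hc, mul_assoc])))
  have hone : ∀ φ : IrrCharacter L, irrRelabel (c 1) φ = φ := fun φ =>
    Subtype.ext (funext fun x => congrArg (φ : L → ℂ) (Subtype.ext (by simp [hc])))
  set O : Set (IrrCharacter L) := {φ | ∃ n : N(P), ∃ θ ∈ b, φ = irrRelabel (c n) θ}
  have hsat : ∀ φ ∈ O, ∀ φ' : IrrCharacter L, SameBlock M (φ : L → ℂ) (φ' : L → ℂ) → φ' ∈ O := by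
    rintro _ ⟨n, θ, hθ, rfl⟩ φ' h
    refine ⟨n, irrRelabel (c n⁻¹) φ', (IsPBlock.mem_iff hM hb.1 hθ).2 ?_, ?_⟩
    · have := sameBlock_irrRelabel (M := M) (c n⁻¹) h
      rwa [hcomp, mul_inv_cancel, hone] at this
    · rw [hcomp, inv_mul_cancel, hone]
  have hloc : IsLocalOn M (⊤ : Subgroup L) (blockInd O) :=
    IsLocalOn.blockInd_of_separated hM fun χ hχ φ hφ => by
      by_contra h
      push Not at h
      exact hφ (hsat χ hχ φ fun g => h g (Subgroup.mem_top g))
  set f : L → ℂ := fourierInv (blockInd O)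
  have hf : IsClassFunction L f := fourierInv_isClassFunction _
  have hfR : ∀ l, MemLocalRing M (f l) := fun l => (hloc l).1
  have hfinv : ∀ (n : N(P)) (l : L), f (c n l) = f l := by
    intro n l
    simp only [f, fourierInv]
    congr 1
    let eq : IrrCharacter L ≃ IrrCharacter L :=
      ⟨irrRelabel (c n), irrRelabel (c n⁻¹), fun φ => by rw [hcomp, mul_inv_cancel, hone],
        fun φ => by rw [hcomp, inv_mul_cancel, hone]⟩
    refine Fintype.sum_equiv eq _ _ fun φ => ?_
    have h1 : blockInd O (eq φ) = blockInd O φ := by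
      by_cases hm : φ ∈ O
      · obtain ⟨m, θ, hθ, he⟩ := id hm
        have hm' : eq φ ∈ O := ⟨m * n, θ, hθ, by rw [← hcomp, ← he]; rfl⟩
        rw [blockInd_of_mem hm, blockInd_of_mem hm']
      · rw [blockInd_of_notMem hm, blockInd_of_notMem]
        rintro ⟨m, θ, hθ, he⟩
        refine hm ⟨m * n⁻¹, θ, hθ, ?_⟩
        have := congrArg (irrRelabel (c n⁻¹)) he
        change irrRelabel (c n⁻¹) (irrRelabel (c n) φ) = _ at this
        rwa [hcomp, mul_inv_cancel, hone, hcomp] at this
    rw [h1]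
    show _ = blockInd O φ * ((φ : L → ℂ) (c n 1) * (φ : L → ℂ) (c n l⁻¹))
    rw [map_one, map_inv]
  set F : N(P) → ℂ := fun x => if h : (x : G) ∈ L then f ⟨x, h⟩ else 0
  have hF : IsClassFunction N(P) F := by
    intro x y
    simp only [F]
    by_cases hx : (x : G) ∈ L
    · rw [dif_pos hx, dif_pos (show ((y * x * y⁻¹ : N(P)) : G) ∈ L from hLn y y.2 x hx)]
      exact hfinv y ⟨x, hx⟩
    · rw [dif_neg hx, dif_neg fun h' => hx (by
        simpa [mul_assoc] using hLn _ (inv_mem y.2) _ h')]
  have hFR : ∀ x, MemLocalRing M (F x) := fun x => by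
    simp only [F]; split
    · exact hfR _
    · exact LR.zero hM
  haveI := normal_subgroupOf_of_le_normalizer hPL hLN
  have htr : ∀ θ : IrrCharacter L, MemLocalIdeal M (omega (θ : L → ℂ) f
      - omega (θ : L → ℂ) (fun l : L =>
          if (l : G) ∈ Subgroup.centralizer (P : Set G) then F ⟨l, hLN l.2⟩ else 0)) := by
    intro θ
    set h : L → ℂ := fun l : L =>
      if (l : G) ∈ Subgroup.centralizer (P : Set G) then F ⟨l, hLN l.2⟩ else 0
    have e : omega (θ : L → ℂ) f - omega (θ : L → ℂ) h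
        = omega (θ : L → ℂ) fun l => f l - h l := by
      simp only [omega, sub_mul, Finset.sum_sub_distrib, sub_div]
    rw [e]
    refine omega_LI_of_vanish_centralizer hM (P := P.subgroupOf L)
      (hPp.of_injective (Subgroup.subgroupOfEquivOfLe hPL).toMonoidHom
        (Subgroup.subgroupOfEquivOfLe hPL).injective) ?_ ?_ (fun k hk => ?_) θ
    · intro x y
      have h2 : ((y * x * y⁻¹ : L) : G) ∈ Subgroup.centralizer (P : Set G)
          ↔ (x : G) ∈ Subgroup.centralizer (P : Set G) :=
        ⟨fun h' => by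
          have := mem_centralizer_conj (inv_mem (hLN y.2)) h'
          simpa [mul_assoc] using this, fun h' => mem_centralizer_conj (hLN y.2) h'⟩
      show _ - h _ = _ - h _
      congr 1
      · exact hf x y
      · simp only [h, h2]
        split
        · exact hF ⟨x, hLN x.2⟩ ⟨y, hLN y.2⟩
        · rfl
    · intro l
      refine LR.sub hM (hfR l) ?_
      simp only [h]; split
      · exact hFR _
      · exact LR.zero hM
    · have hk' := (mem_centralizer_subgroupOf hPL k).1 hk
      simp only [h, F, if_pos hk', dif_pos k.2]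
      rw [sub_self]
      exact LI.zero hM
  obtain ⟨θ₀, hθ₀⟩ := IsPBlock.nonempty hM hb.1
  obtain ⟨θ₁, hθ₁⟩ := IsPBlock.nonempty hM hb'.1
  obtain ⟨χ, hχ, hev⟩ := exists_correspondent_eval hM hP hPL hCL hLN hb huniq' hθ₀
  obtain ⟨χ', hχ', hev'⟩ := exists_correspondent_eval hM hP hPL hCL hLN hb' huniq' hθ₁
  have h1 : MemLocalIdeal M (omega (θ₀ : L → ℂ) f - omega (θ₁ : L → ℂ) f) :=
    LI.trans hM (htr θ₀) (LI.trans hM (hev F hF hFR) (LI.trans hM
      (omega_congr hM (IsPBlock.sameBlock hM hbN hχ hχ') hF hFR)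
      (LI.trans hM (LI.sub_comm (hev' F hF hFR)) (LI.sub_comm (htr θ₁)))))
  simp only [f, omega_fourierInv] at h1
  rw [blockInd_of_mem (⟨1, θ₀, hθ₀, (hone θ₀).symm⟩ : θ₀ ∈ O)] at h1
  have hmem : θ₁ ∈ O := by
    by_contra hne
    rw [blockInd_of_notMem hne, sub_zero] at h1
    exact LI.not_one hM h1
  obtain ⟨n, θ₂, hθ₂, he⟩ := hmem
  refine ⟨n, n.2, fun θ hθ => ⟨irrRelabel (c n) θ, ?_, fun x hx => rfl⟩⟩
  refine (IsPBlock.mem_iff hM hb'.1 hθ₁).2 ?_
  rw [he]
  exact sameBlock_irrRelabel (c n) (IsPBlock.sameBlock hM hb.1 hθ₂ hθ)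

end CfsgLib.Blocks
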