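import Cfsg.Agent.Lib.Blocks.CoverDefect
import Cfsg.Agent.Lib.Blocks.Local2

/-!
# Blocks over an invariant character of a normal `p'`-subgroup

`K` normal of order prime to `p`, `θ` invariant.  Some block over `θ` has full defect; if `L / K` is
a `p`-group and the `p`-regular elements centralizing a Sylow subgroup of `L` lie in `L`, there is
only one block over `θ`; the Brauer image of the idempotent of `θ` at a `p`-subgroup `R` determines
a single character of `C_K(R)`.
-/

set_option autoImplicit false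
set_option linter.unusedSectionVars false

namespace CfsgLib.Blocks.StableOver

open Cfsg CfsgLib.Blocks CfsgLib.Blocks.FongReynolds CfsgLib.Blocks.CoverDefect
  CfsgLib.CharDeep.Clifford
open scoped Classical

variable {G : Type*} [Group G] [Fintype G] {p : ℕ} {M : Ideal AlgInt}

section Stable

variable {N : Subgroup G} [N.Normal] [Fintype N] {b : Set (IrrCharacter N)}

/-- A stable block is covered by a block of the largest possible defect. -/
theorem exists_covering_full (hM : IsPModular p M) (hb : IsPBlock M b)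
    (hst : ∀ (g : G), ∀ θ ∈ b, conjIrr g θ ∈ b) {χ : IrrCharacter G} {θ : IrrCharacter N}
    (hθ : θ ∈ b) (hχ : classInner (fun n : N => (χ : G → ℂ) n) (θ : N → ℂ) ≠ 0) :
    ∃ B : Set (IrrCharacter G), IsPBlock M B ∧
      (∃ χ ∈ B, ∃ θ ∈ b, classInner (fun n : N => (χ : G → ℂ) n) (θ : N → ℂ) ≠ 0) ∧
      blockDefect p B + (Nat.card N).factorization p
        = blockDefect p b + (Nat.card G).factorization p := by
  let _ : Fintype (stabilizer hM hb) := Fintype.ofFinite _
  have hT := mem_stabilizer hM hb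
  have hNT := le_stabilizer hM hb
  obtain ⟨ψ, hψ, -⟩ := exists_covers_of_over hNT hM hb hT hθ hχ
  obtain ⟨B₀, hB₀, hall, hd⟩ := exists_maximal hNT hM hb hT hψ
  obtain ⟨χ₀, hχ₀⟩ := IsPBlock.nonempty hM hB₀
  have hc : ∃ ψ ∈ B₀, Covers hNT ψ b := ⟨χ₀, hχ₀, hall χ₀ hχ₀⟩
  obtain ⟨B, hind, hcov, -, -⟩ := exists_induced hNT hM hb hT hB₀ hc
  refine ⟨B, hind.2.1, hcov, ?_⟩
  obtain ⟨D, hD⟩ := exists_isDefectGroup hM hB₀
  have h1 := card_defectGroup hM hind.2.1
    ((defectGroup_and_height hNT hM hb hT hB₀ hc hind).1 D hD)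
  rw [Subgroup.card_map_of_injective (stabilizer hM hb).subtype_injective,
    card_defectGroup hM hB₀ hD] at h1
  rw [← Nat.pow_right_injective hM.1.two_le h1, hd, (Subgroup.card_eq_iff_eq_top _).2
    ((Subgroup.eq_top_iff' _).2 fun g => (mem_stabilizer hM hb g).2 (hst g))]

/-- If the `p`-regular elements centralizing a defect group of a stable block lie in `N`, one block
covers it. -/
theorem sameBlock_of_regular_centralizer (hM : IsPModular p M) (hb : IsPBlock M b)
    {Q : Subgroup N} (hQ : IsDefectGroup p M b Q)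
    (hreg : ∀ x ∈ Subgroup.centralizer ((Q.map N.subtype : Subgroup G) : Set G),
      IsPRegular p x → x ∈ N)
    {χ χ' : IrrCharacter G} {η η' : IrrCharacter N} (hη : η ∈ b) (hη' : η' ∈ b)
    (hχ : classInner (fun n : N => (χ : G → ℂ) n) (η : N → ℂ) ≠ 0)
    (hχ' : classInner (fun n : N => (χ' : G → ℂ) n) (η' : N → ℂ) ≠ 0) :
    SameBlock M (χ : G → ℂ) (χ' : G → ℂ) := by
  set B := blockOf M (χ : G → ℂ)
  have hB : IsPBlock M B := isPBlock_blockOf χ
  let _ : Fintype (stabilizer hM hb) := Fintype.ofFinite _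
  have hT := mem_stabilizer hM hb
  have hNT := le_stabilizer hM hb
  set fN : N → ℂ := fun n => blockCoeff B (n : G)
  set f₀ : G → ℂ := fun x => if hx : x ∈ N then fN ⟨x, hx⟩ else 0 with hf₀
  set f₁ : G → ℂ := fun x => blockCoeff B x - f₀ x with hf₁
  have hinv : ∀ (g : G) (n : N), fN (MulAut.conjNormal g n) = fN n := fun g n => by
    show blockCoeff B ((MulAut.conjNormal g n : N) : G) = blockCoeff B (n : G)
    rw [MulAut.conjNormal_apply]
    exact blockCoeff_isClassFunction B (n : G) g
  have hc₀ : IsClassFunction G f₀ := fun x y => by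
    by_cases hx : x ∈ N
    · simp only [hf₀, dif_pos hx, dif_pos (Subgroup.Normal.conj_mem inferInstance x hx y)]
      exact blockCoeff_isClassFunction B x y
    · simp only [hf₀, dif_neg hx]
      rw [dif_neg fun h' => hx (by
        simpa [mul_assoc] using Subgroup.Normal.conj_mem (inferInstance : N.Normal) _ h' y⁻¹)]
  have hc₁ : IsClassFunction G f₁ := fun x y =>
    congrArg₂ (· - ·) (blockCoeff_isClassFunction B x y) (hc₀ x y)
  have hR₁ : ∀ x, MemLocalRing M (f₁ x) := fun x => LR.sub hM (blockCoeff_LR hM hB x) (by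
    simp only [hf₀]; split
    · exact blockCoeff_LR hM hB _
    · exact LR.zero hM)
  have hvan : ∀ x ∈ Subgroup.centralizer ((Q.map N.subtype : Subgroup G) : Set G), f₁ x = 0 := by
    intro x hx
    by_cases hxN : x ∈ N
    · simp [hf₁, hf₀, fN, hxN]
    · simp only [hf₁, hf₀, dif_neg hxN, sub_zero]
      exact IsPBlock.blockCoeff_eq_zero hM hB (not_not.1 fun h => hxN (hreg x hx h))
  have key : ∀ (χ : IrrCharacter G) (η : IrrCharacter N), η ∈ b →
      classInner (fun n : N => (χ : G → ℂ) n) (η : N → ℂ) ≠ 0 →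
      MemLocalIdeal M (blockInd B χ - omega (η : N → ℂ) fN) := by
    intro χ η hη hχ
    obtain ⟨ψ, hψ, he⟩ := exists_covers_of_over hNT hM hb hT hη hχ
    have h1 : MemLocalIdeal M (omega (χ : G → ℂ) f₁) := by
      rw [he, omega_indFun ψ hc₁]
      refine omega_LI_of_centralizer hNT hM hb hT hQ hψ (resFun_isClassFunction _ hc₁)
        (fun t => hR₁ _) fun t ht => ?_
      rw [hvan (t : G) (Subgroup.mem_centralizer_iff.2 ?_)]
      · exact LI.zero hM
      · rintro _ ⟨n, hn, rfl⟩
        exact congrArg Subtype.val (Subgroup.mem_centralizer_iff.1 ht _ ⟨n, hn, rfl⟩)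
    have e : omega (χ : G → ℂ) f₁ = blockInd B χ - omega (η : N → ℂ) fN := by
      rw [← omega_blockCoeff B χ, ← omega_eq_of_over hχ hinv, ← omega_extend χ fN, ← hf₀]
      simp only [hf₁, omega, sub_mul, Finset.sum_sub_distrib, sub_div]
    rwa [e] at h1
  have h1 := key χ η hη hχ
  have h2 := key χ' η' hη' hχ'
  have hfN : IsClassFunction N fN := fun x y => blockCoeff_isClassFunction B (x : G) (y : G)
  have h3 := omega_congr hM (IsPBlock.sameBlock hM hb hη hη') hfN fun n => blockCoeff_LR hM hB _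
  by_contra hne
  rw [blockInd_of_notMem (show χ' ∉ B from hne)] at h2
  rw [blockInd_of_mem (show χ ∈ B from SameBlock_refl hM _)] at h1
  exact LI.not_one hM (by simpa using LI.trans hM (LI.trans hM h1 h3) (LI.sub_comm h2))

end Stable

/-! ### A normal `p'`-subgroup -/

variable {K : Subgroup G} [Fintype K] (hM : IsPModular p M) (hK : ¬ p ∣ Nat.card K)

include hM hK in
theorem eq_of_sameBlock {θ φ : IrrCharacter K} (h : SameBlock M (θ : K → ℂ) (φ : K → ℂ)) :
    φ = θ := by
  have h0 : (Nat.card K).factorization p = 0 := Nat.factorization_eq_zero_of_not_dvd hK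
  have h1 : degVal p θ = (Nat.card K).factorization p := by
    rw [h0, degVal]
    exact Nat.factorization_eq_zero_of_not_dvd fun hd => hK (hd.trans (charDegree_dvd θ))
  have h2 : φ ∈ blockOf M (θ : K → ℂ) := h
  rwa [(blockOf_eq_singleton_iff hM θ).2 h1, Set.mem_singleton_iff] at h2

include hM hK in
theorem isPBlock_singleton (θ : IrrCharacter K) :
    IsPBlock M ({θ} : Set (IrrCharacter K)) ∧ blockDefect p ({θ} : Set (IrrCharacter K)) = 0 := by
  have hb : IsPBlock M ({θ} : Set (IrrCharacter K)) :=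
    ⟨θ, Set.ext fun φ => ⟨fun h => h ▸ SameBlock_refl hM _, fun h => eq_of_sameBlock hM hK h⟩⟩
  obtain ⟨D, hD⟩ := exists_isDefectGroup hM hb
  refine ⟨hb, Nat.pow_right_injective hM.1.two_le ?_⟩
  show p ^ blockDefect p _ = p ^ 0
  rw [← card_defectGroup hM hb hD, pow_zero]
  obtain ⟨k, hk⟩ := (haveI := Fact.mk hM.1; IsPGroup.iff_card.1 (isPGroup_defectGroup hD))
  rcases Nat.eq_zero_or_pos k with h | h
  · rw [hk, h, pow_zero]
  · exact absurd (((dvd_pow_self p h.ne').trans (hk ▸ dvd_rfl)).trans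
      D.card_subgroup_dvd_card) hK

/-- The idempotent of `θ` as a function on `G`. -/
noncomputable def idemOf (θ : IrrCharacter K) : G → ℂ :=
  fun x => if h : x ∈ K then blockCoeff ({θ} : Set (IrrCharacter K)) ⟨x, h⟩ else 0

theorem blockCoeff_singleton (θ : IrrCharacter K) (k : K) :
    blockCoeff ({θ} : Set (IrrCharacter K)) k
      = (Nat.card K : ℂ)⁻¹ * ((θ : K → ℂ) 1 * (θ : K → ℂ) k⁻¹) := by
  rw [blockCoeff_eq_fourierInv, fourierInv, Finset.sum_eq_single θ]
  · rw [blockInd_of_mem (Set.mem_singleton θ), one_mul]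
  · intro φ _ h
    rw [blockInd_of_notMem (show φ ∉ ({θ} : Set (IrrCharacter K)) from h), zero_mul]
  · simp

include hM hK in
theorem idemOf_LR (θ : IrrCharacter K) (x : G) : MemLocalRing M (idemOf θ x) := by
  unfold idemOf; split
  · exact blockCoeff_LR hM (isPBlock_singleton hM hK θ).1 _
  · exact LR.zero hM

section Normal

variable [K.Normal] {θ : IrrCharacter K} (hθ : ∀ g : G, conjIrr g θ = θ)

include hθ in
theorem coeff_conjNormal (g : G) (k : K) :
    blockCoeff ({θ} : Set (IrrCharacter K)) (MulAut.conjNormal g k)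
      = blockCoeff ({θ} : Set (IrrCharacter K)) k := by
  have e : ∀ n : K, (θ : K → ℂ) (MulAut.conjNormal g n) = (θ : K → ℂ) n := fun n => by
    conv_rhs => rw [← hθ g]
    rfl
  rw [blockCoeff_singleton, blockCoeff_singleton, ← map_inv, e]

include hθ in
theorem idemOf_isClassFunction : IsClassFunction G (idemOf θ) := fun x y => by
  unfold idemOf
  by_cases hx : x ∈ K
  · rw [dif_pos hx, dif_pos (Subgroup.Normal.conj_mem inferInstance x hx y)]
    exact (congrArg (blockCoeff _) (Subtype.ext (MulAut.conjNormal_apply y ⟨x, hx⟩).symm)).trans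
      (coeff_conjNormal hθ y ⟨x, hx⟩)
  · rw [dif_neg hx, dif_neg fun h' => hx (by
      simpa [mul_assoc] using Subgroup.Normal.conj_mem (inferInstance : K.Normal) _ h' y⁻¹)]

include hθ in
/-- Lying over `θ` is read off from the idempotent of `θ`. -/
theorem omega_idemOf (χ : IrrCharacter G) :
    omega (χ : G → ℂ) (idemOf θ)
      = if classInner (fun k : K => (χ : G → ℂ) k) (θ : K → ℂ) ≠ 0 then 1 else 0 := by
  unfold idemOf
  rw [omega_extend]
  by_cases h : classInner (fun k : K => (χ : G → ℂ) k) (θ : K → ℂ) ≠ 0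
  · rw [if_pos h, omega_eq_of_over h (coeff_conjNormal hθ), omega_blockCoeff,
      blockInd_of_mem (Set.mem_singleton θ)]
  · obtain ⟨φ, hφ⟩ := CfsgLib.Blocks.exists_over (N := K) χ
    rw [if_neg h, omega_eq_of_over hφ (coeff_conjNormal hθ), omega_blockCoeff,
      blockInd_of_notMem fun e : φ ∈ ({θ} : Set (IrrCharacter K)) => h (e ▸ hφ)]

include hM hK hθ in
/-- Some block over `θ` has full defect. -/
theorem exists_full_over :
    ∃ B : Set (IrrCharacter G), IsPBlock M B ∧
      (∀ χ ∈ B, classInner (fun k : K => (χ : G → ℂ) k) (θ : K → ℂ) ≠ 0) ∧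
      blockDefect p B = (Nat.card G).factorization p := by
  obtain ⟨hb, hd⟩ := isPBlock_singleton hM hK θ
  obtain ⟨χ, hχ⟩ : ∃ χ : IrrCharacter G,
      classInner (fun k : K => (χ : G → ℂ) k) (θ : K → ℂ) ≠ 0 := by
    by_contra h
    push Not at h
    have h0 : fourierInv (fun χ : IrrCharacter G => omega (χ : G → ℂ) (idemOf θ)) 1 = 0 := by
      simp only [omega_idemOf hθ, h, ne_eq, not_true_eq_false, if_false, fourierInv, zero_mul,
        Finset.sum_const_zero, mul_zero]
    rw [fourierInv_omega (idemOf_isClassFunction hθ), idemOf, dif_pos (one_mem K)] at h0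
    exact blockCoeff_one_ne_zero hM hb h0
  obtain ⟨B, hB, ⟨χ₁, hχ₁, θ₁, hθ₁, h₁⟩, hdef⟩ := exists_covering_full hM hb
    (fun g φ hφ => by rw [Set.mem_singleton_iff.1 hφ, hθ g]; rfl) (Set.mem_singleton θ) hχ
  rw [Set.mem_singleton_iff.1 hθ₁] at h₁
  refine ⟨B, hB, fun χ' hχ' => over_of_sameBlock hM hK h₁ (IsPBlock.sameBlock hM hB hχ₁ hχ'), ?_⟩
  rwa [hd, Nat.factorization_eq_zero_of_not_dvd hK, add_zero, zero_add] at hdef

include hM hK hθ in
/-- One block over `θ`. -/
theorem sameBlock_of_over_invariant {L : Subgroup G} [L.Normal] (hKL : K ≤ L)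
    (hidx : ∃ k, K.relIndex L = p ^ k)
    (hreg : ∀ S : Sylow p L, ∀ x ∈ Subgroup.centralizer
      (((S : Subgroup L).map L.subtype : Subgroup G) : Set G), IsPRegular p x → x ∈ L)
    {χ χ' : IrrCharacter G}
    (hχ : classInner (fun k : K => (χ : G → ℂ) k) (θ : K → ℂ) ≠ 0)
    (hχ' : classInner (fun k : K => (χ' : G → ℂ) k) (θ : K → ℂ) ≠ 0) :
    SameBlock M (χ : G → ℂ) (χ' : G → ℂ) := by
  haveI := Fact.mk hM.1
  let _ : Fintype L := Fintype.ofFinite L
  let _ : Fintype (K.subgroupOf L) := Fintype.ofFinite _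
  let e : K.subgroupOf L ≃* K := Subgroup.subgroupOfEquivOfLe hKL
  set θl : IrrCharacter (K.subgroupOf L) := irrRelabel e θ
  have hKl : ¬ p ∣ Nat.card (K.subgroupOf L) := by rwa [Nat.card_congr e.toEquiv]
  have hθl : ∀ l : L, conjIrr l θl = θl := fun l => Subtype.ext (funext fun k => by
    show (θ : K → ℂ) (e (MulAut.conjNormal l k)) = (θ : K → ℂ) (e k)
    conv_rhs => rw [← hθ (l : G)]
    show _ = (θ : K → ℂ) (MulAut.conjNormal (l : G) (e k))
    exact congrArg _ (Subtype.ext rfl))
  have hE : (fun l : L => idemOf θ (l : G)) = idemOf θl := funext fun l => by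
    unfold idemOf
    by_cases hl : (l : G) ∈ K
    · rw [dif_pos hl, dif_pos (show l ∈ K.subgroupOf L from hl), blockCoeff_singleton,
        blockCoeff_singleton, Nat.card_congr e.toEquiv, irrRelabel_apply, irrRelabel_apply, map_one]
      rfl
    · rw [dif_neg hl, dif_neg (show l ∉ K.subgroupOf L from hl)]
  obtain ⟨b, hb, hball, hbd⟩ := exists_full_over hM hKl hθl
  obtain ⟨η₀, hη₀⟩ := IsPBlock.nonempty hM hb
  have hmem : ∀ η : IrrCharacter L, omega (η : L → ℂ) (idemOf θl) = 1 → η ∈ b := by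
    intro η h
    refine (IsPBlock.mem_iff hM hb hη₀).2 (sameBlock_of_over hM ?_ (hball η₀ hη₀) ?_)
    · exact hidx
    · by_contra h'
      rw [omega_idemOf hθl η, if_neg (not_not.2 h')] at h
      exact zero_ne_one h
  have hfull : ∀ (χ : IrrCharacter G), classInner (fun k : K => (χ : G → ℂ) k) (θ : K → ℂ) ≠ 0 →
      ∃ η ∈ b, classInner (fun l : L => (χ : G → ℂ) l) (η : L → ℂ) ≠ 0 := by
    intro χ hχ
    obtain ⟨η, hη⟩ := CfsgLib.Blocks.exists_over (N := L) χ
    refine ⟨η, hmem η ?_, hη⟩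
    have hinv : ∀ (g : G) (l : L), (fun l : L => idemOf θ (l : G)) (MulAut.conjNormal g l)
        = (fun l : L => idemOf θ (l : G)) l := fun g l => by
      show idemOf θ ((MulAut.conjNormal g l : L) : G) = _
      rw [MulAut.conjNormal_apply]
      exact idemOf_isClassFunction hθ (l : G) g
    have h1 := omega_idemOf hθ χ
    rw [if_pos hχ] at h1
    have e1 : idemOf θ = fun x : G => if hx : x ∈ L then idemOf θ ((⟨x, hx⟩ : L) : G) else 0 := by
      funext x
      by_cases hx : x ∈ L
      · rw [dif_pos hx]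
      · rw [dif_neg hx, idemOf, dif_neg fun h => hx (hKL h)]
    rw [e1, omega_extend (f := fun l : L => idemOf θ (l : G)), omega_eq_of_over hη hinv, hE] at h1
    exact h1
  obtain ⟨Q, hQ⟩ := exists_isDefectGroup hM hb
  have hQc : Nat.card Q = p ^ (Nat.card L).factorization p := by
    rw [card_defectGroup hM hb hQ, hbd]
  obtain ⟨η, hη, h⟩ := hfull χ hχ
  obtain ⟨η', hη', h'⟩ := hfull χ' hχ'
  exact sameBlock_of_regular_centralizer hM hb hQ (fun x hx hr =>
    hreg (Sylow.ofCard Q hQc) x (by rwa [Sylow.coe_ofCard]) hr) hη hη' h h'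

/-- Conjugacy in `K` of elements centralized by a `p`-group is conjugacy in the centralizer. -/
theorem exists_conj_centralized [Fact p.Prime] (hK : ¬ p ∣ Nat.card K) {R : Subgroup G}
    (hR : IsPGroup p R) {c d : K} (hc : (c : G) ∈ Subgroup.centralizer (R : Set G))
    (hd : (d : G) ∈ Subgroup.centralizer (R : Set G)) (h : IsConj c d) :
    ∃ k : K, (k : G) ∈ Subgroup.centralizer (R : Set G) ∧ k * c * k⁻¹ = d := by
  obtain ⟨k₀, hk₀⟩ := isConj_iff.1 h
  have hfix : ∀ z : K, (z : G) ∈ Subgroup.centralizer (R : Set G) → ∀ u : R,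
      MulAut.conjNormal (u : G) z = z := fun z hz u => Subtype.ext (by
    rw [MulAut.conjNormal_apply, Subgroup.mem_centralizer_iff.1 hz u u.2, mul_inv_cancel_right])
  let act : MulAction R {k : K // k * c * k⁻¹ = d} :=
    { smul := fun u k => ⟨MulAut.conjNormal (u : G) (k : K), by
        have := congrArg (MulAut.conjNormal (u : G)) k.2
        simpa [hfix c hc u, hfix d hd u] using this⟩
      one_smul := fun k => Subtype.ext (show MulAut.conjNormal ((1 : R) : G) (k : K) = k by simp)
      mul_smul := fun u v k => Subtype.ext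
        (show MulAut.conjNormal ((u * v : R) : G) (k : K)
          = MulAut.conjNormal (u : G) (MulAut.conjNormal (v : G) (k : K)) by
          rw [Subgroup.coe_mul, map_mul]; rfl) }
  letI := act
  have hcard : Nat.card {k : K // k * c * k⁻¹ = d}
      = Nat.card (Subgroup.centralizer ({c} : Set K)) := Nat.card_congr
    { toFun := fun k => ⟨k₀⁻¹ * k.1, Subgroup.mem_centralizer_singleton_iff.2 (by
        have h1 : k.1 * c * k.1⁻¹ = k₀ * c * k₀⁻¹ := k.2.trans hk₀.symm
        calc k₀⁻¹ * k.1 * c = k₀⁻¹ * (k.1 * c * k.1⁻¹) * k.1 := by group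
          _ = k₀⁻¹ * (k₀ * c * k₀⁻¹) * k.1 := by rw [h1]
          _ = c * (k₀⁻¹ * k.1) := by group)⟩
      invFun := fun z => ⟨k₀ * z.1, by
        have hz := Subgroup.mem_centralizer_singleton_iff.1 z.2
        calc k₀ * z.1 * c * (k₀ * z.1)⁻¹ = k₀ * (z.1 * c) * z.1⁻¹ * k₀⁻¹ := by group
          _ = k₀ * (c * z.1) * z.1⁻¹ * k₀⁻¹ := by rw [hz]
          _ = k₀ * c * k₀⁻¹ := by group
          _ = d := hk₀⟩
      left_inv := fun k => Subtype.ext (by simp)
      right_inv := fun z => Subtype.ext (by simp) }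
  obtain ⟨k, hk⟩ := hR.nonempty_fixed_point_of_prime_not_dvd_card (α := {k : K // k * c * k⁻¹ = d})
    (by rw [hcard]; exact fun h => hK (h.trans (Subgroup.card_subgroup_dvd_card _)))
  refine ⟨k.1, Subgroup.mem_centralizer_iff.2 fun u hu => ?_, k.2⟩
  have h1 : MulAut.conjNormal u k.1 = k.1 := congrArg Subtype.val (hk ⟨u, hu⟩)
  have h2 := congrArg Subtype.val h1
  rw [MulAut.conjNormal_apply] at h2
  exact mul_inv_eq_iff_eq_mul.1 h2

theorem classInd_congr {A B : Type*} [Group A] [Group B] [Fintype A] [Fintype B] {a x : A} {b y : B}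
    (h : IsConj a x ↔ IsConj b y) : classInd a x = classInd b y := by
  by_cases hh : IsConj a x
  · rw [classInd, classInd, if_pos hh, if_pos (h.1 hh)]
  · rw [classInd, classInd, if_neg hh, if_neg (mt h.2 hh)]

include hM hK hθ in
/-- The Brauer image of the idempotent of `θ` meets one character of `C_K(R)`. -/
theorem eq_of_brauer {R C : Subgroup G} (hR : IsPGroup p R)
    (hC : C = Subgroup.centralizer (R : Set G))
    [Fintype (K.subgroupOf C)] {φ φ' : IrrCharacter (K.subgroupOf C)}
    (hφ : MemLocalIdeal M (omega (φ : K.subgroupOf C → ℂ)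
      (fun k : K.subgroupOf C => idemOf θ ((k : C) : G)) - 1))
    (hφ' : MemLocalIdeal M (omega (φ' : K.subgroupOf C → ℂ)
      (fun k : K.subgroupOf C => idemOf θ ((k : C) : G)) - 1)) :
    φ' = φ := by
  haveI := Fact.mk hM.1
  let _ : Fintype C := Fintype.ofFinite C
  have hKc' : ¬ p ∣ Nat.card (K.subgroupOf C) := fun h => hK (h.trans (by
    let f : (K.subgroupOf C) →* K := ⟨⟨fun k => ⟨((k : C) : G), k.2⟩, rfl⟩, fun _ _ => rfl⟩
    exact Subgroup.card_dvd_of_injective f fun a b h =>
      Subtype.ext (Subtype.ext (congrArg Subtype.val h :))))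
  refine eq_of_sameBlock hM hKc' fun c => ?_
  set cK : K := ⟨((c : C) : G), c.2⟩
  set F : G → ℂ := fun x => if h : x ∈ K then classInd cK ⟨x, h⟩ else 0 with hF
  set E : G → ℂ := idemOf θ
  have hCR : ∀ z ∈ C, z ∈ Subgroup.centralizer (R : Set G) := fun z hz => by rwa [hC] at hz
  have hFR : ∀ x, MemLocalRing M (F x) := fun x => by
    simp only [hF]; split
    · exact classInd_LR hM _ _
    · exact LR.zero hM
  have hcR : ((cK : K) : G) ∈ Subgroup.centralizer (R : Set G) := hC ▸ (c : C).2
  have hFinv : ∀ u ∈ R, ∀ x, F (u * x * u⁻¹) = F x := by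
    intro u hu x
    have hu' : MulAut.conjNormal u cK = cK := Subtype.ext (by
      rw [MulAut.conjNormal_apply, Subgroup.mem_centralizer_iff.1 hcR u hu, mul_inv_cancel_right])
    simp only [hF]
    by_cases hx : x ∈ K
    · rw [dif_pos hx, dif_pos (Subgroup.Normal.conj_mem inferInstance x hx u),
        show (⟨u * x * u⁻¹, _⟩ : K) = MulAut.conjNormal u ⟨x, hx⟩ from
          Subtype.ext (MulAut.conjNormal_apply u ⟨x, hx⟩).symm]
      refine classInd_congr ⟨fun h => ?_, fun h => ?_⟩
      · have := (MulAut.conjNormal u⁻¹ : MulAut K).toMonoidHom.map_isConj h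
        have h1 : MulAut.conjNormal u⁻¹ cK = cK := by
          conv_lhs => rw [← hu']
          rw [← MulAut.mul_apply, ← map_mul, inv_mul_cancel, map_one, MulAut.one_apply]
        rw [MulEquiv.coe_toMonoidHom, h1, ← MulAut.mul_apply, ← map_mul, inv_mul_cancel, map_one,
          MulAut.one_apply] at this
        exact this
      · have := (MulAut.conjNormal u : MulAut K).toMonoidHom.map_isConj h
        simpa [hu'] using this
    · rw [dif_neg hx, dif_neg fun h' => hx (by
        simpa [mul_assoc] using Subgroup.Normal.conj_mem (inferInstance : K.Normal) _ h' u⁻¹)]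
  set a : ℂ := omega (θ : K → ℂ) (classInd cK) with ha
  -- the product in `K`
  have hprod : ∀ d : G, d ∈ K → ∑ x, F x * E (x⁻¹ * d) = a * E d := by
    intro d hd
    have e1 : ∑ x, F x * E (x⁻¹ * d)
        = ∑ k : K, classInd cK k * blockCoeff ({θ} : Set (IrrCharacter K)) (k⁻¹ * ⟨d, hd⟩) := by
      symm
      refine Finset.sum_bij_ne_zero (fun k _ _ => (k : G)) (fun _ _ _ => Finset.mem_univ _)
        (fun _ _ _ _ _ _ h => Subtype.ext h) ?_ ?_
      · intro x _ hx
        have hxK : x ∈ K := by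
          by_contra h
          simp [hF, dif_neg h] at hx
        refine ⟨⟨x, hxK⟩, Finset.mem_univ _, ?_, rfl⟩
        simp only [hF, E, idemOf, dif_pos hxK, dif_pos (mul_mem (inv_mem hxK) hd)] at hx
        exact hx
      · intro k _ _
        simp only [hF, E, idemOf, dif_pos k.2, dif_pos (mul_mem (inv_mem k.2) hd)]
        rfl
    rw [e1, ← fourierInv_omega (classInd_isClassFunction cK)]
    simp only [blockCoeff_eq_fourierInv, E, idemOf, dif_pos hd, fourierInv_mul]
    rw [fourierInv, fourierInv, mul_left_comm a, Finset.mul_sum (a := a)]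
    congr 1
    refine Finset.sum_congr rfl fun ψ _ => ?_
    by_cases h : ψ = θ
    · rw [h, ← ha, mul_assoc]
    · rw [blockInd_of_notMem (show ψ ∉ ({θ} : Set (IrrCharacter K)) from h)]
      ring
  -- restriction to `C_K(R)`
  set Fc : (K.subgroupOf C) → ℂ := fun k => F ((k : C) : G)
  set Ec : (K.subgroupOf C) → ℂ := fun k => E ((k : C) : G)
  have hFc : Fc = classInd c := funext fun k => by
    simp only [Fc, hF]
    rw [dif_pos (show ((k : C) : G) ∈ K from k.2)]
    refine classInd_congr ⟨fun h => ?_, fun h => ?_⟩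
    · obtain ⟨z, hz, he⟩ := exists_conj_centralized hK hR hcR (hC ▸ (k : C).2) h
      exact isConj_iff.2 ⟨⟨⟨(z : G), hC ▸ hz⟩, z.2⟩,
        Subtype.ext (Subtype.ext (congrArg Subtype.val he :))⟩
    · let f : (K.subgroupOf C) →* K := ⟨⟨fun k => ⟨((k : C) : G), k.2⟩, rfl⟩, fun _ _ => rfl⟩
      exact MonoidHom.map_isConj f h
  have hEc : IsClassFunction (K.subgroupOf C) Ec := fun x y =>
    idemOf_isClassFunction hθ ((x : C) : G) ((y : C) : G)
  have hFcc : IsClassFunction (K.subgroupOf C) Fc := by rw [hFc]; exact classInd_isClassFunction c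
  have hcong : ∀ d : (K.subgroupOf C),
      MemLocalIdeal M (a * Ec d - ∑ k : (K.subgroupOf C), Fc k * Ec (k⁻¹ * d)) := by
    intro d
    have h := conv_congr_centralizer hM hR hFR (idemOf_LR hM hK θ) hFinv
      (fun u _ x => idemOf_isClassFunction hθ x u) (c := ((d : C) : G))
      (hCR _ (d : C).2)
    rw [show ∑ x, F x * idemOf θ (x⁻¹ * ((d : C) : G)) = a * Ec d from hprod _ d.2] at h
    have e2 : ∑ k : (K.subgroupOf C), Fc k * Ec (k⁻¹ * d)
        = ∑ x : G with x ∈ Subgroup.centralizer (R : Set G), F x * E (x⁻¹ * ((d : C) : G)) := by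
      refine Finset.sum_bij_ne_zero (fun k _ _ => ((k : C) : G))
        (fun k _ _ => Finset.mem_filter.2 ⟨Finset.mem_univ _, hC ▸ (k : C).2⟩)
        (fun _ _ _ _ _ _ h => Subtype.ext (Subtype.ext h)) ?_ fun k _ _ => rfl
      intro x hx hne
      have hxK : x ∈ K := by
        by_contra h
        simp [hF, dif_neg h] at hne
      exact ⟨⟨⟨x, hC ▸ (Finset.mem_filter.1 hx).2⟩, hxK⟩, Finset.mem_univ _, hne, rfl⟩
    rw [e2]
    exact h
  have hFcR : ∀ k, MemLocalRing M (Fc k) := fun k => hFR _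
  have hval : ∀ ψ : IrrCharacter (K.subgroupOf C), MemLocalIdeal M (omega (ψ : (K.subgroupOf C) → ℂ) Ec - 1) →
      MemLocalIdeal M (centralChar (ψ : (K.subgroupOf C) → ℂ) c - a) := by
    intro ψ hψ
    have h1 := omega_LI hM ψ (f := fun d => a * Ec d - ∑ k : (K.subgroupOf C), Fc k * Ec (k⁻¹ * d))
      (fun x y => congrArg₂ (· - ·) (congrArg (a * ·) (hEc x y))
        (conv_isClassFunction hFcc hEc x y)) hcong
    have e : omega (ψ : (K.subgroupOf C) → ℂ) (fun d => a * Ec d - ∑ k : (K.subgroupOf C), Fc k * Ec (k⁻¹ * d))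
        = (a - omega (ψ : (K.subgroupOf C) → ℂ) Fc) * omega (ψ : (K.subgroupOf C) → ℂ) Ec := by
      rw [sub_mul, ← omega_conv ψ hFcc hEc]
      simp only [omega, sub_mul, Finset.sum_sub_distrib, sub_div, mul_assoc, ← Finset.mul_sum,
        mul_div_assoc]
    rw [e, hFc, omega_classInd] at h1
    have h2 := LI.mul_left hM (LR.sub hM (omega_LR hM θ (classInd_isClassFunction cK)
      (classInd_LR hM cK)) (centralChar_LR hM ψ c)) hψ
    rw [← ha] at h2
    have h3 := LI.sub hM h1 h2
    rw [← mul_sub, sub_sub_cancel, mul_one] at h3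
    exact LI.sub_comm h3
  exact LI.trans hM (hval φ hφ) (LI.sub_comm (hval φ' hφ'))

end Normal

end CfsgLib.Blocks.StableOver
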