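import Mathlib.RingTheory.Norm.Transitivity
import Mathlib.FieldTheory.IntermediateField.Adjoin.Basic
import Mathlib.Analysis.SpecialFunctions.Log.Basic
import Mathlib.Analysis.Complex.Norm
import Mathlib.Analysis.Complex.Polynomial.Basic
import Mathlib.NumberTheory.Real.Irrational
import Mathlib.RingTheory.IntegralClosure.IntegrallyClosed
import Mathlib.RingTheory.PrincipalIdealDomain
import Mathlib.Algebra.GCDMonoid.IntegrallyClosed

/-!
# Sums of squares of absolute values of cyclotomic integers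
-/

set_option autoImplicit false

namespace CfsgLib.Blocks

open Polynomial
open scoped ComplexConjugate

/-- Positive numbers of product at least one sum to at least their number. -/
theorem card_le_sum_of_one_le_prod {ι : Type*} (s : Finset ι) (t : ι → ℝ) (ht : ∀ i ∈ s, 0 < t i)
    (h : 1 ≤ ∏ i ∈ s, t i) : (s.card : ℝ) ≤ ∑ i ∈ s, t i := by
  have h1 : 0 ≤ ∑ i ∈ s, Real.log (t i) := by
    rw [← Real.log_prod fun i hi => (ht i hi).ne']
    exact Real.log_nonneg h
  have h2 := Finset.sum_le_sum fun i hi => Real.log_le_sub_one_of_pos (ht i hi)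
  rw [Finset.sum_sub_distrib, Finset.sum_const, nsmul_one] at h2
  linarith

/-- The squared absolute values of `k` nonzero integers in a cyclotomic field with rational total
sum up to at least `k`. -/
theorem card_le_of_sum_normSq {ι : Type*} (s : Finset ι) {ζ : ℂ} {N : ℕ} (hN : 0 < N)
    (hζ : ζ ^ N = 1) (x : ι → ℂ) (hx : ∀ i ∈ s, x i ∈ Algebra.adjoin ℤ ({ζ} : Set ℂ))
    (h0 : ∀ i ∈ s, x i ≠ 0) {r : ℚ} (hr : ∑ i ∈ s, x i * conj (x i) = (r : ℂ)) :
    (s.card : ℚ) ≤ r := by
  classical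
  have hζint : IsIntegral ℤ ζ := IsIntegral.of_pow hN (hζ ▸ isIntegral_one)
  haveI : FiniteDimensional ℚ (IntermediateField.adjoin ℚ ({ζ} : Set ℂ)) :=
    IntermediateField.adjoin.finiteDimensional hζint.tower_top
  set K := IntermediateField.adjoin ℚ ({ζ} : Set ℂ)
  let g : K := ⟨ζ, IntermediateField.mem_adjoin_simple_self ℚ ζ⟩
  have hgN : g ^ N = 1 := Subtype.ext (by simpa [g] using hζ)
  have hP : ∀ i, ∃ P : ℤ[X], i ∈ s → aeval ζ P = x i := fun i => by
    by_cases hi : i ∈ s
    · obtain ⟨P, hP⟩ := (Algebra.adjoin_singleton_eq_range_aeval ℤ ζ ▸ hx i hi :)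
      exact ⟨P, fun _ => hP⟩
    · exact ⟨0, fun h => absurd h hi⟩
  choose P hP using hP
  let z : ι → K := fun i => aeval g (P i)
  let z' : ι → K := fun i => aeval g⁻¹ (P i)
  have hvalue : ∀ (σ : K →+* ℂ) (i : ι), σ (z' i) = conj (σ (z i)) := by
    intro σ i
    have hunit : ‖σ g‖ = 1 :=
      Complex.norm_eq_one_of_pow_eq_one (by rw [← map_pow, hgN, map_one]) hN.ne'
    have hg : σ g⁻¹ = conj (σ g) := by rw [map_inv₀, ← Complex.inv_eq_conj hunit]
    simp only [z, z', aeval_def, Polynomial.hom_eval₂, hg]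
    congr 1
    exact RingHom.ext_int _ _
  have hid : ∀ i ∈ s, ((z i : K) : ℂ) = x i := fun i hi => by
    rw [← hP i hi]
    exact (Polynomial.aeval_algHom_apply ((K.val).restrictScalars ℤ) g (P i)).symm
  have hz0 : ∀ i ∈ s, z i ≠ 0 := fun i hi h => h0 i hi (by rw [← hid i hi, h]; rfl)
  have hrK : ∑ i ∈ s, z i * z' i = algebraMap ℚ K r := by
    apply (algebraMap K ℂ).injective
    rw [map_sum, ← IsScalarTower.algebraMap_apply, eq_ratCast, ← hr]
    refine Finset.sum_congr rfl fun i hi => ?_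
    rw [map_mul, hvalue (algebraMap K ℂ) i]
    show (z i : ℂ) * conj (z i : ℂ) = _
    rw [hid i hi]
  have hσ : ∀ σ : K →ₐ[ℚ] ℂ, ∑ i ∈ s, Complex.normSq (σ (z i)) = (r : ℝ) := by
    intro σ
    apply Complex.ofReal_injective
    have h := congrArg σ hrK
    rw [map_sum, AlgHom.commutes, eq_ratCast] at h
    push_cast
    rw [← h]
    exact Finset.sum_congr rfl fun i _ => by
      rw [map_mul, ← Complex.mul_conj]
      exact congrArg (σ (z i) * ·) (hvalue σ.toRingHom i).symm
  have hnorm : ∀ i ∈ s, 1 ≤ ∏ σ : K →ₐ[ℚ] ℂ, Complex.normSq (σ (z i)) := by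
    intro i hi
    rw [← map_prod, ← Algebra.norm_eq_prod_embeddings ℚ ℂ (z i), eq_ratCast]
    have hint : IsIntegral ℤ (z i) := by
      have : IsIntegral ℤ ((z i : ℂ)) := by
        rw [hid i hi]
        exact adjoin_le_integralClosure hζint (hx i hi)
      exact (isIntegral_algebraMap_iff (A := K) (B := ℂ) (algebraMap K ℂ).injective).1 this
    obtain ⟨m, hm⟩ := (IsIntegrallyClosed.isIntegral_iff (R := ℤ) (K := ℚ)).1
      (Algebra.isIntegral_norm ℚ hint)
    have hne : Algebra.norm ℚ (z i) ≠ 0 := Algebra.norm_ne_zero_iff.2 (hz0 i hi)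
    have hm0 : m ≠ 0 := by
      rintro rfl
      exact hne (by rw [← hm]; simp)
    rw [← hm]
    simp only [eq_intCast, Rat.cast_intCast, Complex.normSq_intCast]
    have : (1 : ℤ) ≤ m * m := by nlinarith [Int.one_le_abs hm0, sq_abs m]
    exact_mod_cast this
  have hcard : ∀ i ∈ s, (Fintype.card (K →ₐ[ℚ] ℂ) : ℝ)
      ≤ ∑ σ : K →ₐ[ℚ] ℂ, Complex.normSq (σ (z i)) := fun i hi =>
    card_le_sum_of_one_le_prod Finset.univ _ (fun σ _ => Complex.normSq_pos.2 fun h =>
      hz0 i hi (σ.toRingHom.injective (by simpa using h))) (hnorm i hi)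
  have := Finset.sum_le_sum hcard
  rw [Finset.sum_comm, Finset.sum_congr rfl fun σ _ => hσ σ, Finset.sum_const, Finset.sum_const,
    nsmul_eq_mul, nsmul_eq_mul, Finset.card_univ, mul_comm] at this
  have hn : (0 : ℝ) < Fintype.card (K →ₐ[ℚ] ℂ) := by
    exact_mod_cast Fintype.card_pos_iff.2 ⟨K.val⟩
  exact_mod_cast le_of_mul_le_mul_left this hn

end CfsgLib.Blocks
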