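import Cfsg.Agent.Lib.Blocks.Height

/-!
# Defect classes and defect groups
-/

set_option autoImplicit false

namespace CfsgLib.Blocks

open Cfsg
open scoped Classical ComplexConjugate

variable {G : Type*} [Group G] [Fintype G] {p : ℕ} {M : Ideal AlgInt} {B : Set (IrrCharacter G)}

/-- The exponent of `p` in the order of the centralizer of `g`. -/
noncomputable def centExp (p : ℕ) (g : G) : ℕ :=
  (Nat.card (Subgroup.centralizer ({g} : Set G))).factorization p

theorem centExp_le (g : G) : centExp p g ≤ (Nat.card G).factorization p :=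
  (Nat.factorization_le_iff_dvd Nat.card_pos.ne' Nat.card_pos.ne').2
    (Subgroup.card_subgroup_dvd_card _) p

theorem index_factorization_add (g : G) :
    (Subgroup.centralizer ({g} : Set G)).index.factorization p + centExp p g
      = (Nat.card G).factorization p := by
  rw [← Subgroup.card_mul_index (Subgroup.centralizer ({g} : Set G)),
    Nat.factorization_mul Nat.card_pos.ne' Subgroup.index_ne_zero_of_finite, Finsupp.add_apply,
    centExp, add_comm]

theorem index_centralizer_conj (g y : G) :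
    (Subgroup.centralizer ({y * g * y⁻¹} : Set G)).index
      = (Subgroup.centralizer ({g} : Set G)).index := by
  rw [← CfsgLib.Char.card_isConj_eq_index, ← CfsgLib.Char.card_isConj_eq_index]
  have h : IsConj g (y * g * y⁻¹) := isConj_iff.2 ⟨y, rfl⟩
  exact Nat.card_congr (Equiv.subtypeEquivRight fun x => ⟨fun hx => hx.trans h.symm, fun hx => hx.trans h⟩)

theorem centralChar_isClassFunction (χ : IrrCharacter G) :
    IsClassFunction G fun g => centralChar (χ : G → ℂ) g := fun g y => by
  simp only [centralChar, index_centralizer_conj, irr_conj_apply]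

/-! ### Quotients of natural numbers in the local ring -/

theorem natCast_div_LR (hM : IsPModular p M) {n d : ℕ} (hd : d ≠ 0)
    (h : p ^ d.factorization p ∣ n) : MemLocalRing M ((n : ℂ) / (d : ℂ)) := by
  obtain ⟨n', rfl⟩ := h
  have he : MemLocalRing M (((d / p ^ d.factorization p : ℕ) : ℂ)⁻¹) :=
    LR.inv hM (LR.natCast hM _) fun h =>
      Nat.not_dvd_ordCompl hM.1 hd ((LI.natCast_iff hM _).1 h)
  convert LR.mul hM (LR.natCast hM n') he using 1
  conv_lhs => arg 2; rw [← Nat.ordProj_mul_ordCompl_eq_self d p]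
  push_cast
  rw [mul_div_mul_left _ _ (pow_ne_zero _ (by exact_mod_cast hM.1.ne_zero)), div_eq_mul_inv]

theorem natCast_div_LI (hM : IsPModular p M) {n d : ℕ} (hd : d ≠ 0)
    (h : p ^ (d.factorization p + 1) ∣ n) : MemLocalIdeal M ((n : ℂ) / (d : ℂ)) := by
  obtain ⟨n', rfl⟩ := h
  have h2 := natCast_div_LR hM hd (n := p ^ d.factorization p * n') (Dvd.intro _ rfl)
  convert LI.mul_right hM (LI.natCast_prime hM) h2 using 1
  push_cast
  ring

/-! ### Where the idempotent and the central character are units -/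

theorem sum_sq_blockInd (y : G) (B : Set (IrrCharacter G)) :
    (Nat.card G : ℂ) * blockCoeff B y
      = ∑ ψ : IrrCharacter G, blockInd B ψ * ((ψ : G → ℂ) 1 * (ψ : G → ℂ) y⁻¹) := by
  rw [blockCoeff_eq_fourierInv, fourierInv, mul_inv_cancel_left₀ CfsgLib.Char.card_ne_zero]

theorem le_centExp_of_not_LI (hM : IsPModular p M) {χ : IrrCharacter G} {g : G}
    (h : ¬ MemLocalIdeal M (centralChar (χ : G → ℂ) g)) :
    (Nat.card G).factorization p ≤ centExp p g + degVal p χ := by
  by_contra hlt
  have hidx := index_factorization_add (p := p) g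
  refine h ?_
  have : p ^ ((charDegree (χ : G → ℂ)).factorization p + 1) ∣
      (Subgroup.centralizer ({g} : Set G)).index := by
    refine (hM.1.pow_dvd_iff_le_factorization Subgroup.index_ne_zero_of_finite).2 ?_
    simp only [degVal] at hlt
    omega
  rw [centralChar, irr_one_eq, mul_div_right_comm]
  exact LI.mul_right hM (natCast_div_LI hM (charDegree_pos χ).ne' this)
    (LR.of_isIntegral hM (irr_isIntegral χ g))

theorem blockDefect_le_centExp (hM : IsPModular p M) (hB : IsPBlock M B) {χ : IrrCharacter G}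
    (hχ : χ ∈ B) {g : G} (h : ¬ MemLocalIdeal M (centralChar (χ : G → ℂ) g)) :
    blockDefect p B ≤ centExp p g := by
  obtain ⟨ψ, hψ, h0⟩ := exists_degVal_eq_min (p := p) (IsPBlock.nonempty hM hB)
  have hψg : ¬ MemLocalIdeal M (centralChar (ψ : G → ℂ) g) := fun hI => h <| by
    have := LI.add hM (IsPBlock.sameBlock hM hB hχ hψ g) hI
    rwa [sub_add_cancel] at this
  have := le_centExp_of_not_LI hM hψg
  rw [blockDefect_eq]
  omega

/-- The sum `∑ ψ(1) ψ(g x)` over a `p`-subgroup centralizing `g`, divided by its order. -/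
theorem isIntegral_average_coset (g : G) (P : Subgroup G) (hP : ∀ x ∈ P, Commute g x)
    (χ : IrrCharacter G) :
    IsIntegral ℤ ((Nat.card P : ℂ)⁻¹ * ∑ x : P, (χ : G → ℂ) (g * x)) := by
  obtain ⟨n, ρ, hρ, he⟩ := χ.2
  have h := isIntegral_average_mul (ρ.comp P.subtype) (ρ g) (orderOf_pos g)
    (by rw [← map_pow, pow_orderOf_eq_one, map_one]) fun x => by
      show ρ g * ρ (x : G) = ρ (x : G) * ρ g
      rw [← map_mul, ← map_mul, (hP _ x.2).eq]
  convert h using 3
  rw [← congrFun he, Representation.character, map_mul]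
  rfl

/-- `|G| e_B (g)` is divisible by `p^m |C_G(g)|_p`, `p^m` the least `p`-part of a degree in `B`. -/
theorem blockCoeff_eq_mul_LR (hM : IsPModular p M) (hB : IsPBlock M B) (g : G) :
    ∃ w, MemLocalRing M w ∧
      (Nat.card G : ℂ) * blockCoeff B g = (p : ℂ) ^ (minDegVal p B + centExp p g) * w := by
  haveI := Fact.mk hM.1
  by_cases hg : p ∣ orderOf g
  · exact ⟨0, LR.zero hM, by rw [IsPBlock.blockCoeff_eq_zero hM hB hg, mul_zero, mul_zero]⟩
  obtain ⟨S⟩ : Nonempty (Sylow p (Subgroup.centralizer ({g} : Set G))) := inferInstance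
  set P : Subgroup G := (S : Subgroup _).map (Subgroup.centralizer ({g} : Set G)).subtype with hPdef
  have hPc : Nat.card P = p ^ centExp p g := by
    rw [hPdef, Subgroup.card_map_of_injective (Subgroup.subtype_injective _)]
    exact S.card_eq_multiplicity
  have hcomm : ∀ x ∈ P, Commute g⁻¹ x := by
    rintro x ⟨⟨y, hy⟩, -, rfl⟩
    exact Commute.inv_left ((Subgroup.mem_centralizer_singleton_iff.1 hy).symm)
  have hdiv : ∀ ψ : IrrCharacter G, ψ ∈ B → p ^ minDegVal p B ∣ charDegree (ψ : G → ℂ) :=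
    fun ψ hψ => (hM.1.pow_dvd_iff_le_factorization (charDegree_pos ψ).ne').2 (minDegVal_le hψ)
  let e : IrrCharacter G → ℕ := fun ψ =>
    if ψ ∈ B then charDegree (ψ : G → ℂ) / p ^ minDegVal p B else 0
  have he : ∀ ψ : IrrCharacter G, blockInd B ψ * (ψ : G → ℂ) 1
      = (p : ℂ) ^ minDegVal p B * (e ψ : ℂ) := fun ψ => by
    by_cases hψ : ψ ∈ B
    · rw [blockInd_of_mem hψ, one_mul, irr_one_eq]
      simp only [e, if_pos hψ]
      rw [← Nat.cast_pow, ← Nat.cast_mul, Nat.mul_div_cancel' (hdiv ψ hψ)]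
    · simp [blockInd_of_notMem hψ, e, hψ]
  refine ⟨∑ ψ : IrrCharacter G, (e ψ : ℂ) *
    ((Nat.card P : ℂ)⁻¹ * ∑ x : P, (ψ : G → ℂ) (g⁻¹ * x)), LR.sum hM fun ψ _ =>
    LR.mul hM (LR.natCast hM _) (LR.of_isIntegral hM (isIntegral_average_coset g⁻¹ P hcomm ψ)), ?_⟩
  rw [sum_sq_blockInd]
  have hzero : ∀ x : P, x ≠ 1 →
      ∑ ψ : IrrCharacter G, blockInd B ψ * ((ψ : G → ℂ) 1 * (ψ : G → ℂ) (g⁻¹ * x)) = 0 := by
    intro x hx
    have hsing : p ∣ orderOf (g⁻¹ * (x : G)) := by
      obtain ⟨j, hj⟩ := (IsPGroup.iff_orderOf.1 (IsPGroup.map S.isPGroup' _)) x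
      rw [← Subgroup.orderOf_coe] at hj
      have hpx : p ∣ orderOf (x : G) := by
        rw [hj]
        refine dvd_pow_self p fun h => hx ?_
        rw [h, pow_zero, orderOf_eq_one_iff] at hj
        exact Subtype.ext hj
      refine hpx.trans ?_
      have hco : Nat.Coprime (orderOf g⁻¹) (orderOf (x : G)) := by
        rw [orderOf_inv, hj]
        exact Nat.Coprime.pow_right _ ((hM.1.coprime_iff_not_dvd.2 hg).symm)
      rw [(hcomm x x.2).orderOf_mul_eq_mul_orderOf_of_coprime hco]
      exact dvd_mul_left _ _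
    have := IsPBlock.sum_mul_eq_zero hM hB hsing (h := (1 : G)) (by simp [hM.1.ne_one])
    rw [← this]
    exact Finset.sum_congr rfl fun ψ _ => by ring
  calc _ = ∑ x : P, ∑ ψ : IrrCharacter G,
        blockInd B ψ * ((ψ : G → ℂ) 1 * (ψ : G → ℂ) (g⁻¹ * x)) := by
        rw [Finset.sum_eq_single (1 : P) (fun x _ hx => hzero x hx) (by simp)]
        simp
    _ = _ := by
        rw [Finset.sum_comm, Finset.mul_sum]
        refine Finset.sum_congr rfl fun ψ _ => ?_
        have h1 : (p : ℂ) ^ centExp p g * (Nat.card P : ℂ)⁻¹ = 1 := by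
          rw [hPc, Nat.cast_pow]
          exact mul_inv_cancel₀ (pow_ne_zero _ (by exact_mod_cast hM.1.ne_zero))
        rw [← Finset.mul_sum, ← Finset.mul_sum, ← mul_assoc, he, pow_add]
        linear_combination -((p : ℂ) ^ minDegVal p B * (e ψ : ℂ) *
          (∑ x : P, (ψ : G → ℂ) (g⁻¹ * x))) * h1

theorem centExp_le_blockDefect (hM : IsPModular p M) (hB : IsPBlock M B) {g : G}
    (h : ¬ MemLocalIdeal M (blockCoeff B g)) : centExp p g ≤ blockDefect p B := by
  by_contra hlt
  obtain ⟨w, hw, he⟩ := blockCoeff_eq_mul_LR hM hB g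
  refine h ?_
  have hd := blockDefect_add_min (p := p) (IsPBlock.nonempty hM hB)
  have : p ^ ((Nat.card G).factorization p + 1) ∣ p ^ (minDegVal p B + centExp p g) :=
    pow_dvd_pow _ (by omega)
  have h2 := LI.mul_right hM (natCast_div_LI hM Nat.card_pos.ne' this) hw
  rwa [Nat.cast_pow, div_mul_eq_mul_div, ← he, mul_div_assoc,
    mul_div_cancel₀ _ CfsgLib.Char.card_ne_zero] at h2

theorem isPRegular_of_not_LI (hM : IsPModular p M) (hB : IsPBlock M B) {g : G}
    (h : ¬ MemLocalIdeal M (blockCoeff B g)) : IsPRegular p g := fun hg =>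
  h (by rw [IsPBlock.blockCoeff_eq_zero hM hB hg]; exact LI.zero hM)

theorem sum_blockCoeff_centralChar (B : Set (IrrCharacter G)) (χ : IrrCharacter G) :
    ∑ C : ConjClasses G, blockCoeff B C.out * centralChar (χ : G → ℂ) C.out = blockInd B χ := by
  rw [← omega_eq_sum_centralChar χ (blockCoeff_isClassFunction B), omega_blockCoeff]

theorem exists_isDefectClass (hM : IsPModular p M) (hB : IsPBlock M B) :
    ∃ g, IsDefectClass M B g := by
  obtain ⟨χ, hχ⟩ := IsPBlock.nonempty hM hB
  obtain ⟨C, hC⟩ : ∃ C : ConjClasses G,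
      ¬ MemLocalIdeal M (blockCoeff B C.out * centralChar (χ : G → ℂ) C.out) := by
    by_contra h
    push Not at h
    have := LI.sum hM (s := Finset.univ) fun C _ => h C
    rw [sum_blockCoeff_centralChar, blockInd_of_mem hχ] at this
    exact LI.not_one hM this
  refine ⟨C.out, blockCoeff_LR hM hB _, fun h => hC (LI.mul_right hM h (centralChar_LR hM χ _)),
    fun ψ hψ h => hC (LI.mul_left hM (blockCoeff_LR hM hB _) ?_)⟩
  have := LI.add hM (IsPBlock.sameBlock hM hB hχ hψ C.out) h
  rwa [sub_add_cancel] at this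

theorem centExp_eq_of_isDefectClass (hM : IsPModular p M) (hB : IsPBlock M B) {g : G}
    (h : IsDefectClass M B g) : centExp p g = blockDefect p B := by
  obtain ⟨χ, hχ⟩ := IsPBlock.nonempty hM hB
  exact le_antisymm (centExp_le_blockDefect hM hB h.2.1)
    (blockDefect_le_centExp hM hB hχ (h.2.2 χ hχ))

theorem isDefectClass_conj {g : G} (h : IsDefectClass M B g) (y : G) :
    IsDefectClass M B (y * g * y⁻¹) := by
  have h1 : blockCoeff B (y * g * y⁻¹) = blockCoeff B g := blockCoeff_isClassFunction B g y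
  refine ⟨h1 ▸ h.1, h1 ▸ h.2.1, fun χ hχ => ?_⟩
  have h2 : centralChar (χ : G → ℂ) (y * g * y⁻¹) = centralChar (χ : G → ℂ) g :=
    centralChar_isClassFunction χ g y
  rw [h2]; exact h.2.2 χ hχ

theorem card_defectGroup (hM : IsPModular p M) (hB : IsPBlock M B)
    {D : Subgroup G} (hD : IsDefectGroup p M B D) : Nat.card D = p ^ blockDefect p B := by
  haveI := Fact.mk hM.1
  obtain ⟨g, hg, P, rfl⟩ := hD
  rw [Subgroup.card_map_of_injective (Subgroup.subtype_injective _), P.card_eq_multiplicity,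
    ← centExp_eq_of_isDefectClass hM hB hg]
  rfl

theorem exists_isDefectGroup (hM : IsPModular p M) (hB : IsPBlock M B) :
    ∃ D : Subgroup G, IsDefectGroup p M B D := by
  haveI := Fact.mk hM.1
  obtain ⟨g, hg⟩ := exists_isDefectClass hM hB
  obtain ⟨P⟩ : Nonempty (Sylow p (Subgroup.centralizer ({g} : Set G))) := inferInstance
  exact ⟨_, g, hg, P, rfl⟩

theorem isPGroup_defectGroup {D : Subgroup G} (hD : IsDefectGroup p M B D) : IsPGroup p D := by
  obtain ⟨g, hg, P, rfl⟩ := hD
  exact IsPGroup.map P.isPGroup' _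

end CfsgLib.Blocks
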