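import Cfsg.Agent.Lib.Blocks.SectionGram
import Cfsg.Agent.Lib.Blocks.CyclotomicSum
import Cfsg.Agent.Lib.Blocks.Defect
import Cfsg.Agent.Lib.CharDeep.CentralTrick

/-!
# Contributions of major subsections to characters of height zero
-/

set_option autoImplicit false

namespace CfsgLib.Blocks

open Cfsg
open scoped Classical ComplexConjugate

variable {G : Type*} [Group G] [Fintype G] {p : ℕ} {M : Ideal AlgInt} {K : Subgroup G}

/-- The scalar by which `z` acts in `ψ`. -/
noncomputable def centScalar (ψ : IrrCharacter K) (z : K) : ℂ := (ψ : K → ℂ) z / (ψ : K → ℂ) 1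

theorem centScalar_mul (ψ : IrrCharacter K) {z : K} (hz : z ∈ Subgroup.center K) (x : K) :
    (ψ : K → ℂ) (x * z) = centScalar ψ z * (ψ : K → ℂ) x := by
  obtain ⟨c, hc, -⟩ := CfsgLib.CharDeep.CentralTrick.exists_scalar_center ψ.2 hz
  have : centScalar ψ z = c := by
    have h := hc 1
    rw [one_mul] at h
    rw [centScalar, h, mul_div_cancel_right₀ _ (irr_one_ne_zero ψ)]
  rw [this, hc x]

theorem centScalar_pow (ψ : IrrCharacter K) {z : K} (hz : z ∈ Subgroup.center K) (n : ℕ) :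
    (ψ : K → ℂ) (z ^ n) = centScalar ψ z ^ n * (ψ : K → ℂ) 1 := by
  induction n with
  | zero => simp
  | succ n ih => rw [pow_succ, centScalar_mul ψ hz, ih, pow_succ]; ring

theorem centScalar_pow_eq_one (ψ : IrrCharacter K) {z : K} (hz : z ∈ Subgroup.center K) {n : ℕ}
    (hn : z ^ n = 1) : centScalar ψ z ^ n = 1 := by
  have h := centScalar_pow ψ hz n
  rw [hn] at h
  exact (mul_eq_right₀ (irr_one_ne_zero ψ)).1 h.symm

theorem conj_centScalar (ψ : IrrCharacter K) (z : K) :
    conj (centScalar ψ z) = centScalar ψ z⁻¹ := by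
  rw [centScalar, centScalar, map_div₀, conj_irr, conj_irr, inv_one]

/-- The multiplicity of `ψ` in the restriction of `χ`. -/
noncomputable def resMult (χ : IrrCharacter G) (ψ : IrrCharacter K) : ℂ :=
  classInner (fun k : K => (χ : G → ℂ) k) (ψ : K → ℂ)

theorem resMult_nat (χ : IrrCharacter G) (ψ : IrrCharacter K) :
    ∃ n : ℕ, resMult χ ψ = (n : ℂ) :=
  CfsgLib.Char.IsCharacter.classInner_nat
    (CfsgLib.Char.IsCharacter.restrict (CfsgLib.Char.isCharacter_irr χ) K)
    (CfsgLib.Char.isCharacter_irr ψ)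

theorem secPart_eq_sum_mult {x : G} {z : K} (hzx : (z : G) = x) (hz : z ∈ Subgroup.center K)
    (b : Set (IrrCharacter K)) (χ : IrrCharacter G) (s : K) :
    secPart x K b χ s = ∑ ψ : IrrCharacter K,
      blockInd b ψ * (resMult χ ψ * centScalar ψ z) * (ψ : K → ℂ) s := by
  rw [secPart, blockPart_eq_sum]
  refine Finset.sum_congr rfl fun ψ _ => ?_
  have h : classInner (fun c : K => (χ : G → ℂ) (x * (c : G))) (ψ : K → ℂ)
      = resMult χ ψ * centScalar ψ z := by
    rw [resMult, Cfsg.classInner, Cfsg.classInner, mul_assoc, Finset.sum_mul]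
    congr 1
    refine Fintype.sum_equiv (Equiv.mulLeft z) _ _ fun c => ?_
    simp only [Equiv.coe_mulLeft, Subgroup.coe_mul, hzx, conj_irr, mul_inv_rev]
    rw [mul_assoc, mul_comm ((ψ : K → ℂ) _) (centScalar ψ z), ← centScalar_mul ψ hz,
      inv_mul_cancel_right]
  rw [h]; ring

theorem contrib_eq_sum {x : G} {z : K} (hzx : (z : G) = x) (hz : z ∈ Subgroup.center K)
    (b : Set (IrrCharacter K)) (χ φ : IrrCharacter G) :
    contrib p x K b χ φ = ∑ ψ : IrrCharacter K, ∑ η : IrrCharacter K,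
      blockInd b ψ * blockInd b η * (resMult χ ψ * resMult φ η) *
        (centScalar ψ z * centScalar η z⁻¹) * regInner p (ψ : K → ℂ) (η : K → ℂ) := by
  have hz' : ((z⁻¹ : K) : G) = x⁻¹ := by rw [Subgroup.coe_inv, hzx]
  simp only [contrib, secPart_eq_sum_mult hzx hz, secPart_eq_sum_mult hz' (inv_mem hz), regInner,
    Finset.mul_sum, Finset.sum_mul]
  rw [Finset.sum_comm_cycle]
  refine Finset.sum_congr rfl fun ψ _ => ?_
  rw [Finset.sum_comm]
  exact Finset.sum_congr rfl fun η _ => Finset.sum_congr rfl fun s _ => by ring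

theorem conj_regInner (hp : p.Prime) (ψ η : IrrCharacter K) :
    conj (regInner p (ψ : K → ℂ) (η : K → ℂ)) = regInner p (η : K → ℂ) (ψ : K → ℂ) := by
  rw [← cast_regInt hp, ← cast_regInt hp, regInt_comm]
  simp

theorem conj_contrib (hp : p.Prime) {x : G} {z : K} (hzx : (z : G) = x)
    (hz : z ∈ Subgroup.center K) (b : Set (IrrCharacter K)) (χ φ : IrrCharacter G) :
    conj (contrib p x K b χ φ) = contrib p x K b φ χ := by
  rw [contrib_eq_sum hzx hz, contrib_eq_sum hzx hz, map_sum, Finset.sum_comm]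
  simp only [map_sum]
  refine Finset.sum_congr rfl fun η _ => Finset.sum_congr rfl fun ψ _ => ?_
  obtain ⟨n, hn⟩ := resMult_nat χ η
  obtain ⟨m, hm⟩ := resMult_nat φ ψ
  have hb : ∀ ψ : IrrCharacter K, conj (blockInd b ψ) = blockInd b ψ := fun ψ => by
    by_cases h : ψ ∈ b <;> simp [blockInd, h]
  simp only [map_mul, hn, hm, hb, map_natCast, conj_centScalar, conj_regInner hp, inv_inv]
  ring

theorem mem_adjoin_centScalar (ψ : IrrCharacter K) {z : K} (hz : z ∈ Subgroup.center K) {ζ : ℂ}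
    {n : ℕ} [NeZero n] (hζ : IsPrimitiveRoot ζ n) (hn : z ^ n = 1) :
    centScalar ψ z ∈ Algebra.adjoin ℤ ({ζ} : Set ℂ) := by
  obtain ⟨i, -, hi⟩ := hζ.eq_pow_of_pow_eq_one (centScalar_pow_eq_one ψ hz hn)
  rw [← hi]
  exact pow_mem (Algebra.self_mem_adjoin_singleton ℤ ζ) i

/-- Contributions are multiples of the least `p`-part of the degrees of the block. -/
theorem contrib_div_mem_adjoin (hM : IsPModular p M) {x : G} {z : K} (hzx : (z : G) = x)
    (hz : z ∈ Subgroup.center K) {b : Set (IrrCharacter K)} (χ φ : IrrCharacter G) {ζ : ℂ}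
    {n : ℕ} [NeZero n] (hζ : IsPrimitiveRoot ζ n) (hn : z ^ n = 1) :
    contrib p x K b χ φ / (p : ℂ) ^ minDegVal p b ∈ Algebra.adjoin ℤ ({ζ} : Set ℂ) := by
  rw [contrib_eq_sum hzx hz, Finset.sum_div]
  refine sum_mem fun ψ _ => ?_
  rw [Finset.sum_div]
  refine sum_mem fun η _ => ?_
  by_cases hη : η ∈ b
  · obtain ⟨a, ha⟩ := resMult_nat χ ψ
    obtain ⟨c, hc⟩ := resMult_nat φ η
    obtain ⟨w, hw⟩ := (pow_dvd_pow (p : ℤ) (minDegVal_le (p := p) hη)).trans
      (regInt_mod hM ψ η).1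
    rw [ha, hc, ← cast_regInt hM.1, hw, Int.cast_mul, Int.cast_pow, Int.cast_natCast,
      mul_comm ((p : ℂ) ^ _), ← mul_assoc, mul_div_assoc, div_self
        (pow_ne_zero _ (by exact_mod_cast hM.1.ne_zero)), mul_one]
    refine mul_mem (mul_mem (mul_mem (mul_mem ?_ ?_) (mul_mem (natCast_mem _ _) (natCast_mem _ _)))
      (mul_mem (mem_adjoin_centScalar ψ hz hζ hn)
        (mem_adjoin_centScalar η (inv_mem hz) hζ (by rw [inv_pow, hn, inv_one]))))
      (intCast_mem _ _) <;> unfold blockInd <;> split <;>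
      first | exact one_mem _ | exact zero_mem _
  · simp [blockInd_of_notMem hη]

/-- Divided by the least `p`-part of the degrees in `b`, a contribution to a pair of characters of
height zero is a unit. -/
theorem contrib_not_LI_of_min (hM : IsPModular p M) {B : Set (IrrCharacter G)}
    {b : Set (IrrCharacter K)} (hind : IsInducedBlock M K b B) {x : G} {z : K}
    (hzx : (z : G) = x) (hz : z ∈ Subgroup.center K) {k : ℕ} (hzk : z ^ p ^ k = 1)
    {χ φ : IrrCharacter G} (hχ : χ ∈ B) (hφ : φ ∈ B) (hχ0 : degVal p χ = minDegVal p B)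
    (hφ0 : degVal p φ = minDegVal p B) :
    ¬ MemLocalIdeal M (contrib p x K b χ φ / (p : ℂ) ^ minDegVal p b) := by
  obtain ⟨ψ₀, hψ₀, hψ₀m⟩ := exists_degVal_eq_min (p := p) (IsPBlock.nonempty hM hind.1)
  set ρ := omega (ψ₀ : K → ℂ) (regClassFun p (ψ₀ : K → ℂ))
  set d₀ : ℂ := (ψ₀ : K → ℂ) 1 with hd₀
  let g : IrrCharacter K → ℂ := fun ψ => (ψ : K → ℂ) 1 / d₀
  let r : IrrCharacter K → IrrCharacter K → ℂ := fun ψ η =>
    omega (η : K → ℂ) (regClassFun p (ψ : K → ℂ))
  have hg : ∀ ψ ∈ b, MemLocalRing M (g ψ) := fun ψ hψ => by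
    simp only [g, d₀, irr_one_eq]
    refine natCast_div_LR hM (charDegree_pos ψ₀).ne' (dvd_trans (pow_dvd_pow p ?_)
      (Nat.ordProj_dvd _ _))
    exact (show degVal p ψ₀ ≤ degVal p ψ by rw [hψ₀m]; exact minDegVal_le hψ)
  have hr : ∀ ψ η : IrrCharacter K, MemLocalRing M (r ψ η) := fun ψ η =>
    omega_LR hM η (regClassFun_isClassFunction (CfsgLib.Char.IsIrrCharacter.isClassFunction ψ.2))
      (regClassFun_LR hM ψ)
  have hρ : MemLocalRing M ρ := hr ψ₀ ψ₀
  have hsame : ∀ ψ ∈ b, ∀ η ∈ b, SameBlock M (ψ : K → ℂ) (η : K → ℂ) := fun ψ hψ η hη =>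
    IsPBlock.sameBlock hM hind.1 hψ hη
  have hfst : ∀ ψ ∈ b, MemLocalIdeal M (r ψ ψ₀ - g ψ * ρ) := fun ψ hψ => by
    have e : r ψ ψ₀ = g ψ * r ψ₀ ψ := by
      simp only [r, g, d₀, omega_regClassFun]
      rw [regInner_comm (ψ : K → ℂ)]
      have := irr_one_ne_zero ψ
      field_simp
    rw [e, ← mul_sub]
    exact LI.mul_left hM (hg ψ hψ) (omega_regClassFun_congr hM ψ₀ (hsame ψ hψ ψ₀ hψ₀))
  have hpair : ∀ ψ η : IrrCharacter K,
      regInner p (ψ : K → ℂ) (η : K → ℂ) / d₀ = g η * r ψ η := fun ψ η => by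
    simp only [r, g, omega_regClassFun]
    have := irr_one_ne_zero η
    field_simp
  have hsnd : ∀ ψ ∈ b, ∀ η ∈ b,
      MemLocalIdeal M (g η * r ψ η - g ψ * g η * ρ) := fun ψ hψ η hη => by
    rw [show g η * r ψ η - g ψ * g η * ρ
      = g η * ((r ψ η - r ψ ψ₀) + (r ψ ψ₀ - g ψ * ρ)) by ring]
    exact LI.mul_left hM (hg η hη)
      (LI.add hM (omega_regClassFun_congr hM ψ (hsame η hη ψ₀ hψ₀)) (hfst ψ hψ))
  let S : IrrCharacter G → ℂ := fun θ => ∑ ψ : IrrCharacter K, blockInd b ψ * resMult θ ψ * g ψ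
  have hSLR : ∀ θ, MemLocalRing M (S θ) := fun θ => LR.sum hM fun ψ _ => by
    obtain ⟨n, hn⟩ := resMult_nat θ ψ
    by_cases h : ψ ∈ b
    · rw [hn, blockInd_of_mem h, one_mul]; exact LR.mul hM (LR.natCast hM n) (hg ψ h)
    · rw [blockInd_of_notMem h, zero_mul, zero_mul]; exact LR.zero hM
  have hS : ∀ θ ∈ B, degVal p θ = minDegVal p B → ¬ MemLocalIdeal M (ρ * S θ) := by
    intro θ hθ hθ0 hI
    refine resRegRatio_not_LI hM hind hθ hθ0 hψ₀ ?_
    have hexp : resRegRatio p K (θ : G → ℂ) (ψ₀ : K → ℂ)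
        = ∑ ψ : IrrCharacter K, resMult θ ψ * r ψ ψ₀ := by
      have h := CfsgLib.Char.IsClassFunction.eq_sum_irr
        (CfsgLib.Char.IsCharacter.isClassFunction
          (CfsgLib.Char.IsCharacter.restrict (CfsgLib.Char.isCharacter_irr θ) K))
      simp only [resRegRatio, r, omega_regClassFun, mul_div, ← Finset.sum_div]
      congr 1
      conv_lhs => rw [h]
      simp only [regInner, resMult, Finset.sum_apply, Pi.smul_apply, smul_eq_mul, Finset.mul_sum,
        Finset.sum_mul]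
      rw [Finset.sum_comm]
      exact Finset.sum_congr rfl fun φ _ => Finset.sum_congr rfl fun k _ => by ring
    rw [hexp, show ∑ ψ : IrrCharacter K, resMult θ ψ * r ψ ψ₀
      = ρ * S θ + ∑ ψ : IrrCharacter K, resMult θ ψ * (r ψ ψ₀ - blockInd b ψ * (g ψ * ρ)) by
        simp only [S, Finset.mul_sum, ← Finset.sum_add_distrib]
        exact Finset.sum_congr rfl fun ψ _ => by ring]
    refine LI.add hM hI (LI.sum hM fun ψ _ => ?_)
    obtain ⟨n, hn⟩ := resMult_nat θ ψ
    rw [hn]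
    refine LI.mul_left hM (LR.natCast hM n) ?_
    by_cases h : ψ ∈ b
    · rw [blockInd_of_mem h, one_mul]; exact hfst ψ h
    · rw [blockInd_of_notMem h, zero_mul, sub_zero]
      simp only [r, omega_regClassFun]
      rw [regInner_comm, IsPBlock.regInner_eq_zero hM hind.1 hψ₀ h, zero_div]
      exact LI.zero hM
  have hcong : MemLocalIdeal M (contrib p x K b χ φ / d₀ - ρ * S χ * S φ) := by
    have e : contrib p x K b χ φ / d₀ - ρ * S χ * S φ
        = ∑ ψ : IrrCharacter K, ∑ η : IrrCharacter K,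
            blockInd b ψ * blockInd b η * (resMult χ ψ * resMult φ η) *
              ((centScalar ψ z * centScalar η z⁻¹ - 1) * (g η * r ψ η)
                + (g η * r ψ η - g ψ * g η * ρ)) := by
      rw [contrib_eq_sum hzx hz]
      simp only [S, Finset.mul_sum, Finset.sum_mul, Finset.sum_div, mul_div_assoc, hpair]
      rw [Finset.sum_comm (f := fun η ψ => ρ * (blockInd b ψ * resMult χ ψ * g ψ) *
        (blockInd b η * resMult φ η * g η)), ← Finset.sum_sub_distrib]
      refine Finset.sum_congr rfl fun ψ _ => ?_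
      rw [← Finset.sum_sub_distrib]
      exact Finset.sum_congr rfl fun η _ => by ring
    rw [e]
    refine LI.sum hM fun ψ _ => LI.sum hM fun η _ => ?_
    obtain ⟨a, ha⟩ := resMult_nat χ ψ
    obtain ⟨c, hc⟩ := resMult_nat φ η
    by_cases hψ : ψ ∈ b
    · by_cases hη : η ∈ b
      · rw [ha, hc, blockInd_of_mem hψ, blockInd_of_mem hη, one_mul, one_mul]
        refine LI.mul_left hM (LR.mul hM (LR.natCast hM a) (LR.natCast hM c))
          (LI.add hM (LI.mul_right hM (LI.root_sub_one hM (k := k) ?_)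
            (LR.mul hM (hg η hη) (hr ψ η))) (hsnd ψ hψ η hη))
        rw [mul_pow, centScalar_pow_eq_one ψ hz hzk,
          centScalar_pow_eq_one η (inv_mem hz) (by rw [inv_pow, hzk, inv_one]), one_mul]
      · simp [blockInd_of_notMem hη, LI.zero hM]
    · simp [blockInd_of_notMem hψ, LI.zero hM]
  intro h0
  have h1 : MemLocalIdeal M (contrib p x K b χ φ / d₀) := by
    have hp0 : (p : ℂ) ^ minDegVal p b ≠ 0 := pow_ne_zero _ (by exact_mod_cast hM.1.ne_zero)
    have hfac : MemLocalRing M ((p : ℂ) ^ minDegVal p b / d₀) := by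
      rw [hd₀, irr_one_eq, ← Nat.cast_pow]
      exact natCast_div_LR hM (charDegree_pos ψ₀).ne' (pow_dvd_pow p (le_of_eq hψ₀m))
    have e : contrib p x K b χ φ / d₀
        = contrib p x K b χ φ / (p : ℂ) ^ minDegVal p b * ((p : ℂ) ^ minDegVal p b / d₀) := by
      rw [div_mul_div_cancel₀ hp0]
    rw [e]
    exact LI.mul_right hM h0 hfac
  have hI : MemLocalIdeal M (ρ * S χ * S φ) := by
    have := LI.sub hM h1 hcong
    rwa [sub_sub_cancel] at this
  refine not_LI_mul hM (LR.mul hM hρ (hSLR χ)) (hSLR φ) (hS χ hχ hχ0) ?_ hI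
  exact fun h => hS φ hφ hφ0 (LI.mul_left hM hρ h)

/-- A subsection has nonzero contribution to each pair of characters of height zero. -/
theorem contrib_ne_zero_of_min (hM : IsPModular p M) {B : Set (IrrCharacter G)}
    {b : Set (IrrCharacter K)} (hind : IsInducedBlock M K b B) {x : G} {z : K}
    (hzx : (z : G) = x) (hz : z ∈ Subgroup.center K) {k : ℕ} (hzk : z ^ p ^ k = 1)
    {χ φ : IrrCharacter G} (hχ : χ ∈ B) (hφ : φ ∈ B) (hχ0 : degVal p χ = minDegVal p B)
    (hφ0 : degVal p φ = minDegVal p B) : contrib p x K b χ φ ≠ 0 := fun h =>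
  contrib_not_LI_of_min hM hind hzx hz hzk hχ hφ hχ0 hφ0 (by rw [h, zero_div]; exact LI.zero hM)

/-- `k(B)^2 ≤ p^(2d) l(b)` for a major subsection when all heights are zero. -/
theorem card_sq_le_of_major (hM : IsPModular p M) {B : Set (IrrCharacter G)}
    {b : Set (IrrCharacter K)} {x : G} (hK : K = Subgroup.centralizer ({x} : Set G))
    (hx : ∃ k : ℕ, orderOf x = p ^ k) (hind : IsInducedBlock M K b B)
    (hh : ∀ χ ∈ B, degVal p χ = minDegVal p B) :
    Nat.card B ^ 2 ≤ p ^ (2 * blockDefect p b) * blockRank p b := by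
  obtain ⟨k, hk⟩ := hx
  have hxK : x ∈ K := by rw [hK, Subgroup.mem_centralizer_singleton_iff]
  set z : K := ⟨x, hxK⟩
  have hzx : (z : G) = x := rfl
  have hz : z ∈ Subgroup.center K := by
    rw [Subgroup.mem_center_iff]
    intro c
    exact Subtype.ext (Subgroup.mem_centralizer_singleton_iff.1 (hK ▸ c.2))
  have hzk : z ^ p ^ k = 1 := Subtype.ext (by
    rw [Subgroup.coe_pow, Subgroup.coe_one, ← hk]; exact pow_orderOf_eq_one x)
  haveI : NeZero (p ^ k) := ⟨pow_ne_zero _ hM.1.ne_zero⟩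
  set ζ := Complex.exp (2 * Real.pi * Complex.I / (p ^ k : ℕ))
  have hζ : IsPrimitiveRoot ζ (p ^ k) := Complex.isPrimitiveRoot_exp _ (NeZero.ne _)
  set m := minDegVal p b
  let X : IrrCharacter G × IrrCharacter G → ℂ := fun i => contrib p x K b i.1 i.2 / (p : ℂ) ^ m
  set s := Finset.univ.filter fun i => X i ≠ 0
  have hp0 : (p : ℂ) ^ m ≠ 0 := pow_ne_zero _ (by exact_mod_cast hM.1.ne_zero)
  have hq : (pPartCard p K : ℂ) = (p : ℂ) ^ m * (p : ℂ) ^ blockDefect p b := by
    rw [pPartCard, Nat.cast_pow, ← pow_add, add_comm,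
      blockDefect_add_min (p := p) (IsPBlock.nonempty hM hind.1)]
  have hsum : ∑ i ∈ s, X i * conj (X i)
      = (((p ^ (2 * blockDefect p b) * blockRank p b : ℕ) : ℚ) : ℂ) := by
    rw [Finset.sum_filter_of_ne (fun i _ (h : X i * conj (X i) ≠ 0) => left_ne_zero_of_mul h),
      ← Finset.univ_product_univ, Finset.sum_product]
    simp only [X, map_div₀, map_pow, map_natCast, conj_contrib hM.1 hzx hz, div_mul_div_comm,
      ← Finset.sum_div]
    rw [sum_contrib_sq hM hK ⟨k, hk⟩ hind.1, hq]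
    push_cast
    field_simp
    ring
  have hle := card_le_of_sum_normSq s (pow_pos hM.1.pos k) hζ.pow_eq_one X
    (fun i _ => contrib_div_mem_adjoin hM hzx hz i.1 i.2 hζ hzk)
    (fun i hi => (Finset.mem_filter.1 hi).2) hsum
  have hsub : B.toFinset ×ˢ B.toFinset ⊆ s := by
    intro i hi
    rw [Finset.mem_product, Set.mem_toFinset, Set.mem_toFinset] at hi
    exact Finset.mem_filter.2 ⟨Finset.mem_univ _, div_ne_zero
      (contrib_ne_zero_of_min hM hind hzx hz hzk hi.1 hi.2 (hh _ hi.1) (hh _ hi.2)) hp0⟩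
  have h2 := Finset.card_le_card hsub
  rw [Finset.card_product, ← Nat.card_eq_card_toFinset] at h2
  rw [sq]
  exact h2.trans (by exact_mod_cast hle)

end CfsgLib.Blocks
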