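import Cfsg.Agent.Lib.Blocks.StableOver
import Cfsg.Agent.Lib.Fusion.PSolvable
import Cfsg.Agent.Lib.Components.Constrained
import Cfsg.Agent.Lib.KGroups.CharP

/-!
# The block over an invariant character of a `p'`-core when `C_G(Q) ≤ L`

`K ≤ L` normal, `K` of order prime to `p`, `L / K` a `p`-group with Sylow subgroup `Q`,
`C_G(Q) ≤ L`, `θ` invariant: the characters over `θ` form one block of full defect and of
principal type.
-/

set_option autoImplicit false
set_option linter.unusedSectionVars false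

namespace CfsgLib.Blocks.PrincipalType

open Cfsg CfsgLib.Blocks CfsgLib.Blocks.FongReynolds CfsgLib.Blocks.StableOver
  CfsgLib.CharDeep.Clifford
open scoped Classical

variable {G : Type*} [Group G] [Fintype G] {p : ℕ} {M : Ideal AlgInt}
  {K L : Subgroup G} [Fintype K] [K.Normal] [L.Normal]

/-- `C_G(S) ≤ L` for every Sylow subgroup `S` of `L`. -/
theorem centralizer_sylow_le [Fact p.Prime] {Q : Subgroup G} (hQL : Q ≤ L) (hQp : IsPGroup p Q)
    (hQS : ¬ p ∣ Q.relIndex L) (hCQ : Subgroup.centralizer (Q : Set G) ≤ L) (S : Sylow p L) :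
    Subgroup.centralizer (((S : Subgroup L).map L.subtype : Subgroup G) : Set G) ≤ L := by
  obtain ⟨n, hn⟩ := IsPGroup.iff_card.1 hQp
  have hcard : Nat.card (Q.subgroupOf L) = p ^ (Nat.card L).factorization p := by
    rw [Nat.card_congr (Subgroup.subgroupOfEquivOfLe hQL).toEquiv, hn]
    congr 1
    have h1 := (Q.subgroupOf L).index_mul_card
    rw [Nat.card_congr (Subgroup.subgroupOfEquivOfLe hQL).toEquiv, hn] at h1
    rw [← h1, Nat.factorization_mul Subgroup.index_ne_zero_of_finite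
      (pow_ne_zero _ (Fact.out : p.Prime).ne_zero), Finsupp.add_apply,
      Nat.factorization_eq_zero_of_not_dvd (show ¬ p ∣ (Q.subgroupOf L).index from hQS),
      (Fact.out : p.Prime).factorization_pow, Finsupp.single_eq_same, zero_add]
  obtain ⟨l, hl⟩ := MulAction.exists_smul_eq L (Sylow.ofCard (Q.subgroupOf L) hcard) S
  intro x hx
  have h1 : (l : G)⁻¹ * x * (l : G) ∈ Subgroup.centralizer (Q : Set G) := by
    rw [Subgroup.mem_centralizer_iff]
    intro u hu
    have hm : (l : G) * u * (l : G)⁻¹ ∈ (S : Subgroup L).map L.subtype := by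
      rw [← hl]
      refine ⟨l * ⟨u, hQL hu⟩ * l⁻¹, ?_, by simp⟩
      rw [SetLike.mem_coe, Sylow.coe_subgroup_smul, Sylow.coe_ofCard]
      exact ⟨⟨u, hQL hu⟩, hu, rfl⟩
    have h2 := Subgroup.mem_centralizer_iff.1 hx _ hm
    calc u * ((l : G)⁻¹ * x * (l : G)) = (l : G)⁻¹ * ((l : G) * u * (l : G)⁻¹ * x) * l := by group
      _ = (l : G)⁻¹ * (x * ((l : G) * u * (l : G)⁻¹)) * l := by rw [h2]
      _ = _ := by group
  simpa [mul_assoc] using Subgroup.Normal.conj_mem (inferInstance : L.Normal) _ (hCQ h1) (l : G)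

/-- `p`-regular elements of `C_G(R)` centralizing a Sylow subgroup of `L ∩ C_G(R)` lie in `L`. -/
theorem mem_of_centralizes [Fact p.Prime] (hK : ¬ p ∣ Nat.card K) (hKL : K ≤ L) {k : ℕ}
    (hidx : K.relIndex L = p ^ k) {Q : Subgroup G} (hQL : Q ≤ L) (hQp : IsPGroup p Q)
    (hCQ : Subgroup.centralizer (Q : Set G) ≤ L) {R C : Subgroup G} (hR : IsPGroup p R)
    (hC : C = Subgroup.centralizer (R : Set G)) (S : Sylow p (L.subgroupOf C)) {x : C}
    (hx : x ∈ Subgroup.centralizer
      (((S : Subgroup (L.subgroupOf C)).map (L.subgroupOf C).subtype : Subgroup C) : Set C))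
    (hreg : IsPRegular p x) : x ∈ L.subgroupOf C := by
  have hp : p.Prime := Fact.out
  have hKc : (Nat.card K).Coprime p := Nat.coprime_comm.1 (hp.coprime_iff_not_dvd.2 hK)
  set q := QuotientGroup.mk' K
  have hLp : IsPGroup p (L.map q) := by
    refine IsPGroup.of_card (n := k) ?_
    rw [← hidx, ← Subgroup.relIndex_bot_left, ← Subgroup.relIndex_comap,
      MonoidHom.comap_bot, QuotientGroup.ker_mk']
  set f : L.subgroupOf C →* L.map q :=
    { toFun := fun c => ⟨q ((c : C) : G), (c : C), c.2, rfl⟩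
      map_one' := Subtype.ext (by simp)
      map_mul' := fun a b => Subtype.ext (by simp) }
  have hfix : ∀ z ∈ L.map q, (∀ a ∈ R.map q, a * z = z * a) →
      q ((x : C) : G) * z = z * q ((x : C) : G) := by
    rintro _ ⟨y, hy, rfl⟩ hcom
    have hmem : q y ∈ Subgroup.centralizer ((R.map q : Subgroup (G ⧸ K)) : Set (G ⧸ K)) :=
      Subgroup.mem_centralizer_iff.2 fun a ha => hcom a ha
    rw [CfsgLib.Components.centralizer_map_mk hKc hR] at hmem
    obtain ⟨y', hy', he⟩ := hmem
    have hy'L : y' ∈ L := by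
      have h1 : y⁻¹ * y' ∈ K := QuotientGroup.eq.1 he.symm
      simpa using mul_mem hy (hKL h1)
    set c : L.subgroupOf C := ⟨⟨y', hC ▸ hy'⟩, hy'L⟩
    have htop : (S : Subgroup (L.subgroupOf C)).map f.rangeRestrict = ⊤ := by
      rw [← Subgroup.index_eq_one]
      have h1 := Subgroup.index_map_dvd (H := (S : Subgroup (L.subgroupOf C)))
        f.rangeRestrict_surjective
      obtain ⟨j, hj⟩ := (hLp.to_subgroup f.range).index
        ((S : Subgroup (L.subgroupOf C)).map f.rangeRestrict)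
      rw [hj] at h1 ⊢
      rcases Nat.eq_zero_or_pos j with h | h
      · rw [h, pow_zero]
      · exact absurd ((dvd_pow_self p h.ne').trans h1) S.not_dvd_index
    obtain ⟨s, hs, hse⟩ : f.rangeRestrict c ∈ (S : Subgroup (L.subgroupOf C)).map f.rangeRestrict :=
      htop ▸ Subgroup.mem_top _
    have hcomm := Subgroup.mem_centralizer_iff.1 hx _ ⟨s, hs, rfl⟩
    have e : q ((s : C) : G) = q y := by
      rw [← he]
      exact congrArg (fun t : f.range => ((t : L.map q) : G ⧸ K)) hse
    rw [← e, ← map_mul, ← map_mul]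
    exact (congrArg (fun t : C => q (t : G)) hcomm).symm
  have hall := CfsgLib.KGroups.CharP.commute_of_commute_fixed (P := L.map q) (A := R.map q) hLp
    (hR.map q) (by
      have : (L.map q).Normal := Subgroup.Normal.map inferInstance q (QuotientGroup.mk'_surjective K)
      rw [Subgroup.normalizer_eq_top]; exact le_top)
    (y := q ((x : C) : G)) ((hp.coprime_iff_not_dvd.2 fun h => hreg (by
      rw [← Subgroup.orderOf_coe]
      exact h.trans (orderOf_map_dvd q _))).symm)
    (by
      rintro _ ⟨r, hr, rfl⟩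
      have h0 : ((x : C) : G) ∈ Subgroup.centralizer (R : Set G) := hC ▸ x.2
      rw [← map_mul, ← map_mul, Subgroup.mem_centralizer_iff.1 h0 r hr])
    (by
      have : (L.map q).Normal := Subgroup.Normal.map inferInstance q (QuotientGroup.mk'_surjective K)
      rw [Subgroup.normalizer_eq_top]; exact Subgroup.mem_top _) hfix
  have hmem : q ((x : C) : G) ∈ Subgroup.centralizer ((Q.map q : Subgroup (G ⧸ K)) : Set (G ⧸ K)) :=
    Subgroup.mem_centralizer_iff.2 fun a ha => (hall a (Subgroup.map_mono hQL ha)).symm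
  rw [CfsgLib.Components.centralizer_map_mk hKc hQp] at hmem
  obtain ⟨y, hy, he⟩ := hmem
  show ((x : C) : G) ∈ L
  simpa using mul_mem (hCQ hy) (hKL (QuotientGroup.eq.1 he))

variable {θ : IrrCharacter K}

/-- The statement on blocks. -/
theorem block_over (hM : IsPModular p M) (hK : ¬ p ∣ Nat.card K) (hKL : K ≤ L) {k : ℕ}
    (hidx : K.relIndex L = p ^ k) {Q : Subgroup G} (hQL : Q ≤ L) (hQp : IsPGroup p Q)
    (hQS : ¬ p ∣ Q.relIndex L) (hCQ : Subgroup.centralizer (Q : Set G) ≤ L)
    (hθ : ∀ g : G, conjIrr g θ = θ) {B : Set (IrrCharacter G)}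
    (hBdef : ∀ χ : IrrCharacter G, χ ∈ B ↔
      classInner (fun k : K => (χ : G → ℂ) k) (θ : K → ℂ) ≠ 0) :
    IsPBlock M B ∧ (∀ S : Sylow p G, IsDefectGroup p M B S) ∧
      ∀ D : Subgroup G, IsDefectGroup p M B D → ∃ S : Sylow p G, D = (S : Subgroup G) := by
  haveI := Fact.mk hM.1
  obtain ⟨B₁, hB₁, hover, hdef⟩ := exists_full_over hM hK hθ
  obtain ⟨χ₁, hχ₁⟩ := IsPBlock.nonempty hM hB₁
  have hBB : B = B₁ := Set.ext fun χ => by
    rw [hBdef]
    exact ⟨fun h => (IsPBlock.mem_iff hM hB₁ hχ₁).2 (sameBlock_of_over_invariant hM hK hθ hKL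
      ⟨k, hidx⟩ (fun S x hx _ => centralizer_sylow_le hQL hQp hQS hCQ S hx) (hover χ₁ hχ₁) h),
      hover χ⟩
  subst hBB
  have hD : ∀ D : Subgroup G, IsDefectGroup p M B D → ∃ S : Sylow p G, D = (S : Subgroup G) := by
    intro D hD
    have h := card_defectGroup hM hB₁ hD
    rw [hdef] at h
    exact ⟨Sylow.ofCard D h, rfl⟩
  refine ⟨hB₁, fun S => ?_, hD⟩
  obtain ⟨D, hD'⟩ := exists_isDefectGroup hM hB₁
  obtain ⟨S₀, rfl⟩ := hD D hD'
  obtain ⟨g, rfl⟩ := MulAction.exists_smul_eq G S₀ S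
  rw [Sylow.coe_subgroup_smul]
  exact isDefectGroup_conj hD' g

/-- For each `p`-subgroup `R` one block of `C_G(R)` induces the block. -/
theorem existsUnique_inducing (hM : IsPModular p M) (hK : ¬ p ∣ Nat.card K) (hKL : K ≤ L) {k : ℕ}
    (hidx : K.relIndex L = p ^ k) {Q : Subgroup G} (hQL : Q ≤ L) (hQp : IsPGroup p Q)
    (hQS : ¬ p ∣ Q.relIndex L) (hCQ : Subgroup.centralizer (Q : Set G) ≤ L)
    (hθ : ∀ g : G, conjIrr g θ = θ) {B : Set (IrrCharacter G)}
    (hBdef : ∀ χ : IrrCharacter G, χ ∈ B ↔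
      classInner (fun k : K => (χ : G → ℂ) k) (θ : K → ℂ) ≠ 0)
    {R : Subgroup G} (hR : IsPGroup p R) :
    ∃! f : Set (IrrCharacter (Subgroup.centralizer (R : Set G))),
      IsInducedBlock M (Subgroup.centralizer (R : Set G)) f B := by
  haveI := Fact.mk hM.1
  obtain ⟨hB, hsyl, -⟩ := block_over hM hK hKL hidx hQL hQp hQS hCQ hθ hBdef
  obtain ⟨S, hS⟩ := hR.exists_le_sylow
  obtain ⟨c, hc, hcl⟩ := exists_unit_coeff_centralizer hM (hsyl S)
  have hcR : c ∈ Subgroup.centralizer (R : Set G) := Subgroup.centralizer_le hS hc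
  obtain ⟨ψ, χ₀, hχ₀, heval⟩ := exists_brauer_eval hM hB hR hcR hcl.2.1
  have hψm : ψ ∈ blockOf M (ψ : Subgroup.centralizer (R : Set G) → ℂ) := SameBlock_refl hM _
  obtain ⟨B', hind⟩ := exists_isInducedBlock_centralizer hM hR rfl (isPBlock_blockOf (M := M) ψ)
  have hB' : B' = B := by
    obtain ⟨χ', hχ'⟩ := IsPBlock.nonempty hM hind.2.1
    have h1 := IsInducedBlock.omega_congr hM hind hψm hχ' (blockCoeff_isClassFunction B)
      (blockCoeff_LR hM hB)
    have h2 := heval _ (blockCoeff_isClassFunction B) (blockCoeff_LR hM hB)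
    rw [show brTrunc R (Subgroup.centralizer (R : Set G)) (fun g => blockCoeff B g)
        = fun z : Subgroup.centralizer (R : Set G) => blockCoeff B (z : G) from
      funext fun z => if_pos z.2] at h2
    have h3 := LI.trans hM (LI.sub_comm h1) h2
    rw [omega_blockCoeff, omega_blockCoeff, blockInd_of_mem hχ₀] at h3
    refine IsPBlock.eq_of_mem hM hind.2.1 hB hχ' ?_
    by_contra hne
    rw [blockInd_of_notMem hne, zero_sub] at h3
    exact LI.not_one hM (by simpa using LI.neg h3)
  subst hB'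
  refine ⟨_, hind, fun f hf => ?_⟩
  let _ : Fintype (K.subgroupOf (Subgroup.centralizer (R : Set G))) := Fintype.ofFinite _
  let _ : Fintype (L.subgroupOf (Subgroup.centralizer (R : Set G))) := Fintype.ofFinite _
  set g : K.subgroupOf (Subgroup.centralizer (R : Set G)) → ℂ := fun k => idemOf θ ((k : (Subgroup.centralizer (R : Set G))) : G) with hg
  have hginv : ∀ (z : (Subgroup.centralizer (R : Set G))) (k : K.subgroupOf (Subgroup.centralizer (R : Set G))), g (MulAut.conjNormal z k) = g k := fun z k => by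
    show idemOf θ (((MulAut.conjNormal z k : K.subgroupOf (Subgroup.centralizer (R : Set G))) : (Subgroup.centralizer (R : Set G))) : G) = _
    rw [MulAut.conjNormal_apply]
    exact idemOf_isClassFunction hθ ((k : (Subgroup.centralizer (R : Set G))) : G) (z : G)
  have hext : (fun z : (Subgroup.centralizer (R : Set G)) => idemOf θ (z : G))
      = fun z : (Subgroup.centralizer (R : Set G)) => if hz : z ∈ K.subgroupOf (Subgroup.centralizer (R : Set G)) then g ⟨z, hz⟩ else 0 := funext fun z => by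
    by_cases hz : z ∈ K.subgroupOf (Subgroup.centralizer (R : Set G))
    · rw [dif_pos hz]
    · rw [dif_neg hz, idemOf, dif_neg (show (z : G) ∉ K from hz)]
  have hchar : ∀ f : Set (IrrCharacter (Subgroup.centralizer (R : Set G))), IsInducedBlock M (Subgroup.centralizer (R : Set G)) f B' → ∀ ξ ∈ f,
      ∀ φ : IrrCharacter (K.subgroupOf (Subgroup.centralizer (R : Set G))),
        classInner (fun k : K.subgroupOf (Subgroup.centralizer (R : Set G)) => (ξ : (Subgroup.centralizer (R : Set G)) → ℂ) k) (φ : K.subgroupOf (Subgroup.centralizer (R : Set G)) → ℂ) ≠ 0 →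
        MemLocalIdeal M (omega (φ : K.subgroupOf (Subgroup.centralizer (R : Set G)) → ℂ) g - 1) := by
    intro f hf ξ hξ φ hφ
    obtain ⟨χ, hχ⟩ := IsPBlock.nonempty hM hf.2.1
    have h := IsInducedBlock.omega_congr hM hf hξ hχ (idemOf_isClassFunction hθ) (idemOf_LR hM hK θ)
    rw [hext, omega_extend, omega_eq_of_over hφ hginv, omega_idemOf hθ,
      if_pos ((hBdef χ).1 hχ)] at h
    exact h
  obtain ⟨φ₀, hφ₀⟩ := CfsgLib.Blocks.exists_over (N := K.subgroupOf (Subgroup.centralizer (R : Set G))) ψ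
  have h₀ := hchar _ hind ψ hψm φ₀ hφ₀
  have huniq : ∀ φ : IrrCharacter (K.subgroupOf (Subgroup.centralizer (R : Set G))),
      MemLocalIdeal M (omega (φ : K.subgroupOf (Subgroup.centralizer (R : Set G)) → ℂ) g - 1) → φ = φ₀ := fun φ hφ =>
    eq_of_brauer hM hK hθ hR rfl h₀ hφ
  have hinv : ∀ z : (Subgroup.centralizer (R : Set G)), conjIrr z φ₀ = φ₀ := fun z => huniq _ (by
    have e : omega (conjIrr z φ₀ : K.subgroupOf (Subgroup.centralizer (R : Set G)) → ℂ) g
        = omega (φ₀ : K.subgroupOf (Subgroup.centralizer (R : Set G)) → ℂ) g := by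
      simp only [omega, conjIrr, conjFun, Function.comp_apply, map_one]
      congr 1
      refine Fintype.sum_equiv (MulAut.conjNormal z : MulAut (K.subgroupOf (Subgroup.centralizer (R : Set G)))).toEquiv _ _
        fun k => ?_
      simp only [MulEquiv.toEquiv_eq_coe, EquivLike.coe_coe, hginv]
    rw [e]
    exact h₀)
  obtain ⟨ξ, hξ⟩ := IsPBlock.nonempty hM hf.1
  obtain ⟨φ, hφ⟩ := CfsgLib.Blocks.exists_over (N := K.subgroupOf (Subgroup.centralizer (R : Set G))) ξ
  rw [huniq φ (hchar f hf ξ hξ φ hφ)] at hφ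
  have hKc : ¬ p ∣ Nat.card (K.subgroupOf (Subgroup.centralizer (R : Set G))) := fun h => hK (h.trans (by
    let i : K.subgroupOf (Subgroup.centralizer (R : Set G)) →* K := ⟨⟨fun k => ⟨((k : (Subgroup.centralizer (R : Set G))) : G), k.2⟩, rfl⟩, fun _ _ => rfl⟩
    exact Subgroup.card_dvd_of_injective i fun a b h =>
      Subtype.ext (Subtype.ext (congrArg Subtype.val h :))))
  have hidx' : ∃ j, (K.subgroupOf (Subgroup.centralizer (R : Set G))).relIndex (L.subgroupOf (Subgroup.centralizer (R : Set G))) = p ^ j := by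
    have h1 := CfsgLib.Fusion.PSolvable.relIndex_comap_dvd (Subgroup.centralizer (R : Set G)).subtype (A := K) hKL
    rw [hidx] at h1
    obtain ⟨j, -, hj⟩ := (Nat.dvd_prime_pow hM.1).1 h1
    exact ⟨j, hj⟩
  refine IsPBlock.eq_of_mem hM hf.1 (isPBlock_blockOf ψ) hξ ?_
  exact sameBlock_of_over_invariant hM hKc hinv
    (fun z hz => hKL hz : K.subgroupOf (Subgroup.centralizer (R : Set G)) ≤ L.subgroupOf (Subgroup.centralizer (R : Set G))) hidx'
    (fun S x hx hr => mem_of_centralizes hK hKL hidx hQL hQp hCQ hR rfl S hx hr) hφ₀ hφ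

end CfsgLib.Blocks.PrincipalType
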