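import Cfsg.Prelude.Def_BrauerPairs
import Cfsg.Agent.Lib.Blocks.InducedBlock
import Cfsg.Agent.Lib.Blocks.Defect2

/-!
# Brauer pairs of a block are the blocks of centralizers inducing it
-/

set_option autoImplicit false

namespace CfsgLib.Blocks

open Cfsg
open scoped Classical ComplexConjugate

variable {G : Type*} [Group G] [Fintype G] {p : ℕ} {M : Ideal AlgInt}

theorem brauerOmega_eq_omega (Q : Subgroup G) (β : G → ℂ)
    (ξ : Subgroup.centralizer (Q : Set G) → ℂ) :
    brauerOmega Q β ξ = omega ξ (fun x : Subgroup.centralizer (Q : Set G) => β x) := by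
  rw [brauerOmega, finsum_eq_sum_of_fintype, omega, Finset.sum_div]

theorem isBrauerPairOf_iff_induced (hM : IsPModular p M) {Q : Subgroup G} (hQ : IsPGroup p Q)
    {e : Set (IrrCharacter (Subgroup.centralizer (Q : Set G)))} (he : IsPBlock M e)
    {B : Set (IrrCharacter G)} :
    IsBrauerPairOf p M B Q e ↔ IsInducedBlock M (Subgroup.centralizer (Q : Set G)) e B := by
  obtain ⟨B₀, hind⟩ := exists_isInducedBlock_centralizer hM hQ rfl he
  obtain ⟨χ₀, hχ₀⟩ := IsPBlock.nonempty hM hind.2.1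
  have key : ∀ B : Set (IrrCharacter G), IsPBlock M B → ∀ ξ ∈ e,
      MemLocalIdeal M (brauerOmega Q (blockCoeff B) (ξ : _ → ℂ) - blockInd B χ₀) := by
    intro B hB ξ hξ
    rw [brauerOmega_eq_omega, ← omega_blockCoeff]
    exact IsInducedBlock.omega_congr hM hind hξ hχ₀ (blockCoeff_isClassFunction B)
      (blockCoeff_LR hM hB)
  constructor
  · rintro ⟨-, hB, h⟩
    obtain ⟨ξ, hξ⟩ := IsPBlock.nonempty hM he
    have h1 := LI.sub hM (h ξ hξ) (key B hB ξ hξ)
    rw [sub_sub_sub_cancel_left] at h1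
    have hmem : χ₀ ∈ B := by
      by_contra hne
      rw [blockInd_of_notMem hne, zero_sub] at h1
      have := LI.neg h1
      rw [neg_neg] at this
      exact LI.not_one hM this
    rwa [IsPBlock.eq_of_mem hM hB hind.2.1 hmem hχ₀]
  · intro h
    have hB := IsInducedBlock.unique hM h hind
    refine ⟨⟨hQ, he⟩, h.2.1, fun ξ hξ => ?_⟩
    have := key B h.2.1 ξ hξ
    rwa [blockInd_of_mem (hB ▸ hχ₀)] at this

end CfsgLib.Blocks
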