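import Cfsg.Agent.Lib.Blocks.LocalRing
import Mathlib.RingTheory.RootsOfUnity.Complex
import Mathlib.RingTheory.Polynomial.Cyclotomic.Roots
import Mathlib.RingTheory.PowerBasis

/-!
# The constant coefficient on the integers of a cyclotomic field of two-power conductor

For `ζ` of order `2 n`, `n = 2 ^ k`, the powers `ζ ^ i`, `i < n`, are orthonormal for
`(z, w) ↦ τ (z * conj w)`, `τ` the constant coefficient.
-/

set_option autoImplicit false

namespace CfsgLib.Blocks.TwoPowerTrace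

open Cfsg CfsgLib.Blocks Polynomial
open scoped ComplexConjugate

variable {k : ℕ} {ζ : ℂ}

theorem linIndep (hζ : IsPrimitiveRoot ζ (2 ^ (k + 1))) :
    LinearIndependent ℚ fun i : Fin (2 ^ k) => ζ ^ (i : ℕ) := by
  have h : (minpoly ℚ ζ).natDegree = 2 ^ k := by
    rw [← cyclotomic_eq_minpoly_rat hζ (pow_pos two_pos _), natDegree_cyclotomic,
      Nat.totient_prime_pow_succ Nat.prime_two]
    simp
  have h2 := linearIndependent_pow (K := ℚ) ζ
  exact h2.comp (Fin.cast h.symm) (Fin.cast_injective _)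

/-- The constant coefficient, extended linearly. -/
theorem exists_coeff_zero (hζ : IsPrimitiveRoot ζ (2 ^ (k + 1))) :
    ∃ τ : ℂ →ₗ[ℚ] ℚ, ∀ i < 2 ^ k, τ (ζ ^ i) = if i = 0 then 1 else 0 := by
  obtain ⟨τ, hτ⟩ := LinearMap.exists_extend
    ((Module.Basis.span (linIndep hζ)).constr ℚ fun i : Fin (2 ^ k) =>
      if (i : ℕ) = 0 then (1 : ℚ) else 0)
  refine ⟨τ, fun i hi => ?_⟩
  have h := LinearMap.congr_fun hτ (Module.Basis.span (linIndep hζ) ⟨i, hi⟩)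
  rw [Module.Basis.constr_basis, LinearMap.comp_apply, Submodule.coe_subtype,
    Module.Basis.span_apply] at h
  exact h

theorem pow_half (hζ : IsPrimitiveRoot ζ (2 ^ (k + 1))) : ζ ^ 2 ^ k = -1 := by
  have h : IsPrimitiveRoot (ζ ^ 2 ^ k) 2 := hζ.pow (pow_pos two_pos _) (pow_succ 2 k)
  exact h.eq_neg_one_of_two_right

theorem conj_pow_eq (hζ : IsPrimitiveRoot ζ (2 ^ (k + 1))) {i : ℕ} (hi : i ≤ 2 ^ k) :
    conj (ζ ^ i) = -ζ ^ (2 ^ k - i) := by
  rw [map_pow, ← Complex.inv_eq_conj (hζ.norm'_eq_one (pow_ne_zero _ two_ne_zero)), inv_pow]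
  refine inv_eq_of_mul_eq_one_right ?_
  rw [mul_neg, ← pow_add, Nat.add_sub_cancel' hi, pow_half hζ, neg_neg]

variable {τ : ℂ →ₗ[ℚ] ℚ}

theorem apply_intCast_mul (τ : ℂ →ₗ[ℚ] ℚ) (a : ℤ) (z : ℂ) : τ ((a : ℂ) * z) = (a : ℚ) * τ z := by
  rw [← zsmul_eq_mul, map_zsmul, zsmul_eq_mul]

theorem apply_mul_conj_pow (hζ : IsPrimitiveRoot ζ (2 ^ (k + 1)))
    (hτ : ∀ i < 2 ^ k, τ (ζ ^ i) = if i = 0 then 1 else 0) {i j : ℕ} (hi : i < 2 ^ k)
    (hj : j < 2 ^ k) : τ (ζ ^ i * conj (ζ ^ j)) = if i = j then 1 else 0 := by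
  rw [conj_pow_eq hζ hj.le, mul_neg, ← pow_add]
  rcases le_or_gt j i with h | h
  · rw [show i + (2 ^ k - j) = 2 ^ k + (i - j) by omega, pow_add, pow_half hζ, neg_one_mul, neg_neg,
      hτ _ (by omega)]
    exact if_congr (by omega) rfl rfl
  · rw [map_neg, hτ _ (by omega), if_neg (by omega), if_neg (by omega), neg_zero]

theorem exists_coeffs (hζ : IsPrimitiveRoot ζ (2 ^ (k + 1))) {z : ℂ}
    (hz : z ∈ Algebra.adjoin ℤ ({ζ} : Set ℂ)) :
    ∃ a : Fin (2 ^ k) → ℤ, z = ∑ i, (a i : ℂ) * ζ ^ (i : ℕ) := by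
  obtain ⟨P, rfl⟩ := (Algebra.adjoin_singleton_eq_range_aeval ℤ ζ ▸ hz :)
  clear hz
  change ∃ a : Fin (2 ^ k) → ℤ, aeval ζ P = ∑ i, (a i : ℂ) * ζ ^ (i : ℕ)
  induction P using Polynomial.induction_on' with
  | add P Q hP hQ =>
    obtain ⟨a, ha⟩ := hP
    obtain ⟨b, hb⟩ := hQ
    exact ⟨a + b, by simp [map_add, ha, hb, add_mul, Finset.sum_add_distrib]⟩
  | monomial n c =>
    rw [aeval_monomial, eq_intCast]
    refine ⟨fun i => if (i : ℕ) = n % 2 ^ k then c * (-1) ^ (n / 2 ^ k) else 0, ?_⟩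
    rw [Finset.sum_eq_single (⟨n % 2 ^ k, Nat.mod_lt _ (pow_pos two_pos _)⟩ : Fin (2 ^ k))
      (fun b _ hb => by
        beta_reduce
        rw [if_neg fun h => hb (Fin.ext h)]
        simp) (fun h => absurd (Finset.mem_univ _) h)]
    beta_reduce
    rw [if_pos rfl]
    conv_lhs => rw [← Nat.div_add_mod n (2 ^ k), pow_add, pow_mul, pow_half hζ]
    push_cast
    ring

theorem apply_mul_conj_eq_coeff (hζ : IsPrimitiveRoot ζ (2 ^ (k + 1)))
    (hτ : ∀ i < 2 ^ k, τ (ζ ^ i) = if i = 0 then 1 else 0) (a : Fin (2 ^ k) → ℤ) (j : Fin (2 ^ k)) :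
    τ ((∑ i, (a i : ℂ) * ζ ^ (i : ℕ)) * conj (ζ ^ (j : ℕ))) = a j := by
  rw [Finset.sum_mul, map_sum, Finset.sum_eq_single j (fun i _ hne => by
    rw [mul_assoc, apply_intCast_mul, apply_mul_conj_pow hζ hτ i.2 j.2,
      if_neg (fun h => hne (Fin.ext h)), mul_zero]) (fun h => absurd (Finset.mem_univ _) h),
    mul_assoc, apply_intCast_mul, apply_mul_conj_pow hζ hτ j.2 j.2, if_pos rfl, mul_one]

theorem apply_eq_coeff_zero (hζ : IsPrimitiveRoot ζ (2 ^ (k + 1)))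
    (hτ : ∀ i < 2 ^ k, τ (ζ ^ i) = if i = 0 then 1 else 0) (a : Fin (2 ^ k) → ℤ) :
    τ (∑ i, (a i : ℂ) * ζ ^ (i : ℕ)) = a ⟨0, pow_pos two_pos _⟩ := by
  have h := apply_mul_conj_eq_coeff hζ hτ a ⟨0, pow_pos two_pos _⟩
  simpa using h

theorem apply_mem_int (hζ : IsPrimitiveRoot ζ (2 ^ (k + 1)))
    (hτ : ∀ i < 2 ^ k, τ (ζ ^ i) = if i = 0 then 1 else 0) {z : ℂ}
    (hz : z ∈ Algebra.adjoin ℤ ({ζ} : Set ℂ)) : ∃ a : ℤ, τ z = a := by
  obtain ⟨a, rfl⟩ := exists_coeffs hζ hz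
  exact ⟨_, apply_eq_coeff_zero hζ hτ a⟩

theorem apply_self_mul_conj (hζ : IsPrimitiveRoot ζ (2 ^ (k + 1)))
    (hτ : ∀ i < 2 ^ k, τ (ζ ^ i) = if i = 0 then 1 else 0) (a : Fin (2 ^ k) → ℤ) :
    τ ((∑ i, (a i : ℂ) * ζ ^ (i : ℕ)) * conj (∑ i, (a i : ℂ) * ζ ^ (i : ℕ))) =
      ∑ j, (a j : ℚ) ^ 2 := by
  rw [map_sum conj, Finset.mul_sum, map_sum]
  refine Finset.sum_congr rfl fun j _ => ?_
  rw [map_mul conj, map_intCast, mul_left_comm, apply_intCast_mul, apply_mul_conj_eq_coeff hζ hτ,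
    sq]

theorem apply_mul_conj_nonneg (hζ : IsPrimitiveRoot ζ (2 ^ (k + 1)))
    (hτ : ∀ i < 2 ^ k, τ (ζ ^ i) = if i = 0 then 1 else 0) {z : ℂ}
    (hz : z ∈ Algebra.adjoin ℤ ({ζ} : Set ℂ)) :
    0 ≤ τ (z * conj z) ∧ (z ≠ 0 → 1 ≤ τ (z * conj z)) := by
  obtain ⟨a, rfl⟩ := exists_coeffs hζ hz
  rw [apply_self_mul_conj hζ hτ]
  refine ⟨Finset.sum_nonneg fun j _ => sq_nonneg _, fun h => ?_⟩
  obtain ⟨j, hj⟩ : ∃ j, a j ≠ 0 := by
    by_contra hc
    push Not at hc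
    exact h (by simp [hc])
  refine le_trans ?_ (Finset.single_le_sum (fun j _ => sq_nonneg ((a j : ℚ))) (Finset.mem_univ j))
  have : (1 : ℤ) ≤ a j ^ 2 := by
    have := sq_pos_of_ne_zero hj
    omega
  exact_mod_cast this

/-- A real integer is congruent to its constant coefficient. -/
theorem sub_apply_LI (hζ : IsPrimitiveRoot ζ (2 ^ (k + 1)))
    (hτ : ∀ i < 2 ^ k, τ (ζ ^ i) = if i = 0 then 1 else 0) {M : Ideal AlgInt}
    (hM : IsPModular 2 M) {z : ℂ} (hz : z ∈ Algebra.adjoin ℤ ({ζ} : Set ℂ)) (hreal : conj z = z) :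
    MemLocalIdeal M (z - ((τ z : ℚ) : ℂ)) := by
  classical
  obtain ⟨a, rfl⟩ := exists_coeffs hζ hz
  set z := ∑ i, (a i : ℂ) * ζ ^ (i : ℕ)
  set o : Fin (2 ^ k) := ⟨0, pow_pos two_pos _⟩
  have hsym : ∀ w, ∀ b : Fin (2 ^ k) → ℤ, w = ∑ i, (b i : ℂ) * ζ ^ (i : ℕ) →
      τ (conj w) = τ w := by
    intro w b hb
    subst hb
    rw [map_sum conj, map_sum, map_sum]
    refine Finset.sum_congr rfl fun i _ => ?_
    rw [map_mul conj, map_intCast, apply_intCast_mul, apply_intCast_mul]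
    congr 1
    have h := apply_mul_conj_pow hζ hτ (pow_pos two_pos k) i.2
    rw [pow_zero, one_mul] at h
    rw [h, hτ _ i.2]
    exact if_congr eq_comm rfl rfl
  have hanti : ∀ i j : Fin (2 ^ k), (i : ℕ) + (j : ℕ) = 2 ^ k → a j = -a i := by
    intro i j hij
    obtain ⟨b, hb⟩ := exists_coeffs hζ (z := z * ζ ^ (i : ℕ))
      (mul_mem hz (pow_mem (Algebra.self_mem_adjoin_singleton ℤ ζ) _))
    have h1 : τ (z * ζ ^ (i : ℕ)) = a i := by
      rw [← hsym _ b hb, map_mul conj, hreal, apply_mul_conj_eq_coeff hζ hτ]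
    have h2 : τ (z * ζ ^ (i : ℕ)) = -(a j : ℚ) := by
      rw [← apply_mul_conj_eq_coeff hζ hτ a j, ← map_neg, ← mul_neg, conj_pow_eq hζ j.2.le,
        neg_neg, show 2 ^ k - (j : ℕ) = i by omega]
    have h3 : (a j : ℚ) = ((-a i : ℤ) : ℚ) := by push_cast; linarith
    exact_mod_cast h3
  have hS : ∑ i ∈ Finset.univ.erase o, a i = 0 := by
    let f : Fin (2 ^ k) → Fin (2 ^ k) := fun i =>
      if h : (i : ℕ) = 0 then i else ⟨2 ^ k - i, by omega⟩
    have hf : ∀ i, i ≠ o → (i : ℕ) ≠ 0 := fun i hi h => hi (Fin.ext h)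
    have hval : ∀ i, i ≠ o → ((f i : Fin (2 ^ k)) : ℕ) = 2 ^ k - i := fun i hi => by
      simp only [f, dif_neg (hf i hi)]
    have hne : ∀ i, i ≠ o → f i ≠ o := fun i hi h => by
      have h' : ((f i : Fin (2 ^ k)) : ℕ) = 0 := congrArg Fin.val h
      rw [hval i hi] at h'
      have := i.2; omega
    have hb : ∑ i ∈ Finset.univ.erase o, a i = ∑ i ∈ Finset.univ.erase o, -a i := by
      refine Finset.sum_nbij' f f (fun i hi => ?_) (fun i hi => ?_) (fun i hi => ?_)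
        (fun i hi => ?_) (fun i hi => ?_) <;>
        have hi' : i ≠ o := (Finset.mem_erase.1 hi).1
      · exact Finset.mem_erase.2 ⟨hne i hi', Finset.mem_univ _⟩
      · exact Finset.mem_erase.2 ⟨hne i hi', Finset.mem_univ _⟩
      · exact Fin.ext (by rw [hval _ (hne i hi'), hval i hi']; have := i.2; omega)
      · exact Fin.ext (by rw [hval _ (hne i hi'), hval i hi']; have := i.2; omega)
      · exact hanti (f i) i (by rw [hval i hi']; have := i.2; omega)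
    rw [Finset.sum_neg_distrib] at hb
    omega
  have e : z - ((τ z : ℚ) : ℂ)
      = ∑ i ∈ Finset.univ.erase o, (a i : ℂ) * (ζ ^ (i : ℕ) - 1) := by
    rw [apply_eq_coeff_zero hζ hτ, Rat.cast_intCast,
      show z = (a o : ℂ) + ∑ i ∈ Finset.univ.erase o, (a i : ℂ) * ζ ^ (i : ℕ) by
        rw [show z = ∑ i, (a i : ℂ) * ζ ^ (i : ℕ) from rfl,
          ← Finset.add_sum_erase _ _ (Finset.mem_univ o)]
        simp [o]]
    have hS' : ∑ i ∈ Finset.univ.erase o, (a i : ℂ) = 0 := by exact_mod_cast hS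
    simp only [mul_sub, mul_one, Finset.sum_sub_distrib, hS', sub_zero]
    ring
  rw [e]
  refine LI.sum hM fun i _ => LI.mul_left hM (LR.intCast hM _) (LI.root_sub_one hM (k := k + 1) ?_)
  rw [← pow_mul, mul_comm, pow_mul, hζ.pow_eq_one, one_pow]

/-- `2` is a multiple of `(ζ - 1) ^ n` in the local ring. -/
theorem exists_two_eq_mul {M : Ideal AlgInt} (hM : IsPModular 2 M) :
    ∀ (k : ℕ) {ζ : ℂ}, IsPrimitiveRoot ζ (2 ^ (k + 1)) →
      ∃ u, MemLocalRing M u ∧ (2 : ℂ) = (ζ - 1) ^ 2 ^ k * u := by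
  intro k
  induction k with
  | zero =>
    intro ζ hζ
    refine ⟨-1, LR.neg (LR.one hM), ?_⟩
    rw [hζ.eq_neg_one_of_two_right]
    norm_num
  | succ k ih =>
    intro ζ hζ
    have h2 : IsPrimitiveRoot (ζ ^ 2) (2 ^ (k + 1)) :=
      hζ.pow (pow_pos two_pos _) (pow_succ' 2 (k + 1))
    obtain ⟨u, hu, he⟩ := ih h2
    have hπ : ζ - 1 ≠ 0 := sub_ne_zero.2 (hζ.ne_one (Nat.one_lt_two_pow (by omega)))
    have hint : IsIntegral ℤ ζ :=
      IsIntegral.of_pow (pow_pos two_pos _) (hζ.pow_eq_one.symm ▸ isIntegral_one)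
    have hπR : MemLocalRing M (ζ - 1) := LR.sub hM (LR.of_isIntegral hM hint) (LR.one hM)
    have hπ2 : MemLocalRing M (ζ - 1 + 2) := LR.add hM hπR (by exact_mod_cast LR.natCast hM 2)
    obtain ⟨j, hj⟩ : ∃ j, 2 ^ k = j + 1 := ⟨2 ^ k - 1, by have := pow_pos two_pos k (M₀ := ℕ); omega⟩
    have hfac : ζ ^ 2 - 1 = (ζ - 1) * (ζ - 1 + 2) := by ring
    rw [hfac, mul_pow] at he
    set v := 1 + (ζ - 1) ^ j * (ζ - 1 + 2) ^ 2 ^ k * u
    have hv : MemLocalRing M v := LR.add hM (LR.one hM)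
      (LR.mul hM (LR.mul hM (LR.pow hM hπR j) (LR.pow hM hπ2 _)) hu)
    refine ⟨v ^ 2 ^ k * u, LR.mul hM (LR.pow hM hv _) hu, ?_⟩
    have hv' : ζ - 1 + 2 = (ζ - 1) * v := by
      calc ζ - 1 + 2 = ζ - 1 + (ζ - 1) ^ 2 ^ k * (ζ - 1 + 2) ^ 2 ^ k * u := by rw [← he]
        _ = (ζ - 1) * v := by simp only [v, hj]; ring
    rw [he, hv', mul_pow, pow_succ 2 k, pow_mul]
    ring

theorem coeff_even {M : Ideal AlgInt} (hM : IsPModular 2 M)
    (hζ : IsPrimitiveRoot ζ (2 ^ (k + 1))) :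
    ∀ m ≤ 2 ^ k, ∀ P : ℤ[X], (∀ i, m ≤ i → P.coeff i = 0) →
      (∃ u, MemLocalRing M u ∧ aeval ζ P = (ζ - 1) ^ m * u) → C (2 : ℤ) ∣ P := by
  obtain ⟨u₂, hu₂, h2⟩ := exists_two_eq_mul hM k hζ
  have hπ : ζ - 1 ≠ 0 := sub_ne_zero.2 (hζ.ne_one (Nat.one_lt_two_pow (by omega)))
  have hint : IsIntegral ℤ ζ :=
    IsIntegral.of_pow (pow_pos two_pos _) (hζ.pow_eq_one.symm ▸ isIntegral_one)
  have hπI : MemLocalIdeal M (ζ - 1) := LI.root_sub_one hM (k := k + 1) hζ.pow_eq_one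
  intro m
  induction m with
  | zero =>
    intro _ P hP _
    rw [show P = 0 from Polynomial.ext fun i => by rw [hP i (Nat.zero_le _), coeff_zero]]
    exact dvd_zero _
  | succ m ih =>
    rintro hm P hP ⟨u, hu, he⟩
    set Q := P /ₘ (X - C 1)
    have hPQ : P = (X - C 1) * Q + C (P.eval 1) := by
      conv_lhs => rw [← Polynomial.modByMonic_add_div P (X - C 1)]
      rw [modByMonic_X_sub_C_eq_C_eval, add_comm]
    have hQint : MemLocalRing M (aeval ζ Q) :=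
      LR.of_isIntegral hM (adjoin_le_integralClosure hint (Polynomial.aeval_mem_adjoin_singleton ℤ ζ))
    have he' : aeval ζ P = (ζ - 1) * aeval ζ Q + ((P.eval 1 : ℤ) : ℂ) := by
      conv_lhs => rw [hPQ]
      simp
    have hev : (2 : ℤ) ∣ P.eval 1 := by
      have h : MemLocalIdeal M ((P.eval 1 : ℤ) : ℂ) := by
        have e : ((P.eval 1 : ℤ) : ℂ) = (ζ - 1) ^ (m + 1) * u - (ζ - 1) * aeval ζ Q := by
          rw [← he, he']; ring
        rw [e, pow_succ', mul_assoc]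
        exact LI.sub hM (LI.mul_right hM hπI (LR.mul hM (LR.pow hM (LI.memLocalRing hπI) m) hu))
          (LI.mul_right hM hπI hQint)
      exact_mod_cast (LI.intCast_iff hM _).1 h
    obtain ⟨c, hc⟩ := hev
    have hdeg : ∀ i, m ≤ i → Q.coeff i = 0 := by
      intro i hi
      by_cases hQ : Q = 0
      · rw [hQ, coeff_zero]
      refine coeff_eq_zero_of_natDegree_lt ?_
      rcases eq_or_ne P 0 with hP0 | hP0
      · exact absurd (by simp [Q, hP0]) hQ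
      have hPdeg : P.natDegree < m + 1 := by
        by_contra h
        exact Polynomial.leadingCoeff_ne_zero.2 hP0 (hP _ (not_lt.1 h))
      have h1 : Q.natDegree = P.natDegree - 1 := by
        rw [natDegree_divByMonic P (monic_X_sub_C (1 : ℤ)), natDegree_X_sub_C]
      have h2 : P.natDegree ≠ 0 := fun h0 => hQ (by
        rw [show Q = P /ₘ (X - C 1) from rfl, divByMonic_eq_zero_iff (monic_X_sub_C _),
          degree_X_sub_C, Polynomial.eq_C_of_natDegree_eq_zero h0]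
        exact lt_of_le_of_lt degree_C_le (by norm_num))
      omega
    obtain ⟨j, hj⟩ : ∃ j, 2 ^ k = m + 1 + j := ⟨_, (Nat.add_sub_cancel' hm).symm⟩
    have hQ : C (2 : ℤ) ∣ Q := by
      refine ih (by omega) Q hdeg ⟨u - (ζ - 1) ^ j * u₂ * c, LR.sub hM hu (LR.mul hM
        (LR.mul hM (LR.pow hM (LI.memLocalRing hπI) j) hu₂) (LR.intCast hM c)), ?_⟩
      apply mul_left_cancel₀ hπ
      rw [he', hc, Int.cast_mul, show ((2 : ℤ) : ℂ) = (ζ - 1) ^ (m + 1 + j) * u₂ by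
        rw [← hj, ← h2]; norm_num, pow_add] at he
      rw [pow_succ'] at he
      linear_combination he
    rw [hPQ, hc, map_mul]
    exact dvd_add (hQ.mul_left _) (dvd_mul_right _ _)

/-- An integer divisible by `2 ^ h` in the local ring is so among the integers. -/
theorem div_two_pow_mem {M : Ideal AlgInt} (hM : IsPModular 2 M)
    (hζ : IsPrimitiveRoot ζ (2 ^ (k + 1))) : ∀ (h : ℕ) {z : ℂ},
      z ∈ Algebra.adjoin ℤ ({ζ} : Set ℂ) → MemLocalRing M (z / (2 : ℂ) ^ h) →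
      z / (2 : ℂ) ^ h ∈ Algebra.adjoin ℤ ({ζ} : Set ℂ) := by
  intro h
  induction h with
  | zero => intro z hz _; simpa using hz
  | succ h ih =>
    intro z hz hR
    have h2R : MemLocalRing M (z / 2) := by
      have e : z / 2 = z / (2 : ℂ) ^ (h + 1) * ((2 ^ h : ℕ) : ℂ) := by
        push_cast; rw [pow_succ]; field_simp
      rw [e]
      exact LR.mul hM hR (LR.natCast hM _)
    have hz2 : z / 2 ∈ Algebra.adjoin ℤ ({ζ} : Set ℂ) := by
      obtain ⟨a, ha⟩ := exists_coeffs hζ hz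
      obtain ⟨u₂, hu₂, h2⟩ := exists_two_eq_mul hM k hζ
      set P : ℤ[X] := ∑ i : Fin (2 ^ k), C (a i) * X ^ (i : ℕ)
      have hev : aeval ζ P = z := by simp [P, ha]
      have hP : ∀ i, 2 ^ k ≤ i → P.coeff i = 0 := fun i hi => by
        simp only [P, finsetSum_coeff, coeff_C_mul, coeff_X_pow]
        exact Finset.sum_eq_zero fun j _ => by
          rw [if_neg (by have := j.2; omega), mul_zero]
      obtain ⟨Q, hQ⟩ := coeff_even hM hζ (2 ^ k) le_rfl P hP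
        ⟨u₂ * (z / 2), LR.mul hM hu₂ h2R, by rw [hev, ← mul_assoc, ← h2]; ring⟩
      rw [← hev, hQ, map_mul, aeval_C,
        show (algebraMap ℤ ℂ) 2 = (2 : ℂ) by simp, mul_div_cancel_left₀ _ (two_ne_zero' ℂ)]
      exact Polynomial.aeval_mem_adjoin_singleton ℤ ζ
    have e : z / (2 : ℂ) ^ (h + 1) = z / 2 / (2 : ℂ) ^ h := by rw [pow_succ']; field_simp
    rw [e] at hR ⊢
    exact ih hz2 hR

end CfsgLib.Blocks.TwoPowerTrace
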