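import Cfsg.Agent.Lib.Blocks.ContribBound
import Cfsg.Agent.Lib.Blocks.TwoPowerTrace

/-!
# Contributions of 2-subsections to characters of height zero

The constant coefficient of a normalised diagonal contribution is a nonnegative integer, odd at
characters of height zero.
-/

set_option autoImplicit false

namespace CfsgLib.Blocks.TwoContrib

open Cfsg CfsgLib.Blocks CfsgLib.Blocks.TwoPowerTrace
open scoped Classical ComplexConjugate

variable {G : Type*} [Group G] [Fintype G] {M : Ideal AlgInt} {K : Subgroup G}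

theorem exists_diag (hM : IsPModular 2 M) {B : Set (IrrCharacter G)} {b : Set (IrrCharacter K)}
    {x : G} (hK : K = Subgroup.centralizer ({x} : Set G)) (hx : ∃ k : ℕ, orderOf x = 2 ^ k)
    (hind : IsInducedBlock M K b B) :
    ∃ a : IrrCharacter G → ℕ,
      ∑ χ : IrrCharacter G, a χ = blockRank 2 b * 2 ^ blockDefect 2 b ∧
      ∀ χ ∈ B, degVal 2 χ = minDegVal 2 B → Odd (a χ) ∧
        Nat.card {φ : IrrCharacter G // φ ∈ B ∧ degVal 2 φ = minDegVal 2 B}
          ≤ 2 ^ blockDefect 2 b * a χ := by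
  obtain ⟨k, hk⟩ := hx
  have hxK : x ∈ K := by rw [hK, Subgroup.mem_centralizer_singleton_iff]
  set z : K := ⟨x, hxK⟩
  have hzx : (z : G) = x := rfl
  have hz : z ∈ Subgroup.center K := by
    rw [Subgroup.mem_center_iff]
    intro c
    exact Subtype.ext (Subgroup.mem_centralizer_singleton_iff.1 (hK ▸ c.2))
  have hzk : z ^ 2 ^ k = 1 := Subtype.ext (by
    rw [Subgroup.coe_pow, Subgroup.coe_one, ← hk]; exact pow_orderOf_eq_one x)
  have hzk' : z ^ 2 ^ (k + 1) = 1 := by rw [pow_succ, pow_mul, hzk, one_pow]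
  haveI : NeZero (2 ^ (k + 1)) := ⟨pow_ne_zero _ two_ne_zero⟩
  set ζ := Complex.exp (2 * Real.pi * Complex.I / (2 ^ (k + 1) : ℕ))
  have hζ : IsPrimitiveRoot ζ (2 ^ (k + 1)) := Complex.isPrimitiveRoot_exp _ (NeZero.ne _)
  obtain ⟨τ, hτ⟩ := exists_coeff_zero hζ
  set m := minDegVal 2 b
  set d := blockDefect 2 b
  let e : IrrCharacter G → IrrCharacter G → ℂ := fun χ φ =>
    contrib 2 x K b χ φ / ((2 : ℕ) : ℂ) ^ m
  have hp0 : ((2 : ℕ) : ℂ) ^ m ≠ 0 := pow_ne_zero _ (by norm_num)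
  have he : ∀ χ φ, e χ φ ∈ Algebra.adjoin ℤ ({ζ} : Set ℂ) := fun χ φ =>
    contrib_div_mem_adjoin hM hzx hz χ φ hζ hzk'
  have hconj : ∀ χ φ, conj (e χ φ) = e φ χ := fun χ φ => by
    simp only [e, map_div₀, map_pow, map_natCast, conj_contrib hM.1 hzx hz]
  have hq : (pPartCard 2 K : ℂ) = ((2 : ℕ) : ℂ) ^ m * ((2 : ℕ) : ℂ) ^ d := by
    rw [pPartCard, Nat.cast_pow, ← pow_add, add_comm,
      blockDefect_add_min (p := 2) (IsPBlock.nonempty hM hind.1)]
  have hidem : ∀ χ, ∑ φ : IrrCharacter G, e χ φ * conj (e χ φ)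
      = (((2 ^ d : ℕ) : ℤ) : ℂ) * e χ χ := by
    intro χ
    simp only [hconj, e, div_mul_div_comm, ← Finset.sum_div]
    rw [sum_contrib_mul hM hK ⟨k, hk⟩ hind.1 χ]
    simp only [contrib, hq]
    push_cast
    field_simp
  have htr : ∑ χ : IrrCharacter G, e χ χ
      = ((((blockRank 2 b * 2 ^ d : ℕ)) : ℤ) : ℂ) * ζ ^ 0 := by
    simp only [e, ← Finset.sum_div]
    rw [sum_contrib_self hM hK ⟨k, hk⟩ hind.1, hq]
    push_cast
    field_simp
  choose t ht using fun χ : IrrCharacter G => apply_mem_int hζ hτ (he χ χ)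
  have hsum : ∀ χ, ((2 ^ d : ℕ) : ℚ) * (t χ : ℚ)
      = ∑ φ : IrrCharacter G, τ (e χ φ * conj (e χ φ)) := by
    intro χ
    rw [← map_sum, hidem χ, apply_intCast_mul, ht χ, Int.cast_natCast]
  have hnn : ∀ χ, 0 ≤ t χ := by
    intro χ
    have h : (0 : ℚ) ≤ ((2 ^ d : ℕ) : ℚ) * (t χ : ℚ) := by
      rw [hsum χ]
      exact Finset.sum_nonneg fun φ _ => (apply_mul_conj_nonneg hζ hτ (he χ φ)).1
    have h' : (0 : ℚ) ≤ (t χ : ℚ) :=
      le_of_mul_le_mul_left (by simpa using h) (Nat.cast_pos.2 (pow_pos two_pos d))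
    exact_mod_cast h'
  have hcast : ∀ χ, (((t χ).toNat : ℕ) : ℤ) = t χ := fun χ => Int.toNat_of_nonneg (hnn χ)
  refine ⟨fun χ => (t χ).toNat, ?_, fun χ hχ hχ0 => ⟨?_, ?_⟩⟩
  · have h := congrArg τ htr
    rw [map_sum, apply_intCast_mul, hτ 0 (pow_pos two_pos _), if_pos rfl, mul_one,
      Finset.sum_congr rfl fun χ _ => ht χ] at h
    have h2 : ((∑ χ : IrrCharacter G, (t χ).toNat : ℕ) : ℤ)
        = ((blockRank 2 b * 2 ^ d : ℕ) : ℤ) := by
      rw [Nat.cast_sum, Finset.sum_congr rfl fun χ _ => hcast χ]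
      exact_mod_cast h
    exact_mod_cast h2
  · have h1 := sub_apply_LI hζ hτ hM (he χ χ) (hconj χ χ)
    rw [ht χ, Rat.cast_intCast] at h1
    rw [← Nat.not_even_iff_odd, ← Int.even_coe_nat, hcast]
    intro hev
    refine contrib_not_LI_of_min hM hind hzx hz hzk hχ hχ hχ0 hχ0 ?_
    have h2 : MemLocalIdeal M (t χ : ℂ) := (LI.intCast_iff hM _).2 (by
      exact_mod_cast even_iff_two_dvd.1 hev)
    have := LI.add hM h1 h2
    rwa [sub_add_cancel] at this
  · set S := Finset.univ.filter fun φ : IrrCharacter G => φ ∈ B ∧ degVal 2 φ = minDegVal 2 B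
    have hS : (S.card : ℚ) ≤ ((2 ^ d : ℕ) : ℚ) * (t χ : ℚ) := by
      rw [hsum χ]
      calc (S.card : ℚ) = ∑ φ ∈ S, (1 : ℚ) := by simp
        _ ≤ ∑ φ ∈ S, τ (e χ φ * conj (e χ φ)) := by
          refine Finset.sum_le_sum fun φ hφ => (apply_mul_conj_nonneg hζ hτ (he χ φ)).2 ?_
          exact div_ne_zero (contrib_ne_zero_of_min hM hind hzx hz hzk hχ
            (Finset.mem_filter.1 hφ).2.1 hχ0 (Finset.mem_filter.1 hφ).2.2) hp0
        _ ≤ _ := Finset.sum_le_sum_of_subset_of_nonneg (Finset.subset_univ S)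
          fun φ _ _ => (apply_mul_conj_nonneg hζ hτ (he χ φ)).1
    rw [Nat.card_eq_fintype_card, Fintype.card_subtype]
    have hS' : (S.card : ℤ) ≤ ((2 ^ d : ℕ) : ℤ) * t χ := by exact_mod_cast hS
    rw [← hcast χ] at hS'
    exact_mod_cast hS'

/-- The bounds on the number of characters of height zero. -/
theorem card_height_zero_bounds (hM : IsPModular 2 M) {B : Set (IrrCharacter G)}
    {b : Set (IrrCharacter K)} {x : G} (hK : K = Subgroup.centralizer ({x} : Set G))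
    (hx : ∃ k : ℕ, orderOf x = 2 ^ k) (hind : IsInducedBlock M K b B) {k₀ l d s : ℕ}
    (hk₀ : k₀ = Nat.card {φ : IrrCharacter G // φ ∈ B ∧ degVal 2 φ = minDegVal 2 B})
    (hl : l = blockRank 2 b) (hd : d = blockDefect 2 b) (hs : s = Nat.sqrt l) :
    (Odd s → k₀ ≤ s * 2 ^ d) ∧ (¬ Odd s → (s + 1) * k₀ ≤ l * 2 ^ d) := by
  obtain ⟨a, hsum, ha⟩ := exists_diag hM hK hx hind
  rw [← hk₀, ← hd] at ha
  rw [← hl, ← hd] at hsum
  set S := Finset.univ.filter fun φ : IrrCharacter G => φ ∈ B ∧ degVal 2 φ = minDegVal 2 B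
  have hc : k₀ = S.card := by rw [hk₀, Nat.card_eq_fintype_card, Fintype.card_subtype]
  have hbig : ∀ c : ℕ, (∀ φ ∈ S, c ≤ a φ) → c * k₀ ≤ l * 2 ^ d := by
    intro c hcle
    rw [← hsum, hc, mul_comm, ← smul_eq_mul]
    exact (Finset.card_nsmul_le_sum S a c hcle).trans
      (Finset.sum_le_sum_of_subset (Finset.subset_univ S))
  have hl1 : s * s ≤ l := hs ▸ Nat.sqrt_le l
  have hl2 : l < (s + 1) * (s + 1) := hs ▸ Nat.lt_succ_sqrt l
  refine ⟨fun hodd => ?_, fun hev => ?_⟩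
  · by_cases h : ∃ φ ∈ S, a φ ≤ s
    · obtain ⟨φ, hφ, hle⟩ := h
      have hm := (Finset.mem_filter.1 hφ).2
      exact ((ha φ hm.1 hm.2).2).trans (by rw [mul_comm]; exact Nat.mul_le_mul_right _ hle)
    · push Not at h
      have h2 := hbig (s + 2) fun φ hφ => by
        have hm := (Finset.mem_filter.1 hφ).2
        obtain ⟨j, hj⟩ := (ha φ hm.1 hm.2).1
        obtain ⟨i, hi⟩ := hodd
        have := h φ hφ
        omega
      have h3 : l * 2 ^ d ≤ s * (s + 2) * 2 ^ d := Nat.mul_le_mul_right _ (by nlinarith)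
      refine Nat.le_of_mul_le_mul_left (h2.trans (h3.trans (le_of_eq ?_))) (by omega : 0 < s + 2)
      ring
  · obtain ⟨i, hi⟩ := Nat.not_odd_iff_even.1 hev
    by_cases h : ∃ φ ∈ S, a φ ≤ s
    · obtain ⟨φ, hφ, hle⟩ := h
      have hm := (Finset.mem_filter.1 hφ).2
      obtain ⟨⟨j, hj⟩, hb⟩ := ha φ hm.1 hm.2
      have hlt : a φ + 1 ≤ s := by omega
      refine (Nat.mul_le_mul_left (s + 1) hb).trans ?_
      rw [mul_left_comm, mul_comm l]
      refine Nat.mul_le_mul_left _ ?_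
      nlinarith
    · push Not at h
      exact hbig (s + 1) fun φ hφ => h φ hφ

end CfsgLib.Blocks.TwoContrib
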