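import Cfsg.Agent.Lib.Blocks.LocalRing
import Mathlib.RingTheory.Polynomial.Cyclotomic.Eval
import Mathlib.RingTheory.RootsOfUnity.Complex
import Mathlib.RingTheory.Adjoin.Basic

/-!
# Divisibility by `p` in `ℤ[ζ]`, `ζ` of `p`-power order
-/

set_option autoImplicit false

namespace CfsgLib.Blocks.CycloDiv

open Cfsg CfsgLib.Blocks Polynomial
open scoped Classical

variable {p : ℕ} {M : Ideal AlgInt} {ζ : ℂ}

theorem isIntegral_root (hp : p.Prime) {k : ℕ} (hζ : IsPrimitiveRoot ζ (p ^ k)) : IsIntegral ℤ ζ :=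
  IsIntegral.of_pow (pow_pos hp.pos k) (hζ.pow_eq_one.symm ▸ isIntegral_one)

theorem mem_LR (hM : IsPModular p M) {k : ℕ} (hζ : IsPrimitiveRoot ζ (p ^ k)) {z : ℂ}
    (hz : z ∈ Algebra.adjoin ℤ ({ζ} : Set ℂ)) : MemLocalRing M z :=
  LR.of_isIntegral hM (adjoin_le_integralClosure (isIntegral_root hM.1 hζ) hz)

/-- A power of `1 - ζ` and `p` differ by an invertible element of `ℤ[ζ]`. -/
theorem exists_prime_eq (hp : p.Prime) {k : ℕ} (hζ : IsPrimitiveRoot ζ (p ^ (k + 1))) :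
    (∃ E ∈ Algebra.adjoin ℤ ({ζ} : Set ℂ),
        (p : ℂ) = (1 - ζ) ^ Nat.totient (p ^ (k + 1)) * E) ∧
      ∃ F ∈ Algebra.adjoin ℤ ({ζ} : Set ℂ),
        (1 - ζ) ^ Nat.totient (p ^ (k + 1)) = (p : ℂ) * F := by
  haveI := Fact.mk hp
  set S := primitiveRoots (p ^ (k + 1)) ℂ
  have hpos : 0 < p ^ (k + 1) := pow_pos hp.pos _
  have hprod : ∏ μ ∈ S, (1 - μ) = (p : ℂ) := by
    have h1 : (cyclotomic (p ^ (k + 1)) ℂ).eval 1 = (p : ℂ) := eval_one_cyclotomic_prime_pow k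
    rw [cyclotomic_eq_prod_X_sub_primitiveRoots hζ, eval_prod] at h1
    simpa only [eval_sub, eval_X, eval_C] using h1
  have hdown : ∀ μ ∈ S, ∃ g ∈ Algebra.adjoin ℤ ({ζ} : Set ℂ), 1 - μ = (1 - ζ) * g := by
    intro μ hμ
    rw [mem_primitiveRoots hpos] at hμ
    haveI : NeZero (p ^ (k + 1)) := ⟨hpos.ne'⟩
    obtain ⟨i, -, rfl⟩ := hζ.eq_pow_of_pow_eq_one hμ.pow_eq_one
    exact ⟨∑ j ∈ Finset.range i, ζ ^ j,
      sum_mem fun j _ => pow_mem (Algebra.self_mem_adjoin_singleton ℤ ζ) j,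
      (mul_neg_geom_sum ζ i).symm⟩
  have hup : ∀ μ ∈ S, ∃ g ∈ Algebra.adjoin ℤ ({ζ} : Set ℂ), 1 - ζ = (1 - μ) * g := by
    intro μ hμ
    rw [mem_primitiveRoots hpos] at hμ
    haveI : NeZero (p ^ (k + 1)) := ⟨hpos.ne'⟩
    obtain ⟨i, -, hi⟩ := hζ.eq_pow_of_pow_eq_one hμ.pow_eq_one
    obtain ⟨j, -, hj⟩ := hμ.eq_pow_of_pow_eq_one hζ.pow_eq_one
    refine ⟨∑ t ∈ Finset.range j, μ ^ t, sum_mem fun t _ => ?_, ?_⟩
    · rw [← hi, ← pow_mul]
      exact pow_mem (Algebra.self_mem_adjoin_singleton ℤ ζ) _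
    · rw [mul_neg_geom_sum, hj]
  choose g hg hg' using hdown
  choose f hf hf' using hup
  have hcard : S.attach.card = Nat.totient (p ^ (k + 1)) := by
    rw [Finset.card_attach]; exact hζ.card_primitiveRoots
  constructor
  · refine ⟨∏ i ∈ S.attach, g i.1 i.2, prod_mem fun i _ => hg i.1 i.2, ?_⟩
    rw [← hprod, ← Finset.prod_attach, Finset.prod_congr rfl fun i _ => hg' i.1 i.2,
      Finset.prod_mul_distrib, Finset.prod_const, hcard]
  · refine ⟨∏ i ∈ S.attach, f i.1 i.2, prod_mem fun i _ => hf i.1 i.2, ?_⟩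
    rw [← hprod, ← Finset.prod_attach, ← Finset.prod_mul_distrib,
      ← Finset.prod_congr rfl fun i _ => hf' i.1 i.2, Finset.prod_const, hcard]

theorem exists_factor (hM : IsPModular p M) {k : ℕ} (hζ : IsPrimitiveRoot ζ (p ^ (k + 1))) {z : ℂ}
    (hz : z ∈ Algebra.adjoin ℤ ({ζ} : Set ℂ)) (hI : MemLocalIdeal M z) :
    ∃ w ∈ Algebra.adjoin ℤ ({ζ} : Set ℂ), z = (1 - ζ) * w := by
  obtain ⟨P, rfl⟩ := (Algebra.adjoin_singleton_eq_range_aeval ℤ ζ ▸ hz :)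
  obtain ⟨⟨E, hE, hpE⟩, -⟩ := exists_prime_eq hM.1 hζ
  set Q := P /ₘ (X - C 1)
  have hPQ : P = (X - C 1) * Q + C (P.eval 1) := by
    conv_lhs => rw [← Polynomial.modByMonic_add_div P (X - C 1)]
    rw [modByMonic_X_sub_C_eq_C_eval, add_comm]
  have hQ : aeval ζ Q ∈ Algebra.adjoin ℤ ({ζ} : Set ℂ) := Polynomial.aeval_mem_adjoin_singleton ℤ ζ
  have he : aeval ζ P = (1 - ζ) * (-aeval ζ Q) + ((P.eval 1 : ℤ) : ℂ) := by
    conv_lhs => rw [hPQ]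
    simp only [map_add, map_mul, map_sub, aeval_X, aeval_C, map_one]
    push_cast
    ring_nf
    simp [algebraMap_int_eq]
  obtain ⟨j, hj⟩ : ∃ j, Nat.totient (p ^ (k + 1)) = j + 1 :=
    ⟨Nat.totient (p ^ (k + 1)) - 1, by
      have := Nat.totient_pos.2 (pow_pos hM.1.pos (k + 1)); omega⟩
  rw [hj, pow_succ'] at hpE
  have hI' : MemLocalIdeal M ((P.eval 1 : ℤ) : ℂ) := by
    have h1 : MemLocalIdeal M (1 - ζ) :=
      LI.sub_comm (LI.root_sub_one hM (k := k + 1) hζ.pow_eq_one)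
    have := LI.sub hM hI (LI.mul_right hM h1 (mem_LR hM hζ (neg_mem hQ)))
    rwa [show (aeval ζ).toRingHom P = aeval ζ P from rfl, he, add_sub_cancel_left] at this
  obtain ⟨c, hc⟩ := (LI.intCast_iff hM _).1 hI'
  refine ⟨-aeval ζ Q + (1 - ζ) ^ j * E * (c : ℂ), add_mem (neg_mem hQ) (mul_mem (mul_mem (pow_mem
    (sub_mem (one_mem _) (Algebra.self_mem_adjoin_singleton ℤ ζ)) j) hE) (intCast_mem _ c)), ?_⟩
  rw [show (aeval ζ).toRingHom P = aeval ζ P from rfl, he, hc, Int.cast_mul, Int.cast_natCast, hpE]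
  ring

/-- An element of `ℤ[ζ]` divisible by `p` in the local ring is so in `ℤ[ζ]`. -/
theorem div_prime_mem (hM : IsPModular p M) {k : ℕ} (hζ : IsPrimitiveRoot ζ (p ^ (k + 1))) {z : ℂ}
    (hz : z ∈ Algebra.adjoin ℤ ({ζ} : Set ℂ)) (hR : MemLocalRing M (z / (p : ℂ))) :
    z / (p : ℂ) ∈ Algebra.adjoin ℤ ({ζ} : Set ℂ) := by
  obtain ⟨⟨E, hE, hpE⟩, F, hF, hpF⟩ := exists_prime_eq hM.1 hζ
  set N := Nat.totient (p ^ (k + 1))
  have hπ : (1 - ζ) ≠ 0 :=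
    sub_ne_zero.2 (Ne.symm (hζ.ne_one (Nat.one_lt_pow (by omega) hM.1.one_lt)))
  have hp0 : (p : ℂ) ≠ 0 := Nat.cast_ne_zero.2 hM.1.ne_zero
  have h1 : MemLocalIdeal M (1 - ζ) :=
    LI.sub_comm (LI.root_sub_one hM (k := k + 1) hζ.pow_eq_one)
  have key : ∀ j ≤ N, ∃ w ∈ Algebra.adjoin ℤ ({ζ} : Set ℂ), z = (1 - ζ) ^ j * w := by
    intro j
    induction j with
    | zero => exact fun _ => ⟨z, hz, by rw [pow_zero, one_mul]⟩
    | succ j ih =>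
      intro hj
      obtain ⟨w, hw, he⟩ := ih (by omega)
      obtain ⟨i, hi⟩ : ∃ i, N = j + (i + 1) := ⟨N - j - 1, by omega⟩
      have hwI : MemLocalIdeal M w := by
        have e : w = (1 - ζ) * ((1 - ζ) ^ i * E * (z / (p : ℂ))) := by
          apply mul_left_cancel₀ (pow_ne_zero j hπ)
          rw [← he, hpE, hi]
          have hE0 : E ≠ 0 := fun h => hp0 (by rw [hpE, h, mul_zero])
          field_simp
          ring
        rw [e]
        exact LI.mul_right hM h1 (LR.mul hM (LR.mul hM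
          (LR.pow hM (LI.memLocalRing h1) i) (mem_LR hM hζ hE)) hR)
      obtain ⟨v, hv, hve⟩ := exists_factor hM hζ hw hwI
      exact ⟨v, hv, by rw [he, hve, pow_succ]; ring⟩
  obtain ⟨w, hw, he⟩ := key N le_rfl
  rw [he, hpF, mul_assoc, mul_div_cancel_left₀ _ hp0]
  exact mul_mem hF hw

theorem div_prime_pow_mem (hM : IsPModular p M) {k : ℕ} (hζ : IsPrimitiveRoot ζ (p ^ (k + 1))) :
    ∀ (h : ℕ) {z : ℂ}, z ∈ Algebra.adjoin ℤ ({ζ} : Set ℂ) → MemLocalRing M (z / (p : ℂ) ^ h) →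
      z / (p : ℂ) ^ h ∈ Algebra.adjoin ℤ ({ζ} : Set ℂ)
  | 0, z, hz, _ => by simpa using hz
  | h + 1, z, hz, hR => by
    have hp0 : (p : ℂ) ≠ 0 := Nat.cast_ne_zero.2 hM.1.ne_zero
    have h1 : MemLocalRing M (z / (p : ℂ)) := by
      rw [show z / (p : ℂ) = z / (p : ℂ) ^ (h + 1) * ((p : ℂ) ^ h) by rw [pow_succ]; field_simp]
      exact LR.mul hM hR (LR.pow hM (LR.natCast hM p) h)
    have e : z / (p : ℂ) ^ (h + 1) = z / (p : ℂ) / (p : ℂ) ^ h := by rw [div_div, pow_succ']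
    rw [e] at hR ⊢
    exact div_prime_pow_mem hM hζ h (div_prime_mem hM hζ hz h1) hR

end CfsgLib.Blocks.CycloDiv
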