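import Cfsg.Agent.Lib.Blocks.Local
import Cfsg.Agent.Lib.Blocks.Section
import Cfsg.Agent.Lib.Blocks.Parts

/-!
# A major subsection at an element of order `p`
-/

set_option autoImplicit false

namespace CfsgLib.Blocks.MajorSubsection

open Cfsg CfsgLib.Blocks
open scoped Classical

variable {G : Type*} [Group G] [Fintype G] {p : ℕ} {M : Ideal AlgInt}

/-- A block of positive defect has a major subsection at an element of order `p`. -/
theorem exists_major_block (hM : IsPModular p M) {B : Set (IrrCharacter G)} (hB : IsPBlock M B)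
    (hd : blockDefect p B ≠ 0) :
    ∃ z : G, orderOf z = p ∧ ∃ b : Set (IrrCharacter (Subgroup.centralizer ({z} : Set G))),
      IsInducedBlock M (Subgroup.centralizer ({z} : Set G)) b B ∧
        blockDefect p b = blockDefect p B := by
  haveI := Fact.mk hM.1
  have hp : p.Prime := hM.1
  obtain ⟨D, hD⟩ := exists_isDefectGroup hM hB
  have hDp := isPGroup_defectGroup hD
  have hcard := card_defectGroup hM hB hD
  haveI : Nontrivial D := Finite.one_lt_card_iff_nontrivial.1
    (hcard ▸ Nat.one_lt_pow hd hp.one_lt)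
  haveI := hDp.center_nontrivial
  obtain ⟨j, hj⟩ := IsPGroup.iff_card.1 (hDp.to_subgroup (Subgroup.center D))
  have hdvd : p ∣ Nat.card (Subgroup.center D) := by
    rw [hj]
    refine dvd_pow_self p fun h0 => ?_
    have := (Finite.one_lt_card_iff_nontrivial (α := Subgroup.center D)).2 inferInstance
    rw [hj, h0, pow_zero] at this
    exact lt_irrefl 1 this
  obtain ⟨z₀, hz₀⟩ := exists_prime_orderOf_dvd_card' p hdvd
  set z : G := ((z₀ : D) : G)
  have hz : orderOf z = p := by rw [Subgroup.orderOf_coe, Subgroup.orderOf_coe, hz₀]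
  set K := Subgroup.centralizer ({z} : Set G)
  have hKC : Subgroup.centralizer (Subgroup.zpowers z : Set G) = K :=
    centralizer_zpowers z
  have hDK : D ≤ K := fun u hu => Subgroup.mem_centralizer_singleton_iff.2
    (congrArg Subtype.val (Subgroup.mem_center_iff.1 z₀.2 ⟨u, hu⟩))
  have hzp : IsPGroup p (Subgroup.zpowers z) :=
    IsPGroup.of_card (n := 1) (by rw [Nat.card_zpowers, hz, pow_one])
  obtain ⟨c, hc, hcl⟩ := exists_unit_coeff_centralizer hM hD
  have hcK : c ∈ K := Subgroup.mem_centralizer_singleton_iff.2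
    (Subgroup.mem_centralizer_iff.1 hc z z₀.1.2).symm
  obtain ⟨S, hev, hsat, hS⟩ := isLocalZero_trunc_sub hM hB hzp (K := K) hKC.le
    (hKC.symm.le.trans (centralizer_le_normalizer _))
  have hne0 : ¬ MemLocalIdeal M
      (fourierInv (blockInd S) (⟨c, hcK⟩ : K)) := fun hI => by
    refine hcl.2.1 ?_
    have h1 := LI.add hM (hS ⟨c, hcK⟩) hI
    rwa [sub_add_cancel, show brTrunc (Subgroup.zpowers z) K
      (fun g => blockCoeff B g) ⟨c, hcK⟩ = blockCoeff B c from
      if_pos (hKC.ge hcK)] at h1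
  obtain ⟨b, hbS, hb⟩ : ∃ b : Set (IrrCharacter K), (∃ ψ ∈ S,
      b = blockOf M (ψ : K → ℂ)) ∧
      ¬ MemLocalIdeal M (blockCoeff b (⟨c, hcK⟩ : K)) := by
    by_contra hall
    push Not at hall
    refine hne0 ?_
    have e : fourierInv (blockInd S) (⟨c, hcK⟩ : K)
        = ∑ b ∈ blockFinset M K,
          (if ∃ ψ ∈ S, b = blockOf M (ψ : K → ℂ) then (1 : ℂ) else 0)
            * blockCoeff b (⟨c, hcK⟩ : K) := by
      simp only [blockCoeff_eq_fourierInv, fourierInv]
      simp only [mul_left_comm _ (Nat.card K : ℂ)⁻¹, ← Finset.mul_sum]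
      congr 1
      rw [← sum_eq_sum_blocks hM]
      refine Finset.sum_congr rfl fun ψ _ => ?_
      congr 1
      by_cases hψ : ψ ∈ S
      · rw [blockInd_of_mem hψ, if_pos ⟨ψ, hψ, rfl⟩]
      · rw [blockInd_of_notMem hψ, if_neg]
        rintro ⟨φ, hφ, he⟩
        exact hψ (hsat φ hφ ψ (mem_blockOf.1
          (he ▸ SameBlock_refl hM _)))
    rw [e]
    refine LI.sum hM fun b _ => ?_
    by_cases hb : ∃ ψ ∈ S, b = blockOf M (ψ : K → ℂ)
    · rw [if_pos hb, one_mul]; exact hall b hb
    · rw [if_neg hb, zero_mul]; exact LI.zero hM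
  obtain ⟨ψ, hψ, rfl⟩ := hbS
  obtain ⟨χ, hχ, heval⟩ := hev ψ hψ
  have hind : IsInducedBlock M K (blockOf M (ψ : K → ℂ)) B := by
    refine ⟨isPBlock_blockOf ψ, hB, fun ξ hξ χ' hχ' g => ?_⟩
    have hg := classInd_isClassFunction (G := G) g
    refine LI.trans hM ?_ (IsPBlock.sameBlock hM hB hχ hχ' g)
    rw [inducedCentralChar_eq]
    refine LI.trans hM (omega_congr hM
      (SameBlock_symm (mem_blockOf.1 hξ))
      (resFun_isClassFunction K hg) fun k => classInd_LR hM g k) ?_
    have h1 := heval _ hg (classInd_LR hM g)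
    rwa [omega_classInd, show brTrunc (Subgroup.zpowers z) K
      (classInd g) = fun k : K => classInd g (k : G) from
      funext fun k => if_pos (hKC.ge k.2)] at h1
  obtain ⟨E, hE, hle'⟩ := exists_isDefectGroup_ge hM hind.1
    (hDp.of_injective (Subgroup.subgroupOfEquivOfLe hDK).toMonoidHom
      (Subgroup.subgroupOfEquivOfLe hDK).injective)
    (c := (⟨c, hcK⟩ : K)) ((mem_centralizer_subgroupOf hDK _).2 hc) hb
  have h1 := Subgroup.card_le_of_le hle'
  rw [Nat.card_congr (Subgroup.subgroupOfEquivOfLe hDK).toEquiv, hcard,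
    card_defectGroup hM hind.1 hE] at h1
  have h2 := (Nat.pow_le_pow_iff_right hp.one_lt).1 h1
  exact ⟨z, hz, _, hind, le_antisymm (blockDefect_le_of_induced hM hind) h2⟩

end CfsgLib.Blocks.MajorSubsection
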