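import Cfsg.Agent.Lib.Blocks.DefectTwoBound
import Cfsg.Agent.Lib.Blocks.MajorSubsection
import Cfsg.Agent.Lib.Blocks.MajorContrib
import Cfsg.Agent.Lib.Blocks.CyclotomicDivide

/-!
# The number of characters of a block in terms of its defect
-/

set_option autoImplicit false
set_option linter.unusedSectionVars false

namespace CfsgLib.Blocks.DefectBound

open Cfsg CfsgLib.Blocks
open scoped Classical ComplexConjugate

universe u

variable {p : ℕ} {M : Ideal AlgInt}

/-- A block over a central element of order `p` has rank at most the size of its image. -/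
theorem exists_quot_block (hM : IsPModular p M) {K : Type*} [Group K] [Fintype K] {z : K}
    (hz : z ∈ Subgroup.center K) (hord : orderOf z = p) {b : Set (IrrCharacter K)}
    (hb : IsPBlock M b) {d : ℕ} (hd : blockDefect p b = d + 1) [(Subgroup.zpowers z).Normal] :
    ∃ bb : Set (IrrCharacter (K ⧸ Subgroup.zpowers z)),
      IsPBlock M bb ∧ blockDefect p bb = d ∧ blockRank p b ≤ Nat.card bb := by
  haveI := Fact.mk hM.1
  set Z := Subgroup.zpowers z
  letI : Fintype (K ⧸ Z) := Fintype.ofFinite _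
  have hZle : Z ≤ Subgroup.center K := Subgroup.zpowers_le.2 hz
  have hZc : Nat.card Z = p := by rw [Nat.card_zpowers, hord]
  have hZp : IsPGroup p Z := IsPGroup.of_card (n := 1) (by rw [pow_one, hZc])
  have hC := DefectTwo.index_centralizer (p := p) hZle
  obtain ⟨b', hb', hsub, hDG⟩ := QuotientDefect.exists_block_map_eq hM hZp hb
  obtain ⟨D, hD⟩ := exists_isDefectGroup hM hb
  refine ⟨b', hb', ?_, ?_⟩
  · have hle : Z ≤ D := le_defectGroup_of_normal hM hb hZp hD
    have hDbar := (hDG _).2 ⟨D, hD, rfl⟩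
    have h1 : (D.map (QuotientGroup.mk' Z)).index = D.index :=
      Subgroup.index_map_eq D (QuotientGroup.mk'_surjective Z) (by rwa [QuotientGroup.ker_mk'])
    have h2 := Subgroup.card_mul_index (D.map (QuotientGroup.mk' Z))
    have h3 := Subgroup.card_mul_index D
    rw [h1, card_defectGroup hM hb' hDbar] at h2
    rw [card_defectGroup hM hb hD, hd, DefectTwo.card_eq_mul hZc, ← h2, pow_succ] at h3
    have hi : 0 < D.index := Nat.pos_of_ne_zero Subgroup.index_ne_zero_of_finite
    have h4 : p ^ d * (p * D.index) = p ^ blockDefect p b' * (p * D.index) := by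
      rw [← mul_assoc, h3]; ring
    exact (Nat.pow_right_injective hM.1.two_le
      (Nat.eq_of_mul_eq_mul_right (Nat.mul_pos hM.1.pos hi) h4)).symm
  · have hbb : ∀ η, η ∈ b' ↔ inflate Z η ∈ b := fun η => by
      obtain ⟨ψ₀, hψ₀⟩ := IsPBlock.nonempty hM hb'
      rw [IsPBlock.mem_iff hM hb' hψ₀, sameBlock_inflate_iff hM hZp hC,
        IsPBlock.mem_iff hM hb (hsub ψ₀ hψ₀)]
    set S : Finset (K → ℂ) := b'.toFinset.image fun η =>
      pRegularPart p (inflate Z η : K → ℂ)
    rw [blockRank]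
    refine le_trans (Submodule.finrank_mono (t := Submodule.span ℂ (S : Set (K → ℂ))) ?_) ?_
    · rw [Submodule.span_le]
      rintro _ ⟨ψ, hψ, rfl⟩
      set F : K → ℂ := (ψ : K → ℂ)
      set w : IrrCharacter (K ⧸ Z) → ℂ := fun η =>
        classInner (DefectTwo.pushReg p Z F) (η : K ⧸ Z → ℂ)
      have hw0 : ∀ η, η ∉ b' → w η = 0 := by
        intro η hη
        simp only [w, Cfsg.classInner, conj_irr]
        rw [DefectTwo.sum_pushReg_mul F fun q => (η : K ⧸ Z → ℂ) q⁻¹]
        refine mul_eq_zero_of_right _ ?_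
        have h1 := IsPBlock.regInner_eq_zero hM hb hψ (mt (hbb η).2 hη)
        rw [regInner, mul_eq_zero] at h1
        replace h1 := h1.resolve_left (mul_ne_zero (pPartCard_ne_zero hM.1)
          (inv_ne_zero CfsgLib.Char.card_ne_zero))
        simpa only [inflate_apply, map_inv] using h1
      have e : pRegularPart p F
          = ∑ η ∈ b'.toFinset, w η • pRegularPart p (inflate Z η : K → ℂ) := by
        funext g
        simp only [Finset.sum_apply, Pi.smul_apply, smul_eq_mul, pRegularPart_apply]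
        split_ifs with hg
        · conv_lhs => rw [← DefectTwo.pushReg_mk hM.1 hZp hZle F hg,
            CfsgLib.Char.IsClassFunction.eq_sum_irr (G := K ⧸ Z)
              (ψ := DefectTwo.pushReg p Z F)
              fun q v => DefectTwo.pushReg_conj (irr_conj_apply ψ) q v]
          simp only [Finset.sum_apply, Pi.smul_apply, smul_eq_mul, inflate_apply]
          exact (Finset.sum_subset (Finset.subset_univ _) fun η _ hη => by
            rw [show classInner (DefectTwo.pushReg p Z F) (η : K ⧸ Z → ℂ) = 0 from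
              hw0 η (by simpa using hη), zero_mul]).symm
        · simp
      show pRegularPart p F ∈ _
      rw [e]
      exact sum_mem fun η hη => Submodule.smul_mem _ _
        (Submodule.subset_span (Finset.mem_image_of_mem _ hη))
    · refine (finrank_span_finset_le_card S).trans (Finset.card_image_le.trans_eq ?_)
      rw [Nat.card_eq_card_toFinset]

theorem conj_mem_adjoin {ζ : ℂ} {N : ℕ} (hN : 0 < N) (hζ : ζ ^ N = 1) {a : ℂ}
    (ha : a ∈ Algebra.adjoin ℤ ({ζ} : Set ℂ)) : conj a ∈ Algebra.adjoin ℤ ({ζ} : Set ℂ) := by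
  refine Algebra.adjoin_induction (fun x hx => ?_) (fun r => ?_)
    (fun x y _ _ hx hy => by rw [map_add]; exact add_mem hx hy)
    (fun x y _ _ hx hy => by rw [map_mul]; exact mul_mem hx hy) ha
  · rw [Set.mem_singleton_iff.1 hx, ← Complex.inv_eq_conj
      (Complex.norm_eq_one_of_pow_eq_one hζ hN.ne')]
    rw [show ζ⁻¹ = ζ ^ (N - 1) from inv_eq_of_mul_eq_one_right (by
      rw [← pow_succ', Nat.sub_add_cancel hN, hζ])]
    exact pow_mem (Algebra.self_mem_adjoin_singleton ℤ ζ) _
  · simp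

variable {G : Type*} [Group G] [Fintype G]

/-- `k₀² + 2 p² k₀ k₊ ≤ p^(2d) l` for a major subsection at an element of order `p`. -/
theorem weighted_le (hM : IsPModular p M) {B : Set (IrrCharacter G)} {x : G} (hx : orderOf x = p)
    {K : Subgroup G} (hK : K = Subgroup.centralizer ({x} : Set G)) {b : Set (IrrCharacter K)}
    (hind : IsInducedBlock M K b B) (hmaj : blockDefect p b = blockDefect p B) :
    (B.toFinset.filter fun χ => degVal p χ = minDegVal p B).card ^ 2
      + 2 * p ^ 2 * (B.toFinset.filter fun χ => degVal p χ = minDegVal p B).card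
        * (B.toFinset.filter fun χ => ¬ degVal p χ = minDegVal p B).card
      ≤ p ^ (2 * blockDefect p B) * blockRank p b := by
  haveI := Fact.mk hM.1
  have hxK : x ∈ K := by rw [hK, Subgroup.mem_centralizer_singleton_iff]
  set z : K := ⟨x, hxK⟩
  have hzx : (z : G) = x := rfl
  have hz : z ∈ Subgroup.center K := by
    rw [Subgroup.mem_center_iff]
    intro c
    exact Subtype.ext (Subgroup.mem_centralizer_singleton_iff.1 (hK ▸ c.2))
  have hzp : z ^ p = 1 := Subtype.ext (by
    rw [Subgroup.coe_pow, Subgroup.coe_one, ← hx]; exact pow_orderOf_eq_one x)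
  have hzk : z ^ p ^ 1 = 1 := by rw [pow_one]; exact hzp
  haveI : NeZero p := ⟨hM.1.ne_zero⟩
  obtain ⟨ζ, hζ⟩ : ∃ ζ : ℂ, IsPrimitiveRoot ζ p :=
    ⟨_, Complex.isPrimitiveRoot_exp p hM.1.ne_zero⟩
  set m := minDegVal p b
  set m₀ := minDegVal p B
  set d := blockDefect p B
  have hp0 : (p : ℂ) ≠ 0 := Nat.cast_ne_zero.2 hM.1.ne_zero
  let X : IrrCharacter G × IrrCharacter G → ℂ := fun i => contrib p x K b i.1 i.2 / (p : ℂ) ^ m
  let e : IrrCharacter G × IrrCharacter G → ℕ := fun i =>
    if i.2 ∈ B ∧ degVal p i.2 = m₀ then degVal p i.1 - m₀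
    else if i.1 ∈ B ∧ degVal p i.1 = m₀ then degVal p i.2 - m₀ else 0
  have hsupp : ∀ i : IrrCharacter G × IrrCharacter G, i.1 ∉ B → X i = 0 := fun i hi => by
    simp only [X, contrib]
    rw [Finset.sum_eq_zero fun s hs => by
      rw [secPart_eq_zero_of_notMem hM hK ⟨1, by rw [pow_one, hx]⟩ hind hi
        (Finset.mem_filter.1 hs).2, zero_mul]]
    simp
  have hconj : ∀ θ φ, conj (X (θ, φ)) = X (φ, θ) := fun θ φ => by
    simp only [X, map_div₀, map_pow, map_natCast, conj_contrib hM.1 hzx hz]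
  have hXmem : ∀ i, X i ∈ Algebra.adjoin ℤ ({ζ} : Set ℂ) := fun i =>
    contrib_div_mem_adjoin hM hzx hz i.1 i.2 hζ hzp
  have hone : ∀ θ φ, φ ∈ B → degVal p φ = m₀ →
      X (θ, φ) / (p : ℂ) ^ (degVal p θ - m₀) ∈ Algebra.adjoin ℤ ({ζ} : Set ℂ) ∧
        (θ ∈ B → X (θ, φ) ≠ 0) := by
    intro θ φ hφ hφ0
    by_cases hθ : θ ∈ B
    · obtain ⟨w, hw, hw'⟩ := MajorContrib.exists_scaled hM hind hmaj hzx hz φ
      have hpe : (p : ℂ) ^ (degVal p θ - m₀) ≠ 0 := pow_ne_zero _ hp0
      refine ⟨CycloDiv.div_prime_pow_mem hM (k := 0) (by rw [zero_add, pow_one]; exact hζ) _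
        (hXmem _) ?_, fun _ h0 => ?_⟩
      · rw [show X (θ, φ) = _ from (hw θ hθ).2, mul_div_cancel_left₀ _ hpe]
        exact (hw θ hθ).1
      · rw [show X (θ, φ) = _ from (hw θ hθ).2, mul_eq_zero, or_iff_right hpe] at h0
        have h1 := hw' θ hθ φ hφ (h0 ▸ LI.zero hM)
        refine contrib_not_LI_of_min hM hind hzx hz hzk hφ hφ hφ0 hφ0 ?_
        rw [(hw φ hφ).2, hφ0, Nat.sub_self, pow_zero, one_mul]
        exact h1
    · rw [hsupp (θ, φ) hθ, zero_div]
      exact ⟨zero_mem _, fun h => absurd h hθ⟩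
  have hmem : ∀ i, X i / (p : ℂ) ^ e i ∈ Algebra.adjoin ℤ ({ζ} : Set ℂ) := by
    rintro ⟨θ, φ⟩
    simp only [e]
    split_ifs with h1 h2
    · exact (hone θ φ h1.1 h1.2).1
    · have := conj_mem_adjoin hM.1.pos hζ.pow_eq_one (hone φ θ h2.1 h2.2).1
      rwa [map_div₀, hconj, map_pow, map_natCast] at this
    · simpa using hXmem (θ, φ)
  set s := Finset.univ.filter fun i => X i ≠ 0
  have hq : (pPartCard p K : ℂ) = (p : ℂ) ^ m * (p : ℂ) ^ d := by
    rw [pPartCard, Nat.cast_pow, ← pow_add, add_comm,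
      show d = blockDefect p b from hmaj.symm,
      blockDefect_add_min (p := p) (IsPBlock.nonempty hM hind.1)]
  have htot : ∑ i ∈ s, X i * conj (X i) = ((p ^ (2 * d) * blockRank p b : ℕ) : ℂ) := by
    rw [Finset.sum_filter_of_ne (fun i _ (h : X i * conj (X i) ≠ 0) => left_ne_zero_of_mul h),
      ← Finset.univ_product_univ, Finset.sum_product]
    simp only [X, map_div₀, map_pow, map_natCast, conj_contrib hM.1 hzx hz, div_mul_div_comm,
      ← Finset.sum_div]
    rw [sum_contrib_sq hM hK ⟨1, by rw [pow_one, hx]⟩ hind.1, hq]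
    push_cast
    field_simp
    ring
  have hrat : ∑ a ∈ s.sigma (fun i => Finset.range (p ^ (2 * e i))),
      X a.1 / (p : ℂ) ^ e a.1 * conj (X a.1 / (p : ℂ) ^ e a.1)
      = (((p ^ (2 * d) * blockRank p b : ℕ) : ℚ) : ℂ) := by
    rw [Rat.cast_natCast, ← htot, Finset.sum_sigma]
    refine Finset.sum_congr rfl fun i _ => ?_
    simp only [Finset.sum_const, Finset.card_range, nsmul_eq_mul, map_div₀, map_pow, map_natCast]
    push_cast
    field_simp
    ring
  have hle := card_le_of_sum_normSq _ hM.1.pos hζ.pow_eq_one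
    (fun a : Σ _ : IrrCharacter G × IrrCharacter G, ℕ => X a.1 / (p : ℂ) ^ e a.1)
    (fun a _ => hmem a.1)
    (fun a ha => div_ne_zero (Finset.mem_filter.1 (Finset.mem_sigma.1 ha).1).2
      (pow_ne_zero _ hp0)) hrat
  have hcount : ∑ i ∈ s, p ^ (2 * e i) ≤ p ^ (2 * d) * blockRank p b := by
    rw [Finset.card_sigma] at hle
    simp only [Finset.card_range] at hle
    exact_mod_cast hle
  refine le_trans ?_ hcount
  set B₀ := B.toFinset.filter fun χ => degVal p χ = m₀
  set B₁ := B.toFinset.filter fun χ => ¬ degVal p χ = m₀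
  have hB₀ : ∀ χ ∈ B₀, χ ∈ B ∧ degVal p χ = m₀ := fun χ hχ =>
    ⟨Set.mem_toFinset.1 (Finset.mem_filter.1 hχ).1, (Finset.mem_filter.1 hχ).2⟩
  have hB₁ : ∀ χ ∈ B₁, χ ∈ B ∧ 1 ≤ degVal p χ - m₀ := fun χ hχ => by
    obtain ⟨h1, h2⟩ := Finset.mem_filter.1 hχ
    have h3 := minDegVal_le (p := p) (Set.mem_toFinset.1 h1)
    exact ⟨Set.mem_toFinset.1 h1, by omega⟩
  have hdisj : Disjoint B₀ B₁ := Finset.disjoint_filter_filter_not _ _ _
  have hsub : B₀ ×ˢ B₀ ∪ B₁ ×ˢ B₀ ∪ B₀ ×ˢ B₁ ⊆ s := by
    rintro ⟨θ, φ⟩ hi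
    refine Finset.mem_filter.2 ⟨Finset.mem_univ _, ?_⟩
    simp only [Finset.mem_union, Finset.mem_product] at hi
    rcases hi with (⟨h1, h2⟩ | ⟨h1, h2⟩) | ⟨h1, h2⟩
    · exact (hone θ φ (hB₀ φ h2).1 (hB₀ φ h2).2).2 (hB₀ θ h1).1
    · exact (hone θ φ (hB₀ φ h2).1 (hB₀ φ h2).2).2 (hB₁ θ h1).1
    · intro h0
      refine (hone φ θ (hB₀ θ h1).1 (hB₀ θ h1).2).2 (hB₁ φ h2).1 ?_
      rw [← hconj, h0, map_zero]
  refine le_trans ?_ (Finset.sum_le_sum_of_subset hsub)
  rw [Finset.sum_union, Finset.sum_union, add_assoc, sq B₀.card]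
  · refine add_le_add ?_ (le_trans (le_of_eq ?_) (add_le_add
      (Finset.card_nsmul_le_sum (B₁ ×ˢ B₀) _ (p ^ 2) ?_)
      (Finset.card_nsmul_le_sum (B₀ ×ˢ B₁) _ (p ^ 2) ?_)))
    · rw [← Finset.card_product, Finset.card_eq_sum_ones]
      exact Finset.sum_le_sum fun i _ => Nat.one_le_pow _ _ hM.1.pos
    · simp only [Finset.card_product, smul_eq_mul]
      ring
    · rintro ⟨θ, φ⟩ hi
      obtain ⟨h1, h2⟩ := Finset.mem_product.1 hi
      refine Nat.pow_le_pow_right hM.1.pos ?_
      simp only [e, if_pos (hB₀ φ h2)]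
      have := (hB₁ θ h1).2
      omega
    · rintro ⟨θ, φ⟩ hi
      obtain ⟨h1, h2⟩ := Finset.mem_product.1 hi
      refine Nat.pow_le_pow_right hM.1.pos ?_
      simp only [e]
      rw [if_neg fun h => (Finset.mem_filter.1 h2).2 h.2, if_pos (hB₀ θ h1)]
      have := (hB₁ φ h2).2
      omega
  · exact Finset.disjoint_product.2 (Or.inl hdisj)
  · exact Finset.disjoint_union_left.2 ⟨Finset.disjoint_product.2 (Or.inr hdisj),
      Finset.disjoint_product.2 (Or.inr hdisj)⟩

theorem arith {P r s q : ℕ} (hq : 4 ≤ q) (hP : 16 ≤ P) (hr : 1 ≤ r)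
    (h1 : r ^ 2 + 2 * q * r * s ≤ P * P) (h2 : 4 * (r + q * s) ≤ q * P + 4) : r + s ≤ P := by
  by_cases hs : s ≤ 6 * r
  · have h3 : (r + s) ^ 2 ≤ P ^ 2 := by nlinarith [Nat.mul_le_mul_left s hs, Nat.mul_le_mul_right (r * s) hq]
    exact (Nat.pow_le_pow_iff_left two_ne_zero).1 h3
  · have h3 : 4 * (q * s) ≤ q * P + 4 := by omega
    have h4 : 4 * s ≤ P + 1 := by
      by_contra h
      have := Nat.mul_le_mul_left q (not_le.1 h)
      have : q * (P + 2) ≤ q * (4 * s) := Nat.mul_le_mul_left q (by omega)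
      nlinarith
    omega

/-- `k ≤ p^d` for `d ≤ 2` and `k ≤ p^(2d - 2)` for `d ≥ 3`. -/
theorem card_le_bound (hM : IsPModular p M) : ∀ (d : ℕ) (G : Type u) [Group G] [Fintype G]
    (B : Set (IrrCharacter G)), IsPBlock M B → blockDefect p B = d →
      Nat.card B ≤ p ^ (if d ≤ 2 then d else 2 * d - 2) := by
  intro d
  induction d using Nat.strong_induction_on with
  | _ d ih =>
    intro G _ _ B hB hd
    haveI := Fact.mk hM.1
    have hne := IsPBlock.nonempty hM hB
    have hadd := blockDefect_add_min (p := p) hne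
    rcases Nat.eq_zero_or_pos d with rfl | hpos
    · obtain ⟨χ, hχ⟩ := hne
      have h1 := minDegVal_le (p := p) hχ
      have h2 := degVal_le (p := p) χ
      rw [IsPBlock.eq_blockOf hM hB hχ, (blockOf_eq_singleton_iff hM χ).2 (by omega)]
      simp
    obtain ⟨x, hx, b, hind, hmaj⟩ := MajorSubsection.exists_major_block hM hB (by omega)
    let K := Subgroup.centralizer ({x} : Set G)
    have hK : K = Subgroup.centralizer ({x} : Set G) := rfl
    set z : K := ⟨x, Subgroup.mem_centralizer_singleton_iff.2 rfl⟩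
    have hzc : z ∈ Subgroup.center K := Subgroup.mem_center_iff.2 fun c => Subtype.ext
      (Subgroup.mem_centralizer_singleton_iff.1 c.2)
    have hzo : orderOf z = p := by rw [← Subgroup.orderOf_coe]; exact hx
    haveI : (Subgroup.zpowers z).Normal := ⟨fun n hn g => by
      have : n ∈ Subgroup.center K := Subgroup.zpowers_le.2 hzc hn
      rwa [Subgroup.mem_center_iff.1 this g, mul_inv_cancel_right]⟩
    obtain ⟨d', rfl⟩ : ∃ d', d = d' + 1 := ⟨d - 1, by omega⟩
    obtain ⟨bb, hbb, hbd, hrank⟩ := exists_quot_block hM hzc hzo hind.1 (d := d') (hmaj.trans hd)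
    letI : Fintype (K ⧸ Subgroup.zpowers z) := Fintype.ofFinite _
    have hih := ih d' (Nat.lt_succ_self d') _ bb hbb hbd
    have hcard : Nat.card B = B.toFinset.card := Nat.card_eq_card_toFinset B
    by_cases hd2 : d' + 1 ≤ 2
    · rw [if_pos hd2]
      have hh : ∀ χ ∈ B, degVal p χ = minDegVal p B := fun χ hχ => by
        by_contra hne'
        have h1 := minDegVal_le (p := p) hχ
        have := degVal_add_two_le_of_pos hM hB hχ (by omega)
        omega
      rcases Nat.lt_or_ge d' 1 with h0 | h1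
      · obtain rfl : d' = 0 := by omega
        have h := card_sq_le_of_major hM hK ⟨1, by rw [pow_one, hx]⟩ hind hh
        rw [hmaj, hd] at h
        simp only [zero_add, pow_zero, if_true, Nat.zero_le] at hih
        have hl : blockRank p b ≤ 1 := hrank.trans hih
        refine (Nat.pow_le_pow_iff_left two_ne_zero).1 (h.trans ?_)
        rw [← pow_mul]
        calc p ^ (2 * (0 + 1)) * blockRank p b ≤ p ^ (2 * (0 + 1)) * 1 := Nat.mul_le_mul_left _ hl
          _ = p ^ ((0 + 1) * 2) := by rw [mul_one, mul_comm 2]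
      · obtain rfl : d' = 1 := by omega
        rw [hcard]
        refine DefectTwo.card_le_of_defect_two hM hx hK hind.1 (hmaj.trans hd) B.toFinset
          fun χ hχ => ?_
        rw [Set.mem_toFinset] at hχ
        by_contra hall
        push Not at hall
        refine contrib_ne_zero_of_min hM hind (x := x) (z := z) rfl hzc (k := 1)
          (by rw [pow_one, ← hzo]; exact pow_orderOf_eq_one z) hχ hχ (hh χ hχ) (hh χ hχ) ?_
        rw [contrib, Finset.sum_eq_zero fun s hs => by
          rw [hall s (Finset.mem_filter.1 hs).2, zero_mul], mul_zero]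
    · rw [if_neg hd2, hcard,
        ← Finset.card_filter_add_card_filter_not (s := B.toFinset)
          fun χ => degVal p χ = minDegVal p B]
      set r := (B.toFinset.filter fun χ => degVal p χ = minDegVal p B).card with hr
      set s := (B.toFinset.filter fun χ => ¬ degVal p χ = minDegVal p B).card with hs
      have hl : blockRank p b ≤ p ^ (2 * (d' + 1) - 4) := by
        refine hrank.trans (hih.trans (Nat.pow_le_pow_right hM.1.pos ?_))
        split_ifs <;> omega
      have hP : (p : ℕ) ^ 2 * p ^ (2 * (d' + 1) - 2) = p ^ (2 * (d' + 1)) := by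
        rw [← pow_add]; congr 1; omega
      refine arith (q := p ^ 2) ?_ ?_ ?_ ?_ ?_
      · calc 4 = 2 ^ 2 := by norm_num
          _ ≤ p ^ 2 := Nat.pow_le_pow_left hM.1.two_le 2
      · calc 16 = 2 ^ 4 := by norm_num
          _ ≤ p ^ 4 := Nat.pow_le_pow_left hM.1.two_le 4
          _ ≤ _ := Nat.pow_le_pow_right hM.1.pos (by omega)
      · obtain ⟨χ, hχ, h0⟩ := exists_degVal_eq_min (p := p) hne
        exact Finset.card_pos.2 ⟨χ, Finset.mem_filter.2 ⟨Set.mem_toFinset.2 hχ, h0⟩⟩
      · refine (weighted_le hM hx hK hind hmaj).trans ?_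
        rw [hd]
        refine (Nat.mul_le_mul_left _ hl).trans (le_of_eq ?_)
        rw [← pow_add, ← pow_add]; congr 1; omega
      · have h4 := four_mul_sum_pow_height_le hM hB
        rw [hd, ← hP, ← Finset.sum_filter_add_sum_filter_not B.toFinset
          fun χ => degVal p χ = minDegVal p B] at h4
        refine le_trans (Nat.mul_le_mul_left 4 (add_le_add ?_ ?_)) h4
        · rw [hr, Finset.card_eq_sum_ones]
          exact Finset.sum_le_sum fun χ _ => Nat.one_le_pow _ _ hM.1.pos
        · rw [hs, mul_comm, ← smul_eq_mul]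
          refine Finset.card_nsmul_le_sum _ _ _ fun χ hχ => Nat.pow_le_pow_right hM.1.pos ?_
          obtain ⟨h1, h2⟩ := Finset.mem_filter.1 hχ
          have := minDegVal_le (p := p) (Set.mem_toFinset.1 h1)
          rw [blockHeight_eq]
          omega

end CfsgLib.Blocks.DefectBound
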