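import Cfsg.Agent.Lib.Blocks.LocalRing
import Cfsg.Agent.Lib.Char.Orth
import Cfsg.Agent.Lib.Char.Integral
import Cfsg.Agent.Lib.Char.Linear
import Cfsg.Agent.Lib.Char.Induced

/-!
# Central characters, Fourier inversion on the centre, blocks as an equivalence relation
-/

set_option autoImplicit false

namespace CfsgLib.Blocks

open Cfsg
open scoped Classical ComplexConjugate

variable {G : Type*} [Group G] [Fintype G]

/-! ### Degrees and values -/

theorem irr_one_eq (χ : IrrCharacter G) :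
    (χ : G → ℂ) 1 = (charDegree (χ : G → ℂ) : ℂ) := by
  obtain ⟨n, ρ, hρ, he⟩ := χ.2
  have : (χ : G → ℂ) 1 = (n : ℂ) := by rw [← he]; simp
  rw [this, charDegree, this, Complex.natCast_re, Nat.floor_natCast]

theorem irr_one_ne_zero (χ : IrrCharacter G) : (χ : G → ℂ) 1 ≠ 0 :=
  CfsgLib.Char.IsIrrCharacter.apply_one_ne_zero χ.2

theorem charDegree_pos (χ : IrrCharacter G) : 0 < charDegree (χ : G → ℂ) :=
  Nat.pos_of_ne_zero fun h => irr_one_ne_zero χ (by rw [irr_one_eq, h, Nat.cast_zero])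

theorem charDegree_dvd (χ : IrrCharacter G) : charDegree (χ : G → ℂ) ∣ Nat.card G := by
  obtain ⟨n, hn, hd⟩ := CfsgLib.Char.IsIrrCharacter.apply_one_dvd_card χ.2
  have : charDegree (χ : G → ℂ) = n := by
    rw [charDegree, hn, Complex.natCast_re, Nat.floor_natCast]
  rwa [this]

theorem conj_irr (χ : IrrCharacter G) (g : G) : conj ((χ : G → ℂ) g) = (χ : G → ℂ) g⁻¹ :=
  (CfsgLib.Char.IsIrrCharacter.apply_inv χ.2 g).symm

theorem irr_isIntegral (χ : IrrCharacter G) (g : G) : IsIntegral ℤ ((χ : G → ℂ) g) :=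
  CfsgLib.Char.IsCharacter.isIntegral (CfsgLib.Char.isCharacter_irr χ) g

theorem irr_conj_apply (χ : IrrCharacter G) (g h : G) :
    (χ : G → ℂ) (h * g * h⁻¹) = (χ : G → ℂ) g :=
  CfsgLib.Char.IsIrrCharacter.isClassFunction χ.2 g h

theorem irr_mul_comm (χ : IrrCharacter G) (g h : G) :
    (χ : G → ℂ) (g * h) = (χ : G → ℂ) (h * g) := by
  rw [← irr_conj_apply χ (g * h) h]; simp [mul_assoc]

theorem isIntegral_centralChar (χ : IrrCharacter G) (g : G) :
    IsIntegral ℤ (centralChar (χ : G → ℂ) g) := by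
  obtain ⟨n, ρ, hρ, he⟩ := χ.2
  haveI := hρ
  have h := CfsgLib.Char.isIntegral_centralChar ρ g
  rw [centralChar, ← he, Representation.char_one]
  exact h

theorem isIrrCharacter_conj (χ : IrrCharacter G) :
    IsIrrCharacter G (fun g => conj ((χ : G → ℂ) g)) := by
  refine CfsgLib.Char.IsCharacter.isIrrCharacter_of_norm_one
    (CfsgLib.Char.IsCharacter.conj' (CfsgLib.Char.isCharacter_irr χ)) ?_
  have h := congrArg conj (CfsgLib.Char.classInner_irr_self χ.2)
  simp only [map_one, Cfsg.classInner, map_mul, map_sum, map_inv₀, Complex.conj_natCast,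
    Complex.conj_conj] at h
  simpa [Cfsg.classInner] using h

/-- The complex conjugate of an irreducible character. -/
noncomputable def irrConj (χ : IrrCharacter G) : IrrCharacter G :=
  ⟨fun g => conj ((χ : G → ℂ) g), isIrrCharacter_conj χ⟩

theorem irrConj_apply (χ : IrrCharacter G) (g : G) :
    (irrConj χ : G → ℂ) g = conj ((χ : G → ℂ) g) := rfl

theorem irrConj_apply_inv (χ : IrrCharacter G) (g : G) :
    (irrConj χ : G → ℂ) g = (χ : G → ℂ) g⁻¹ := conj_irr χ g

theorem irrConj_irrConj (χ : IrrCharacter G) : irrConj (irrConj χ) = χ :=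
  Subtype.ext (funext fun g => by simp [irrConj_apply])

/-- The principal character. -/
def trivChar (G : Type*) [Group G] [Finite G] : IrrCharacter G :=
  ⟨fun _ => 1, CfsgLib.Char.isIrrCharacter_one⟩

@[simp] theorem trivChar_apply (g : G) : (trivChar G : G → ℂ) g = 1 := rfl

/-- Orthogonality for the matrix coefficients: `∑ x, χ x ψ (x⁻¹ g) = δ |G| χ g / χ 1`. -/
theorem gen_orth (χ ψ : IrrCharacter G) (g : G) :
    ∑ x, (χ : G → ℂ) x * (ψ : G → ℂ) (x⁻¹ * g)
      = if χ = ψ then (Nat.card G : ℂ) * (χ : G → ℂ) g / (χ : G → ℂ) 1 else 0 := by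
  obtain ⟨n, σ, hσ, he⟩ := ψ.2
  haveI := hσ
  have hθ : IsClassFunction G fun x => (χ : G → ℂ) x⁻¹ := fun a b => by
    have := irr_conj_apply χ a⁻¹ b
    simpa [mul_assoc] using this
  have hs := CfsgLib.Char.sum_smul_eq_scalar σ hθ
  have h2 := congrArg (fun T : Module.End ℂ (Fin n → ℂ) => LinearMap.trace ℂ _ (T * σ g)) hs
  simp only [← Module.End.one_eq_id, Finset.sum_mul, smul_mul_assoc, one_mul, map_sum, map_smul,
    smul_eq_mul, ← map_mul] at h2
  have hψ : ∀ x, σ.character x = (ψ : G → ℂ) x := fun x => congrFun he x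
  have hL : ∑ x, (χ : G → ℂ) x * (ψ : G → ℂ) (x⁻¹ * g)
      = ((∑ x, (χ : G → ℂ) x⁻¹ * (ψ : G → ℂ) x) / (n : ℂ)) * (ψ : G → ℂ) g := by
    rw [← hψ g]
    have : ∀ y, LinearMap.trace ℂ (Fin n → ℂ) (σ y) = (ψ : G → ℂ) y := hψ
    simp only [this, hψ, Module.finrank_fin_fun] at h2
    rw [hψ g, ← h2]
    exact Fintype.sum_equiv (Equiv.inv G) _ _ fun x => by simp
  have hn : (n : ℂ) = (ψ : G → ℂ) 1 := by rw [← hψ]; simp
  have horth : ∑ x, (χ : G → ℂ) x⁻¹ * (ψ : G → ℂ) x
      = if χ = ψ then (Nat.card G : ℂ) else 0 := by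
    have := CfsgLib.Char.classInner_irrCharacter ψ χ
    rw [Cfsg.classInner, inv_mul_eq_iff_eq_mul₀ CfsgLib.Char.card_ne_zero] at this
    simp only [conj_irr] at this
    rw [show ∑ x, (χ : G → ℂ) x⁻¹ * (ψ : G → ℂ) x = ∑ x, (ψ : G → ℂ) x * (χ : G → ℂ) x⁻¹ from
      Finset.sum_congr rfl fun x _ => mul_comm _ _, this]
    by_cases h : χ = ψ
    · subst h; simp
    · simp [h, Ne.symm h]
  rw [hL, horth, hn]
  by_cases h : χ = ψ
  · subst h; simp only [if_true]; ring
  · simp [h]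

/-- `∑ x, ψ (a x b x⁻¹) = |G| ψ a ψ b / ψ 1`. -/
theorem sum_conj_mul (ψ : IrrCharacter G) (a b : G) :
    ∑ x, (ψ : G → ℂ) (a * (x * b * x⁻¹))
      = (Nat.card G : ℂ) * (ψ : G → ℂ) a * (ψ : G → ℂ) b / (ψ : G → ℂ) 1 := by
  obtain ⟨n, σ, hσ, he⟩ := ψ.2
  haveI := hσ
  obtain ⟨c, hc⟩ := CfsgLib.Char.exists_eq_smul_of_commute σ (∑ x, σ (x * b * x⁻¹)) fun y => by
    simp only [← Module.End.mul_eq_comp, Finset.sum_mul, Finset.mul_sum, ← map_mul]
    exact Fintype.sum_equiv (Equiv.mulLeft y⁻¹) _ _ fun x => by simp [mul_assoc]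
  have hψ : ∀ y, LinearMap.trace ℂ (Fin n → ℂ) (σ y) = (ψ : G → ℂ) y := fun y => congrFun he y
  have h1 := congrArg (LinearMap.trace ℂ (Fin n → ℂ)) hc
  simp only [map_sum, map_smul, LinearMap.trace_id, hψ, irr_conj_apply, Finset.sum_const,
    Finset.card_univ, nsmul_eq_mul, smul_eq_mul, Module.finrank_fin_fun,
    Fintype.card_eq_nat_card] at h1
  have hn : (n : ℂ) = (ψ : G → ℂ) 1 := by rw [← hψ]; simp
  have h2 := congrArg (fun T : Module.End ℂ (Fin n → ℂ) => LinearMap.trace ℂ _ (σ a * T)) hc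
  simp only [← Module.End.one_eq_id, Finset.mul_sum, mul_smul_comm, mul_one, map_sum, map_smul,
    smul_eq_mul, ← map_mul, hψ] at h2
  rw [h2, eq_div_iff (irr_one_ne_zero ψ), ← hn]
  linear_combination -((ψ : G → ℂ) a) * h1

/-! ### Central characters on class functions -/

/-- The value of the central character of `χ` on the central element with coefficients `f`. -/
noncomputable def omega (χ f : G → ℂ) : ℂ := (∑ x, f x * χ x) / χ 1

/-- The indicator of the class of `g`. -/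
noncomputable def classInd (g : G) : G → ℂ := fun x => if IsConj g x then 1 else 0

theorem classInd_isClassFunction (g : G) : IsClassFunction G (classInd g) := fun x y => by
  have hxy : IsConj x (y * x * y⁻¹) := isConj_iff.mpr ⟨y, rfl⟩
  exact if_congr ⟨fun h => h.trans hxy.symm, fun h => h.trans hxy⟩ rfl rfl

theorem sum_class_mul (g : G) {φ : G → ℂ} (hφ : IsClassFunction G φ) :
    ∑ x, classInd g x * φ x = ((Subgroup.centralizer ({g} : Set G)).index : ℂ) * φ g := by
  rw [← CfsgLib.Char.card_isConj_eq_index, Nat.card_eq_fintype_card, Fintype.card_subtype]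
  have : ∀ x, classInd g x * φ x = if IsConj x g then φ g else 0 := fun x => by
    unfold classInd
    by_cases hx : IsConj g x
    · rw [if_pos hx, if_pos hx.symm, one_mul]
      exact CfsgLib.Char.IsClassFunction.apply_eq_of_isConj hφ hx.symm
    · rw [if_neg hx, if_neg (fun h => hx h.symm), zero_mul]
  rw [Finset.sum_congr rfl fun x _ => this x, ← Finset.sum_filter, Finset.sum_const, nsmul_eq_mul]

theorem omega_classInd (χ : IrrCharacter G) (g : G) :
    omega (χ : G → ℂ) (classInd g) = centralChar (χ : G → ℂ) g := by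
  rw [omega, sum_class_mul g (CfsgLib.Char.IsIrrCharacter.isClassFunction χ.2)]
  rfl

theorem classFunction_eq_sum_classInd {f : G → ℂ} (hf : IsClassFunction G f) (x : G) :
    f x = ∑ C : ConjClasses G, f C.out * classInd C.out x := by
  rw [Finset.sum_eq_single (ConjClasses.mk x)]
  · have hc : IsConj (ConjClasses.mk x).out x :=
      ConjClasses.mk_eq_mk_iff_isConj.1 (Quotient.out_eq _)
    rw [classInd, if_pos hc, mul_one, CfsgLib.Char.IsClassFunction.apply_eq_of_isConj hf hc]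
  · intro C _ hC
    have : ¬ IsConj C.out x := fun h => hC
      ((Quotient.out_eq C).symm.trans (ConjClasses.mk_eq_mk_iff_isConj.2 h))
    rw [classInd, if_neg this, mul_zero]
  · exact fun h => absurd (Finset.mem_univ _) h

theorem omega_eq_sum_centralChar (χ : IrrCharacter G) {f : G → ℂ} (hf : IsClassFunction G f) :
    omega (χ : G → ℂ) f = ∑ C : ConjClasses G, f C.out * centralChar (χ : G → ℂ) C.out := by
  simp only [← omega_classInd, omega, mul_div, ← Finset.sum_div]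
  congr 1
  simp only [Finset.mul_sum]
  rw [Finset.sum_comm]
  refine Finset.sum_congr rfl fun x _ => ?_
  rw [classFunction_eq_sum_classInd hf x, Finset.sum_mul]
  exact Finset.sum_congr rfl fun C _ => by ring

variable {p : ℕ} {M : Ideal AlgInt}

theorem centralChar_LR (hM : IsPModular p M) (χ : IrrCharacter G) (g : G) :
    MemLocalRing M (centralChar (χ : G → ℂ) g) :=
  LR.of_isIntegral hM (isIntegral_centralChar χ g)

theorem omega_LR (hM : IsPModular p M) (χ : IrrCharacter G) {f : G → ℂ}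
    (hf : IsClassFunction G f) (hR : ∀ x, MemLocalRing M (f x)) :
    MemLocalRing M (omega (χ : G → ℂ) f) := by
  rw [omega_eq_sum_centralChar χ hf]
  exact LR.sum hM fun C _ => LR.mul hM (hR _) (centralChar_LR hM χ _)

theorem omega_LI (hM : IsPModular p M) (χ : IrrCharacter G) {f : G → ℂ}
    (hf : IsClassFunction G f) (hR : ∀ x, MemLocalIdeal M (f x)) :
    MemLocalIdeal M (omega (χ : G → ℂ) f) := by
  rw [omega_eq_sum_centralChar χ hf]
  exact LI.sum hM fun C _ => LI.mul_right hM (hR _) (centralChar_LR hM χ _)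

theorem omega_congr (hM : IsPModular p M) {χ ψ : IrrCharacter G}
    (h : SameBlock M (χ : G → ℂ) (ψ : G → ℂ)) {f : G → ℂ}
    (hf : IsClassFunction G f) (hR : ∀ x, MemLocalRing M (f x)) :
    MemLocalIdeal M (omega (χ : G → ℂ) f - omega (ψ : G → ℂ) f) := by
  rw [omega_eq_sum_centralChar χ hf, omega_eq_sum_centralChar ψ hf, ← Finset.sum_sub_distrib]
  refine LI.sum hM fun C _ => ?_
  rw [← mul_sub]
  exact LI.mul_left hM (hR _) (h _)

/-! ### Fourier inversion -/

/-- The central element with prescribed central character values. -/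
noncomputable def fourierInv (F : IrrCharacter G → ℂ) : G → ℂ :=
  fun g => (Nat.card G : ℂ)⁻¹ * ∑ ψ : IrrCharacter G, F ψ * ((ψ : G → ℂ) 1 * (ψ : G → ℂ) g⁻¹)

theorem fourierInv_isClassFunction (F : IrrCharacter G → ℂ) :
    IsClassFunction G (fourierInv F) := fun x y => by
  simp only [fourierInv]
  congr 1
  refine Finset.sum_congr rfl fun ψ _ => ?_
  rw [show (y * x * y⁻¹)⁻¹ = y * x⁻¹ * y⁻¹ by simp [mul_assoc], irr_conj_apply]

theorem omega_fourierInv (χ : IrrCharacter G) (F : IrrCharacter G → ℂ) :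
    omega (χ : G → ℂ) (fourierInv F) = F χ := by
  rw [omega, div_eq_iff (irr_one_ne_zero χ)]
  simp only [fourierInv, Finset.mul_sum, Finset.sum_mul]
  rw [Finset.sum_comm, Finset.sum_eq_single χ]
  · have h := CfsgLib.Char.classInner_irr_self χ.2
    rw [Cfsg.classInner] at h
    simp only [conj_irr, Finset.mul_sum] at h
    calc ∑ x, (Nat.card G : ℂ)⁻¹ * (F χ * ((χ : G → ℂ) 1 * (χ : G → ℂ) x⁻¹)) * (χ : G → ℂ) x
        = F χ * (χ : G → ℂ) 1 * ∑ x, (Nat.card G : ℂ)⁻¹ * ((χ : G → ℂ) x * (χ : G → ℂ) x⁻¹) := by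
          rw [Finset.mul_sum]; exact Finset.sum_congr rfl fun x _ => by ring
      _ = F χ * (χ : G → ℂ) 1 := by rw [h, mul_one]
  · intro ψ _ hψ
    have h := CfsgLib.Char.classInner_irr_ne χ.2 ψ.2 fun h => hψ (Subtype.ext h).symm
    rw [Cfsg.classInner] at h
    simp only [conj_irr, Finset.mul_sum] at h
    calc ∑ x, (Nat.card G : ℂ)⁻¹ * (F ψ * ((ψ : G → ℂ) 1 * (ψ : G → ℂ) x⁻¹)) * (χ : G → ℂ) x
        = F ψ * (ψ : G → ℂ) 1 * ∑ x, (Nat.card G : ℂ)⁻¹ * ((χ : G → ℂ) x * (ψ : G → ℂ) x⁻¹) := by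
          rw [Finset.mul_sum]; exact Finset.sum_congr rfl fun x _ => by ring
      _ = 0 := by rw [h, mul_zero]
  · simp

theorem fourierInv_omega {f : G → ℂ} (hf : IsClassFunction G f) :
    fourierInv (fun ψ : IrrCharacter G => omega (ψ : G → ℂ) f) = f := by
  refine CfsgLib.Char.IsClassFunction.ext_classInner (fourierInv_isClassFunction _) hf
    fun χ hχ => ?_
  obtain ⟨χ', hχ'⟩ : ∃ χ' : IrrCharacter G, ∀ x, (χ' : G → ℂ) x = conj (χ x) :=
    ⟨irrConj ⟨χ, hχ⟩, fun x => rfl⟩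
  have := omega_fourierInv χ' (fun ψ : IrrCharacter G => omega (ψ : G → ℂ) f)
  rw [omega, div_eq_iff (irr_one_ne_zero χ'), omega, div_mul_cancel₀ _ (irr_one_ne_zero χ')] at this
  simp only [hχ'] at this
  rw [Cfsg.classInner, Cfsg.classInner, this]

/-- Convolution of central elements is pointwise product of central character values. -/
theorem fourierInv_mul (F F' : IrrCharacter G → ℂ) (g : G) :
    ∑ x, fourierInv F x * fourierInv F' (x⁻¹ * g) = fourierInv (fun ψ => F ψ * F' ψ) g := by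
  simp only [fourierInv, Finset.mul_sum, Finset.sum_mul]
  rw [Finset.sum_comm]
  rw [Finset.sum_congr rfl fun φ _ => Finset.sum_comm]
  rw [Finset.sum_comm]
  refine Finset.sum_congr rfl fun ψ _ => ?_
  rw [Finset.sum_eq_single ψ]
  · have h := gen_orth ψ ψ g⁻¹
    rw [if_pos rfl] at h
    have h' : ∑ x, (ψ : G → ℂ) x⁻¹ * (ψ : G → ℂ) (x⁻¹ * g)⁻¹
        = (Nat.card G : ℂ) * (ψ : G → ℂ) g⁻¹ / (ψ : G → ℂ) 1 := by
      rw [← h]
      refine Fintype.sum_equiv (Equiv.inv G) _ _ fun x => ?_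
      simp [mul_inv_rev, irr_mul_comm ψ x g⁻¹]
    calc _ = (Nat.card G : ℂ)⁻¹ * (Nat.card G : ℂ)⁻¹ * F ψ * F' ψ * ((ψ : G → ℂ) 1) ^ 2 *
          ∑ x, (ψ : G → ℂ) x⁻¹ * (ψ : G → ℂ) (x⁻¹ * g)⁻¹ := by
          rw [Finset.mul_sum]; exact Finset.sum_congr rfl fun x _ => by ring
      _ = _ := by
          rw [h']
          have := irr_one_ne_zero ψ
          have := CfsgLib.Char.card_ne_zero (G := G)
          field_simp
  · intro φ _ hφ
    have h := gen_orth ψ φ g⁻¹
    rw [if_neg hφ.symm] at h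
    have h' : ∑ x, (ψ : G → ℂ) x⁻¹ * (φ : G → ℂ) (x⁻¹ * g)⁻¹ = 0 := by
      rw [← h]
      refine Fintype.sum_equiv (Equiv.inv G) _ _ fun x => ?_
      simp [mul_inv_rev, irr_mul_comm φ x g⁻¹]
    calc _ = (Nat.card G : ℂ)⁻¹ * (Nat.card G : ℂ)⁻¹ * F ψ * F' φ * (φ : G → ℂ) 1 * (ψ : G → ℂ) 1 *
          ∑ x, (ψ : G → ℂ) x⁻¹ * (φ : G → ℂ) (x⁻¹ * g)⁻¹ := by
          rw [Finset.mul_sum]; exact Finset.sum_congr rfl fun x _ => by ring
      _ = 0 := by rw [h', mul_zero]
  · simp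

/-! ### Blocks -/

omit [Fintype G] in
theorem SameBlock_refl (hM : IsPModular p M) (χ : G → ℂ) : SameBlock M χ χ :=
  fun _ => by simpa using LI.zero hM

omit [Fintype G] in
theorem SameBlock_symm {χ ψ : G → ℂ} (h : SameBlock M χ ψ) : SameBlock M ψ χ :=
  fun g => LI.sub_comm (h g)

omit [Fintype G] in
theorem SameBlock_trans (hM : IsPModular p M) {χ ψ φ : G → ℂ} (h : SameBlock M χ ψ)
    (h' : SameBlock M ψ φ) : SameBlock M χ φ :=
  fun g => LI.trans hM (h g) (h' g)

omit [Fintype G] in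
theorem mem_blockOf {χ : G → ℂ} {ψ : IrrCharacter G} :
    ψ ∈ blockOf M χ ↔ SameBlock M χ (ψ : G → ℂ) := Iff.rfl

omit [Fintype G] in
theorem blockOf_eq_of_sameBlock (hM : IsPModular p M) {χ ψ : G → ℂ} (h : SameBlock M χ ψ) :
    (blockOf M χ : Set (IrrCharacter G)) = blockOf M ψ :=
  Set.ext fun _ => ⟨SameBlock_trans hM (SameBlock_symm h), SameBlock_trans hM h⟩

omit [Fintype G] in
theorem isPBlock_blockOf (χ : IrrCharacter G) : IsPBlock M (blockOf M (χ : G → ℂ)) := ⟨χ, rfl⟩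

omit [Fintype G] in
theorem IsPBlock.eq_blockOf (hM : IsPModular p M) {B : Set (IrrCharacter G)} (hB : IsPBlock M B)
    {χ : IrrCharacter G} (hχ : χ ∈ B) : B = blockOf M (χ : G → ℂ) := by
  obtain ⟨χ₀, rfl⟩ := hB
  exact blockOf_eq_of_sameBlock hM hχ

omit [Fintype G] in
theorem IsPBlock.sameBlock (hM : IsPModular p M) {B : Set (IrrCharacter G)} (hB : IsPBlock M B)
    {χ ψ : IrrCharacter G} (hχ : χ ∈ B) (hψ : ψ ∈ B) : SameBlock M (χ : G → ℂ) (ψ : G → ℂ) := by
  rw [IsPBlock.eq_blockOf hM hB hχ] at hψ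
  exact hψ

omit [Fintype G] in
theorem IsPBlock.mem_iff (hM : IsPModular p M) {B : Set (IrrCharacter G)} (hB : IsPBlock M B)
    {χ ψ : IrrCharacter G} (hχ : χ ∈ B) : ψ ∈ B ↔ SameBlock M (χ : G → ℂ) (ψ : G → ℂ) := by
  rw [IsPBlock.eq_blockOf hM hB hχ]
  exact Iff.rfl

omit [Fintype G] in
theorem IsPBlock.nonempty (hM : IsPModular p M) {B : Set (IrrCharacter G)} (hB : IsPBlock M B) :
    B.Nonempty := by
  obtain ⟨χ₀, rfl⟩ := hB
  exact ⟨χ₀, SameBlock_refl hM _⟩

omit [Fintype G] in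
theorem IsPBlock.eq_of_mem (hM : IsPModular p M) {B B' : Set (IrrCharacter G)} (hB : IsPBlock M B)
    (hB' : IsPBlock M B') {χ : IrrCharacter G} (hχ : χ ∈ B) (hχ' : χ ∈ B') : B = B' :=
  (IsPBlock.eq_blockOf hM hB hχ).trans (IsPBlock.eq_blockOf hM hB' hχ').symm

theorem isPBlock_principalBlock : IsPBlock M (principalBlock M G) := ⟨trivChar G, rfl⟩

theorem trivChar_mem_principalBlock (hM : IsPModular p M) : trivChar G ∈ principalBlock M G :=
  SameBlock_refl hM _

end CfsgLib.Blocks
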