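import Cfsg.Agent.Lib.CharDeep.DetExt
import Cfsg.Agent.Lib.Char.Quotient
import Cfsg.Agent.Lib.Blocks.Basic

/-!
# Invariant extensions over a coprime normal subgroup, and their extensions along one element
-/

set_option autoImplicit false
set_option linter.unusedSectionVars false

namespace CfsgLib.Blocks.RegIdemExt

open Cfsg CfsgLib CfsgLib.CharDeep
open Module (End finrank)

theorem irr_comp_surjective {A B : Type*} [Group A] [Group B] {W : Type*} [AddCommGroup W]
    [Module ℂ W] (ρ : Representation ℂ B W) [ρ.IsIrreducible] (f : A →* B)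
    (hf : Function.Surjective f) :
    Representation.IsIrreducible (ρ.comp f : Representation ℂ A W) := by
  have := IrrTools.apply_ne_zero_of_isIrreducible ρ
  exact IrrTools.isIrreducible_of_forall (ρ.comp f : Representation ℂ A W) fun U hU =>
    IrrTools.eq_bot_or_top_of_invariant ρ U fun b u hu => by
      obtain ⟨a, rfl⟩ := hf b
      exact hU a u hu

theorem detHom_eq_of_character_eq {A : Type*} [Group A] [Finite A] {W : Type*} [AddCommGroup W]
    [Module ℂ W] [FiniteDimensional ℂ W] (ρ σ : Representation ℂ A W) [ρ.IsIrreducible]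
    (h : σ.character = ρ.character) : DetExt.detHom σ = DetExt.detHom ρ := by
  obtain ⟨φ⟩ := IrrTools.nonempty_equiv_of_character_eq ρ σ h
  refine MonoidHom.ext fun a => Units.ext ?_
  rw [DetExt.coe_detHom, DetExt.coe_detHom, ← LinearMap.det_conj (ρ a) φ.toLinearEquiv]
  congr 1
  refine LinearMap.ext fun v => ?_
  have h1 := LinearMap.congr_fun (φ.toIntertwiningMap.isIntertwining' a) (φ.toLinearEquiv.symm v)
  simp only [LinearMap.coe_comp, LinearEquiv.coe_coe, Function.comp_apply] at h1 ⊢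
  refine Eq.trans ?_ h1.symm
  show _ = σ a (φ.toLinearEquiv (φ.toLinearEquiv.symm v))
  rw [LinearEquiv.apply_symm_apply]

theorem detHom_comp {A B : Type*} [Group A] [Group B] {W : Type*} [AddCommGroup W] [Module ℂ W]
    (ρ : Representation ℂ B W) (f : A →* B) (a : A) :
    DetExt.detHom (ρ.comp f : Representation ℂ A W) a = DetExt.detHom ρ (f a) :=
  Units.ext rfl

variable {G : Type*} [Group G] [Fintype G]

/-- An invariant irreducible character extends invariantly to a coprime overgroup. -/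
theorem exists_invariant_extension {N K : Subgroup G} [hN : N.Normal] [hK : K.Normal]
    (hNK : N ≤ K) (hcop : (N.relIndex K).Coprime (Nat.card N))
    {θ : N → ℂ} (hθ : IsIrrCharacter N θ)
    (hinv : ∀ (g : G) (n : N), θ ⟨g * n * g⁻¹, hN.conj_mem n n.2 g⟩ = θ n) :
    ∃ Θ : K → ℂ, IsIrrCharacter K Θ ∧ (∀ n : N, Θ ⟨n, hNK n.2⟩ = θ n) ∧
      ∀ (g : G) (k : K), Θ ⟨g * k * g⁻¹, hK.conj_mem k k.2 g⟩ = Θ k := by
  classical
  obtain ⟨d, ρ, hρ, rfl⟩ := hθ
  have := hρ
  let N' : Subgroup K := N.subgroupOf K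
  let e : N' ≃* N := Subgroup.subgroupOfEquivOfLe hNK
  let ρ' : Representation ℂ N' (Fin d → ℂ) := ρ.comp e.toMonoidHom
  have : ρ'.IsIrreducible := irr_comp_surjective ρ e.toMonoidHom e.surjective
  have hval : ∀ x : N', ρ'.character x = ρ.character (e x) := fun x => rfl
  have hinv' : ProjExt.Invariant ρ' := fun k x => by
    rw [hval, hval]
    exact (congrArg ρ.character (Subtype.ext rfl)).trans (hinv k (e x))
  have hd : N'.index.Coprime (finrank ℂ (Fin d → ℂ)) := by
    have h1 := charDegree_dvd (G := N) ⟨ρ.character, d, ρ, hρ, rfl⟩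
    have h2 : charDegree ρ.character = d := by
      rw [charDegree, Representation.char_one, Module.finrank_fin_fun, Complex.natCast_re,
        Nat.floor_natCast]
    rw [show charDegree ((⟨ρ.character, d, ρ, hρ, rfl⟩ : IrrCharacter N) : N → ℂ) = d from h2] at h1
    rw [Module.finrank_fin_fun]
    exact hcop.coprime_dvd_right h1
  set q := N'.index with hq
  set m := Nat.card N with hm
  have hcK : Nat.card K = m * q := by
    rw [← Subgroup.card_mul_index N', Nat.card_congr e.toEquiv]
  let f : N' →* ℂˣ := DetExt.detHom ρ'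
  have hfm : ∀ x, f x ^ m = 1 := fun x => by
    rw [← map_pow, hm, ← Nat.card_congr e.toEquiv, pow_card_eq_one', map_one]
  have hfinv : ∀ (g : K) (x : N'),
      f ⟨g * x * g⁻¹, (inferInstance : N'.Normal).conj_mem x x.2 g⟩ = f x := by
    intro g x
    have h := detHom_eq_of_character_eq ρ'
      (ρ'.comp (MulAut.conjNormal g : N' ≃* N').toMonoidHom) (funext fun y => hinv' g y)
    have h' := DFunLike.congr_fun h x
    rw [detHom_comp] at h'
    refine Eq.trans ?_ h'
    exact congrArg f (Subtype.ext (by rw [MulEquiv.coe_toMonoidHom, MulAut.conjNormal_apply]))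
  obtain ⟨c, hc1, hc2⟩ : ∃ c : ℕ, c ≡ 1 [MOD m] ∧ c ≡ 0 [MOD q * q] := by
    obtain ⟨c, hc⟩ := Nat.chineseRemainder
      (show m.Coprime (q * q) from (Nat.Coprime.mul_left hcop hcop).symm) 1 0
    exact ⟨c, hc⟩
  obtain ⟨b, hb⟩ := Nat.modEq_zero_iff_dvd.1 hc2
  let T := MonoidHom.transfer f
  have hT : ∀ x : N', T x = f x ^ q := fun x =>
    CentralExt.transfer_eq_pow_index le_rfl f hfinv f (fun n hn => rfl) x
  let μ : K →* ℂˣ := (powMonoidHom (q * b)).comp T
  have hμ : ∀ x : N', μ x = f x := fun x => by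
    show T x ^ (q * b) = _
    rw [hT, ← pow_mul, ← mul_assoc, ← hb]
    conv_rhs => rw [← pow_one (f x)]
    exact pow_eq_pow_iff_modEq.2 (hc1.of_dvd (orderOf_dvd_of_pow_eq_one (hfm x)))
  have hμm : ∀ k, μ k ^ m = 1 := fun k => by
    show (T k ^ (q * b)) ^ m = 1
    rw [← map_pow, ← map_pow, ← pow_mul, show q * b * m = Nat.card K * b by rw [hcK]; ring,
      pow_mul, pow_card_eq_one', one_pow, map_one]
  obtain ⟨σ, hσ, hdet⟩ := DetExt.exists_extension_det ρ' hinv' hd μ hμ
  have := DetExt.isIrreducible_of_extends ρ' σ hσ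
  have hσN : ∀ n : N, σ.character ⟨n, hNK n.2⟩ = ρ.character n := fun n => by
    show LinearMap.trace ℂ _ (σ ((e.symm n : N') : K)) = _
    rw [hσ]
    show ρ.character (e (e.symm n)) = _
    rw [e.apply_symm_apply]
  refine ⟨σ.character, IrrTools.isIrrCharacter_character σ, hσN, fun g k => ?_⟩
  let cg : K ≃* K := MulAut.conjNormal g
  let σg : Representation ℂ K (Fin d → ℂ) := σ.comp cg.toMonoidHom
  have hres : ∀ x : N', σg.character x = ρ'.character x := fun x => by
    show σ.character (cg x) = ρ.character (e x)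
    exact (hσN ⟨g * (e x : G) * g⁻¹, hN.conj_mem _ (e x).2 g⟩).trans (hinv g (e x))
  have hdg : DetExt.detHom σg = DetExt.detHom σ := by
    let δ : K →* ℂˣ := DetExt.detHom σg * (DetExt.detHom σ)⁻¹
    have hN1 : ∀ x : N', δ x = 1 := fun x => by
      have h := detHom_eq_of_character_eq ρ' (σg.comp N'.subtype) (funext hres)
      have h' := DFunLike.congr_fun h x
      show DetExt.detHom σg x * (DetExt.detHom σ x)⁻¹ = 1
      rw [hdet, hμ, mul_inv_eq_one]
      exact h'
    have hδm : ∀ y, δ y ^ m = 1 := fun y => by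
      show (DetExt.detHom σg y * (DetExt.detHom σ y)⁻¹) ^ m = 1
      rw [detHom_comp, hdet, mul_pow, inv_pow, hμm, hμm, inv_one, mul_one]
    refine MonoidHom.ext fun y => mul_inv_eq_one.1 (?_ : δ y = 1)
    exact orderOf_eq_one_iff.1 (Nat.eq_one_of_dvd_coprimes hcop
      (orderOf_dvd_of_pow_eq_one (DetExt.pow_index_eq_one δ hN1 y))
      (orderOf_dvd_of_pow_eq_one (hδm y)))
  exact congrFun (DetExt.character_eq_of_det_eq ρ' hd σ hσ σg hres hdg) k

/-- An invariant irreducible character of `K` extends along one element. -/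
theorem exists_extension_sup_zpowers {K : Subgroup G} [hK : K.Normal] {θ : K → ℂ}
    (hθ : IsIrrCharacter K θ)
    (hinv : ∀ (g : G) (k : K), θ ⟨g * k * g⁻¹, hK.conj_mem k k.2 g⟩ = θ k) (x : G) :
    ∃ Θ : G → ℂ, IsIrrCharacter ↥(K ⊔ Subgroup.zpowers x) (fun l => Θ l) ∧
      ∀ k : K, Θ k = θ k := by
  classical
  obtain ⟨d, ρ, hρ, rfl⟩ := hθ
  have := hρ
  set L := K ⊔ Subgroup.zpowers x with hL
  let K' : Subgroup L := K.subgroupOf L
  let e : K' ≃* K := Subgroup.subgroupOfEquivOfLe le_sup_left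
  let ρ' : Representation ℂ K' (Fin d → ℂ) := ρ.comp e.toMonoidHom
  have : ρ'.IsIrreducible := irr_comp_surjective ρ e.toMonoidHom e.surjective
  have hinv' : ProjExt.Invariant ρ' := fun l y => by
    show ρ.character (e (MulAut.conjNormal l y)) = ρ.character (e y)
    exact (congrArg ρ.character (Subtype.ext rfl)).trans (hinv l (e y))
  obtain ⟨σ, hσ⟩ := ProjExt.exists_extension_of_zpowers ρ' hinv'
    ⟨x, Subgroup.mem_sup_right (Subgroup.mem_zpowers x)⟩ fun l => by
      obtain ⟨k, hk, z, ⟨i, rfl⟩, hkz⟩ := Subgroup.mem_sup_of_normal_left.1 l.2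
      exact ⟨⟨⟨k, Subgroup.mem_sup_left hk⟩, hk⟩, i, Subtype.ext (by simpa using hkz.symm)⟩
  have := DetExt.isIrreducible_of_extends ρ' σ hσ
  refine ⟨fun g => if h : g ∈ L then σ.character ⟨g, h⟩ else 0, ?_, fun k => ?_⟩
  · have h1 : (fun l : L => if h : (l : G) ∈ L then σ.character ⟨l, h⟩ else 0) = σ.character :=
      funext fun l => dif_pos l.2
    rw [h1]
    exact IrrTools.isIrrCharacter_character σ
  · simp only [dif_pos (show (k : G) ∈ L from Subgroup.mem_sup_left k.2)]
    show LinearMap.trace ℂ _ (σ ((e.symm k : K') : L)) = _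
    rw [hσ]
    show ρ.character (e (e.symm k)) = _
    rw [e.apply_symm_apply]

end CfsgLib.Blocks.RegIdemExt
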