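import Cfsg.Agent.Lib.Blocks.Idempotent
import Cfsg.Agent.Lib.Blocks.Defect
import Cfsg.Agent.Lib.CharDeep.Clifford

/-!
# Normal subgroups: central characters at invariant functions, covering of the principal block
-/

set_option autoImplicit false

namespace CfsgLib.Blocks

open Cfsg CfsgLib.CharDeep.Clifford
open scoped Classical ComplexConjugate

variable {G : Type*} [Group G] [Fintype G] {p : ℕ} {M : Ideal AlgInt}
  {N : Subgroup G} [N.Normal] [Fintype N]

/-- A conjugation-invariant function on `N` has the same `omega` at `χ` and at its constituents. -/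
theorem omega_eq_of_over {χ : IrrCharacter G} {θ : IrrCharacter N}
    (h : classInner (fun n : N => (χ : G → ℂ) n) (θ : N → ℂ) ≠ 0) {f : N → ℂ}
    (hf : ∀ (g : G) (n : N), f (MulAut.conjNormal g n) = f n) :
    (∑ n : N, f n * (χ : G → ℂ) n) / (χ : G → ℂ) 1 = omega (θ : N → ℂ) f := by
  set c : IrrCharacter N → ℂ := fun ψ => classInner (fun n : N => (χ : G → ℂ) n) (ψ : N → ℂ)
  have hexp : ∀ n : N, (χ : G → ℂ) n = ∑ ψ : IrrCharacter N, c ψ * (ψ : N → ℂ) n := by
    intro n
    have := congrFun (CfsgLib.Char.IsClassFunction.eq_sum_irr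
      (CfsgLib.Char.IsCharacter.isClassFunction
        (CfsgLib.Char.IsCharacter.restrict (CfsgLib.Char.isCharacter_irr χ) N))) n
    simpa [c] using this
  have hconst : ∀ ψ : IrrCharacter N,
      c ψ * ∑ n : N, f n * (ψ : N → ℂ) n = c ψ * ((ψ : N → ℂ) 1 * omega (θ : N → ℂ) f) := by
    intro ψ
    by_cases hc : c ψ = 0
    · rw [hc, zero_mul, zero_mul]
    congr 1
    obtain ⟨g, hg⟩ := exists_conj_of_constituent N χ.2 θ.2 ψ.2 h hc
    have h1 : (ψ : N → ℂ) 1 = (θ : N → ℂ) 1 := by
      rw [hg]; simp [conjFun]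
    rw [omega, h1, mul_div_cancel₀ _ (irr_one_ne_zero θ)]
    refine Fintype.sum_equiv (MulAut.conjNormal g : MulAut N).toEquiv _ _ fun n => ?_
    rw [hg]
    simp only [conjFun, Function.comp_apply, MulEquiv.toEquiv_eq_coe, EquivLike.coe_coe, hf]
  simp only [hexp, Finset.mul_sum]
  rw [Finset.sum_comm]
  have e : ∀ ψ : IrrCharacter N, ∑ n : N, f n * (c ψ * (ψ : N → ℂ) n)
      = c ψ * ((ψ : N → ℂ) 1 * omega (θ : N → ℂ) f) := fun ψ => by
    rw [← hconst, Finset.mul_sum]; exact Finset.sum_congr rfl fun n _ => by ring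
  rw [Finset.sum_congr rfl fun ψ _ => e ψ]
  simp only [← mul_assoc, ← Finset.sum_mul]
  rw [show (χ : G → ℂ) 1 = ∑ ψ : IrrCharacter N, c ψ * (ψ : N → ℂ) 1 from hexp 1,
    mul_div_assoc, mul_div_cancel₀]
  rw [← hexp 1]
  exact irr_one_ne_zero χ

omit [N.Normal] in
/-- Extending a function on `N` by zero. -/
theorem omega_extend (χ : IrrCharacter G) (f : N → ℂ) :
    omega (χ : G → ℂ) (fun x => if hx : x ∈ N then f ⟨x, hx⟩ else 0)
      = (∑ n : N, f n * (χ : G → ℂ) n) / (χ : G → ℂ) 1 := by
  rw [omega]
  congr 1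
  rw [← Finset.sum_filter_add_sum_filter_not Finset.univ (fun x : G => x ∈ N),
    Finset.sum_eq_zero (s := Finset.univ.filter fun x : G => ¬ x ∈ N) (fun x hx => by
      rw [dif_neg (Finset.mem_filter.1 hx).2, zero_mul]), add_zero,
    Finset.sum_subtype _ (p := fun x : G => x ∈ N) (fun x => by simp)]
  exact Finset.sum_congr rfl fun n _ => by rw [dif_pos n.2]

theorem centralChar_conjFun (g : G) (φ : N → ℂ) (n : N) :
    centralChar (conjFun N g φ) n = centralChar φ (MulAut.conjNormal g n) := by
  have hi : (Subgroup.centralizer ({MulAut.conjNormal g n} : Set N)).index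
      = (Subgroup.centralizer ({n} : Set N)).index := by
    rw [← CfsgLib.Char.card_isConj_eq_index, ← CfsgLib.Char.card_isConj_eq_index]
    refine (Nat.card_congr (Equiv.subtypeEquiv (MulAut.conjNormal g : MulAut N).toEquiv
      fun x => ?_)).symm
    simp only [MulEquiv.toEquiv_eq_coe, EquivLike.coe_coe]
    constructor
    · exact fun h => (MulAut.conjNormal g : MulAut N).toMonoidHom.map_isConj h
    · intro h
      have := (MulAut.conjNormal g : MulAut N).symm.toMonoidHom.map_isConj h
      simpa [MulEquiv.symm_apply_apply] using this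
  simp only [Cfsg.centralChar, hi, conjFun, Function.comp_apply, map_one]

omit [Fintype G] in
/-- The central idempotent of the principal block of `N` is invariant under `G`. -/
theorem blockCoeff_principalBlock_conj [Finite G] (hM : IsPModular p M) (g : G) (n : N) :
    blockCoeff (principalBlock M N) (MulAut.conjNormal g n)
      = blockCoeff (principalBlock M N) n := by
  classical
  letI : Fintype G := Fintype.ofFinite G
  have hmem : ∀ (g : G) (ψ : IrrCharacter N), ψ ∈ principalBlock M N →
      (⟨conjFun N g ψ, isIrrCharacter_conjFun N g ψ.2⟩ : IrrCharacter N) ∈ principalBlock M N := by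
    intro g ψ h
    rw [principalBlock, mem_blockOf] at h ⊢
    intro m
    have h1 := h (MulAut.conjNormal g m)
    rw [← centralChar_conjFun g (ψ : N → ℂ), ← centralChar_conjFun g (fun _ : N => (1 : ℂ))] at h1
    exact h1
  have hcomp : ∀ (g g' : G), g * g' = 1 → ∀ (φ : N → ℂ) (m : N),
      φ (MulAut.conjNormal g (MulAut.conjNormal g' m)) = φ m := fun g g' h φ m => by
    rw [← MulAut.mul_apply, ← map_mul, h, map_one, MulAut.one_apply]
  let e : IrrCharacter N ≃ IrrCharacter N :=
    { toFun := fun ψ => ⟨conjFun N g ψ, isIrrCharacter_conjFun N g ψ.2⟩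
      invFun := fun ψ => ⟨conjFun N g⁻¹ ψ, isIrrCharacter_conjFun N g⁻¹ ψ.2⟩
      left_inv := fun ψ => Subtype.ext (funext fun m => hcomp g g⁻¹ (mul_inv_cancel g) ψ m)
      right_inv := fun ψ => Subtype.ext (funext fun m => hcomp g⁻¹ g (inv_mul_cancel g) ψ m) }
  simp only [blockCoeff_eq_fourierInv, fourierInv]
  congr 1
  refine Fintype.sum_equiv e _ _ fun ψ => ?_
  have hiff : ψ ∈ principalBlock M N ↔ e ψ ∈ principalBlock M N := by
    refine ⟨hmem g ψ, fun h => ?_⟩
    have h2 := hmem g⁻¹ (e ψ) h
    exact (e.left_inv ψ) ▸ h2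
  have h1 : blockInd (principalBlock M N) (e ψ) = blockInd (principalBlock M N) ψ := by
    by_cases h : ψ ∈ principalBlock M N
    · rw [blockInd_of_mem h, blockInd_of_mem (hiff.1 h)]
    · rw [blockInd_of_notMem h, blockInd_of_notMem fun h' => h (hiff.2 h')]
  rw [h1]
  simp [e, conjFun]

/-- The principal block covers only the principal block. -/
theorem mem_principalBlock_of_over (hM : IsPModular p M) {χ : IrrCharacter G}
    {θ : IrrCharacter N} (h : classInner (fun n : N => (χ : G → ℂ) n) (θ : N → ℂ) ≠ 0)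
    (hχ : χ ∈ principalBlock M G) : θ ∈ principalBlock M N := by
  have hN : IsPBlock M (principalBlock M N) := isPBlock_principalBlock
  set a := blockCoeff (principalBlock M N)
  have hcl : IsClassFunction G fun x => if hx : x ∈ N then a ⟨x, hx⟩ else 0 := by
    intro x y
    simp only []
    by_cases hx : x ∈ N
    · rw [dif_pos hx, dif_pos (Subgroup.Normal.conj_mem inferInstance x hx y)]
      exact (congrArg a (Subtype.ext (MulAut.conjNormal_apply y ⟨x, hx⟩).symm)).trans
        (blockCoeff_principalBlock_conj hM y ⟨x, hx⟩)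
    · rw [dif_neg hx, dif_neg fun h' => hx (by
        simpa [mul_assoc] using Subgroup.Normal.conj_mem inferInstance _ h' y⁻¹)]
  have h1 := omega_congr hM (IsPBlock.sameBlock hM isPBlock_principalBlock hχ
    (trivChar_mem_principalBlock hM)) hcl fun x => by
      split
      · exact blockCoeff_LR hM hN _
      · exact LR.zero hM
  rw [omega_extend, omega_extend,
    omega_eq_of_over h (fun g n => blockCoeff_principalBlock_conj hM g n)] at h1
  have h2 : (∑ n : N, a n * (trivChar G : G → ℂ) n) / (trivChar G : G → ℂ) 1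
      = omega (trivChar N : N → ℂ) a := by
    rw [omega]; simp
  rw [h2, omega_blockCoeff, omega_blockCoeff,
    blockInd_of_mem (trivChar_mem_principalBlock hM)] at h1
  by_contra hne
  rw [blockInd_of_notMem hne, zero_sub] at h1
  exact LI.not_one hM (by simpa using LI.neg h1)

end CfsgLib.Blocks
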