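import Cfsg.Agent.Lib.Blocks.AlperinDade
import Cfsg.Agent.Lib.Blocks.Height
import Cfsg.Agent.Lib.Blocks.Defect2
import Cfsg.Agent.Lib.Blocks.RegularSum
import Cfsg.Agent.Lib.Blocks.Parts

/-!
# Extensions of characters of the principal block

If `G = N C_G(P)` for a Sylow `p`-subgroup `P` of the normal subgroup `N` and a member of the
principal block of `N` extends to `G`, then a linear twist of the extension stays in the principal
block of every subgroup containing `N`.  The twist is read off from the sums over the `p`-regular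
elements of the cosets of `N`.
-/

set_option autoImplicit false
set_option maxHeartbeats 1000000

universe u

namespace CfsgLib.Blocks.ExtensionPrincipal

open Cfsg CfsgLib CfsgLib.Blocks CfsgLib.BrauerPairs
open scoped Classical ComplexConjugate

variable {G : Type u} [Group G] [Fintype G] {p : ℕ} [Fact p.Prime] {M : Ideal AlgInt}

/-- The sum of `f` over the `p`-regular elements of the coset `x N`. -/
noncomputable def cosetReg (p : ℕ) (N : Subgroup G) (f : G → ℂ) (x : G) : ℂ :=
  ∑ n : N, if IsPRegular p (x * (n : G)) then f (x * n) else 0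

omit [Fact p.Prime] in
theorem cosetReg_mul_mem (N : Subgroup G) (f : G → ℂ) (x : G) (n₀ : N) :
    cosetReg p N f (x * n₀) = cosetReg p N f x := by
  unfold cosetReg
  exact Fintype.sum_equiv (Equiv.mulLeft n₀) _ _ fun n => by
    simp only [Equiv.coe_mulLeft, Subgroup.coe_mul, mul_assoc]
    congr

omit [Fact p.Prime] in
theorem cosetReg_eq_of_mem (N : Subgroup G) (f : G → ℂ) {x y : G} (h : x⁻¹ * y ∈ N) :
    cosetReg p N f y = cosetReg p N f x := by
  conv_lhs => rw [show y = x * ((⟨_, h⟩ : N) : G) by simp]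
  exact cosetReg_mul_mem N f x _

omit [Fact p.Prime] in
theorem cosetReg_isClassFunction (N : Subgroup G) [N.Normal] {f : G → ℂ}
    (hf : IsClassFunction G f) : IsClassFunction G (cosetReg p N f) := by
  intro x y
  unfold cosetReg
  refine (Fintype.sum_equiv (MulAut.conjNormal y).toEquiv _ _ fun n => ?_).symm
  have e : y * x * y⁻¹ * ((MulAut.conjNormal y n : N) : G) = y * (x * n) * y⁻¹ := by
    rw [MulAut.conjNormal_apply]; group
  have ho : orderOf (y * (x * (n : G)) * y⁻¹) = orderOf (x * (n : G)) :=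
    (MulAut.conj y).orderOf_eq _
  show (if IsPRegular p (x * (n : G)) then f (x * n) else 0)
    = if IsPRegular p (y * x * y⁻¹ * ((MulAut.conjNormal y n : N) : G)) then
        f (y * x * y⁻¹ * ((MulAut.conjNormal y n : N) : G)) else 0
  rw [e, hf]
  exact if_congr (by rw [IsPRegular, IsPRegular, ho]) rfl rfl

omit [Fact p.Prime] in
theorem sum_cosetReg (N : Subgroup G) (f : G → ℂ) :
    ∑ x, cosetReg p N f x = (Nat.card N : ℂ) * ∑ x : G with IsPRegular p x, f x := by
  unfold cosetReg
  rw [Finset.sum_comm]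
  rw [Finset.sum_congr rfl fun (n : N) _ => (Fintype.sum_equiv (Equiv.mulRight (n : G))
    (fun x => if IsPRegular p (x * (n : G)) then f (x * n) else 0)
    (fun x => if IsPRegular p x then f x else 0) fun x => rfl)]
  rw [Finset.sum_const, Finset.card_univ, nsmul_eq_mul, ← Finset.sum_filter,
    Nat.card_eq_fintype_card]

theorem regInner_triv (χ : IrrCharacter G) :
    regInner p (χ : G → ℂ) (trivChar G : G → ℂ)
      = (pPartCard p G : ℂ) * (Nat.card G : ℂ)⁻¹ * ∑ x : G with IsPRegular p x, (χ : G → ℂ) x := by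
  rw [regInner]
  congr 1
  exact Finset.sum_congr rfl fun x _ => by simp

/-- The regular sum of a member of the principal block does not vanish. -/
theorem sum_regular_ne_zero (hM : IsPModular p M) {θ : IrrCharacter G}
    (hθ : θ ∈ principalBlock M G) : ∑ x : G with IsPRegular p x, (θ : G → ℂ) x ≠ 0 := by
  intro h
  have h0 : degVal p (trivChar G) = minDegVal p (principalBlock M G) := by
    rw [minDegVal_principalBlock hM, degVal,
      show charDegree (trivChar G : G → ℂ) = 1 by simp [charDegree], Nat.factorization_one]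
    rfl
  refine regInt_ne_zero_of_min hM (isPBlock_principalBlock) (trivChar_mem_principalBlock hM) h0 hθ
    (Int.cast_injective (α := ℂ) ?_)
  rw [cast_regInt hM.1, regInner_comm, regInner_triv, h, mul_zero, Int.cast_zero]

theorem mem_principal_of_sum_ne (hM : IsPModular p M) {χ : IrrCharacter G}
    (h : ∑ x : G with IsPRegular p x, (χ : G → ℂ) x ≠ 0) : χ ∈ principalBlock M G := by
  by_contra hne
  refine h ?_
  have h2 := IsPBlock.regInner_eq_zero hM isPBlock_principalBlock
    (trivChar_mem_principalBlock hM) hne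
  rw [regInner_comm, regInner_triv, mul_eq_zero, mul_eq_zero] at h2
  refine h2.resolve_left (not_or.2 ⟨pPartCard_ne_zero hM.1, inv_ne_zero Char.card_ne_zero⟩)

/-- In the Alperin–Dade situation the coset sums of a principal character are constant. -/
theorem cosetReg_const (hM : IsPModular p M) {N : Subgroup G} [N.Normal]
    (hgood : AlperinDade.Good p N) {f : IrrCharacter G} (hf : f ∈ principalBlock M G) (x : G) :
    cosetReg p N (f : G → ℂ) x = cosetReg p N (f : G → ℂ) 1 := by
  set A := cosetReg p N (f : G → ℂ)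
  have hA : IsClassFunction G A :=
    cosetReg_isClassFunction N (Char.IsIrrCharacter.isClassFunction f.2)
  have hzero : ∀ η : IrrCharacter G, η ≠ trivChar G → classInner A (η : G → ℂ) = 0 := by
    intro η hη
    rw [Cfsg.classInner]
    refine mul_eq_zero_of_right _ ?_
    simp only [A, cosetReg, Finset.sum_mul]
    rw [Finset.sum_comm]
    rw [Finset.sum_congr rfl fun (n : N) _ => (Fintype.sum_equiv (Equiv.mulRight (n : G))
      (fun x => (if IsPRegular p (x * (n : G)) then (f : G → ℂ) (x * n) else 0)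
        * conj ((η : G → ℂ) x))
      (fun k => (if IsPRegular p k then (f : G → ℂ) k else 0)
        * conj ((η : G → ℂ) (k * (n : G)⁻¹))) fun x => by
          simp only [Equiv.coe_mulRight, mul_inv_cancel_right]; congr)]
    rw [Finset.sum_comm]
    simp only [← Finset.mul_sum, ← map_sum]
    have hn : ∀ k, (η : G → ℂ) 1 * ∑ n : N, (η : G → ℂ) (k * (n : G)⁻¹)
        = (η : G → ℂ) k * ∑ n : N, (η : G → ℂ) n := fun k => by
      rw [← AlperinDade.sum_coset N η k]
      congr 1
      exact Fintype.sum_equiv (Equiv.inv N) _ _ fun n => rfl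
    by_cases htr : ∀ n ∈ N, (η : G → ℂ) n = (η : G → ℂ) 1
    · have hnot : η ∉ principalBlock M G := fun h => hη (AlperinDade.eq_triv_of_mem hM hgood htr h)
      have h2 := IsPBlock.regInner_eq_zero hM isPBlock_principalBlock hf hnot
      rw [regInner, mul_eq_zero, mul_eq_zero] at h2
      have h3 := h2.resolve_left (not_or.2 ⟨pPartCard_ne_zero hM.1, inv_ne_zero Char.card_ne_zero⟩)
      rw [Finset.sum_filter] at h3
      have h4 : ∀ k, ∑ n : N, (η : G → ℂ) (k * (n : G)⁻¹) = (Nat.card N : ℂ) * (η : G → ℂ) k :=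
        fun k => mul_left_cancel₀ (irr_one_ne_zero η) (by
          rw [hn, AlperinDade.sum_normal, if_pos htr]; ring)
      simp only [h4, map_mul, Complex.conj_natCast, conj_irr]
      refine Eq.trans ?_ (mul_eq_zero_of_right (Nat.card N : ℂ) h3)
      rw [Finset.mul_sum]
      refine Finset.sum_congr rfl fun k _ => ?_
      split_ifs <;> ring
    · refine Finset.sum_eq_zero fun k _ => ?_
      have h4 : ∑ n : N, (η : G → ℂ) (k * (n : G)⁻¹) = 0 := by
        have := hn k
        rw [AlperinDade.sum_normal, if_neg htr, mul_zero, mul_eq_zero] at this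
        exact this.resolve_left (irr_one_ne_zero η)
      rw [h4, map_zero, mul_zero]
  set c := classInner A (trivChar G : G → ℂ) with hc
  have hexp : ∀ y, A y = c := fun y => by
    refine congrFun (Char.IsClassFunction.ext_classInner (θ := A) (ψ := fun _ => c) hA
      (fun _ _ => rfl) fun χ hχ => ?_) y
    have hsmul : classInner (fun _ : G => c) χ = c * classInner (fun _ : G => (1 : ℂ)) χ := by
      simp only [Cfsg.classInner, Finset.mul_sum]
      exact Finset.sum_congr rfl fun g _ => by ring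
    rw [hsmul]
    by_cases h : (⟨χ, hχ⟩ : IrrCharacter G) = trivChar G
    · rw [show χ = (trivChar G : G → ℂ) from congrArg Subtype.val h, ← hc]
      show c = c * classInner (trivChar G : G → ℂ) (trivChar G : G → ℂ)
      rw [Char.classInner_irr_self (trivChar G).2, mul_one]
    · rw [show classInner A χ = 0 from hzero ⟨χ, hχ⟩ h,
        Char.classInner_irr_ne Char.isIrrCharacter_one hχ (fun e => h (Subtype.ext e.symm)),
        mul_zero]
  rw [hexp x, hexp 1]

theorem pow_mul_of_elementary {q : ℕ} (hq : q.Prime) {E : Type*} [Group E] [Finite E]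
    (hE : IsElementary q E) {e : ℕ} (he0 : ∀ g : E, (∃ j : ℕ, orderOf g = p ^ j) → g ^ e = 1)
    (he1 : ∀ g : E, ¬ p ∣ orderOf g → g ^ e = g) (a b : E) : (a * b) ^ e = a ^ e * b ^ e := by
  obtain ⟨x, hx, hco, k, hk⟩ := hE
  haveI : Fact q.Prime := ⟨hq⟩
  obtain ⟨Q⟩ : Nonempty (Sylow q E) := inferInstance
  haveI : (Subgroup.zpowers x).Normal := ⟨fun a ha y => by
    have hac : a ∈ Subgroup.center E := Subgroup.zpowers_le.2 hx ha
    rw [Subgroup.mem_center_iff.1 hac y, mul_inv_cancel_right]
    exact ha⟩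
  have hsup : Subgroup.zpowers x ⊔ (Q : Subgroup E) = ⊤ := by
    refine Subgroup.index_eq_one.1 ?_
    have h1 : (Subgroup.zpowers x ⊔ (Q : Subgroup E)).index ∣ q ^ k :=
      hk ▸ Subgroup.index_dvd_of_le le_sup_left
    obtain ⟨i, -, hi⟩ := (Nat.dvd_prime_pow hq).1 h1
    rcases i with _ | i
    · simpa using hi
    · exact absurd ((dvd_pow_self q (Nat.succ_ne_zero i)).trans
        (hi ▸ Subgroup.index_dvd_of_le (le_sup_right (a := Subgroup.zpowers x))))
        Q.not_dvd_index
  have hdec : ∀ g : E, ∃ z ∈ Subgroup.center E, ∃ r ∈ (Q : Subgroup E), g = z * r := fun g => by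
    obtain ⟨z, hz, r, hr, h⟩ := Subgroup.mem_sup_of_normal_left.1
      (hsup ▸ Subgroup.mem_top g : g ∈ Subgroup.zpowers x ⊔ (Q : Subgroup E))
    exact ⟨z, Subgroup.zpowers_le.2 hx hz, r, hr, h.symm⟩
  have hQ : ∀ r ∈ (Q : Subgroup E), r ^ e = if q = p then 1 else r := fun r hr => by
    obtain ⟨j, hj⟩ := (IsPGroup.iff_orderOf.1 Q.isPGroup') ⟨r, hr⟩
    rw [Subgroup.orderOf_mk] at hj
    split_ifs with h
    · exact he0 r ⟨j, h ▸ hj⟩
    · refine he1 r fun hd => h ?_
      rw [hj] at hd
      exact ((Nat.prime_dvd_prime_iff_eq Fact.out hq).1 ((Fact.out : p.Prime).dvd_of_dvd_pow hd)).symm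
  have hc : ∀ z ∈ Subgroup.center E, ∀ y : E, Commute z y := fun z hz y =>
    (Subgroup.mem_center_iff.1 hz y).symm
  obtain ⟨z, hz, r, hr, rfl⟩ := hdec a
  obtain ⟨z', hz', r', hr', rfl⟩ := hdec b
  have e1 : z * r * (z' * r') = z * z' * (r * r') := by
    rw [mul_assoc, mul_assoc, ← mul_assoc r z', ← (hc z' hz' r).eq, mul_assoc]
  rw [e1, (hc _ (mul_mem hz hz') _).mul_pow, (hc z hz z').mul_pow, (hc z hz r).mul_pow,
    (hc z' hz' r').mul_pow, hQ r hr, hQ r' hr', hQ _ (mul_mem hr hr')]
  split_ifs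
  · simp
  · rw [mul_assoc, mul_assoc, ← mul_assoc r, ← ((hc z' hz' r).pow_left e).eq, mul_assoc]

/-- The local splitting of an extension on a subgroup of `p'`-index over `N`. -/
theorem exists_local_split (hM : IsPModular p M) {N : Subgroup G} [N.Normal] {P : Subgroup G}
    (hPN : P ≤ N) (hPi : ¬ p ∣ P.relIndex N)
    (hcov : ∀ g : G, ∃ k, g⁻¹ * k ∈ N ∧ k ∈ Subgroup.centralizer (P : Set G))
    {θ : IrrCharacter N} (hθ : θ ∈ principalBlock M N) {ψ : IrrCharacter G}
    (hψ : ∀ n : N, (ψ : G → ℂ) n = (θ : N → ℂ) n) {H : Subgroup G} (hNH : N ≤ H)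
    (hHi : ¬ p ∣ N.relIndex H) :
    ∃ φ : H →* ℂˣ, ∀ h : H, cosetReg p N (ψ : G → ℂ) h
      = (φ h : ℂ) * cosetReg p N (ψ : G → ℂ) 1 := by
  have hgood : AlperinDade.Good p (N.subgroupOf H) := by
    refine ⟨P.subgroupOf H, Subgroup.comap_mono hPN, ?_, fun g => ?_⟩
    · show ¬ p ∣ P.relIndex H
      rw [← Subgroup.relIndex_mul_relIndex P N H hPN hNH]
      exact fun h => ((Fact.out : p.Prime).dvd_mul.1 h).elim hPi hHi
    · obtain ⟨k, hk1, hk2⟩ := hcov g
      have hkH : k ∈ H := by simpa using H.mul_mem g.2 (hNH hk1)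
      refine ⟨⟨k, hkH⟩, hk1, Subgroup.mem_centralizer_iff.2 fun u hu => Subtype.ext ?_⟩
      exact Subgroup.mem_centralizer_iff.1 hk2 u hu
  set θ' := irrEquiv (Subgroup.subgroupOfEquivOfLe hNH) θ with hθ'
  obtain ⟨f, hfB, hf⟩ := AlperinDade.exists_extension hM hgood (θ := θ')
    (AlperinDade.mem_principal_transport _ hθ)
  have hθ'v : ∀ n : N.subgroupOf H, (θ' : N.subgroupOf H → ℂ) n = (ψ : G → ℂ) (n : H) := fun n => by
    rw [hθ', irrEquiv_apply, ← hψ]
    rfl
  set ψH : IrrCharacter H := ⟨fun h => (ψ : G → ℂ) h, AlperinDade.isIrr_restrict ψ.2 hψ H hNH⟩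
  obtain ⟨η, hη, hηψ⟩ := AlperinDade.exists_mul_of_over f.2 hf (χ := ψH)
    (AlperinDade.over_of_extension (f := ψH) (θ := θ') fun n => (hθ'v n).symm)
  have hη1 : (η : H → ℂ) 1 = 1 := by
    have h1 := congrFun hηψ 1
    have h2 := hf 1
    rw [Subgroup.coe_one] at h2
    rw [Pi.mul_apply, h2, hθ'v] at h1
    exact (mul_eq_left₀ (irr_one_ne_zero ψ)).1 h1.symm
  obtain ⟨φ, hφ⟩ := Char.exists_hom_of_apply_one_eq_one (Char.isCharacter_irr η) hη1
  refine ⟨φ, fun h => ?_⟩
  have hre : ∀ (h : H), cosetReg p N (ψ : G → ℂ) h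
      = cosetReg p (N.subgroupOf H) (ψH : H → ℂ) h := fun h => by
    unfold cosetReg
    refine Fintype.sum_equiv (Subgroup.subgroupOfEquivOfLe hNH).symm.toEquiv _ _ fun n => ?_
    refine if_congr ?_ rfl rfl
    rw [IsPRegular, IsPRegular, ← Subgroup.orderOf_coe]
    rfl
  have hfac : ∀ h : H, cosetReg p (N.subgroupOf H) (ψH : H → ℂ) h
      = (φ h : ℂ) * cosetReg p (N.subgroupOf H) (f : H → ℂ) h := fun h => by
    unfold cosetReg
    rw [Finset.mul_sum]
    refine Finset.sum_congr rfl fun n _ => ?_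
    split_ifs
    · have hv : (η : H → ℂ) (h * n) = (η : H → ℂ) h :=
        AlperinDade.apply_coset_of_trivial _ hη (by simpa using n.2)
      rw [hηψ, Pi.mul_apply, hv, hφ, mul_comm]
    · rw [mul_zero]
  rw [hre, show cosetReg p N (ψ : G → ℂ) 1 = cosetReg p N (ψ : G → ℂ) ((1 : H) : G) from rfl, hre,
    hfac, hfac, map_one, Units.val_one, one_mul, cosetReg_const hM hgood hfB]

/-- Some linear twist of an extension lies in the principal block of every intermediate group. -/
theorem exists_extension_all (hM : IsPModular p M) {N : Subgroup G} [N.Normal] {P : Subgroup G}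
    (hPN : P ≤ N) (hPi : ¬ p ∣ P.relIndex N)
    (hcov : ∀ g : G, ∃ k, g⁻¹ * k ∈ N ∧ k ∈ Subgroup.centralizer (P : Set G))
    {θ : IrrCharacter N} (hθ : θ ∈ principalBlock M N) {ψ : IrrCharacter G}
    (hψ : ∀ n : N, (ψ : G → ℂ) n = (θ : N → ℂ) n) :
    ∃ χ : IrrCharacter G, χ ∈ principalBlock M G ∧ (∀ n : N, (χ : G → ℂ) n = (θ : N → ℂ) n) ∧
      ∀ J : Subgroup G, N ≤ J → ∃ ξ : IrrCharacter J, ξ ∈ principalBlock M J ∧
        ∀ y : J, (ξ : J → ℂ) y = (χ : G → ℂ) y := by
  have hp : p.Prime := Fact.out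
  obtain ⟨e, e', -, he0, he1, he2, -⟩ := qPart_exponents (G := G) p
  have hreg : ∀ g : G, IsPRegular p g → g ^ e = g := fun g hg =>
    (he1 g (dvd_ordCompl_of_not_dvd hp hg)).1
  have hregpow : ∀ g : G, ¬ p ∣ orderOf (g ^ e) := fun g h =>
    Nat.not_dvd_ordCompl hp Nat.card_pos.ne' (h.trans (he2 g))
  set A := cosetReg p N (ψ : G → ℂ) with hA
  set a := A 1 with ha
  have ha0 : a ≠ 0 := by
    have h1 : a = ∑ x : N with IsPRegular p x, (θ : N → ℂ) x := by
      rw [ha, hA, cosetReg, Finset.sum_filter]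
      refine Finset.sum_congr rfl fun n _ => ?_
      rw [one_mul, hψ]
      exact if_congr (by rw [IsPRegular, IsPRegular, Subgroup.orderOf_coe]) rfl rfl
    rw [h1]
    exact sum_regular_ne_zero hM hθ
  set lam : G → ℂ := fun g => A (g ^ e) / a with hlam
  have hsub : ∀ R : Subgroup G, ¬ p ∣ Nat.card R → ∃ φ : ↥(N ⊔ R) →* ℂˣ,
      ∀ h : ↥(N ⊔ R), A h = (φ h : ℂ) * a := fun R hR => by
    refine exists_local_split hM hPN hPi hcov hθ hψ le_sup_left fun h => hR ?_
    rw [sup_comm, Subgroup.relIndex_sup_right] at h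
    exact h.trans (Subgroup.relIndex_dvd_card _ _)
  have hunit : ∀ g : G, lam g * conj (lam g) = 1 := fun g => by
    obtain ⟨φ, hφ⟩ := hsub (Subgroup.zpowers (g ^ e)) (by
      rw [Nat.card_zpowers]; exact hregpow g)
    set h : ↥(N ⊔ Subgroup.zpowers (g ^ e)) :=
      ⟨g ^ e, Subgroup.mem_sup_right (Subgroup.mem_zpowers _)⟩
    have hl : lam g = (φ h : ℂ) := by
      rw [hlam]; show A (h : G) / a = _
      rw [hφ h, mul_div_cancel_right₀ _ ha0]
    have hn : ‖(φ h : ℂ)‖ = 1 := by
      refine Complex.norm_eq_one_of_pow_eq_one ?_ (orderOf_pos h).ne'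
      rw [← Units.val_pow_eq_pow_val, ← map_pow, pow_orderOf_eq_one, map_one, Units.val_one]
    rw [hl, Complex.mul_conj', hn]
    simp
  have hcl : IsClassFunction G lam := fun x y => by
    simp only [hlam]
    rw [conj_pow, hA, cosetReg_isClassFunction (p := p) N (Char.IsIrrCharacter.isClassFunction ψ.2)]
  have hgen : IsGeneralizedCharacter G lam := by
    refine CharDeep.Brauer.isGeneralizedCharacter_of_elementary hcl fun q hq E hE => ?_
    have hmul : ∀ a b : E, (a * b) ^ e = a ^ e * b ^ e := by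
      refine pow_mul_of_elementary (p := p) hq hE (fun g hg => ?_) fun g hg => ?_
      · obtain ⟨j, hj⟩ := hg
        refine Subtype.ext ?_
        rw [Subgroup.coe_pow, Subgroup.coe_one]
        refine (he0 _ ?_).1
        exact dvd_ordProj_of_pow hp (g := (g : G)) (by rw [Subgroup.orderOf_coe, hj])
      · refine Subtype.ext ?_
        rw [Subgroup.coe_pow]
        exact hreg _ (by rw [IsPRegular, Subgroup.orderOf_coe]; exact hg)
    let π : E →* G := (E.subtype).comp
      { toFun := fun g => g ^ e, map_one' := one_pow e, map_mul' := hmul }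
    have hR : ¬ p ∣ Nat.card π.range := fun hd => by
      obtain ⟨⟨z, hz⟩, hzo⟩ := exists_prime_orderOf_dvd_card' p hd
      obtain ⟨g, rfl⟩ := hz
      refine hregpow (g : G) ?_
      rw [show (g : G) ^ e = π g from rfl, ← hzo]
      exact dvd_of_eq (Subgroup.orderOf_coe _).symm
    obtain ⟨φ, hφ⟩ := hsub π.range hR
    let ι : E →* ↥(N ⊔ π.range) :=
      (Subgroup.inclusion (le_sup_right (a := N) (b := π.range))).comp π.rangeRestrict
    have hc : (fun x : E => lam x) = fun x : E => ((φ.comp ι) x : ℂ) := funext fun x => by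
      simp only [hlam]
      show A ((ι x : ↥(N ⊔ π.range)) : G) / a = _
      rw [hφ, mul_div_cancel_right₀ _ ha0]
      rfl
    rw [hc]
    exact Char.IsCharacter.isGeneralizedCharacter (Char.isCharacter_hom (φ.comp ι))
  have hlam1 : lam 1 = 1 := by
    simp only [hlam, one_pow, ← ha, div_self ha0]
  have hlirr : IsIrrCharacter G lam := by
    refine CharDeep.GenChar.isIrrCharacter_of_norm_one hgen ?_ (by simp [hlam1])
    rw [Cfsg.classInner, Finset.sum_congr rfl fun g _ => hunit g, Finset.sum_const, nsmul_eq_mul,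
      Finset.card_univ, mul_one, ← Nat.card_eq_fintype_card, inv_mul_cancel₀ Char.card_ne_zero]
  have hN : ∀ n : N, lam n = 1 := fun n => by
    simp only [hlam]
    rw [hA, cosetReg_eq_of_mem N _ (x := 1) (by simpa using N.pow_mem n.2 e), ← hA, ← ha,
      div_self ha0]
  set χf : G → ℂ := (ψ : G → ℂ) * fun g => conj (lam g) with hχf
  have hconj : IsCharacter G fun g => conj (lam g) :=
    Char.isCharacter_irr (irrConj ⟨lam, hlirr⟩) |> fun h => by
      convert h using 1
      funext g
      rw [irrConj_apply]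
  have hirr : IsIrrCharacter G χf := by
    refine Char.IsCharacter.isIrrCharacter_of_norm_one
      (Char.IsCharacter.mul (Char.isCharacter_irr ψ) hconj) ?_
    rw [← Char.classInner_irr_self ψ.2, Cfsg.classInner, Cfsg.classInner]
    congr 1
    refine Finset.sum_congr rfl fun g _ => ?_
    simp only [hχf, Pi.mul_apply, map_mul, Complex.conj_conj]
    calc _ = (ψ : G → ℂ) g * conj ((ψ : G → ℂ) g) * (lam g * conj (lam g)) := by ring
      _ = _ := by rw [hunit, mul_one]
  set χ : IrrCharacter G := ⟨χf, hirr⟩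
  have hres : ∀ n : N, (χ : G → ℂ) n = (θ : N → ℂ) n := fun n => by
    show χf n = _
    rw [hχf, Pi.mul_apply, hN, map_one, mul_one, hψ]
  have hcoset : ∀ x : G, cosetReg p N χf x = 0 ∨ cosetReg p N χf x = a := fun x => by
    by_cases hx : ∃ n : N, IsPRegular p (x * (n : G))
    · obtain ⟨n₀, hn₀⟩ := hx
      right
      rw [← cosetReg_mul_mem N χf x n₀]
      set k := x * (n₀ : G)
      have hk : cosetReg p N χf k = conj (lam k) * A k := by
        rw [hA, cosetReg, cosetReg, Finset.mul_sum]
        refine Finset.sum_congr rfl fun n _ => ?_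
        split_ifs with hn
        · have : lam (k * n) = lam k := by
            simp only [hlam, hreg _ hn, hreg _ hn₀]
            rw [hA, cosetReg_mul_mem]
          rw [hχf, Pi.mul_apply, this, mul_comm]
        · rw [mul_zero]
      have hAk : A k = lam k * a := by
        simp only [hlam, hreg _ hn₀, div_mul_cancel₀ _ ha0]
      rw [hk, hAk, ← mul_assoc, mul_comm (conj _), hunit, one_mul]
    · left
      exact Finset.sum_eq_zero fun n _ => if_neg fun h => hx ⟨n, h⟩
  have hone : cosetReg p N χf 1 = a := by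
    rw [ha, hA, cosetReg, cosetReg]
    refine Finset.sum_congr rfl fun n _ => ?_
    rw [one_mul]
    split_ifs
    · rw [hψ, ← hres]
    · rfl
  have hJ : ∀ J : Subgroup G, N ≤ J → ∑ y : J with IsPRegular p y, χf y ≠ 0 := by
    intro J hNJ h0
    have h1 := sum_cosetReg (p := p) (N.subgroupOf J) (fun y : J => χf y)
    rw [h0, mul_zero] at h1
    have hre : ∀ y : J, cosetReg p (N.subgroupOf J) (fun y : J => χf y) y
        = cosetReg p N χf y := fun y => by
      unfold cosetReg
      refine Fintype.sum_equiv (Subgroup.subgroupOfEquivOfLe hNJ).toEquiv _ _ fun n => ?_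
      refine if_congr ?_ rfl rfl
      rw [IsPRegular, IsPRegular, ← Subgroup.orderOf_coe]
      rfl
    simp only [hre] at h1
    rw [← Finset.sum_filter_ne_zero, Finset.sum_congr rfl (g := fun _ => a) fun (y : J) hy =>
      (hcoset (y : G)).resolve_left (Finset.mem_filter.1 hy).2, Finset.sum_const, nsmul_eq_mul,
      mul_eq_zero, Nat.cast_eq_zero, Finset.card_eq_zero] at h1
    rcases h1 with h1 | h1
    · have : (1 : J) ∈ Finset.univ.filter fun y : J => cosetReg p N χf y ≠ 0 :=
        Finset.mem_filter.2 ⟨Finset.mem_univ _, by rw [Subgroup.coe_one, hone]; exact ha0⟩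
      rw [h1] at this
      exact Finset.notMem_empty _ this
    · exact ha0 h1
  refine ⟨χ, mem_principal_of_sum_ne hM ?_, hres, fun J hNJ =>
    ⟨⟨fun y => χf y, AlperinDade.isIrr_restrict hirr hres J hNJ⟩,
      mem_principal_of_sum_ne hM (hJ J hNJ), fun _ => rfl⟩⟩
  intro h
  refine hJ ⊤ le_top ?_
  rw [Finset.sum_filter] at h ⊢
  refine Eq.trans ?_ h
  refine Fintype.sum_equiv Subgroup.topEquiv.toEquiv _ _ fun y => ?_
  refine if_congr ?_ rfl rfl
  rw [IsPRegular, IsPRegular, ← Subgroup.orderOf_coe]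
  rfl

end CfsgLib.Blocks.ExtensionPrincipal
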