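import Cfsg.Agent.Lib.Blocks.CyclotomicPos
import Cfsg.Agent.Lib.Blocks.DefectBound
import Cfsg.Agent.Lib.Blocks.MajorContrib

/-!
# `k(B) ≤ p ^ d l(b)` for a major subsection
-/

set_option autoImplicit false

namespace CfsgLib.Blocks.MajorRankBound

open Cfsg CfsgLib.Blocks
open scoped Classical ComplexConjugate

variable {G : Type*} [Group G] [Fintype G] {p : ℕ} {M : Ideal AlgInt}

/-- `k(B) ≤ p ^ d l(b)` for a major subsection `(x, b)` at an element of `p`-power order. -/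
theorem card_le (hM : IsPModular p M) {B : Set (IrrCharacter G)} {x : G} {k : ℕ}
    (hxk : orderOf x = p ^ k) {K : Subgroup G} (hK : K = Subgroup.centralizer ({x} : Set G))
    {b : Set (IrrCharacter K)} (hind : IsInducedBlock M K b B)
    (hmaj : blockDefect p b = blockDefect p B) :
    Nat.card B ≤ p ^ blockDefect p B * blockRank p b := by
  haveI := Fact.mk hM.1
  have hxK : x ∈ K := by rw [hK, Subgroup.mem_centralizer_singleton_iff]
  set z : K := ⟨x, hxK⟩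
  have hzx : (z : G) = x := rfl
  have hz : z ∈ Subgroup.center K := by
    rw [Subgroup.mem_center_iff]
    intro c
    exact Subtype.ext (Subgroup.mem_centralizer_singleton_iff.1 (hK ▸ c.2))
  have hzk : z ^ p ^ k = 1 := Subtype.ext (by
    rw [Subgroup.coe_pow, Subgroup.coe_one, ← hxk]; exact pow_orderOf_eq_one x)
  haveI : NeZero (p ^ k) := ⟨pow_ne_zero _ hM.1.ne_zero⟩
  obtain ⟨ζ, hζ⟩ : ∃ ζ : ℂ, IsPrimitiveRoot ζ (p ^ k) :=
    ⟨_, Complex.isPrimitiveRoot_exp _ (NeZero.ne _)⟩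
  set m := minDegVal p b
  set d := blockDefect p B
  have hp0 : (p : ℂ) ≠ 0 := Nat.cast_ne_zero.2 hM.1.ne_zero
  have hpm : (p : ℂ) ^ m ≠ 0 := pow_ne_zero _ hp0
  let X : IrrCharacter G → IrrCharacter G → ℂ := fun χ φ => contrib p x K b χ φ / (p : ℂ) ^ m
  have hmem : ∀ χ φ, X χ φ ∈ Algebra.adjoin ℤ ({ζ} : Set ℂ) := fun χ φ =>
    contrib_div_mem_adjoin hM hzx hz χ φ hζ hzk
  have hq : (pPartCard p K : ℂ) = (p : ℂ) ^ m * (p : ℂ) ^ d := by
    rw [pPartCard, Nat.cast_pow, ← pow_add, add_comm, show d = blockDefect p b from hmaj.symm,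
      blockDefect_add_min (p := p) (IsPBlock.nonempty hM hind.1)]
  have hconj : ∀ θ φ, conj (X θ φ) = X φ θ := fun θ φ => by
    simp only [X, map_div₀, map_pow, map_natCast, conj_contrib hM.1 hzx hz]
  have hsum : ∀ χ, ((p ^ d : ℕ) : ℂ) * X χ χ = ∑ φ, X χ φ * conj (X χ φ) := by
    intro χ
    simp only [hconj, X, div_mul_div_comm, ← Finset.sum_div]
    rw [sum_contrib_mul hM hK ⟨k, hxk⟩ hind.1, hq, contrib, hq, Nat.cast_pow]
    field_simp
  have hne : ∀ χ ∈ B, X χ χ ≠ 0 := by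
    intro χ hχ h0
    obtain ⟨φ₀, hφ₀, hφ₀h⟩ := exists_degVal_eq_min (p := p) (IsPBlock.nonempty hM hind.2.1)
    have h1 := hsum χ
    rw [h0, mul_zero, eq_comm] at h1
    simp only [Complex.mul_conj, ← Complex.ofReal_sum, Complex.ofReal_eq_zero] at h1
    have h2 : X χ φ₀ = 0 := Complex.normSq_eq_zero.1
      ((Finset.sum_eq_zero_iff_of_nonneg fun φ _ => Complex.normSq_nonneg _).1 h1 φ₀
        (Finset.mem_univ _))
    obtain ⟨w, hw, hw'⟩ := MajorContrib.exists_scaled hM hind hmaj hzx hz φ₀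
    have h3 := (hw χ hχ).2
    rw [show contrib p x K b χ φ₀ / (p : ℂ) ^ minDegVal p b = 0 from h2, eq_comm, mul_eq_zero,
      or_iff_right (pow_ne_zero _ hp0)] at h3
    refine contrib_not_LI_of_min hM hind hzx hz hzk hφ₀ hφ₀ hφ₀h hφ₀h ?_
    rw [(hw φ₀ hφ₀).2, hφ₀h, Nat.sub_self, pow_zero, one_mul]
    exact hw' χ hχ φ₀ hφ₀ (h3 ▸ LI.zero hM)
  set s := Finset.univ.filter fun χ => X χ χ ≠ 0
  have hr : ∑ χ ∈ s, X χ χ = (((p ^ d * blockRank p b : ℕ) : ℚ) : ℂ) := by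
    rw [Finset.sum_filter_ne_zero]
    simp only [X, ← Finset.sum_div]
    rw [sum_contrib_self hM hK ⟨k, hxk⟩ hind.1, hq]
    push_cast
    field_simp
  have hle := card_le_of_sum_pos s (NeZero.pos (p ^ k)) hζ.pow_eq_one (fun χ => X χ χ) X
    (fun χ _ => hmem χ χ) (fun χ _ φ => hmem χ φ) (pow_pos hM.1.pos d)
    (fun χ _ => hsum χ) (fun χ hχ => (Finset.mem_filter.1 hχ).2) hr
  rw [Nat.card_eq_card_toFinset]
  refine le_trans (Finset.card_le_card fun χ hχ => ?_) (by exact_mod_cast hle)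
  exact Finset.mem_filter.2 ⟨Finset.mem_univ _, hne χ (Set.mem_toFinset.1 hχ)⟩

end CfsgLib.Blocks.MajorRankBound
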