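import Cfsg.Agent.Lib.Blocks.RankLattice
import Cfsg.Agent.Lib.Blocks.MajorContrib
import Cfsg.Agent.Lib.Blocks.CyclotomicDivide
import Cfsg.Agent.Lib.Blocks.DefectBound

/-!
# Major subsections of rank at most two

The lattice of the scaled regular inner products of `b` turns the sections of `x` into vectors over
`ℤ[ζ]` whose Gram matrix is the adjugate of a reduced form.
-/

set_option autoImplicit false
set_option linter.unusedSectionVars false

namespace CfsgLib.Blocks.RankTwoMajor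

open Cfsg CfsgLib.Blocks
open scoped Classical ComplexConjugate

variable {p : ℕ} {M : Ideal AlgInt}

theorem sum_subtype_block {H : Type*} [Group H] [Fintype H] (b : Set (IrrCharacter H))
    (F : IrrCharacter H → ℂ) :
    ∑ ψ : IrrCharacter H, blockInd b ψ * F ψ = ∑ ψ : ↥b, F (ψ : IrrCharacter H) := by
  rw [← Finset.sum_subtype b.toFinset (fun _ => Set.mem_toFinset) F]
  refine ((Finset.sum_congr rfl fun ψ hψ => ?_).trans
    (Finset.sum_subset (Finset.subset_univ _) fun ψ _ hψ => ?_)).symm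
  · rw [blockInd_of_mem (Set.mem_toFinset.1 hψ), one_mul]
  · rw [blockInd_of_notMem (by simpa using hψ), zero_mul]

/-- The scaled matrix of regular inner products of a block. -/
noncomputable def scaled {H : Type*} [Group H] [Fintype H] (p : ℕ) (b : Set (IrrCharacter H)) :
    Matrix ↥b ↥b ℤ :=
  Matrix.of fun ψ η =>
    regInt p (ψ : IrrCharacter H) (η : IrrCharacter H) / (p : ℤ) ^ minDegVal p b

section Scaled

variable {H : Type*} [Group H] [Fintype H] {b : Set (IrrCharacter H)}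

theorem cast_scaled (hM : IsPModular p M) (ψ η : ↥b) :
    (p : ℂ) ^ minDegVal p b * (scaled p b ψ η : ℂ)
      = regInner p ((ψ : IrrCharacter H) : H → ℂ) ((η : IrrCharacter H) : H → ℂ) := by
  obtain ⟨w, hw⟩ := (pow_dvd_pow (p : ℤ) (minDegVal_le (p := p) η.2)).trans (regInt_mod hM _ _).1
  rw [← cast_regInt hM.1, scaled, Matrix.of_apply, hw,
    Int.mul_ediv_cancel_left _ (pow_ne_zero _ (by exact_mod_cast hM.1.ne_zero))]
  push_cast
  rfl

theorem scaled_isSymm : (scaled p b).IsSymm :=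
  Matrix.IsSymm.ext fun ψ η => by simp [scaled, regInt_comm]

theorem pPartCard_eq (hM : IsPModular p M) (hb : IsPBlock M b) :
    (pPartCard p H : ℂ) = (p : ℂ) ^ minDegVal p b * (p : ℂ) ^ blockDefect p b := by
  rw [pPartCard, Nat.cast_pow, ← pow_add, add_comm,
    blockDefect_add_min (p := p) (IsPBlock.nonempty hM hb)]

theorem scaled_mul_self (hM : IsPModular p M) (hb : IsPBlock M b) :
    scaled p b * scaled p b = ((p : ℤ) ^ blockDefect p b) • scaled p b := by
  ext ψ φ
  apply Int.cast_injective (α := ℂ)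
  have hp0 : (p : ℂ) ^ minDegVal p b ≠ 0 := pow_ne_zero _ (Nat.cast_ne_zero.2 hM.1.ne_zero)
  refine mul_left_cancel₀ (mul_ne_zero hp0 hp0) ?_
  have h := sum_regInner_sq hM (IsPBlock.isLocalOn hM hb) (ψ : IrrCharacter H) (φ : IrrCharacter H)
  rw [blockInd_of_mem ψ.2, mul_one, ← cast_scaled hM ψ φ, pPartCard_eq hM hb,
    Finset.sum_congr rfl fun η _ => mul_assoc _ _ _, sum_subtype_block] at h
  rw [Matrix.mul_apply, Matrix.smul_apply, smul_eq_mul]
  push_cast
  rw [Finset.mul_sum]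
  refine Eq.trans (Finset.sum_congr rfl fun η _ => ?_) (h.trans (by ring))
  rw [← cast_scaled hM ψ η, ← cast_scaled hM η φ]
  ring

theorem scaled_trace (hM : IsPModular p M) (hb : IsPBlock M b) :
    (scaled p b).trace = (p : ℤ) ^ blockDefect p b * (blockRank p b : ℤ) := by
  apply Int.cast_injective (α := ℂ)
  have hp0 : (p : ℂ) ^ minDegVal p b ≠ 0 := pow_ne_zero _ (Nat.cast_ne_zero.2 hM.1.ne_zero)
  refine mul_left_cancel₀ hp0 ?_
  have h := pPartCard_mul_blockRank hM hb
  rw [pPartCard_eq hM hb, mul_assoc] at h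
  simp only [Matrix.trace, Matrix.diag, Int.cast_sum, Finset.mul_sum]
  push_cast
  rw [h]
  exact Finset.sum_congr rfl fun ψ _ => cast_scaled hM ψ ψ

theorem scaled_congr (hM : IsPModular p M) (hb : IsPBlock M b) :
    ∃ s g : ↥b → ℂ, (∀ ψ, MemLocalRing M (s ψ)) ∧ (∀ ψ, MemLocalRing M (g ψ)) ∧
      ∀ ψ η, MemLocalIdeal M ((scaled p b ψ η : ℂ) - s ψ * g η) := by
  obtain ⟨ψ₀, hψ₀⟩ := IsPBlock.nonempty hM hb
  set m := minDegVal p b
  let g : ↥b → ℂ := fun η => ((η : IrrCharacter H) : H → ℂ) 1 / (p : ℂ) ^ m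
  have hg : ∀ η, MemLocalRing M (g η) := fun η => by
    simp only [g, irr_one_eq, ← Nat.cast_pow]
    refine natCast_div_LR hM (pow_ne_zero _ hM.1.ne_zero) ?_
    rw [hM.1.factorization_pow, Finsupp.single_eq_same]
    exact (pow_dvd_pow p (minDegVal_le η.2)).trans (Nat.ordProj_dvd _ _)
  have hr : ∀ ψ η : IrrCharacter H,
      MemLocalRing M (omega (η : H → ℂ) (regClassFun p (ψ : H → ℂ))) := fun ψ η =>
    omega_LR hM η (regClassFun_isClassFunction (CfsgLib.Char.IsIrrCharacter.isClassFunction ψ.2))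
      (regClassFun_LR hM ψ)
  refine ⟨fun ψ => omega (ψ₀ : H → ℂ) (regClassFun p ((ψ : IrrCharacter H) : H → ℂ)), g,
    fun ψ => hr _ ψ₀, hg, fun ψ η => ?_⟩
  have e : (scaled p b ψ η : ℂ)
      = g η * omega ((η : IrrCharacter H) : H → ℂ)
          (regClassFun p ((ψ : IrrCharacter H) : H → ℂ)) := by
    have hp0 : (p : ℂ) ^ m ≠ 0 := pow_ne_zero _ (Nat.cast_ne_zero.2 hM.1.ne_zero)
    refine mul_left_cancel₀ hp0 ?_
    rw [cast_scaled hM, regInner_eq_omega]
    simp only [g]
    field_simp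
  rw [e, mul_comm _ (g η), ← mul_sub]
  exact LI.mul_left hM (hg η) (omega_regClassFun_congr hM _ (IsPBlock.sameBlock hM hb η.2 hψ₀))

theorem prime_dvd_det (hM : IsPModular p M) (hb : IsPBlock M b)
    (P : RankLattice.Dec (scaled p b) 2) : (p : ℤ) ∣ P.form.det := by
  obtain ⟨s, g, hs, hg, hcong⟩ := scaled_congr hM hb
  let S : Fin 2 → ℂ := fun i => ∑ ψ, (P.U i ψ : ℂ) * s ψ
  let T : Fin 2 → ℂ := fun i => ∑ ψ, (P.U i ψ : ℂ) * g ψ
  have hS : ∀ i, MemLocalRing M (S i) := fun i =>
    LR.sum hM fun ψ _ => LR.mul hM (LR.intCast hM _) (hs ψ)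
  have hT : ∀ i, MemLocalRing M (T i) := fun i =>
    LR.sum hM fun ψ _ => LR.mul hM (LR.intCast hM _) (hg ψ)
  have hA : ∀ i j, MemLocalIdeal M ((P.form i j : ℂ) - S i * T j) := by
    intro i j
    have e : (P.form i j : ℂ) - S i * T j
        = ∑ ψ, ∑ η, (P.U i ψ : ℂ) * (P.U j η : ℂ) * ((scaled p b ψ η : ℂ) - s ψ * g η) := by
      simp only [RankLattice.Dec.form, S, T, Matrix.mul_apply, Matrix.transpose_apply,
        Finset.sum_mul, Finset.mul_sum, mul_sub, Finset.sum_sub_distrib]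
      push_cast
      congr 1
      · rw [Finset.sum_comm]
        exact Finset.sum_congr rfl fun ψ _ => Finset.sum_congr rfl fun η _ => by ring
      · rw [Finset.sum_comm]
        exact Finset.sum_congr rfl fun ψ _ => Finset.sum_congr rfl fun η _ => by ring
    rw [e]
    exact LI.sum hM fun ψ _ => LI.sum hM fun η _ =>
      LI.mul_left hM (LR.mul hM (LR.intCast hM _) (LR.intCast hM _)) (hcong ψ η)
  rw [← LI.intCast_iff hM, Matrix.det_fin_two]
  push_cast
  rw [show (P.form 0 0 : ℂ) * (P.form 1 1 : ℂ) - (P.form 0 1 : ℂ) * (P.form 1 0 : ℂ)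
    = ((P.form 0 0 : ℂ) - S 0 * T 0) * (P.form 1 1 : ℂ)
      + (S 0 * T 0) * ((P.form 1 1 : ℂ) - S 1 * T 1)
      - ((P.form 0 1 : ℂ) - S 0 * T 1) * (P.form 1 0 : ℂ)
      - (S 0 * T 1) * ((P.form 1 0 : ℂ) - S 1 * T 0) by ring]
  exact LI.sub hM (LI.sub hM (LI.add hM (LI.mul_right hM (hA 0 0) (LR.intCast hM _))
    (LI.mul_left hM (LR.mul hM (hS 0) (hT 0)) (hA 1 1)))
    (LI.mul_right hM (hA 0 1) (LR.intCast hM _)))
    (LI.mul_left hM (LR.mul hM (hS 0) (hT 1)) (hA 1 0))

end Scaled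

theorem count_le {ι : Type*} (s : Finset ι) {ζ : ℂ} {N : ℕ} (hN : 0 < N) (hζ : ζ ^ N = 1)
    (X : ι → ℂ) (hX : ∀ i ∈ s, X i ∈ Algebra.adjoin ℤ ({ζ} : Set ℂ)) {r : ℤ}
    (hr : ∑ i ∈ s, X i * conj (X i) = (r : ℂ)) :
    ((s.filter fun i => X i ≠ 0).card : ℤ) ≤ r := by
  have h : ((s.filter fun i => X i ≠ 0).card : ℚ) ≤ (r : ℚ) :=
    card_le_of_sum_normSq _ hN hζ X (fun i hi => hX i (Finset.mem_filter.1 hi).1)
      (fun i hi => (Finset.mem_filter.1 hi).2) (by
      rw [Finset.sum_filter_of_ne fun i _ (h : X i * conj (X i) ≠ 0) => left_ne_zero_of_mul h, hr]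
      push_cast
      rfl)
  exact_mod_cast h

section Section

variable {G : Type*} [Group G] [Fintype G] {K : Subgroup G} {x : G}

/-- The coefficient of a member in the section. -/
noncomputable def coeff {b : Set (IrrCharacter K)} (z : K) (χ : IrrCharacter G) (ψ : ↥b) : ℂ :=
  resMult χ (ψ : IrrCharacter K) * centScalar (ψ : IrrCharacter K) z

/-- The coordinates of the section in a basis of the lattice. -/
noncomputable def vec {b : Set (IrrCharacter K)} {n : ℕ} (z : K)
    (P : RankLattice.Dec (scaled p b) n) (χ : IrrCharacter G) (i : Fin n) : ℂ :=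
  ∑ ψ, coeff z χ ψ * (P.D ψ i : ℂ)

theorem vec_mem_adjoin {b : Set (IrrCharacter K)} {n : ℕ} {z : K} (hz : z ∈ Subgroup.center K)
    {ζ : ℂ} {N : ℕ} [NeZero N] (hζ : IsPrimitiveRoot ζ N) (hzN : z ^ N = 1)
    (P : RankLattice.Dec (scaled p b) n) (χ : IrrCharacter G) (i : Fin n) :
    vec z P χ i ∈ Algebra.adjoin ℤ ({ζ} : Set ℂ) := by
  refine sum_mem fun ψ _ => mul_mem (mul_mem ?_ (mem_adjoin_centScalar _ hz hζ hzN))
    (intCast_mem _ _)
  obtain ⟨k, hk⟩ := resMult_nat χ (ψ : IrrCharacter K)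
  rw [hk]
  exact natCast_mem _ k

theorem coeff_mul_scaled {b : Set (IrrCharacter K)} {n : ℕ} (z : K)
    (P : RankLattice.Dec (scaled p b) n) (χ : IrrCharacter G) (η : ↥b) :
    ∑ ψ, coeff z χ ψ * (scaled p b ψ η : ℂ)
      = ∑ i, vec z P χ i * ((P.U * scaled p b) i η : ℂ) := by
  simp only [vec, Finset.sum_mul]
  rw [Finset.sum_comm]
  refine Finset.sum_congr rfl fun ψ _ => ?_
  have h := congrFun (congrFun (P.DUR) ψ) η
  rw [Matrix.mul_assoc, Matrix.mul_apply] at h
  rw [← h]
  push_cast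
  rw [Finset.mul_sum]
  exact Finset.sum_congr rfl fun i _ => by ring

theorem contrib_eq_form (hM : IsPModular p M) {b : Set (IrrCharacter K)} {n : ℕ} {z : K}
    (hzx : (z : G) = x) (hz : z ∈ Subgroup.center K) (P : RankLattice.Dec (scaled p b) n)
    (χ φ : IrrCharacter G) :
    contrib p x K b χ φ / (p : ℂ) ^ minDegVal p b
      = ∑ i, ∑ j, vec z P χ i * (P.form i j : ℂ) * conj (vec z P φ j) := by
  have hp0 : (p : ℂ) ^ minDegVal p b ≠ 0 := pow_ne_zero _ (Nat.cast_ne_zero.2 hM.1.ne_zero)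
  have h1 : contrib p x K b χ φ / (p : ℂ) ^ minDegVal p b
      = ∑ ψ : ↥b, ∑ η : ↥b, coeff z χ ψ * (scaled p b ψ η : ℂ) * conj (coeff z φ η) := by
    rw [div_eq_iff hp0, contrib_eq_sum hzx hz]
    refine Eq.trans (Finset.sum_congr rfl fun ψ _ => ?_) (Eq.trans
      (sum_subtype_block b fun ψ => ∑ η : ↥b, resMult χ ψ * centScalar ψ z *
        regInner p (ψ : K → ℂ) ((η : IrrCharacter K) : K → ℂ) * conj (coeff z φ η)) ?_)
    · simp only [coeff]
      rw [← sum_subtype_block b fun η => resMult χ ψ * centScalar ψ z *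
        regInner p (ψ : K → ℂ) (η : K → ℂ) * conj (resMult φ η * centScalar η z), Finset.mul_sum]
      refine Finset.sum_congr rfl fun η _ => ?_
      obtain ⟨k, hk⟩ := resMult_nat φ η
      rw [hk, map_mul, map_natCast, conj_centScalar]
      ring
    · rw [Finset.sum_mul]
      refine Finset.sum_congr rfl fun ψ _ => ?_
      rw [Finset.sum_mul]
      refine Finset.sum_congr rfl fun η _ => ?_
      rw [← cast_scaled hM]
      simp only [coeff]
      ring
  rw [h1]
  have hR := P.eq_sandwich scaled_isSymm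
  have hent : ∀ ψ η, (scaled p b ψ η : ℂ)
      = ∑ i, ∑ j, (P.D ψ i : ℂ) * (P.form i j : ℂ) * (P.D η j : ℂ) := by
    intro ψ η
    conv_lhs => rw [hR]
    simp only [Matrix.mul_apply, Matrix.transpose_apply, Finset.sum_mul]
    push_cast
    rw [Finset.sum_comm]
  simp only [hent, Finset.mul_sum, Finset.sum_mul]
  simp only [vec, map_sum, map_mul, map_intCast, Finset.mul_sum, Finset.sum_mul]
  rw [Finset.sum_comm_cycle]
  refine Finset.sum_congr rfl fun i _ => ?_
  rw [Finset.sum_comm_cycle]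
  refine Finset.sum_congr rfl fun j _ => ?_
  rw [Finset.sum_comm]
  exact Finset.sum_congr rfl fun ψ _ => Finset.sum_congr rfl fun η _ => by ring

/-- The Gram matrix of the coordinates is that of the columns of `D`. -/
theorem sum_vec_mul (hM : IsPModular p M) (hK : K = Subgroup.centralizer ({x} : Set G))
    (hx : ∃ k : ℕ, orderOf x = p ^ k) {b : Set (IrrCharacter K)} (hb : IsPBlock M b) {n : ℕ}
    {z : K} (hzx : (z : G) = x) (hz : z ∈ Subgroup.center K)
    (P : RankLattice.Dec (scaled p b) n) (k l : Fin n) :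
    ∑ χ : IrrCharacter G, vec z P χ k * conj (vec z P χ l) = ((P.D.transpose * P.D) k l : ℂ) := by
  set m := minDegVal p b
  set N : ℂ := (p : ℂ) ^ blockDefect p b with hN
  have hp0 : (p : ℂ) ≠ 0 := Nat.cast_ne_zero.2 hM.1.ne_zero
  have hNz : N ≠ 0 := pow_ne_zero _ hp0
  let w : IrrCharacter G → ↥b → ℂ := fun χ η => ∑ ψ, coeff z χ ψ * (scaled p b ψ η : ℂ)
  let a : IrrCharacter G → Fin n → ℂ := fun χ j => ∑ i, vec z P χ i * (P.form i j : ℂ)
  set q : ℂ := (pPartCard p K : ℂ) * (Nat.card K : ℂ)⁻¹ with hq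
  have hw : ∀ χ η, (p : ℂ) ^ m * w χ η = q * ∑ s : K with IsPRegular p s,
      secPart x K b χ s * ((η : IrrCharacter K) : K → ℂ) s⁻¹ := by
    intro χ η
    simp only [w, Finset.mul_sum, secPart_eq_sum_mult hzx hz, Finset.sum_mul]
    conv_rhs => rw [Finset.sum_comm]
    rw [Finset.sum_congr rfl (g := fun ψ : ↥b => coeff z χ ψ *
      regInner p ((ψ : IrrCharacter K) : K → ℂ) ((η : IrrCharacter K) : K → ℂ)) fun ψ _ => by
        rw [← cast_scaled hM]; ring,
      show ∑ ψ : ↥b, coeff z χ ψ *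
          regInner p ((ψ : IrrCharacter K) : K → ℂ) ((η : IrrCharacter K) : K → ℂ)
        = _ from (sum_subtype_block b fun ψ => resMult χ ψ * centScalar ψ z *
          regInner p (ψ : K → ℂ) ((η : IrrCharacter K) : K → ℂ)).symm]
    refine Finset.sum_congr rfl fun ψ _ => ?_
    simp only [regInner, Finset.mul_sum, hq]
    exact Finset.sum_congr rfl fun s _ => by ring
  have hwc : ∀ χ η, (p : ℂ) ^ m * conj (w χ η) = q * ∑ t : K with IsPRegular p t,
      secPart x⁻¹ K b χ t⁻¹ * ((η : IrrCharacter K) : K → ℂ) t := by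
    intro χ η
    have h := congrArg conj (hw χ η)
    simp only [map_mul, map_pow, map_natCast, map_sum] at h
    rw [h, hq, map_mul, map_inv₀, map_natCast, map_natCast]
    congr 1
    refine Finset.sum_congr rfl fun t _ => ?_
    rw [conj_irr, inv_inv]
    congr 1
    rw [secPart_eq_sum_mult hzx hz, secPart_eq_sum_mult
      (show ((z⁻¹ : K) : G) = x⁻¹ by rw [Subgroup.coe_inv, hzx]) (inv_mem hz), map_sum]
    refine Finset.sum_congr rfl fun ψ _ => ?_
    obtain ⟨k, hk⟩ := resMult_nat χ ψ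
    rw [hk, map_mul, map_mul, map_mul, map_natCast, conj_centScalar, conj_irr]
    by_cases h : ψ ∈ b <;> simp [blockInd, h]
  have hww : ∀ η η', ∑ χ : IrrCharacter G, w χ η * conj (w χ η') = N * (scaled p b η η' : ℂ) := by
    intro η η'
    refine mul_left_cancel₀ (mul_ne_zero (pow_ne_zero m hp0) (pow_ne_zero m hp0)) ?_
    rw [Finset.mul_sum, Finset.sum_congr rfl fun χ _ => show (p : ℂ) ^ m * (p : ℂ) ^ m *
        (w χ η * conj (w χ η')) = ((p : ℂ) ^ m * w χ η) * ((p : ℂ) ^ m * conj (w χ η')) by ring]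
    simp only [hw, hwc]
    have hRR := congrArg (fun X : ℤ => (X : ℂ))
      (congrFun (congrFun (scaled_mul_self hM hb) η) η')
    simp only [Matrix.mul_apply, Matrix.smul_apply, smul_eq_mul] at hRR
    push_cast at hRR
    rw [show (p : ℂ) ^ m * (p : ℂ) ^ m * (N * (scaled p b η η' : ℂ))
      = (p : ℂ) ^ m * (p : ℂ) ^ m * (∑ ψ, (scaled p b η ψ : ℂ) * (scaled p b ψ η' : ℂ)) by
        rw [hRR]]
    rw [Finset.mul_sum, Finset.sum_congr rfl (s₁ := (Finset.univ : Finset ↥b))
      (g := fun ψ : ↥b => regInner p ((ψ : IrrCharacter K) : K → ℂ)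
        ((η : IrrCharacter K) : K → ℂ) * regInner p ((η' : IrrCharacter K) : K → ℂ)
        ((ψ : IrrCharacter K) : K → ℂ)) fun ψ _ => by
          rw [← cast_scaled hM, ← cast_scaled hM,
            scaled_isSymm.apply ψ η, scaled_isSymm.apply η' ψ]; ring,
      ← sum_subtype_block b fun ψ => regInner p (ψ : K → ℂ) ((η : IrrCharacter K) : K → ℂ) *
        regInner p ((η' : IrrCharacter K) : K → ℂ) (ψ : K → ℂ)]
    calc _ = q * q * ∑ s : K with IsPRegular p s, ∑ t : K with IsPRegular p t,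
          ((η : IrrCharacter K) : K → ℂ) s⁻¹ * ((η' : IrrCharacter K) : K → ℂ) t *
            blockKernel b t s := by
          simp only [Finset.mul_sum, Finset.sum_mul]
          rw [Finset.sum_comm_cycle]
          refine Finset.sum_congr rfl fun s hs => ?_
          rw [Finset.sum_comm]
          refine Finset.sum_congr rfl fun t ht => ?_
          rw [← sum_secPart_mul hM hK hx hb (Finset.mem_filter.1 hs).2 (Finset.mem_filter.1 ht).2,
            Finset.mul_sum, Finset.mul_sum]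
          exact Finset.sum_congr rfl fun χ _ => by ring
      _ = _ := by
          simp only [blockKernel, regInner, hq, Finset.mul_sum, Finset.sum_mul]
          rw [Finset.sum_comm_cycle]
          refine Finset.sum_congr rfl fun ψ _ => ?_
          rw [Finset.sum_comm]
          exact Finset.sum_congr rfl fun t _ => Finset.sum_congr rfl fun s _ => by ring
  have ha : ∀ χ j, a χ j = ∑ η, w χ η * (P.U j η : ℂ) := by
    intro χ j
    simp only [a, w, coeff_mul_scaled z P, Finset.sum_mul]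
    rw [Finset.sum_comm]
    refine Finset.sum_congr rfl fun i _ => ?_
    rw [RankLattice.Dec.form, Matrix.mul_apply]
    simp only [Matrix.transpose_apply]
    push_cast
    rw [Finset.mul_sum]
    exact Finset.sum_congr rfl fun η _ => by ring
  have haa : ∀ j j', ∑ χ : IrrCharacter G, a χ j * conj (a χ j') = N * (P.form j j' : ℂ) := by
    intro j j'
    simp only [ha, map_sum, map_mul, map_intCast, Finset.sum_mul_sum]
    rw [RankLattice.Dec.form]
    simp only [Matrix.mul_apply, Matrix.transpose_apply, Finset.sum_mul]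
    push_cast
    rw [Finset.mul_sum]
    simp only [Finset.mul_sum]
    conv_rhs => rw [Finset.sum_comm]
    rw [Finset.sum_comm]
    refine Finset.sum_congr rfl fun η _ => ?_
    rw [Finset.sum_comm]
    refine Finset.sum_congr rfl fun η' _ => ?_
    rw [show ∑ χ : IrrCharacter G, w χ η * (P.U j η : ℂ) * (conj (w χ η') * (P.U j' η' : ℂ))
      = (P.U j η : ℂ) * (P.U j' η' : ℂ) * ∑ χ : IrrCharacter G, w χ η * conj (w χ η') by
        rw [Finset.mul_sum]; exact Finset.sum_congr rfl fun χ _ => by ring, hww]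
    ring
  set C := P.D.transpose * P.D with hC
  have hAC : ∀ i i', ∑ j, (P.form i j : ℂ) * (C j i' : ℂ) = if i = i' then N else 0 := by
    intro i i'
    have h := congrArg (fun X : ℤ => (X : ℂ))
      (congrFun (congrFun (P.mul_gram scaled_isSymm (scaled_mul_self hM hb)) i) i')
    rw [Matrix.mul_apply, Matrix.smul_apply, Matrix.one_apply] at h
    push_cast at h
    rw [hC, h]
    split_ifs <;> simp [hN]
  have hv : ∀ χ i', N * vec z P χ i' = ∑ j, a χ j * (C j i' : ℂ) := by
    intro χ i'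
    simp only [a, Finset.sum_mul]
    rw [Finset.sum_comm]
    simp only [mul_assoc, ← Finset.mul_sum, hAC]
    simp [mul_comm]
  have hCsymm : C l k = C k l := by
    simp only [hC, Matrix.mul_apply, Matrix.transpose_apply, mul_comm]
  refine mul_left_cancel₀ (mul_ne_zero hNz hNz) ?_
  have hNc : conj N = N := by rw [hN, map_pow, map_natCast]
  calc N * N * ∑ χ : IrrCharacter G, vec z P χ k * conj (vec z P χ l)
      = ∑ χ : IrrCharacter G, (N * vec z P χ k) * conj (N * vec z P χ l) := by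
        rw [Finset.mul_sum]
        exact Finset.sum_congr rfl fun χ _ => by rw [map_mul, hNc]; ring
    _ = ∑ j, ∑ j', (C j k : ℂ) * (C j' l : ℂ) * ∑ χ : IrrCharacter G, a χ j * conj (a χ j') := by
        simp only [hv, map_sum, map_mul, map_intCast]
        rw [Finset.sum_congr rfl fun χ _ => Finset.sum_mul_sum _ _ _ _]
        simp only [Finset.mul_sum]
        rw [Finset.sum_comm]
        refine Finset.sum_congr rfl fun j _ => ?_
        rw [Finset.sum_comm]
        exact Finset.sum_congr rfl fun j' _ => Finset.sum_congr rfl fun χ _ => by ring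
    _ = ∑ j, (C j k : ℂ) * N * ∑ j', (P.form j j' : ℂ) * (C j' l : ℂ) := by
        simp only [haa, Finset.mul_sum]
        exact Finset.sum_congr rfl fun j _ => Finset.sum_congr rfl fun j' _ => by ring
    _ = N * N * (C k l : ℂ) := by
        simp only [hAC, mul_ite, mul_zero, Finset.sum_ite_eq', Finset.mem_univ, if_true]
        rw [hCsymm]
        ring

theorem arith_reduced {α γ u : ℤ} (hα : 2 ≤ α) (hγ : 2 ≤ γ) (hu : 0 ≤ u) (h1 : 2 * u ≤ α)
    (h2 : 2 * u ≤ γ) : α + γ - u ≤ α * γ - u * u := by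
  rcases eq_or_lt_of_le hu with rfl | hu'
  · nlinarith [mul_nonneg (sub_nonneg.2 hα) (sub_nonneg.2 hγ)]
  · nlinarith [mul_le_mul (sub_le_sub_right h1 1) (sub_le_sub_right h2 1) (by linarith)
      (by linarith : (0 : ℤ) ≤ α - 1)]

/-- A major subsection of rank at most two bounds the block by `p ^ d`. -/
theorem card_le_of_rank_le_two (hM : IsPModular p M) {B : Set (IrrCharacter G)}
    {b : Set (IrrCharacter K)} (hK : K = Subgroup.centralizer ({x} : Set G)) {k : ℕ}
    (hxk : orderOf x = p ^ k) (hind : IsInducedBlock M K b B)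
    (hmaj : blockDefect p b = blockDefect p B) (hl : blockRank p b ≤ 2) :
    Nat.card B ≤ p ^ blockDefect p B := by
  haveI := Fact.mk hM.1
  have hxK : x ∈ K := by rw [hK, Subgroup.mem_centralizer_singleton_iff]
  set z : K := ⟨x, hxK⟩
  have hzx : (z : G) = x := rfl
  have hz : z ∈ Subgroup.center K := by
    rw [Subgroup.mem_center_iff]
    intro c
    exact Subtype.ext (Subgroup.mem_centralizer_singleton_iff.1 (hK ▸ c.2))
  have hzk : z ^ p ^ k = 1 := Subtype.ext (by
    rw [Subgroup.coe_pow, Subgroup.coe_one, ← hxk]; exact pow_orderOf_eq_one x)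
  have hzk' : z ^ p ^ (k + 1) = 1 := by rw [pow_succ, pow_mul, hzk, one_pow]
  haveI : NeZero (p ^ (k + 1)) := ⟨pow_ne_zero _ hM.1.ne_zero⟩
  obtain ⟨ζ, hζ⟩ : ∃ ζ : ℂ, IsPrimitiveRoot ζ (p ^ (k + 1)) :=
    ⟨_, Complex.isPrimitiveRoot_exp _ (NeZero.ne _)⟩
  have hζpos : 0 < p ^ (k + 1) := pow_pos hM.1.pos _
  have hx' : ∃ k : ℕ, orderOf x = p ^ k := ⟨k, hxk⟩
  set d := blockDefect p B
  set m := minDegVal p b
  set N : ℤ := (p : ℤ) ^ d
  have hNpos : 0 < N := pow_pos (by exact_mod_cast hM.1.pos) _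
  have hp2 : (2 : ℤ) ≤ p := by exact_mod_cast hM.1.two_le
  have hRR : scaled p b * scaled p b = N • scaled p b := by
    have h := scaled_mul_self hM hind.1
    rwa [hmaj] at h
  let e : IrrCharacter G → IrrCharacter G → ℂ := fun χ φ => contrib p x K b χ φ / (p : ℂ) ^ m
  -- facts about characters of height zero
  obtain ⟨φ₀, hφ₀, hφ₀h⟩ := exists_degVal_eq_min (p := p) (IsPBlock.nonempty hM hind.2.1)
  have hscal : ∀ θ ∈ B, ∀ φ ∈ B, degVal p φ = minDegVal p B →
      ∃ w, MemLocalRing M w ∧ ¬ MemLocalIdeal M w ∧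
        e θ φ = (p : ℂ) ^ (degVal p θ - minDegVal p B) * w := by
    intro θ hθ φ hφ hφh
    obtain ⟨w, hw, hw'⟩ := MajorContrib.exists_scaled hM hind hmaj hzx hz φ
    refine ⟨w θ, (hw θ hθ).1, fun h => ?_, (hw θ hθ).2⟩
    refine contrib_not_LI_of_min hM hind hzx hz hzk hφ hφ hφh hφh ?_
    rw [(hw φ hφ).2, hφh, Nat.sub_self, pow_zero, one_mul]
    exact hw' θ hθ φ hφ h
  have hne : ∀ θ ∈ B, ∀ φ ∈ B, degVal p φ = minDegVal p B → e θ φ ≠ 0 := by
    intro θ hθ φ hφ hφh h0
    obtain ⟨w, -, hw, he⟩ := hscal θ hθ φ hφ hφh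
    rw [he, mul_eq_zero, or_iff_right (pow_ne_zero _ (Nat.cast_ne_zero.2 hM.1.ne_zero))] at h0
    exact hw (h0 ▸ LI.zero hM)
  have hcard : Nat.card B = B.toFinset.card := Nat.card_eq_card_toFinset B
  obtain ⟨n, ⟨P⟩⟩ := RankLattice.exists_dec (scaled p b)
  have hn : n = blockRank p b := by
    have h := P.trace_eq scaled_isSymm hRR
    rw [scaled_trace hM hind.1, hmaj] at h
    exact_mod_cast (mul_left_cancel₀ hNpos.ne' h).symm
  have hsuppv : ∀ {n : ℕ} (P : RankLattice.Dec (scaled p b) n), ∀ χ ∈ B, ∃ i, vec z P χ i ≠ 0 := by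
    intro n P χ hχ
    by_contra hall
    push Not at hall
    refine hne χ hχ φ₀ hφ₀ hφ₀h ?_
    show contrib p x K b χ φ₀ / (p : ℂ) ^ minDegVal p b = 0
    rw [contrib_eq_form hM hzx hz P]
    simp [hall]
  suffices hkey : (Nat.card B : ℤ) ≤ N by
    simp only [N] at hkey
    exact_mod_cast hkey
  rcases (by omega : n = 0 ∨ n = 1 ∨ n = 2) with rfl | rfl | rfl
  · obtain ⟨i, -⟩ := hsuppv P φ₀ hφ₀
    exact i.elim0
  · -- rank one
    set c := (P.D.transpose * P.D) 0 0 with hc
    have hAc : P.form 0 0 * c = N := by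
      have h := congrFun (congrFun (P.mul_gram scaled_isSymm hRR) 0) 0
      rw [Matrix.mul_apply, Fin.sum_univ_one, Matrix.smul_apply, Matrix.one_apply_eq] at h
      simpa [smul_eq_mul] using h
    have h1 := count_le Finset.univ hζpos hζ.pow_eq_one (fun χ : IrrCharacter G => vec z P χ 0)
      (fun χ _ => vec_mem_adjoin hz hζ hzk' P χ 0) (r := c)
      (sum_vec_mul hM hK hx' hind.1 hzx hz P 0 0)
    have h2 : B.toFinset.card ≤ (Finset.univ.filter fun χ : IrrCharacter G => vec z P χ 0 ≠ 0).card :=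
      Finset.card_le_card fun χ hχ => Finset.mem_filter.2 ⟨Finset.mem_univ _, by
        obtain ⟨i, hi⟩ := hsuppv P χ (Set.mem_toFinset.1 hχ)
        rwa [Subsingleton.elim i 0] at hi⟩
    have h3 := P.form_diag_pos scaled_isSymm hNpos hRR 0
    have h4 : (B.toFinset.card : ℤ) ≤ c := le_trans (by exact_mod_cast h2) h1
    rw [hcard]
    nlinarith
  -- rank two
  obtain ⟨Q, hQ0, hQ1⟩ := RankLattice.exists_reduced scaled_isSymm hNpos hRR P
  set C := Q.D.transpose * Q.D with hC
  have hsym : Q.form 1 0 = Q.form 0 1 := (Q.form_isSymm scaled_isSymm).apply 0 1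
  have hCsym : C 1 0 = C 0 1 := by
    simp only [hC, Matrix.mul_apply, Matrix.transpose_apply, mul_comm]
  have hAC := Q.mul_gram scaled_isSymm hRR
  have e00 : Q.form 0 0 * C 0 0 + Q.form 0 1 * C 0 1 = N := by
    have h := congrFun (congrFun hAC 0) 0
    rw [Matrix.mul_apply, Fin.sum_univ_two, Matrix.smul_apply, Matrix.one_apply_eq, ← hC, hCsym] at h
    simpa [smul_eq_mul] using h
  have e10 : Q.form 0 1 * C 0 0 + Q.form 1 1 * C 0 1 = 0 := by
    have h := congrFun (congrFun hAC 1) 0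
    rw [Matrix.mul_apply, Fin.sum_univ_two, Matrix.smul_apply, Matrix.one_apply_ne (by decide),
      ← hC, hsym, hCsym] at h
    simpa [smul_eq_mul] using h
  have e01 : Q.form 0 0 * C 0 1 + Q.form 0 1 * C 1 1 = 0 := by
    have h := congrFun (congrFun hAC 0) 1
    rw [Matrix.mul_apply, Fin.sum_univ_two, Matrix.smul_apply, Matrix.one_apply_ne (by decide),
      ← hC] at h
    simpa [smul_eq_mul] using h
  have e11 : Q.form 0 1 * C 0 1 + Q.form 1 1 * C 1 1 = N := by
    have h := congrFun (congrFun hAC 1) 1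
    rw [Matrix.mul_apply, Fin.sum_univ_two, Matrix.smul_apply, Matrix.one_apply_eq, ← hC, hsym] at h
    simpa [smul_eq_mul] using h
  set α := Q.form 0 0
  set γ := Q.form 1 1
  set β := Q.form 0 1 with hβ
  have hα : 0 < α := Q.form_diag_pos scaled_isSymm hNpos hRR 0
  have hγ : 0 < γ := Q.form_diag_pos scaled_isSymm hNpos hRR 1
  have hdet : (p : ℤ) ∣ α * γ - β * β := by
    have h := prime_dvd_det hM hind.1 Q
    rw [Matrix.det_fin_two, hsym] at h
    exact h
  have hu := abs_nonneg β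
  have hΔ : 0 < α * γ - β * β := by
    nlinarith [abs_mul_abs_self β, mul_le_mul hQ0 hQ1 (by linarith) hα.le]
  by_cases hbig : 2 ≤ α ∧ 2 ≤ γ
  · -- the generic reduced form
    obtain ⟨t, ht, htβ⟩ : ∃ t : ℤ, (t = 1 ∨ t = -1) ∧ t * β = -|β| := by
      rcases abs_choice β with h | h <;> rw [h]
      · exact ⟨-1, Or.inr rfl, by ring⟩
      · exact ⟨1, Or.inl rfl, by ring⟩
    let X : IrrCharacter G × Fin 3 → ℂ := fun a =>
      ![vec z Q a.1 0, vec z Q a.1 1, vec z Q a.1 0 - (t : ℂ) * vec z Q a.1 1] a.2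
    have hXmem : ∀ a, X a ∈ Algebra.adjoin ℤ ({ζ} : Set ℂ) := by
      rintro ⟨χ, i⟩
      fin_cases i
      · exact vec_mem_adjoin hz hζ hzk' Q χ 0
      · exact vec_mem_adjoin hz hζ hzk' Q χ 1
      · exact sub_mem (vec_mem_adjoin hz hζ hzk' Q χ 0)
          (mul_mem (intCast_mem _ t) (vec_mem_adjoin hz hζ hzk' Q χ 1))
    have hG := sum_vec_mul hM hK hx' hind.1 hzx hz Q
    have htt : (t : ℂ) * (t : ℂ) = 1 := by rcases ht with h | h <;> simp [h]
    have hr : ∑ a : IrrCharacter G × Fin 3, X a * conj (X a)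
        = ((2 * (C 0 0 + C 1 1 - t * C 0 1) : ℤ) : ℂ) := by
      rw [Fintype.sum_prod_type]
      simp only [Fin.sum_univ_three, X, Matrix.cons_val_zero, Matrix.cons_val_one,
        Matrix.cons_val, map_sub, map_mul, map_intCast]
      rw [Finset.sum_congr rfl (g := fun χ : IrrCharacter G =>
        2 * (vec z Q χ 0 * conj (vec z Q χ 0))
          + (1 + (t : ℂ) * t) * (vec z Q χ 1 * conj (vec z Q χ 1))
          - (t : ℂ) * (vec z Q χ 0 * conj (vec z Q χ 1))
          - (t : ℂ) * (vec z Q χ 1 * conj (vec z Q χ 0))) fun χ _ => by ring]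
      simp only [Finset.sum_sub_distrib, Finset.sum_add_distrib, ← Finset.mul_sum, hG]
      rw [← hC, hCsym, htt]
      push_cast
      ring
    have h1 := count_le (Finset.univ : Finset (IrrCharacter G × Fin 3)) hζpos hζ.pow_eq_one X
      (fun a _ => hXmem a) hr
    have h2 : B.toFinset.card * 2
        ≤ ((Finset.univ : Finset (IrrCharacter G × Fin 3)).filter fun a => X a ≠ 0).card := by
      refine le_trans ?_ (Finset.card_le_card
        (s := (B.toFinset ×ˢ (Finset.univ : Finset (Fin 3))).filter fun a => X a ≠ 0)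
        (Finset.filter_subset_filter _ (Finset.subset_univ _)))
      simp only [Finset.card_filter, Finset.sum_product]
      rw [← smul_eq_mul]
      refine Finset.card_nsmul_le_sum _ _ _ fun χ hχ => ?_
      simp only [Fin.sum_univ_three, X, Matrix.cons_val_zero, Matrix.cons_val_one, Matrix.cons_val]
      obtain ⟨i, hi⟩ := hsuppv Q χ (Set.mem_toFinset.1 hχ)
      by_cases h0 : vec z Q χ 0 = 0
      · have h1' : vec z Q χ 1 ≠ 0 := by
          fin_cases i
          · exact absurd h0 hi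
          · exact hi
        have h2' : vec z Q χ 0 - (t : ℂ) * vec z Q χ 1 ≠ 0 := by
          rw [h0, zero_sub, neg_ne_zero]
          exact mul_ne_zero (by rcases ht with h | h <;> simp [h]) h1'
        simp [h0, h1', h2']
        rcases ht with h | h <;> simp [h]
      · by_cases h1' : vec z Q χ 1 = 0
        · simp [h0, h1']
        · simp [h0, h1']
    have h3 : 2 * (B.toFinset.card : ℤ) ≤ 2 * (C 0 0 + C 1 1 - t * C 0 1) :=
      le_trans (by exact_mod_cast (mul_comm B.toFinset.card 2 ▸ h2)) h1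
    have h4 : (C 0 0 + C 1 1 - t * C 0 1) * (α * γ - β * β) = N * (α + γ - |β|) := by
      linear_combination (γ + t * β) * e00 - (β + t * α) * e10 + α * e11 - β * e01 + N * htβ
    rw [hcard]
    have h5 := arith_reduced hbig.1 hbig.2 hu hQ0 hQ1
    rw [abs_mul_abs_self] at h5
    by_contra hgt
    nlinarith [mul_le_mul_of_nonneg_right (le_of_mul_le_mul_left h3 two_pos) hΔ.le,
      mul_le_mul_of_nonneg_left h5 hNpos.le, mul_lt_mul_of_pos_right (not_le.1 hgt) hΔ]
  · -- a diagonal form with an entry one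
    have hβ0 : β = 0 := by
      have : |β| = 0 := by omega
      exact abs_eq_zero.1 this
    obtain ⟨i, j, hij, hAi, hAij, hCi, hCj, hpj⟩ : ∃ i j : Fin 2, i ≠ j ∧ Q.form i i = 1 ∧
        (∀ a c, a ≠ c → Q.form a c = 0) ∧ C i i = N ∧ Q.form j j * C j j = N ∧
        (p : ℤ) ∣ Q.form j j := by
      have hoff : ∀ a c : Fin 2, a ≠ c → Q.form a c = 0 := by
        intro a c hac
        fin_cases a <;> fin_cases c <;>
          first | exact absurd rfl hac | exact hβ0 | exact hsym.trans hβ0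
      rw [hβ0] at e00 e11 hdet
      simp only [zero_mul, add_zero, zero_add, sub_zero] at e00 e11 hdet
      by_cases hα1 : α = 1
      · rw [hα1, one_mul] at e00 hdet
        exact ⟨0, 1, by decide, hα1, hoff, e00, e11, hdet⟩
      · have hγ1 : γ = 1 := by omega
        rw [hγ1, one_mul] at e11
        rw [hγ1, mul_one] at hdet
        exact ⟨1, 0, by decide, hγ1, hoff, e11, e00, hdet⟩
    have hform : ∀ θ φ, e θ φ = vec z Q θ i * conj (vec z Q φ i)
        + (Q.form j j : ℂ) * (vec z Q θ j * conj (vec z Q φ j)) := by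
      intro θ φ
      show contrib p x K b θ φ / (p : ℂ) ^ minDegVal p b = _
      rw [contrib_eq_form hM hzx hz Q]
      have hu2 : ∀ F : Fin 2 → ℂ, ∑ a, F a = F i + F j := fun F => by
        rw [← Finset.sum_pair hij]
        refine Finset.sum_congr ?_ fun _ _ => rfl
        ext a; simp; omega
      simp only [hu2, hAi, hAij i j hij, hAij j i hij.symm, Int.cast_one, Int.cast_zero]
      ring
    have hG := sum_vec_mul hM hK hx' hind.1 hzx hz Q
    by_cases hall : ∀ χ ∈ B, vec z Q χ i ≠ 0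
    · have h1 := count_le Finset.univ hζpos hζ.pow_eq_one (fun χ : IrrCharacter G => vec z Q χ i)
        (fun χ _ => vec_mem_adjoin hz hζ hzk' Q χ i) (r := C i i) (hG i i)
      have h2 : B.toFinset.card
          ≤ (Finset.univ.filter fun χ : IrrCharacter G => vec z Q χ i ≠ 0).card :=
        Finset.card_le_card fun χ hχ => Finset.mem_filter.2
          ⟨Finset.mem_univ _, hall χ (Set.mem_toFinset.1 hχ)⟩
      rw [hcard, ← hCi]
      exact le_trans (by exact_mod_cast h2) h1
    push Not at hall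
    obtain ⟨χ₀, hχ₀, hχ₀i⟩ := hall
    have hY0 : ∀ φ ∈ B, degVal p φ = minDegVal p B → vec z Q φ j ≠ 0 := fun φ hφ hφh h =>
      hne χ₀ hχ₀ φ hφ hφh (by rw [hform, hχ₀i, h]; simp)
    set Z := B.toFinset.filter fun χ => vec z Q χ j = 0 with hZdef
    have hZ : ∀ χ ∈ Z, vec z Q χ i ≠ 0 ∧
        vec z Q χ i / (p : ℂ) ∈ Algebra.adjoin ℤ ({ζ} : Set ℂ) := by
      intro χ hχ
      obtain ⟨hχB, hχj⟩ := Finset.mem_filter.1 hχ
      rw [Set.mem_toFinset] at hχB
      obtain ⟨w, hwR, hw, hwe⟩ := hscal χ hχB φ₀ hφ₀ hφ₀h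
      have hh : 1 ≤ degVal p χ - minDegVal p B := by
        have := minDegVal_le (p := p) hχB
        have : degVal p χ ≠ minDegVal p B := fun h => hY0 χ hχB h hχj
        omega
      rw [hform, hχj, zero_mul, mul_zero, add_zero] at hwe
      refine ⟨fun h => ?_, CycloDiv.div_prime_mem hM hζ (vec_mem_adjoin hz hζ hzk' Q χ i) ?_⟩
      · exact hne χ hχB φ₀ hφ₀ hφ₀h (by rw [hform, hχj, h]; simp)
      set c := conj (vec z Q φ₀ i)
      have hcmem : c ∈ Algebra.adjoin ℤ ({ζ} : Set ℂ) :=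
        DefectBound.conj_mem_adjoin hζpos hζ.pow_eq_one (vec_mem_adjoin hz hζ hzk' Q φ₀ i)
      have hcR : MemLocalRing M c := CycloDiv.mem_LR hM hζ hcmem
      have hc : ¬ MemLocalIdeal M c := by
        intro hI
        refine contrib_not_LI_of_min hM hind hzx hz hzk hφ₀ hφ₀ hφ₀h hφ₀h ?_
        show MemLocalIdeal M (e φ₀ φ₀)
        rw [hform]
        obtain ⟨g, hg⟩ := hpj
        refine LI.add hM (LI.mul_left hM (CycloDiv.mem_LR hM hζ
          (vec_mem_adjoin hz hζ hzk' Q φ₀ i)) hI) (LI.mul_right hM ?_ (LR.mul hM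
            (CycloDiv.mem_LR hM hζ (vec_mem_adjoin hz hζ hzk' Q φ₀ j)) (CycloDiv.mem_LR hM hζ
              (DefectBound.conj_mem_adjoin hζpos hζ.pow_eq_one (vec_mem_adjoin hz hζ hzk' Q φ₀ j)))))
        exact (LI.intCast_iff hM _).2 ⟨g, hg⟩
      have hc0 := ne_zero_of_not_LI hM hc
      obtain ⟨h', hh'⟩ : ∃ h', degVal p χ - minDegVal p B = h' + 1 := ⟨_, (Nat.sub_add_cancel hh).symm⟩
      rw [hh'] at hwe
      have e1 : vec z Q χ i / (p : ℂ) = (p : ℂ) ^ h' * w * c⁻¹ := by
        have hp0 : (p : ℂ) ≠ 0 := Nat.cast_ne_zero.2 hM.1.ne_zero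
        field_simp
        linear_combination hwe
      rw [e1]
      exact LR.mul hM (LR.mul hM (LR.pow hM (LR.natCast hM p) h') hwR) (LR.inv hM hcR hc)
    -- members with a second coordinate
    have h1 := count_le Finset.univ hζpos hζ.pow_eq_one (fun χ : IrrCharacter G => vec z Q χ j)
      (fun χ _ => vec_mem_adjoin hz hζ hzk' Q χ j) (r := C j j) (hG j j)
    have h2 : (B.toFinset.filter fun χ => ¬ vec z Q χ j = 0).card
        ≤ (Finset.univ.filter fun χ : IrrCharacter G => vec z Q χ j ≠ 0).card :=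
      Finset.card_le_card fun χ hχ => Finset.mem_filter.2
        ⟨Finset.mem_univ _, (Finset.mem_filter.1 hχ).2⟩
    -- the others, with multiplicity `p²`
    let E : IrrCharacter G → ℕ := fun χ => if χ ∈ Z then 1 else 0
    set S := (Finset.univ : Finset (IrrCharacter G)).sigma fun χ => Finset.range (p ^ (2 * E χ))
    let X : (Σ _ : IrrCharacter G, ℕ) → ℂ := fun a => vec z Q a.1 i / (p : ℂ) ^ E a.1
    have hXm : ∀ a ∈ S, X a ∈ Algebra.adjoin ℤ ({ζ} : Set ℂ) := by
      intro a _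
      simp only [X, E]
      split_ifs with h
      · rw [pow_one]; exact (hZ _ h).2
      · rw [pow_zero, div_one]; exact vec_mem_adjoin hz hζ hzk' Q a.1 i
    have hr : ∑ a ∈ S, X a * conj (X a) = ((C i i : ℤ) : ℂ) := by
      rw [Finset.sum_sigma, ← hG i i]
      refine Finset.sum_congr rfl fun χ _ => ?_
      simp only [X, Finset.sum_const, Finset.card_range, nsmul_eq_mul, map_div₀, map_pow,
        map_natCast]
      have hp0 : (p : ℂ) ≠ 0 := Nat.cast_ne_zero.2 hM.1.ne_zero
      push_cast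
      field_simp
      ring
    have h3 := count_le S hζpos hζ.pow_eq_one X hXm hr
    have h4 : Z.card * p ^ 2 ≤ (S.filter fun a => X a ≠ 0).card := by
      refine le_trans (le_of_eq ?_) (Finset.card_le_card
        (s := Z.sigma fun χ => Finset.range (p ^ (2 * E χ))) fun a ha => ?_)
      · rw [Finset.card_sigma, ← smul_eq_mul, ← Finset.sum_const]
        exact Finset.sum_congr rfl fun χ hχ => by simp [E, hχ]
      · obtain ⟨h5, h6⟩ := Finset.mem_sigma.1 ha
        exact Finset.mem_filter.2 ⟨Finset.mem_sigma.2 ⟨Finset.mem_univ _, h6⟩,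
          div_ne_zero (hZ _ h5).1 (pow_ne_zero _ (Nat.cast_ne_zero.2 hM.1.ne_zero))⟩
    have hγp : (p : ℤ) ≤ Q.form j j :=
      Int.le_of_dvd (Q.form_diag_pos scaled_isSymm hNpos hRR j) hpj
    have hY : ((B.toFinset.filter fun χ => ¬ vec z Q χ j = 0).card : ℤ) ≤ C j j :=
      le_trans (by exact_mod_cast h2) h1
    have hZc : (Z.card : ℤ) * (p : ℤ) ^ 2 ≤ N := hCi ▸ le_trans (by exact_mod_cast h4) h3
    rw [hcard, ← Finset.card_filter_add_card_filter_not (s := B.toFinset)
      (fun χ => vec z Q χ j = 0), Nat.cast_add]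
    have hC0 : 0 ≤ C j j := le_trans (Int.natCast_nonneg _) hY
    set y : ℤ := ((B.toFinset.filter fun χ => ¬ vec z Q χ j = 0).card : ℤ)
    have hpN : (p : ℤ) * y ≤ N :=
      ((mul_le_mul_of_nonneg_left hY (Int.natCast_nonneg p)).trans
        (mul_le_mul_of_nonneg_right hγp hC0)).trans_eq hCj
    have hp0' : (0 : ℤ) < (p : ℤ) ^ 2 := pow_pos (by linarith) 2
    refine le_of_mul_le_mul_left ?_ hp0'
    have h7 : (p : ℤ) ^ 2 * y ≤ (p : ℤ) * N := by
      rw [sq, mul_assoc]
      exact mul_le_mul_of_nonneg_left hpN (Int.natCast_nonneg p)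
    have hp3 : 1 + (p : ℤ) ≤ (p : ℤ) ^ 2 := by
      have h9 : (2 : ℤ) * (p : ℤ) ≤ (p : ℤ) * (p : ℤ) :=
        mul_le_mul_of_nonneg_right hp2 (Int.natCast_nonneg p)
      rw [sq]
      linarith
    have h8 : N + (p : ℤ) * N ≤ (p : ℤ) ^ 2 * N := by
      rw [← one_add_mul]
      exact mul_le_mul_of_nonneg_right hp3 hNpos.le
    rw [mul_add, mul_comm ((p : ℤ) ^ 2) (Z.card : ℤ)]
    linarith

end Section

end CfsgLib.Blocks.RankTwoMajor
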