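import Cfsg.Agent.Lib.Blocks.RankTwoAut
import Cfsg.Agent.Lib.Blocks.MajorRankBound
import Cfsg.Agent.Lib.Blocks.RankTwoMajor
import Cfsg.Agent.Lib.BrouePuig.FreeAbelian

/-!
# Blocks with abelian defect groups of rank two or three
-/

set_option autoImplicit false

namespace CfsgLib.Blocks.AbelianRankTwo

open Cfsg CfsgLib.Blocks CfsgLib.BrouePuig CfsgLib.BrauerPairs
open scoped Classical

/-! ### Abelian groups with few generators -/

section Abelian

variable {A : Type*} [CommGroup A] [Finite A] {p : ℕ} [hp : Fact p.Prime]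

omit hp in
theorem card_closure_le (N : ℕ) (s : Finset A) (h : ∀ a ∈ s, orderOf a ≤ N) :
    Nat.card (Subgroup.closure (s : Set A)) ≤ N ^ s.card := by
  induction s using Finset.induction_on with
  | empty => simp
  | @insert a t ha ih =>
    have ih' := ih fun b hb => h b (Finset.mem_insert_of_mem hb)
    have hle : Nat.card (Subgroup.zpowers a ⊔ Subgroup.closure (t : Set A) : Subgroup A)
        ≤ Nat.card (Subgroup.zpowers a) * Nat.card (Subgroup.closure (t : Set A)) := by
      rw [← Nat.card_prod]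
      refine Nat.card_le_card_of_surjective
        (fun q => ⟨(q.1 : A) * q.2, Subgroup.mul_mem_sup q.1.2 q.2.2⟩) ?_
      rintro ⟨x, hx⟩
      obtain ⟨y, hy, z, hz, rfl⟩ := Subgroup.mem_sup.1 hx
      exact ⟨(⟨y, hy⟩, ⟨z, hz⟩), rfl⟩
    rw [Finset.coe_insert, Set.insert_eq, Subgroup.closure_union, ← Subgroup.zpowers_eq_closure,
      Finset.card_insert_of_notMem ha, pow_succ']
    refine hle.trans (Nat.mul_le_mul ?_ ih')
    rw [Nat.card_zpowers]
    exact h a (Finset.mem_insert_self a t)

theorem card_le_pow_rank {N n : ℕ} (hN : ∀ a : A, orderOf a ≤ N) (hr : Group.rank A ≤ n) :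
    Nat.card A ≤ N ^ n := by
  obtain ⟨S, hS, hgen⟩ := Group.rank_spec A
  have h := card_closure_le N S fun a _ => hN a
  rw [hgen, Subgroup.card_top, hS] at h
  exact h.trans (Nat.pow_le_pow_right ((orderOf_pos (1 : A)).trans_le (hN 1)) hr)

theorem card_socle_eq_index :
    Nat.card (RankTwoAut.socle A p) = (powMonoidHom p : A →* A).range.index := by
  have h1 := Subgroup.card_mul_index (powMonoidHom p : A →* A).ker
  have h2 := Subgroup.card_mul_index (powMonoidHom p : A →* A).range
  rw [Subgroup.index_ker, ← h2, mul_comm _ (powMonoidHom p : A →* A).range.index] at h1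
  exact Nat.eq_of_mul_eq_mul_right Nat.card_pos h1

theorem index_range_le {n : ℕ} (hr : Group.rank A ≤ n) :
    (powMonoidHom p : A →* A).range.index ≤ p ^ n := by
  set R := (powMonoidHom p : A →* A).range
  rw [Subgroup.index_eq_card]
  refine card_le_pow_rank (fun q => ?_)
    ((Group.rank_le_of_surjective _ (QuotientGroup.mk'_surjective R)).trans hr)
  obtain ⟨a, rfl⟩ := QuotientGroup.mk'_surjective R q
  refine Nat.le_of_dvd hp.out.pos (orderOf_dvd_of_pow_eq_one ?_)
  rw [← map_pow]
  exact (QuotientGroup.eq_one_iff _).2 ⟨a, rfl⟩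

theorem card_socle_le {n : ℕ} (hr : Group.rank A ≤ n) :
    Nat.card (RankTwoAut.socle A p) ≤ p ^ n :=
  card_socle_eq_index.trans_le (index_range_le hr)

/-- Factoring out an element that is not a `p`-th power lowers the rank. -/
theorem card_socle_map_le {B : Type*} [CommGroup B] [Finite B] (hA : IsPGroup p A) {n : ℕ}
    (hr : Group.rank A ≤ n + 1) {x : A} (hx : x ∉ (powMonoidHom p : A →* A).range) (f : A →* B)
    (hf : Function.Surjective f) (hfx : f x = 1) :
    Nat.card (RankTwoAut.socle B p) ≤ p ^ n := by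
  set R := (powMonoidHom p : A →* A).range with hR
  have hmap : (powMonoidHom p : B →* B).range = R.map f := by
    ext b
    constructor
    · rintro ⟨c, rfl⟩
      obtain ⟨a, rfl⟩ := hf c
      exact ⟨_, ⟨a, rfl⟩, by simp⟩
    · rintro ⟨_, ⟨a, rfl⟩, rfl⟩
      exact ⟨f a, by simp⟩
  rw [card_socle_eq_index, hmap, Subgroup.index_map, MonoidHom.range_eq_top.2 hf,
    Subgroup.index_top, mul_one]
  have hlt : R < R ⊔ f.ker := lt_of_le_of_ne le_sup_left fun h => hx (h ▸ Subgroup.mem_sup_right hfx)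
  obtain ⟨j, hj⟩ := (hA.index (R ⊔ f.ker))
  obtain ⟨i, hi⟩ := (hA.index R)
  have h1 : (R ⊔ f.ker).index < R.index := Subgroup.index_strictAnti hlt
  have h2 := index_range_le (p := p) hr
  rw [hj]
  rw [hj, hi] at h1
  rw [← hR, hi] at h2
  refine Nat.pow_le_pow_right hp.out.pos ?_
  have h3 := (Nat.pow_lt_pow_iff_right hp.out.one_lt).1 h1
  have h4 := (Nat.pow_le_pow_iff_right hp.out.one_lt).1 h2
  omega

end Abelian

/-! ### Rank two -/

variable {p : ℕ} [hp : Fact p.Prime] {M : Ideal AlgInt} {G : Type*} [Group G] [Fintype G]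
  {B : Set (IrrCharacter G)} {P : Subgroup G}
  {c : Set (IrrCharacter (Subgroup.centralizer (P : Set G)))}

theorem major_eq (hM : IsPModular p M) (hmax : IsMaximalBrauerPair p M B P c)
    (hab : ∀ x ∈ P, ∀ y ∈ P, x * y = y * x) (w : P) :
    IsInducedBlock M (cenZ (w : G)) (bel hM hmax.1.1 w).2 B ∧
      blockDefect p (bel hM hmax.1.1 w).2 = blockDefect p B := by
  have ha : IsElemOf p M B (bel hM hmax.1.1 w) :=
    isElemOf_of_below hM hmax (bel_below hM hmax.1.1 w)
  have hind := (isBrauerPairOf_iff_induced hM ha.1.1 ha.1.2).1 ha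
  exact ⟨hind, le_antisymm (blockDefect_le_of_induced hM hind) (major_bel hM hmax hab w)⟩

/-- `k(B) ≤ p ^ d` for an abelian defect group with at most `p ^ 2` elements of order `p` or `1`. -/
theorem card_le_of_socle (hM : IsPModular p M) (hmax : IsMaximalBrauerPair p M B P c)
    (hab : ∀ x ∈ P, ∀ y ∈ P, x * y = y * x)
    (hsoc : Nat.card {x : P // x ^ p = 1} ≤ p ^ 2) :
    Nat.card B ≤ p ^ blockDefect p B := by
  have hB : IsPBlock M B := hmax.1.2.1
  rcases Nat.lt_or_ge 2 (blockDefect p B) with hd | hd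
  swap
  · have h := DefectBound.card_le_bound hM _ G B hB rfl
    rwa [if_pos hd] at h
  letI : CommGroup P :=
    { (inferInstance : Group P) with mul_comm := fun a b => Subtype.ext (hab a a.2 b b.2) }
  have hPp : IsPGroup p P := hmax.1.1.1
  have hcard : p ^ 2 < Nat.card P := by
    rw [card_defectGroup hM hB (isDefectGroup_of_isMaximal hM hmax)]
    exact Nat.pow_lt_pow_right hp.out.one_lt hd
  have hE : ¬ p ∣ Nat.card (Cfsg.autInducedBy (pairStab P c) P) := by
    rw [← index_eq_card_aut (pairStab_le_normalizer c)]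
    exact not_dvd_relIndex hM hmax hab
  obtain ⟨w, hw⟩ := RankTwoAut.exists_regular (A := P) hPp hsoc hcard _ hE
  have hQP : Subgroup.zpowers (w : G) ≤ P := Subgroup.zpowers_le.2 w.2
  have hreg : ∀ g ∈ pairStab P c, g ∈ Subgroup.centralizer (Subgroup.zpowers (w : G) : Set G) →
      g ∈ Subgroup.centralizer (P : Set G) := by
    intro g hg hgw
    set α : MulAut P := Subgroup.normalizerMonoidHom P ⟨g, pairStab_le_normalizer c hg⟩ with hα
    have hαmem : α ∈ Cfsg.autInducedBy (pairStab P c) P :=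
      Subgroup.subset_closure ⟨g, hg, fun y => rfl⟩
    have h1 := hw α hαmem (Subtype.ext (by
      show g * (w : G) * g⁻¹ = w
      rw [← Subgroup.mem_centralizer_iff.1 hgw _ (Subgroup.mem_zpowers _), mul_inv_cancel_right]))
    exact mem_centralizer_iff_conj.2 fun y hy =>
      congrArg Subtype.val (DFunLike.congr_fun h1 (⟨y, hy⟩ : P))
  have hnil : IsNilpotentBlock p M (bel hM hmax.1.1 w).2 :=
    (nilpotent_nested_iff hM hmax hab hQP (bel_inducedIn hM hmax.1.1 hab w)).2 hreg
  have hl := blockRank_eq_one_of_nilpotent hM hnil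
    (maximal_nested hM hmax hab hQP (bel_inducedIn hM hmax.1.1 hab w))
  obtain ⟨k, hk⟩ := IsPGroup.iff_orderOf.1 hPp w
  rw [← Subgroup.orderOf_coe] at hk
  obtain ⟨hind, hmaj⟩ := major_eq hM hmax hab w
  exact RankTwoMajor.card_le_of_rank_le_two hM (cenZ_eq (w : G)) hk hind hmaj (hl.le.trans one_le_two)

/-! ### Rank three -/

/-- The rank of a block is at most the size of the image modulo a central `p`-subgroup. -/
theorem exists_quot_block (hM : IsPModular p M) {K : Type*} [Group K] [Fintype K] {Z : Subgroup K}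
    [Z.Normal] [Fintype (K ⧸ Z)] (hZle : Z ≤ Subgroup.center K) (hZp : IsPGroup p Z)
    {b : Set (IrrCharacter K)} (hb : IsPBlock M b) :
    ∃ bb : Set (IrrCharacter (K ⧸ Z)), IsPBlock M bb ∧ blockRank p b ≤ Nat.card bb ∧
      ∀ D : Subgroup K, IsDefectGroup p M b D →
        IsDefectGroup p M bb (D.map (QuotientGroup.mk' Z)) := by
  have hC := DefectTwo.index_centralizer (p := p) hZle
  obtain ⟨b', hb', hsub, hDG⟩ := QuotientDefect.exists_block_map_eq hM hZp hb
  refine ⟨b', hb', ?_, fun D hD => (hDG _).2 ⟨D, hD, rfl⟩⟩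
  have hbb : ∀ η, η ∈ b' ↔ inflate Z η ∈ b := fun η => by
    obtain ⟨ψ₀, hψ₀⟩ := IsPBlock.nonempty hM hb'
    rw [IsPBlock.mem_iff hM hb' hψ₀, sameBlock_inflate_iff hM hZp hC,
      IsPBlock.mem_iff hM hb (hsub ψ₀ hψ₀)]
  set S : Finset (K → ℂ) := b'.toFinset.image fun η =>
    pRegularPart p (inflate Z η : K → ℂ)
  rw [blockRank]
  refine le_trans (Submodule.finrank_mono (t := Submodule.span ℂ (S : Set (K → ℂ))) ?_) ?_
  · rw [Submodule.span_le]
    rintro _ ⟨ψ, hψ, rfl⟩
    set F : K → ℂ := (ψ : K → ℂ)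
    set w : IrrCharacter (K ⧸ Z) → ℂ := fun η =>
      classInner (DefectTwo.pushReg p Z F) (η : K ⧸ Z → ℂ)
    have hw0 : ∀ η, η ∉ b' → w η = 0 := by
      intro η hη
      simp only [w, Cfsg.classInner, conj_irr]
      rw [DefectTwo.sum_pushReg_mul F fun q => (η : K ⧸ Z → ℂ) q⁻¹]
      refine mul_eq_zero_of_right _ ?_
      have h1 := IsPBlock.regInner_eq_zero hM hb hψ (mt (hbb η).2 hη)
      rw [regInner, mul_eq_zero] at h1
      replace h1 := h1.resolve_left (mul_ne_zero (pPartCard_ne_zero hM.1)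
        (inv_ne_zero CfsgLib.Char.card_ne_zero))
      simpa only [inflate_apply, map_inv] using h1
    have e : pRegularPart p F
        = ∑ η ∈ b'.toFinset, w η • pRegularPart p (inflate Z η : K → ℂ) := by
      funext g
      simp only [Finset.sum_apply, Pi.smul_apply, smul_eq_mul, pRegularPart_apply]
      split_ifs with hg
      · conv_lhs => rw [← DefectTwo.pushReg_mk hM.1 hZp hZle F hg,
          CfsgLib.Char.IsClassFunction.eq_sum_irr (G := K ⧸ Z)
            (ψ := DefectTwo.pushReg p Z F)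
            fun q v => DefectTwo.pushReg_conj (irr_conj_apply ψ) q v]
        simp only [Finset.sum_apply, Pi.smul_apply, smul_eq_mul, inflate_apply]
        exact (Finset.sum_subset (Finset.subset_univ _) fun η _ hη => by
          rw [show classInner (DefectTwo.pushReg p Z F) (η : K ⧸ Z → ℂ) = 0 from
            hw0 η (by simpa using hη), zero_mul]).symm
      · simp
    show pRegularPart p F ∈ _
    rw [e]
    exact sum_mem fun η hη => Submodule.smul_mem _ _
      (Submodule.subset_span (Finset.mem_image_of_mem _ hη))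
  · refine (finrank_span_finset_le_card S).trans (Finset.card_image_le.trans_eq ?_)
    rw [Nat.card_eq_card_toFinset]

/-- `k(B) ^ 3 ≤ p ^ (5 d)` for an abelian defect group of rank three. -/
theorem card_pow_three_le (hM : IsPModular p M) (hmax : IsMaximalBrauerPair p M B P c)
    (hab : ∀ x ∈ P, ∀ y ∈ P, x * y = y * x) (hr : Group.rank P = 3) :
    Nat.card B ^ 3 ≤ p ^ (5 * blockDefect p B) := by
  letI : CommGroup P :=
    { (inferInstance : Group P) with mul_comm := fun a b => Subtype.ext (hab a a.2 b b.2) }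
  have hPp : IsPGroup p P := hmax.1.1.1
  have hPd : Nat.card P = p ^ blockDefect p B :=
    card_defectGroup hM hmax.1.2.1 (isDefectGroup_of_isMaximal hM hmax)
  obtain ⟨w, hw⟩ : ∃ w : P, ∀ v : P, orderOf v ≤ orderOf w := Finite.exists_max fun v : P => orderOf v
  obtain ⟨k, hk⟩ := IsPGroup.iff_orderOf.1 hPp w
  have hd3 : blockDefect p B ≤ k * 3 := by
    have h := card_le_pow_rank hw hr.le
    rw [hk, hPd, ← pow_mul] at h
    exact (Nat.pow_le_pow_iff_right hp.out.one_lt).1 h
  have hwR : w ∉ (powMonoidHom p : P →* P).range := by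
    rintro ⟨v, rfl⟩
    obtain ⟨j, hj⟩ := IsPGroup.iff_orderOf.1 hPp v
    rcases Nat.eq_zero_or_pos j with rfl | hj0
    · rw [pow_zero, orderOf_eq_one_iff] at hj
      subst hj
      have h1 : k = 0 := by
        rw [map_one, orderOf_one, eq_comm, Nat.pow_eq_one] at hk
        exact hk.resolve_left hp.out.one_lt.ne'
      have h2 : Nat.card P = 1 := by
        rw [hPd, show blockDefect p B = 0 by omega, pow_zero]
      haveI : Subsingleton P := (Nat.card_eq_one_iff_unique.1 h2).1
      have h3 : Group.rank P ≤ 0 :=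
        (Group.rank_le (S := (∅ : Finset P)) (Subsingleton.elim _ _)).trans_eq Finset.card_empty
      omega
    · have h1 : orderOf (v ^ p) < orderOf v := by
        rw [orderOf_pow_of_dvd hp.out.ne_zero (hj ▸ dvd_pow_self p hj0.ne')]
        exact Nat.div_lt_self (orderOf_pos v) hp.out.one_lt
      exact absurd (hw v) (not_le.2 (by simpa using h1))
  obtain ⟨hind, hmaj⟩ := major_eq hM hmax hab w
  have hQP : Subgroup.zpowers (w : G) ≤ P := Subgroup.zpowers_le.2 w.2
  have hnest := maximal_nested hM hmax hab hQP (bel_inducedIn hM hmax.1.1 hab w)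
  have hDb := isDefectGroup_of_isMaximal hM hnest
  have hPK : P ≤ cenZ (w : G) := le_centralizer_of_abelian hab hQP
  set K : Subgroup G := cenZ (w : G)
  set z : K := ⟨(w : G), hPK w.2⟩
  have hzc : z ∈ Subgroup.center K := Subgroup.mem_center_iff.2 fun u => Subtype.ext
    (Subgroup.mem_centralizer_iff.1 u.2 _ (Subgroup.mem_zpowers _)).symm
  have hZle : Subgroup.zpowers z ≤ Subgroup.center K := Subgroup.zpowers_le.2 hzc
  haveI : (Subgroup.zpowers z).Normal := ⟨fun n hn g => by
    rwa [Subgroup.mem_center_iff.1 (hZle hn) g, mul_inv_cancel_right]⟩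
  have hzo : orderOf z = p ^ k := by
    rw [← hk, ← Subgroup.orderOf_coe, ← Subgroup.orderOf_coe w]
  have hZp : IsPGroup p (Subgroup.zpowers z) :=
    IsPGroup.of_card (n := k) (by rw [Nat.card_zpowers, hzo])
  letI : Fintype (K ⧸ Subgroup.zpowers z) := Fintype.ofFinite _
  obtain ⟨bb, hbb, hrank, hDG⟩ := exists_quot_block hM hZle hZp hind.1
  -- the defect group of the image
  set D : Subgroup (K ⧸ Subgroup.zpowers z) := (P.subgroupOf K).map (QuotientGroup.mk' _) with hD
  have hDbb : IsDefectGroup p M bb D := hDG _ hDb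
  have hDab : ∀ a ∈ D, ∀ b ∈ D, a * b = b * a := by
    rintro _ ⟨a, ha, rfl⟩ _ ⟨b, hb, rfl⟩
    rw [← map_mul, ← map_mul]
    exact congrArg _ (Subtype.ext (hab _ ha _ hb))
  obtain ⟨g, hg⟩ := exists_pair_of_defectGroup hM hbb hDbb
  have hmaxbb := isMaximal_of_defectGroup hM hDbb hg
  letI : CommGroup D :=
    { (inferInstance : Group D) with mul_comm := fun a b => Subtype.ext (hDab a a.2 b b.2) }
  let f : P →* D :=
    { toFun := fun a => ⟨QuotientGroup.mk' (Subgroup.zpowers z) ⟨(a : G), hPK a.2⟩,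
        ⟨⟨(a : G), hPK a.2⟩, a.2, rfl⟩⟩
      map_one' := Subtype.ext (map_one (QuotientGroup.mk' (Subgroup.zpowers z)))
      map_mul' := fun a b => Subtype.ext (map_mul (QuotientGroup.mk' (Subgroup.zpowers z))
        ⟨(a : G), hPK a.2⟩ ⟨(b : G), hPK b.2⟩) }
  have hfs : Function.Surjective f := by
    rintro ⟨_, a, ha, rfl⟩
    exact ⟨⟨(a : G), ha⟩, rfl⟩
  have hfw : f w = 1 := Subtype.ext ((QuotientGroup.eq_one_iff _).2 (Subgroup.mem_zpowers z))
  have hsoc := card_socle_map_le (n := 2) hPp hr.le hwR f hfs hfw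
  have hk' := card_le_of_socle hM hmaxbb hDab hsoc
  -- the defect drops by the order of `w`
  have hdef : blockDefect p bb + k ≤ blockDefect p B := by
    have h1 := Subgroup.card_mul_index f.ker
    rw [Subgroup.index_ker, MonoidHom.range_eq_top.2 hfs, Subgroup.card_top,
      card_defectGroup hM hbb hDbb, hPd] at h1
    have h2 : p ^ k ≤ Nat.card f.ker := by
      refine le_trans (le_of_eq ?_) (Subgroup.card_le_of_le (Subgroup.zpowers_le.2 hfw))
      rw [Nat.card_zpowers, hk]
    refine (Nat.pow_le_pow_iff_right hp.out.one_lt).1 (le_trans ?_ h1.le)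
    rw [pow_add, mul_comm]
    exact Nat.mul_le_mul_right _ h2
  have hwG : orderOf (w : G) = p ^ k := by rw [Subgroup.orderOf_coe, hk]
  have hB := MajorRankBound.card_le hM hwG (cenZ_eq (w : G)) hind hmaj
  calc Nat.card B ^ 3
      ≤ (p ^ blockDefect p B * p ^ blockDefect p bb) ^ 3 :=
        Nat.pow_le_pow_left (hB.trans (Nat.mul_le_mul_left _ (hrank.trans hk'))) 3
    _ ≤ p ^ (5 * blockDefect p B) := by
        rw [← pow_add, ← pow_mul]
        exact Nat.pow_le_pow_right hp.out.pos (by omega)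

end CfsgLib.Blocks.AbelianRankTwo
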