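import Cfsg.Agent.Lib.Blocks.CoverPrincipal
import Cfsg.Agent.Lib.BrauerPairs.Transport
import Cfsg.Agent.Lib.Char.Induced
import Cfsg.Agent.Lib.Char.Linear
import Cfsg.Agent.Lib.Char.Quotient
import Cfsg.Agent.Lib.Char.CliffordCorr
import Cfsg.Agent.Lib.CharDeep.ProjExt
import Cfsg.Agent.Lib.CharDeep.GenChar
import Cfsg.Agent.Lib.CharDeep.Brauer
import Cfsg.Agent.Lib.DegreeTools.KerTools

/-!
# The principal blocks of a group and of a normal subgroup of index prime to `p`

When every coset of `N` meets the centralizer of a subgroup `P ≤ N` of index prime to `p`,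
restriction is a bijection between the two principal blocks (Alperin, Dade).
-/

set_option autoImplicit false

universe u

namespace CfsgLib.Blocks.AlperinDade

open Cfsg CfsgLib CfsgLib.Blocks CfsgLib.BrauerPairs
open scoped Classical ComplexConjugate

/-- The standing hypothesis. -/
def Good {G : Type*} [Group G] (p : ℕ) (N : Subgroup G) : Prop :=
  ∃ P : Subgroup G, P ≤ N ∧ ¬ p ∣ P.index ∧
    ∀ g : G, ∃ k, g⁻¹ * k ∈ N ∧ k ∈ Subgroup.centralizer (P : Set G)

section Basic

variable {G : Type*} [Group G] [Fintype G] {p : ℕ} {M : Ideal AlgInt} {N : Subgroup G}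

theorem Good.not_dvd_index (h : Good p N) : ¬ p ∣ N.index := by
  obtain ⟨P, hPN, hP, -⟩ := h
  exact fun hd => hP (hd.trans (Subgroup.index_dvd_of_le hPN))

theorem Good.exists_unit_class (h : Good p N) (g : G) :
    ∃ k, g⁻¹ * k ∈ N ∧ ¬ p ∣ (Subgroup.centralizer ({k} : Set G)).index := by
  obtain ⟨P, -, hP, hk⟩ := h
  obtain ⟨k, h1, h2⟩ := hk g
  refine ⟨k, h1, fun hd => hP (hd.trans (Subgroup.index_dvd_of_le fun x hx => ?_))⟩
  rw [Subgroup.mem_centralizer_singleton_iff]
  exact Subgroup.mem_centralizer_iff.1 h2 x hx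

theorem mem_principal_iff (hM : IsPModular p M) (χ : IrrCharacter G) :
    χ ∈ principalBlock M G ↔ ∀ g : G, MemLocalIdeal M
      (centralChar (χ : G → ℂ) g - ((Subgroup.centralizer ({g} : Set G)).index : ℂ)) := by
  refine forall_congr' fun g => ?_
  have e : centralChar (fun _ : G => (1 : ℂ)) g
      = ((Subgroup.centralizer ({g} : Set G)).index : ℂ) := by
    simp [Cfsg.centralChar]
  rw [e]
  exact ⟨LI.sub_comm, LI.sub_comm⟩

theorem principal_unit_value (hM : IsPModular p M) {χ : IrrCharacter G}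
    (hχ : χ ∈ principalBlock M G) {k : G}
    (hk : ¬ p ∣ (Subgroup.centralizer ({k} : Set G)).index) : (χ : G → ℂ) k ≠ 0 := by
  intro h0
  have h1 := (mem_principal_iff hM χ).1 hχ k
  rw [Cfsg.centralChar, h0, mul_zero, zero_div, zero_sub] at h1
  exact hk ((LI.natCast_iff hM _).1 (by simpa using LI.neg h1))

/-- The sum of an irreducible character over a coset of a normal subgroup. -/
theorem sum_coset (N : Subgroup G) [N.Normal] (χ : IrrCharacter G) (g : G) :
    (χ : G → ℂ) 1 * ∑ n : N, (χ : G → ℂ) (g * n)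
      = (χ : G → ℂ) g * ∑ n : N, (χ : G → ℂ) n := by
  obtain ⟨n, ρ, hirr, hρ⟩ := χ.2
  haveI := hirr
  set A : Module.End ℂ (Fin n → ℂ) := ∑ k : N, ρ k with hA
  have hAc : ∀ g, A ∘ₗ ρ g = ρ g ∘ₗ A := by
    intro g
    rw [← Module.End.mul_eq_comp, ← Module.End.mul_eq_comp, hA, Finset.sum_mul, Finset.mul_sum]
    refine Fintype.sum_equiv (MulAut.conjNormal g⁻¹).toEquiv _ _ fun k => ?_
    rw [← map_mul, ← map_mul]
    congr 1
    simp only [MulEquiv.toEquiv_eq_coe, MulEquiv.coe_toEquiv, MulAut.conjNormal_apply]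
    group
  obtain ⟨c, hc⟩ := Char.exists_eq_smul_of_commute ρ A hAc
  have h1 : ∑ k : N, ρ.character (g * k) = c * ρ.character g := by
    simp only [Representation.character]
    rw [← map_sum]
    simp only [map_mul, ← Finset.mul_sum, ← hA, hc]
    rw [mul_smul_comm, map_smul, smul_eq_mul, ← Module.End.one_eq_id, mul_one]
  have h2 : ∑ k : N, ρ.character k = c * ρ.character 1 := by
    simp only [Representation.character]
    rw [← map_sum, ← hA, hc, map_smul, smul_eq_mul, map_one, ← Module.End.one_eq_id]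
  rw [← hρ, h1, h2]
  ring

theorem sum_coset_of_trivial (N : Subgroup G) [N.Normal] {χ : IrrCharacter G}
    (h : ∀ n ∈ N, (χ : G → ℂ) n = (χ : G → ℂ) 1) (g : G) :
    ∑ n : N, (χ : G → ℂ) (g * n) = (Nat.card N : ℂ) * (χ : G → ℂ) g := by
  refine mul_left_cancel₀ (irr_one_ne_zero χ) ?_
  rw [sum_coset, Finset.sum_congr rfl fun (n : N) _ => h n n.2, Finset.sum_const, Finset.card_univ,
    nsmul_eq_mul, ← Nat.card_eq_fintype_card]
  ring

theorem sum_normal (N : Subgroup G) [N.Normal] (χ : IrrCharacter G) :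
    ∑ n : N, (χ : G → ℂ) n
      = if ∀ n ∈ N, (χ : G → ℂ) n = (χ : G → ℂ) 1
        then (Nat.card N : ℂ) * (χ : G → ℂ) 1 else 0 := by
  split_ifs with h
  · have h1 := sum_coset_of_trivial N h 1
    simpa using h1
  · by_contra h0
    exact h (DegreeTools.le_ker_of_sum_ne_zero χ N h0)

theorem apply_coset_of_trivial (N : Subgroup G) [N.Normal] {χ : IrrCharacter G}
    (h : ∀ n ∈ N, (χ : G → ℂ) n = (χ : G → ℂ) 1) {g k : G} (hk : g⁻¹ * k ∈ N) :
    (χ : G → ℂ) k = (χ : G → ℂ) g := by
  have h1 : k = (g * (g⁻¹ * k) * g⁻¹) * g := by simp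
  rw [h1]
  exact Char.IsCharacter.apply_mul_of_mem_ker (Char.isCharacter_irr χ)
    (h _ ((inferInstance : N.Normal).conj_mem _ hk g)) g

theorem sum_eq_card_mul_quotient (N : Subgroup G) {F : G → ℂ}
    (hF : ∀ g, ∀ n ∈ N, F (g * n) = F g) :
    ∑ g, F g = (Nat.card N : ℂ) * ∑ q : G ⧸ N, F q.out := by
  have e2 : ∑ g, F g = ∑ q : (G ⧸ N) × N, F q.1.out := by
    refine Fintype.sum_equiv Subgroup.groupEquivQuotientProdSubgroup _ _ fun x => ?_
    show F x = F (QuotientGroup.mk x : G ⧸ N).out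
    obtain ⟨t, ht⟩ := QuotientGroup.mk_out_eq_mul N x
    rw [ht, hF x t t.2]
  rw [e2, Fintype.sum_prod_type]
  simp only [Finset.sum_const, Finset.card_univ, nsmul_eq_mul, ← Finset.mul_sum,
    ← Nat.card_eq_fintype_card]

/-- An irreducible character trivial on `N` and congruent to its degree is trivial. -/
theorem eq_triv_of_congr (hM : IsPModular p M) [N.Normal] (hN : ¬ p ∣ N.index)
    {η : IrrCharacter G} (htr : ∀ n ∈ N, (η : G → ℂ) n = (η : G → ℂ) 1)
    (h : ∀ g : G, MemLocalIdeal M ((η : G → ℂ) g - (η : G → ℂ) 1)) : η = trivChar G := by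
  by_contra hne
  have hcos : ∀ g, ∀ n ∈ N, (η : G → ℂ) (g * n) = (η : G → ℂ) g := fun g n hn =>
    apply_coset_of_trivial N htr (by simpa using hn)
  have hsum : ∑ g : G, (η : G → ℂ) g = 0 := by
    have h0 := Char.classInner_irr_ne η.2 (trivChar G).2 (fun e => hne (Subtype.ext e))
    rw [Cfsg.classInner, mul_eq_zero] at h0
    simpa using h0.resolve_left (inv_ne_zero Char.card_ne_zero)
  rw [sum_eq_card_mul_quotient N hcos, mul_eq_zero] at hsum
  have hq := hsum.resolve_left Char.card_ne_zero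
  have hR : Fintype.card (G ⧸ N) = N.index := by
    rw [← Nat.card_eq_fintype_card]; rfl
  have h1 : MemLocalIdeal M ((η : G → ℂ) 1) := by
    have h2 := LI.sum hM (s := (Finset.univ : Finset (G ⧸ N))) fun q _ => h q.out
    rw [Finset.sum_sub_distrib, hq, zero_sub, Finset.sum_const, Finset.card_univ, nsmul_eq_mul,
      hR] at h2
    have h3 : MemLocalIdeal M ((N.index : ℂ) * (η : G → ℂ) 1) := by simpa using LI.neg h2
    exact (LI.mem_or_mem hM (LR.natCast hM _) (LR.of_isIntegral hM (irr_isIntegral η 1))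
      h3).resolve_left fun h' => hN ((LI.natCast_iff hM _).1 h')
  have hval : ∀ g, MemLocalIdeal M ((η : G → ℂ) g) := fun g => by
    have := LI.add hM (h g) h1
    rwa [sub_add_cancel] at this
  have hsq : ∑ q : G ⧸ N, (η : G → ℂ) q.out * conj ((η : G → ℂ) q.out) = (N.index : ℂ) := by
    have h0 := Char.classInner_irr_self η.2
    rw [Cfsg.classInner, inv_mul_eq_one₀ Char.card_ne_zero,
      sum_eq_card_mul_quotient N (F := fun g => (η : G → ℂ) g * conj ((η : G → ℂ) g))
        (fun g n hn => by simp only [hcos g n hn])] at h0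
    refine mul_left_cancel₀ (Char.card_ne_zero (G := N)) ?_
    rw [← h0, ← Nat.cast_mul, Subgroup.card_mul_index]
  refine hN ((LI.natCast_iff hM _).1 ?_)
  rw [← hsq]
  exact LI.sum hM fun q _ => LI.mul_right hM (hval _)
    (LR.of_isIntegral hM (by rw [conj_irr]; exact irr_isIntegral η _))

theorem eq_triv_of_mem (hM : IsPModular p M) [N.Normal] (hgood : Good p N) {η : IrrCharacter G}
    (htr : ∀ n ∈ N, (η : G → ℂ) n = (η : G → ℂ) 1) (hη : η ∈ principalBlock M G) :
    η = trivChar G := by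
  refine eq_triv_of_congr hM hgood.not_dvd_index htr fun g => ?_
  obtain ⟨k, hkN, hk⟩ := hgood.exists_unit_class g
  rw [← apply_coset_of_trivial N htr hkN]
  have h1 := LI.mul_right hM ((mem_principal_iff hM η).1 hη k)
    (LR.of_isIntegral hM (irr_isIntegral η 1))
  rw [sub_mul, Cfsg.centralChar, div_mul_cancel₀ _ (irr_one_ne_zero η), ← mul_sub] at h1
  exact (LI.mem_or_mem hM (LR.natCast hM _) (LR.sub hM (LR.of_isIntegral hM (irr_isIntegral η k))
    (LR.of_isIntegral hM (irr_isIntegral η 1))) h1).resolve_left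
      fun h' => hk ((LI.natCast_iff hM _).1 h')

theorem trivChar_trivial (N : Subgroup G) :
    ∀ n ∈ N, (trivChar G : G → ℂ) n = (trivChar G : G → ℂ) 1 := fun n _ => by simp

/-- Every member of the principal block of `N` lies under a member of the principal block. -/
theorem exists_over (hM : IsPModular p M) [N.Normal] (hgood : Good p N) {θ : IrrCharacter N}
    (hθ : θ ∈ principalBlock M N) :
    ∃ χ ∈ principalBlock M G, classInner (fun n : N => (χ : G → ℂ) n) (θ : N → ℂ) ≠ 0 := by
  set B := principalBlock M G with hB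
  have hBb : IsPBlock M B := isPBlock_principalBlock
  set u : N → ℂ := fun n => blockCoeff B n
  have hucl : IsClassFunction N u := fun a b => blockCoeff_isClassFunction B (a : G) (b : G)
  have huR : ∀ n, MemLocalRing M (u n) := fun n => blockCoeff_LR hM hBb _
  have hu : ∀ n : N, (Nat.card G : ℂ) * u n
      = ∑ χ : IrrCharacter G, blockInd B χ * ((χ : G → ℂ) 1 * (χ : G → ℂ) (n : G)⁻¹) :=
    fun n => sum_sq_blockInd _ B
  have htriv : ∑ n : N, u n = (Nat.card N : ℂ) * (Nat.card G : ℂ)⁻¹ := by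
    have h1 : (Nat.card G : ℂ) * ∑ n : N, u n = (Nat.card N : ℂ) := by
      rw [Finset.mul_sum, Finset.sum_congr rfl fun n _ => hu n, Finset.sum_comm,
        Finset.sum_eq_single (trivChar G)]
      · rw [blockInd_of_mem (trivChar_mem_principalBlock hM)]
        simp
      · intro χ _ hne
        by_cases hχ : χ ∈ B
        · have h2 : ∑ n : N, (χ : G → ℂ) (n : G)⁻¹ = 0 := by
            rw [← Fintype.sum_equiv (Equiv.inv N) (fun n : N => (χ : G → ℂ) n) _ fun n => by simp,
              sum_normal, if_neg fun htr => hne (eq_triv_of_mem hM hgood htr hχ)]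
          rw [← Finset.mul_sum, ← Finset.mul_sum, h2, mul_zero, mul_zero]
        · simp [blockInd_of_notMem hχ]
      · simp
    rw [← h1]
    field_simp [Char.card_ne_zero (G := G)]
  have h1u : ¬ MemLocalIdeal M (omega (trivChar N : N → ℂ) u) := by
    intro h
    have e : omega (trivChar N : N → ℂ) u = (Nat.card N : ℂ) * (Nat.card G : ℂ)⁻¹ := by
      rw [omega, ← htriv]; simp
    have h2 := LI.mul_left hM (LR.natCast hM N.index) h
    rw [e] at h2
    refine LI.not_one hM ?_
    convert h2 using 1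
    rw [← Subgroup.card_mul_index N]
    have hc : (Nat.card N : ℂ) ≠ 0 := Char.card_ne_zero
    have hi : (N.index : ℂ) ≠ 0 := Nat.cast_ne_zero.2 Subgroup.index_ne_zero_of_finite
    push_cast
    field_simp
  by_contra hcon
  push Not at hcon
  apply h1u
  have h3 := omega_congr hM (IsPBlock.sameBlock hM isPBlock_principalBlock
    (trivChar_mem_principalBlock hM) hθ) hucl huR
  have h4 : omega (θ : N → ℂ) u = 0 := by
    rw [omega, div_eq_zero_iff]
    left
    have h5 : (Nat.card G : ℂ) * ∑ n : N, u n * (θ : N → ℂ) n = 0 := by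
      simp only [Finset.mul_sum, ← mul_assoc, hu, Finset.sum_mul]
      rw [Finset.sum_comm]
      refine Finset.sum_eq_zero fun χ _ => ?_
      by_cases hχ : χ ∈ B
      · have h6 := hcon χ hχ
        rw [← Char.classInner_conj_symm, map_eq_zero, Cfsg.classInner, mul_eq_zero] at h6
        have h7 := h6.resolve_left (inv_ne_zero Char.card_ne_zero)
        simp only [mul_assoc, ← Finset.mul_sum]
        rw [Finset.sum_congr rfl fun (n : N) _ => show (χ : G → ℂ) (n : G)⁻¹ * (θ : N → ℂ) n
          = (θ : N → ℂ) n * conj ((χ : G → ℂ) n) by rw [conj_irr]; ring, h7, mul_zero, mul_zero]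
      · simp [blockInd_of_notMem hχ]
    exact (mul_eq_zero.1 h5).resolve_left Char.card_ne_zero
  rwa [h4, sub_zero] at h3

/-- The sum of `|f|²` over a coset, for a character irreducible on `N`. -/
theorem sum_coset_sq [N.Normal] {f : G → ℂ} (hf : IsIrrCharacter G f) {θ : IrrCharacter N}
    (hres : ∀ n : N, f n = (θ : N → ℂ) n) (g : G) :
    ∑ n : N, f (g * n) * conj (f (g * n)) = (Nat.card N : ℂ) := by
  set ψ : G → ℂ := f * fun x => conj (f x) with hψ
  have hψc : IsCharacter G ψ := Char.IsCharacter.mul (Char.IsIrrCharacter.isCharacter hf)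
    (Char.IsCharacter.conj' (Char.IsIrrCharacter.isCharacter hf))
  obtain ⟨m, hm, hexp⟩ := Char.IsCharacter.exists_multiplicity hψc
  choose d hd hd' using fun φ : IrrCharacter G => Char.IsIrrCharacter.apply_one_eq φ.2
  have key : ∀ x : G, ∑ n : N, ψ (x * n) = (Nat.card N : ℂ) * ∑ φ : IrrCharacter G,
      (if ∀ n ∈ N, (φ : G → ℂ) n = (φ : G → ℂ) 1 then (m φ : ℂ) * (φ : G → ℂ) x else 0) := by
    intro x
    simp only [hexp]
    rw [Finset.sum_comm, Finset.mul_sum]
    refine Finset.sum_congr rfl fun φ _ => ?_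
    rw [← Finset.mul_sum]
    split_ifs with h
    · rw [sum_coset_of_trivial N h]; ring
    · have h1 := sum_coset N φ x
      rw [sum_normal, if_neg h, mul_zero] at h1
      rw [(mul_eq_zero.1 h1).resolve_left (irr_one_ne_zero φ), mul_zero, mul_zero]
  have hm1 : m (trivChar G) = 1 := by
    have h := hm (trivChar G)
    have e : classInner ψ (trivChar G : G → ℂ) = classInner f f := by
      simp [Cfsg.classInner, hψ]
    rw [e, Char.classInner_irr_self hf] at h
    exact_mod_cast h.symm
  have htot : (∑ φ : IrrCharacter G,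
      if ∀ n ∈ N, (φ : G → ℂ) n = (φ : G → ℂ) 1 then m φ * d φ else 0 : ℕ) = 1 := by
    have h := key 1
    simp only [one_mul, hψ, Pi.mul_apply, hres] at h
    have h2 := Char.classInner_irr_self θ.2
    rw [Cfsg.classInner, inv_mul_eq_one₀ Char.card_ne_zero] at h2
    rw [← h2] at h
    have h3 := mul_left_cancel₀ (Char.card_ne_zero (G := N)) ((mul_one _).trans h)
    apply Nat.cast_injective (R := ℂ)
    rw [Nat.cast_one, h3, Nat.cast_sum]
    exact Finset.sum_congr rfl fun φ _ => by split_ifs <;> simp [hd']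
  have hrest : ∀ φ ≠ trivChar G, (∀ n ∈ N, (φ : G → ℂ) n = (φ : G → ℂ) 1) → m φ = 0 := by
    intro φ hne htr
    have hd1 : d (trivChar G) = 1 := by
      have := hd' (trivChar G)
      rw [trivChar_apply] at this
      exact_mod_cast this.symm
    rw [← Finset.add_sum_erase _ _ (Finset.mem_univ (trivChar G)), if_pos (trivChar_trivial N),
      hm1, hd1, one_mul, Nat.add_eq_left, Finset.sum_eq_zero_iff] at htot
    have h := htot φ (Finset.mem_erase.2 ⟨hne, Finset.mem_univ _⟩)
    rw [if_pos htr] at h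
    exact (Nat.mul_eq_zero.1 h).resolve_right (hd φ).ne'
  have h := key g
  rw [Finset.sum_eq_single (trivChar G) (fun φ _ hne => by
      split_ifs with htr
      · rw [hrest φ hne htr, Nat.cast_zero, zero_mul]
      · rfl) (by simp), if_pos (trivChar_trivial N), hm1, trivChar_apply] at h
  simpa [hψ] using h

/-- Integrals of `|f|² W` for `W` constant on cosets. -/
theorem sum_sq_mul [N.Normal] {f : G → ℂ} (hf : IsIrrCharacter G f) {θ : IrrCharacter N}
    (hres : ∀ n : N, f n = (θ : N → ℂ) n) (H : Subgroup G) (hNH : N ≤ H) {W : G → ℂ}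
    (hW : ∀ g, ∀ n ∈ N, W (g * n) = W g) :
    ∑ h : H, f h * conj (f h) * W h = ∑ h : H, W h := by
  refine mul_left_cancel₀ (Char.card_ne_zero (G := N)) ?_
  calc (Nat.card N : ℂ) * ∑ h : H, f h * conj (f h) * W h
      = ∑ _n : N, ∑ h : H, f h * conj (f h) * W h := by
        rw [Finset.sum_const, Finset.card_univ, nsmul_eq_mul, Nat.card_eq_fintype_card]
    _ = ∑ n : N, ∑ h : H, f ((h : G) * n) * conj (f ((h : G) * n)) * W h := by
        refine Finset.sum_congr rfl fun n _ => ?_
        refine (Fintype.sum_equiv (Equiv.mulRight (⟨n, hNH n.2⟩ : H)) _ _ fun h => ?_).symm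
        simp only [Equiv.coe_mulRight, Subgroup.coe_mul, hW _ n n.2]
    _ = ∑ h : H, (Nat.card N : ℂ) * W h := by
        rw [Finset.sum_comm]
        refine Finset.sum_congr rfl fun h _ => ?_
        rw [← Finset.sum_mul, sum_coset_sq hf hres]
    _ = _ := by rw [Finset.mul_sum]

/-- Such a character stays irreducible on every subgroup containing `N`. -/
theorem isIrr_restrict [N.Normal] {f : G → ℂ} (hf : IsIrrCharacter G f) {θ : IrrCharacter N}
    (hres : ∀ n : N, f n = (θ : N → ℂ) n) (H : Subgroup G) (hNH : N ≤ H) :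
    IsIrrCharacter H fun h : H => f h := by
  refine Char.IsCharacter.isIrrCharacter_of_norm_one
    (Char.IsCharacter.restrict (Char.IsIrrCharacter.isCharacter hf) H) ?_
  have h := sum_sq_mul hf hres H hNH (W := fun _ => 1) (fun _ _ _ => rfl)
  simp only [mul_one, Finset.sum_const, Finset.card_univ, nsmul_eq_mul,
    ← Nat.card_eq_fintype_card] at h
  rw [Cfsg.classInner, h, inv_mul_cancel₀ Char.card_ne_zero]

/-- Over an extendible character every irreducible is a product with a character of the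
quotient. -/
theorem exists_mul_of_over [N.Normal] {f : G → ℂ} (hf : IsIrrCharacter G f) {θ : IrrCharacter N}
    (hres : ∀ n : N, f n = (θ : N → ℂ) n) {χ : IrrCharacter G}
    (hover : classInner (fun n : N => (χ : G → ℂ) n) (θ : N → ℂ) ≠ 0) :
    ∃ η : IrrCharacter G, (∀ n ∈ N, (η : G → ℂ) n = (η : G → ℂ) 1) ∧
      (χ : G → ℂ) = f * (η : G → ℂ) := by
  have hreg : ∀ g : G, (∑ η : IrrCharacter G,
      if ∀ n ∈ N, (η : G → ℂ) n = (η : G → ℂ) 1 then (η : G → ℂ) 1 * (η : G → ℂ) g else 0)
      * (Nat.card N : ℂ) = if g ∈ N then (Nat.card G : ℂ) else 0 := by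
    intro g
    have h1 : ∑ n : N, ∑ η : IrrCharacter G, (η : G → ℂ) 1 * (η : G → ℂ) (g * n)
        = if g ∈ N then (Nat.card G : ℂ) else 0 := by
      simp only [Char.regular_eq_sum_irr]
      split_ifs with hg
      · rw [Finset.sum_eq_single (⟨g⁻¹, inv_mem hg⟩ : N)]
        · simp
        · intro n _ hne
          rw [if_neg fun h => hne (Subtype.ext (eq_inv_of_mul_eq_one_right h))]
        · simp
      · refine Finset.sum_eq_zero fun n _ => if_neg fun h => hg ?_
        rw [eq_inv_of_mul_eq_one_left h]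
        exact inv_mem n.2
    rw [← h1, Finset.sum_mul, Finset.sum_comm]
    refine Finset.sum_congr rfl fun η _ => ?_
    rw [← Finset.mul_sum, sum_coset, sum_normal]
    split_ifs with h
    · ring
    · rw [zero_mul, mul_zero]
  obtain ⟨η, htr, hη⟩ : ∃ η : IrrCharacter G, (∀ n ∈ N, (η : G → ℂ) n = (η : G → ℂ) 1) ∧
      classInner (f * (η : G → ℂ)) (χ : G → ℂ) ≠ 0 := by
    by_contra hcon
    push Not at hcon
    refine hover ?_
    have hsum : (Nat.card N : ℂ) * ∑ η : IrrCharacter G,
        (if ∀ n ∈ N, (η : G → ℂ) n = (η : G → ℂ) 1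
          then (η : G → ℂ) 1 * ∑ g : G, f g * (η : G → ℂ) g * conj ((χ : G → ℂ) g) else 0) = 0 := by
      rw [Finset.sum_eq_zero, mul_zero]
      intro η _
      split_ifs with h
      · have h0 := hcon η h
        rw [Cfsg.classInner, mul_eq_zero] at h0
        have h0' := h0.resolve_left (inv_ne_zero Char.card_ne_zero)
        simp only [Pi.mul_apply] at h0'
        rw [h0', mul_zero]
      · rfl
    have hsum' : ∑ g : G, (if g ∈ N then (Nat.card G : ℂ) else 0)
        * (f g * conj ((χ : G → ℂ) g)) = 0 := by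
      refine (Finset.sum_congr rfl fun g _ =>
        congrArg (· * (f g * conj ((χ : G → ℂ) g))) (hreg g).symm).trans (Eq.trans ?_ hsum)
      simp only [Finset.sum_mul, Finset.mul_sum]
      rw [Finset.sum_comm]
      refine Finset.sum_congr rfl fun η _ => ?_
      split_ifs with h
      · simp only [Finset.mul_sum]
        exact Finset.sum_congr rfl fun g _ => by ring
      · simp
    rw [Finset.sum_congr rfl fun g _ => ite_zero_mul _ _ _, ← Finset.sum_filter,
      Finset.sum_subtype _ (p := fun x : G => x ∈ N) (fun x => by simp), ← Finset.mul_sum,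
      mul_eq_zero] at hsum'
    rw [← Char.classInner_conj_symm, map_eq_zero, Cfsg.classInner,
      Finset.sum_congr rfl fun n _ => by rw [← hres n], hsum'.resolve_left Char.card_ne_zero,
      mul_zero]
  refine ⟨η, htr, ?_⟩
  have hcos : ∀ g, ∀ n ∈ N, (η : G → ℂ) (g * n) = (η : G → ℂ) g := fun g n hn =>
    apply_coset_of_trivial N htr (by simpa using hn)
  have hirr : IsIrrCharacter G (f * (η : G → ℂ)) := by
    refine Char.IsCharacter.isIrrCharacter_of_norm_one
      (Char.IsCharacter.mul (Char.IsIrrCharacter.isCharacter hf) (Char.isCharacter_irr η)) ?_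
    have h := sum_sq_mul hf hres ⊤ le_top
      (W := fun g => (η : G → ℂ) g * conj ((η : G → ℂ) g))
      (fun g n hn => by simp only [hcos g n hn])
    have e : ∀ F : G → ℂ, ∑ x : (⊤ : Subgroup G), F x = ∑ x, F x := fun F =>
      Fintype.sum_equiv Subgroup.topEquiv.toEquiv _ _ fun _ => rfl
    rw [e fun g => f g * conj (f g) * ((η : G → ℂ) g * conj ((η : G → ℂ) g)),
      e fun g => (η : G → ℂ) g * conj ((η : G → ℂ) g)] at h
    rw [← Char.classInner_irr_self η.2, Cfsg.classInner, Cfsg.classInner, ← h]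
    congr 1
    exact Finset.sum_congr rfl fun g _ => by simp only [Pi.mul_apply, map_mul]; ring
  by_contra hne
  exact hη (Char.classInner_irr_ne hirr χ.2 (Ne.symm hne))

/-- An extension inside the principal block is the only member of the block above `θ`. -/
theorem eq_of_extension (hM : IsPModular p M) [N.Normal] (hgood : Good p N)
    {f χ : IrrCharacter G} {θ : IrrCharacter N} (hres : ∀ n : N, (f : G → ℂ) n = (θ : N → ℂ) n)
    (hfB : f ∈ principalBlock M G) (hχB : χ ∈ principalBlock M G)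
    (hover : classInner (fun n : N => (χ : G → ℂ) n) (θ : N → ℂ) ≠ 0) : χ = f := by
  obtain ⟨η, htr, hη⟩ := exists_mul_of_over f.2 hres hover
  have htriv : η = trivChar G := by
    refine eq_triv_of_congr hM hgood.not_dvd_index htr fun g => ?_
    obtain ⟨k, hkN, hk⟩ := hgood.exists_unit_class g
    rw [← apply_coset_of_trivial N htr hkN]
    have hηk := LR.of_isIntegral hM (irr_isIntegral η k)
    have hη1 := LR.of_isIntegral hM (irr_isIntegral η 1)
    have e : centralChar (χ : G → ℂ) k * (η : G → ℂ) 1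
        = centralChar (f : G → ℂ) k * (η : G → ℂ) k := by
      have := irr_one_ne_zero η
      have := irr_one_ne_zero f
      simp only [Cfsg.centralChar, hη, Pi.mul_apply]
      field_simp
    have h := LI.sub hM (LI.mul_right hM ((mem_principal_iff hM χ).1 hχB k) hη1)
      (LI.mul_right hM ((mem_principal_iff hM f).1 hfB k) hηk)
    have e2 : (centralChar (χ : G → ℂ) k - ((Subgroup.centralizer ({k} : Set G)).index : ℂ))
        * (η : G → ℂ) 1
        - (centralChar (f : G → ℂ) k - ((Subgroup.centralizer ({k} : Set G)).index : ℂ))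
        * (η : G → ℂ) k = ((Subgroup.centralizer ({k} : Set G)).index : ℂ)
          * ((η : G → ℂ) k - (η : G → ℂ) 1) := by
      rw [sub_mul, sub_mul, e]; ring
    rw [e2] at h
    exact (LI.mem_or_mem hM (LR.natCast hM _) (LR.sub hM hηk hη1) h).resolve_left
      fun h' => hk ((LI.natCast_iff hM _).1 h')
  refine Subtype.ext (funext fun g => ?_)
  rw [hη, htriv]
  simp

theorem over_of_extension [N.Normal] {f : IrrCharacter G} {θ : IrrCharacter N}
    (hres : ∀ n : N, (f : G → ℂ) n = (θ : N → ℂ) n) :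
    classInner (fun n : N => (f : G → ℂ) n) (θ : N → ℂ) ≠ 0 := by
  rw [show (fun n : N => (f : G → ℂ) n) = (θ : N → ℂ) from funext hres,
    Char.classInner_irr_self θ.2]
  exact one_ne_zero

/-! ### Comparing membership in the principal blocks of `G` and of an intermediate subgroup -/

theorem congr_subgroup_iff (hM : IsPModular p M) [N.Normal] (hN : ¬ p ∣ N.index) (H : Subgroup G)
    (hNH : N ≤ H) (χ : IrrCharacter G) (ψ : IrrCharacter H)
    (hψ : ∀ h : H, (ψ : H → ℂ) h = (χ : G → ℂ) h) (x : H) :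
    MemLocalIdeal M (centralChar (ψ : H → ℂ) x
        - ((Subgroup.centralizer ({x} : Set H)).index : ℂ))
      ↔ MemLocalIdeal M (centralChar (χ : G → ℂ) x
        - ((Subgroup.centralizer ({(x : G)} : Set G)).index : ℂ)) := by
  set C := Subgroup.centralizer ({(x : G)} : Set G)
  have hC : Subgroup.centralizer ({x} : Set H) = C.subgroupOf H := by
    ext y
    simp [C, Subgroup.mem_subgroupOf, Subgroup.mem_centralizer_singleton_iff, Subtype.ext_iff]
  have hid : H.relIndex C * C.index = C.relIndex H * H.index := by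
    rw [← Subgroup.inf_relIndex_right H C, Subgroup.relIndex_mul_index inf_le_right,
      ← Subgroup.inf_relIndex_right C H, Subgroup.relIndex_mul_index inf_le_right, inf_comm]
  have ha : ¬ p ∣ H.relIndex C := fun h => hN ((h.trans
    (Subgroup.relIndex_dvd_of_le_left C hNH)).trans (Subgroup.relIndex_dvd_index_of_normal N C))
  have hb : ¬ p ∣ H.index := fun h => hN (h.trans (Subgroup.index_dvd_of_le hNH))
  have e : (H.relIndex C : ℂ) * (centralChar (χ : G → ℂ) x - (C.index : ℂ))
      = (H.index : ℂ) * (centralChar (ψ : H → ℂ) x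
        - ((Subgroup.centralizer ({x} : Set H)).index : ℂ)) := by
    have hid' : (H.relIndex C : ℂ) * (C.index : ℂ) = (C.relIndex H : ℂ) * (H.index : ℂ) := by
      exact_mod_cast hid
    have hH : (Subgroup.centralizer ({x} : Set H)).index = C.relIndex H := by rw [hC]; rfl
    simp only [Cfsg.centralChar, hH, hψ, OneMemClass.coe_one]
    linear_combination ((χ : G → ℂ) x / (χ : G → ℂ) 1 - 1) * hid'
  have hLG := LR.sub hM (centralChar_LR hM χ (x : G)) (LR.natCast hM C.index)
  have hLH := LR.sub hM (centralChar_LR hM ψ x)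
    (LR.natCast hM (Subgroup.centralizer ({x} : Set H)).index)
  constructor
  · intro h
    have h' := LI.mul_left hM (LR.natCast hM H.index) h
    rw [← e] at h'
    exact (LI.mem_or_mem hM (LR.natCast hM _) hLG h').resolve_left
      fun h'' => ha ((LI.natCast_iff hM _).1 h'')
  · intro h
    have h' := LI.mul_left hM (LR.natCast hM (H.relIndex C)) h
    rw [e] at h'
    exact (LI.mem_or_mem hM (LR.natCast hM _) hLH h').resolve_left
      fun h'' => hb ((LI.natCast_iff hM _).1 h'')

theorem mem_principal_transport {A B : Type*} [Group A] [Group B] [Fintype A] [Fintype B]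
    (φ : A ≃* B) {χ : IrrCharacter B} (h : χ ∈ principalBlock M B) :
    irrEquiv φ χ ∈ principalBlock M A :=
  (sameBlock_irrEquiv φ (fun _ : B => (1 : ℂ)) (χ : B → ℂ)).2 h

theorem Good.inherit (h : Good p N) {H : Subgroup G} (hNH : N ≤ H) :
    Good p (N.subgroupOf H) := by
  obtain ⟨P, hPN, hP, hk⟩ := h
  have hPH : P ≤ H := hPN.trans hNH
  refine ⟨P.subgroupOf H, fun x hx => hPN hx, fun hd => hP ?_, fun g => ?_⟩
  · rw [← Subgroup.relIndex_mul_index hPH]
    exact dvd_mul_of_dvd_left hd _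
  · obtain ⟨k, h1, h2⟩ := hk g
    have hkH : k ∈ H := by
      have h3 : k = (g : G) * ((g : G)⁻¹ * k) := by simp
      rw [h3]; exact mul_mem g.2 (hNH h1)
    exact ⟨⟨k, hkH⟩, h1, Subgroup.mem_centralizer_iff.2 fun s hs =>
      Subtype.ext (Subgroup.mem_centralizer_iff.1 h2 s hs)⟩

theorem Good.mono (h : Good p N) {K : Subgroup G} (hNK : N ≤ K) : Good p K := by
  obtain ⟨P, hPN, hP, hk⟩ := h
  exact ⟨P, hPN.trans hNK, hP, fun g => (hk g).imp fun k hk => ⟨hNK hk.1, hk.2⟩⟩

/-- Extensions along a cyclic quotient. -/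
theorem exists_extension_cyclic (hM : IsPModular p M) [N.Normal] (hgood : Good p N) (z : G)
    (hz : ∀ g : G, ∃ (n : N) (i : ℤ), g = n * z ^ i) {θ : IrrCharacter N}
    (hθ : θ ∈ principalBlock M N) :
    ∃ f ∈ principalBlock M G, ∀ n : N, (f : G → ℂ) n = (θ : N → ℂ) n := by
  obtain ⟨χ, hχB, hχ⟩ := exists_over hM hgood hθ
  have hq : ∀ a b : G ⧸ N, a * b = b * a := by
    have h1 : ∀ a : G ⧸ N, ∃ i : ℤ, a = (QuotientGroup.mk z : G ⧸ N) ^ i := by
      intro a
      obtain ⟨g, rfl⟩ := QuotientGroup.mk_surjective a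
      obtain ⟨n, i, rfl⟩ := hz g
      exact ⟨i, by rw [QuotientGroup.mk_mul, (QuotientGroup.eq_one_iff _).2 n.2, one_mul,
        QuotientGroup.mk_zpow]⟩
    intro a b
    obtain ⟨i, rfl⟩ := h1 a
    obtain ⟨j, rfl⟩ := h1 b
    rw [← zpow_add, ← zpow_add, add_comm]
  obtain ⟨k, hkN, hk⟩ := hgood.exists_unit_class z
  have hθc : IsClassFunction N (θ : N → ℂ) := Char.IsIrrCharacter.isClassFunction θ.2
  have hstab : k ∈ Char.stab (θ : N → ℂ) := by
    by_contra hks
    obtain ⟨ψ, -, -, hind⟩ := Char.exists_eq_indFun_inertia (Char.le_stab hθc) θ.2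
      (Char.isInertia_stab (θ : N → ℂ)) χ.2 hχ
    haveI : (Char.stab (θ : N → ℂ)).Normal := ⟨fun a ha y => by
      have hc : y * a * y⁻¹ * a⁻¹ ∈ N := by
        rw [← QuotientGroup.eq_one_iff]
        simp only [QuotientGroup.mk_mul, QuotientGroup.mk_inv]
        rw [hq (y : G ⧸ N) a]
        group
      have h2 : y * a * y⁻¹ = (y * a * y⁻¹ * a⁻¹) * a := by group
      rw [h2]
      exact mul_mem (Char.le_stab hθc hc) ha⟩
    exact principal_unit_value hM hχB hk
      (by rw [hind]; exact Char.indFun_eq_zero_of_normal _ _ hks)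
  have hzs : z ∈ Char.stab (θ : N → ℂ) := by
    have h2 : z = k * (z⁻¹ * k)⁻¹ := by simp [mul_assoc]
    rw [h2]
    exact mul_mem hstab (inv_mem (Char.le_stab hθc hkN))
  have hinv : ∀ (g : G) (n : N), (θ : N → ℂ) (MulAut.conjNormal g n) = (θ : N → ℂ) n := by
    intro g n
    obtain ⟨m, i, rfl⟩ := hz g
    have hg : (m : G) * z ^ i ∈ Char.stab (θ : N → ℂ) :=
      mul_mem (Char.le_stab hθc m.2) (zpow_mem hzs i)
    exact congrFun (Char.mem_stab.1 hg) n
  obtain ⟨d, ρ, hρ, hρc⟩ := θ.2
  haveI := hρ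
  obtain ⟨σ, hσ⟩ := CharDeep.ProjExt.exists_extension_of_zpowers ρ
    (fun g n => by rw [hρc]; exact hinv g n) z hz
  obtain ⟨f₀, hf₀, hf₀N⟩ := CharDeep.ProjExt.exists_character_of_extension ρ σ hσ
  rw [hρc] at hf₀N
  obtain ⟨η, htr, hη⟩ := exists_mul_of_over hf₀ hf₀N hχ
  refine ⟨χ, hχB, fun n => ?_⟩
  haveI : Fintype (G ⧸ N) := Fintype.ofFinite _
  obtain ⟨ψ, hψ, hψe⟩ := Char.IsIrrCharacter.exists_deflate η.2 N htr
  have h1 : (η : G → ℂ) 1 = 1 := by
    rw [hψe, Function.comp_apply, map_one]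
    exact Char.apply_one_eq_one_of_comm hq hψ
  rw [hη, Pi.mul_apply, htr n n.2, h1, mul_one, hf₀N]

end Basic

/-! ### Solvable quotients -/

theorem exists_extension_solvable {p : ℕ} {M : Ideal AlgInt} (hM : IsPModular p M) :
    ∀ (c : ℕ) (G : Type u) [Group G] [Fintype G] (N : Subgroup G) [N.Normal],
      Nat.card G = c → Good p N → (∃ m : ℕ, derivedSeries G m ≤ N) →
      ∀ θ ∈ principalBlock M N, ∃ f ∈ principalBlock M G,
        ∀ n : N, (f : G → ℂ) n = (θ : N → ℂ) n := by
  intro c
  induction c using Nat.strong_induction_on with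
  | _ c ih =>
  intro G _ _ N _ hc hgood hsol θ hθ
  rcases eq_or_ne N ⊤ with rfl | hN
  · refine ⟨_, mem_principal_transport Subgroup.topEquiv.symm hθ, fun n => ?_⟩
    rw [irrEquiv_apply]
    rfl
  have hne : N ⊔ commutator G ≠ ⊤ := by
    intro htop
    obtain ⟨m, hm⟩ := hsol
    apply hN
    have h1 : commutator (G ⧸ N) = ⊤ := by
      have h2 := congrArg (Subgroup.map (QuotientGroup.mk' N)) htop
      rw [Subgroup.map_sup, Subgroup.map_top_of_surjective _ (QuotientGroup.mk'_surjective N),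
        QuotientGroup.map_mk'_self, bot_sup_eq, ← derivedSeries_one,
        map_derivedSeries_eq (QuotientGroup.mk'_surjective N), derivedSeries_one] at h2
      exact h2
    have h3 : ∀ i, derivedSeries (G ⧸ N) i = ⊤ := by
      intro i
      induction i with
      | zero => rfl
      | succ i hi =>
        rw [derivedSeries_succ, hi, ← _root_.commutator_def]
        exact h1
    have h4 := Subgroup.map_mono (f := QuotientGroup.mk' N) hm
    rw [map_derivedSeries_eq (QuotientGroup.mk'_surjective N), h3,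
      QuotientGroup.map_mk'_self, top_le_iff] at h4
    rw [eq_top_iff]
    intro g _
    rw [← QuotientGroup.eq_one_iff, ← Subgroup.mem_bot, h4]
    exact Subgroup.mem_top _
  obtain ⟨K, hK, hNK'⟩ := (eq_top_or_exists_le_coatom (N ⊔ commutator G)).resolve_left hne
  have hNK : N ≤ K := le_sup_left.trans hNK'
  haveI : K.Normal := ⟨fun a ha y => by
    have hcK : y * a * y⁻¹ * a⁻¹ ∈ K := hNK' (Subgroup.mem_sup_right (by
      rw [_root_.commutator_def]
      have := Subgroup.commutator_mem_commutator (H₁ := (⊤ : Subgroup G))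
        (H₂ := (⊤ : Subgroup G)) (Subgroup.mem_top y) (Subgroup.mem_top a)
      rwa [commutatorElement_def] at this))
    have h2 : y * a * y⁻¹ = (y * a * y⁻¹ * a⁻¹) * a := by group
    rw [h2]; exact mul_mem hcK ha⟩
  have hlt : Nat.card K < c := by
    rw [← hc]
    by_contra hle
    exact hK.1 (Subgroup.eq_top_of_le_card _ (not_lt.1 hle))
  obtain ⟨f₁, hf₁B, hf₁⟩ := ih _ hlt K (N.subgroupOf K) rfl (hgood.inherit hNK) (by
      obtain ⟨m, hm⟩ := hsol
      exact ⟨m, fun x hx =>
        hm (map_derivedSeries_le_derivedSeries K.subtype m ⟨x, hx, rfl⟩)⟩)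
    (irrEquiv (Subgroup.subgroupOfEquivOfLe hNK) θ) (mem_principal_transport _ hθ)
  obtain ⟨z, -, hz⟩ := SetLike.exists_of_lt hK.lt_top
  have htop : K ⊔ Subgroup.zpowers z = ⊤ := hK.2 _ (lt_of_le_of_ne le_sup_left fun h =>
    hz (h ▸ Subgroup.mem_sup_right (Subgroup.mem_zpowers z)))
  obtain ⟨f, hfB, hf⟩ := exists_extension_cyclic hM (hgood.mono hNK) z (fun g => by
    obtain ⟨a, ha, b, ⟨i, hi⟩, hab⟩ :=
      Subgroup.mem_sup_of_normal_left.1 (htop ▸ Subgroup.mem_top g : g ∈ K ⊔ Subgroup.zpowers z)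
    exact ⟨⟨a, ha⟩, i, by rw [← hab, ← hi]⟩) hf₁B
  refine ⟨f, hfB, fun n => ?_⟩
  rw [hf ⟨n, hNK n.2⟩, hf₁ ⟨⟨n, hNK n.2⟩, n.2⟩, irrEquiv_apply]
  rfl

/-- Conjugation between two subgroups. -/
def conjIsoOf {G : Type*} [Group G] {K K' : Subgroup G} (g : G)
    (h : ∀ x, g * x * g⁻¹ ∈ K' ↔ x ∈ K) : K ≃* K' where
  toFun k := ⟨g * k * g⁻¹, (h k).2 k.2⟩
  invFun k' := ⟨g⁻¹ * k' * g, (h _).1 (by simp [mul_assoc])⟩
  left_inv k := Subtype.ext (by simp [mul_assoc])
  right_inv k' := Subtype.ext (by simp [mul_assoc])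
  map_mul' a b := Subtype.ext (by simp [mul_assoc])

theorem map_conj_eq_of_normal {G : Type*} [Group G] {N : Subgroup G} [N.Normal] (y : G) :
    N.map (MulAut.conj y).toMonoidHom = N := by
  refine Subgroup.ext fun x => ⟨?_, fun hx => ?_⟩
  · rintro ⟨a, ha, rfl⟩
    exact (inferInstance : N.Normal).conj_mem a ha y
  · exact ⟨y⁻¹ * x * y, by simpa using (inferInstance : N.Normal).conj_mem x hx y⁻¹,
      by simp [mul_assoc]⟩

theorem isSolvable_zpowers {E : Type*} [Group E] (x : E) : Group.IsSolvable (Subgroup.zpowers x) :=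
  Group.isSolvable_of_comm fun a b => mul_comm' a b

theorem isSolvable_of_elementary {E : Type*} [Group E] [Finite E] {q : ℕ} (hq : q.Prime)
    (hE : Cfsg.IsElementary q E) : Group.IsSolvable E := by
  obtain ⟨x, hx, -, k, hk⟩ := hE
  haveI : Fact q.Prime := ⟨hq⟩
  haveI : (Subgroup.zpowers x).Normal := ⟨fun a ha y => by
    have hac : a ∈ Subgroup.center E := Subgroup.zpowers_le.2 hx ha
    rw [Subgroup.mem_center_iff.1 hac y, mul_inv_cancel_right]
    exact ha⟩
  haveI : Group.IsNilpotent (E ⧸ Subgroup.zpowers x) := (IsPGroup.of_card hk).isNilpotent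
  haveI : Group.IsSolvable (Subgroup.zpowers x) :=
    isSolvable_zpowers x
  exact Group.isSolvable_of_ker_le_range (Subgroup.zpowers x).subtype
    (QuotientGroup.mk' (Subgroup.zpowers x)) (by
      rw [QuotientGroup.ker_mk', Subgroup.range_subtype])

/-! ### The general case -/

section General

variable {G : Type u} [Group G] [Fintype G] {p : ℕ} {M : Ideal AlgInt} {N : Subgroup G}
  {θ : IrrCharacter N}

/-- `f` is an extension of `θ` to `H` inside the principal block. -/
def IsExt (M : Ideal AlgInt) (θ : IrrCharacter N) (H : Subgroup G) (hNH : N ≤ H)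
    (f : IrrCharacter H) : Prop :=
  f ∈ principalBlock M H ∧ ∀ n : N, (f : H → ℂ) ⟨n, hNH n.2⟩ = (θ : N → ℂ) n

theorem IsExt.res {H : Subgroup G} {hNH : N ≤ H} {f : IrrCharacter H} (h : IsExt M θ H hNH f)
    (n : N.subgroupOf H) :
    (f : H → ℂ) n = (irrEquiv (Subgroup.subgroupOfEquivOfLe hNH) θ : N.subgroupOf H → ℂ) n := by
  rw [irrEquiv_apply, ← h.2]
  congr 1

theorem IsExt.unique (hM : IsPModular p M) [N.Normal] (hgood : Good p N) {H : Subgroup G}
    {hNH : N ≤ H} {f f' : IrrCharacter H} (h : IsExt M θ H hNH f) (h' : IsExt M θ H hNH f') :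
    f' = f :=
  eq_of_extension hM (hgood.inherit hNH) (θ := irrEquiv (Subgroup.subgroupOfEquivOfLe hNH) θ)
    h.res h.1 h'.1 (over_of_extension h'.res)

theorem exists_isExt (hM : IsPModular p M) [N.Normal] (hgood : Good p N) {H : Subgroup G}
    (hNH : N ≤ H) (hsol : ∃ m, derivedSeries H m ≤ N.subgroupOf H)
    (hθ : θ ∈ principalBlock M N) : ∃ f : IrrCharacter H, IsExt M θ H hNH f := by
  obtain ⟨f, hfB, hf⟩ := exists_extension_solvable hM _ H (N.subgroupOf H) rfl
    (hgood.inherit hNH) hsol (irrEquiv (Subgroup.subgroupOfEquivOfLe hNH) θ)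
    (mem_principal_transport _ hθ)
  refine ⟨f, hfB, fun n => ?_⟩
  rw [hf ⟨⟨n, hNH n.2⟩, n.2⟩, irrEquiv_apply]
  rfl

theorem IsExt.restrict (hM : IsPModular p M) [N.Normal] (hgood : Good p N) {H L : Subgroup G}
    {hNH : N ≤ H} {hNL : N ≤ L} (hLH : L ≤ H) {f : IrrCharacter H} (h : IsExt M θ H hNH f) :
    ∃ f' : IrrCharacter L, IsExt M θ L hNL f' ∧
      ∀ x : L, (f' : L → ℂ) x = (f : H → ℂ) (Subgroup.inclusion hLH x) := by
  have hle : N.subgroupOf H ≤ L.subgroupOf H := fun x hx => hNL hx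
  let φ : L ≃* L.subgroupOf H := (Subgroup.subgroupOfEquivOfLe hLH).symm
  set f₁ : IrrCharacter (L.subgroupOf H) :=
    ⟨fun x => (f : H → ℂ) x, isIrr_restrict f.2 h.res _ hle⟩ with hf₁
  have hf₁B : f₁ ∈ principalBlock M (L.subgroupOf H) := (mem_principal_iff hM f₁).2 fun x =>
    (congr_subgroup_iff hM (hgood.inherit hNH).not_dvd_index _ hle f f₁ (fun _ => rfl) x).2
      ((mem_principal_iff hM f).1 h.1 x)
  refine ⟨irrEquiv φ f₁, ⟨mem_principal_transport φ hf₁B, fun n => ?_⟩, fun x => ?_⟩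
  · rw [irrEquiv_apply, ← h.2 n]
    rfl
  · rw [irrEquiv_apply]
    rfl


theorem derived_cond [N.Normal] (E : Subgroup G) [Group.IsSolvable E] :
    ∃ m, derivedSeries ↥(N ⊔ E) m ≤ N.subgroupOf (N ⊔ E) := by
  obtain ⟨m, hm⟩ := (Group.isSolvable_def E).1 inferInstance
  refine ⟨m, ?_⟩
  set π : E →* ↥(N ⊔ E) ⧸ N.subgroupOf (N ⊔ E) :=
    (QuotientGroup.mk' _).comp (Subgroup.inclusion le_sup_right) with hπ
  have hs : Function.Surjective π := by
    intro q
    obtain ⟨x, rfl⟩ := QuotientGroup.mk'_surjective _ q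
    obtain ⟨a, ha, b, hb, hab⟩ := Subgroup.mem_sup_of_normal_left.1 x.2
    refine ⟨⟨b, hb⟩, ?_⟩
    rw [hπ, MonoidHom.comp_apply]
    refine QuotientGroup.eq.2 ?_
    rw [Subgroup.mem_subgroupOf]
    simp only [Subgroup.coe_mul, Subgroup.coe_inv, Subgroup.coe_inclusion, ← hab]
    rw [← mul_assoc]
    simpa using (inferInstance : N.Normal).conj_mem a ha b⁻¹
  intro x hx
  rw [← QuotientGroup.eq_one_iff, ← Subgroup.mem_bot, ← Subgroup.map_bot π, ← hm,
    map_derivedSeries_eq hs, ← map_derivedSeries_eq (QuotientGroup.mk'_surjective _)]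
  exact ⟨x, hx, rfl⟩

/-- The subgroup generated by `N` and `x`. -/
def cyc (N : Subgroup G) (x : G) : Subgroup G := N ⊔ Subgroup.zpowers x

theorem le_cyc (N : Subgroup G) (x : G) : N ≤ cyc N x := le_sup_left

theorem mem_cyc (N : Subgroup G) (x : G) : x ∈ cyc N x :=
  Subgroup.mem_sup_right (Subgroup.mem_zpowers x)

/-- The existence of extensions in the principal block. -/
theorem exists_extension (hM : IsPModular p M) [N.Normal] (hgood : Good p N)
    (hθ : θ ∈ principalBlock M N) :
    ∃ f ∈ principalBlock M G, ∀ n : N, (f : G → ℂ) n = (θ : N → ℂ) n := by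
  haveI hcs : ∀ x : G, Group.IsSolvable (Subgroup.zpowers x) := fun x =>
    isSolvable_zpowers x
  choose fZ hfZ using fun x : G =>
    exists_isExt hM hgood (le_cyc N x) (derived_cond (Subgroup.zpowers x)) hθ
  set F : G → ℂ := fun x => (fZ x : cyc N x → ℂ) ⟨x, mem_cyc N x⟩ with hF
  have hcompat : ∀ (H : Subgroup G) (hNH : N ≤ H) (f : IrrCharacter H),
      IsExt M θ H hNH f → ∀ x : H, (f : H → ℂ) x = F x := by
    intro H hNH f hf x
    have hle : cyc N (x : G) ≤ H := sup_le hNH (Subgroup.zpowers_le.2 x.2)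
    obtain ⟨f', hf', hval⟩ := hf.restrict hM hgood (hNL := le_cyc N (x : G)) hle
    simp only [hF]
    rw [show fZ (x : G) = f' from (hf'.unique hM hgood (hfZ x)), hval]
    rfl
  have hinv : ∀ (y : G) (n : N), (θ : N → ℂ) (MulAut.conjNormal y n) = (θ : N → ℂ) n := by
    intro y n
    rw [← (hfZ y).2, ← (hfZ y).2]
    have h := Char.IsIrrCharacter.isClassFunction (fZ y).2 ⟨n, le_cyc N y n.2⟩ ⟨y, mem_cyc N y⟩
    refine Eq.trans ?_ h
    congr 1
  have hFcl : IsClassFunction G F := by
    intro x y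
    have hiff : ∀ a, y * a * y⁻¹ ∈ cyc N (y * x * y⁻¹) ↔ a ∈ cyc N x := by
      intro a
      have hmap : (cyc N x).map (MulAut.conj y).toMonoidHom = cyc N (y * x * y⁻¹) := by
        rw [cyc, cyc, Subgroup.map_sup, MonoidHom.map_zpowers]
        congr 1
        exact map_conj_eq_of_normal y
      rw [← hmap]
      exact Subgroup.mem_map_iff_mem (f := (MulAut.conj y).toMonoidHom) (MulAut.conj y).injective
    let c : cyc N x ≃* cyc N (y * x * y⁻¹) := conjIsoOf y hiff
    have hext : IsExt M θ (cyc N x) (le_cyc N x) (irrEquiv c (fZ (y * x * y⁻¹))) := by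
      refine ⟨mem_principal_transport c (hfZ _).1, fun n => ?_⟩
      rw [irrEquiv_apply, ← hinv y n, ← (hfZ (y * x * y⁻¹)).2]
      rfl
    simp only [hF]
    rw [show fZ x = irrEquiv c (fZ (y * x * y⁻¹)) from
      hext.unique hM hgood (hfZ x), irrEquiv_apply]
    rfl
  have hgen : IsGeneralizedCharacter G F := by
    refine CharDeep.Brauer.isGeneralizedCharacter_of_elementary hFcl fun q hq E hE => ?_
    haveI : Group.IsSolvable E := isSolvable_of_elementary hq hE
    obtain ⟨f, hf⟩ := exists_isExt hM hgood (H := N ⊔ E) le_sup_left (derived_cond E) hθ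
    have hc : IsCharacter E fun x : E => F x := by
      have h1 := Char.IsCharacter.comp (Char.isCharacter_irr f)
        (Subgroup.inclusion (le_sup_right : E ≤ N ⊔ E))
      have h2 : (fun x : E => F x) = (f : ↥(N ⊔ E) → ℂ)
          ∘ Subgroup.inclusion (le_sup_right : E ≤ N ⊔ E) := by
        funext x
        exact (hcompat _ _ f hf (Subgroup.inclusion (le_sup_right : E ≤ N ⊔ E) x)).symm
      rw [h2]; exact h1
    exact Char.IsCharacter.isGeneralizedCharacter hc
  have hnorm : classInner F F = 1 := by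
    have h1 : (Nat.card N : ℂ) * ∑ g, F g * conj (F g) = (Nat.card N : ℂ) * (Nat.card G : ℂ) := by
      calc (Nat.card N : ℂ) * ∑ g, F g * conj (F g)
          = ∑ _n : N, ∑ g, F g * conj (F g) := by
            rw [Finset.sum_const, Finset.card_univ, nsmul_eq_mul, Nat.card_eq_fintype_card]
        _ = ∑ n : N, ∑ g : G, F (g * n) * conj (F (g * n)) := by
            refine Finset.sum_congr rfl fun n _ => ?_
            exact (Fintype.sum_equiv (Equiv.mulRight (n : G)) _ _ fun g => rfl).symm
        _ = ∑ g : G, (Nat.card N : ℂ) := by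
            rw [Finset.sum_comm]
            refine Finset.sum_congr rfl fun g _ => ?_
            have h2 := sum_coset_sq (N := N.subgroupOf (cyc N g)) (fZ g).2 (hfZ g).res
              ⟨g, mem_cyc N g⟩
            rw [Nat.card_congr (Subgroup.subgroupOfEquivOfLe (le_cyc N g)).toEquiv] at h2
            refine Eq.trans ?_ h2
            refine Fintype.sum_equiv (Subgroup.subgroupOfEquivOfLe (le_cyc N g)).symm.toEquiv _ _
              fun n => ?_
            have hv := hcompat _ (le_cyc N g) (fZ g) (hfZ g)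
              ⟨g * n, mul_mem (mem_cyc N g) (le_cyc N g n.2)⟩
            rw [← hv]
            rfl
        _ = _ := by
            rw [Finset.sum_const, Finset.card_univ, nsmul_eq_mul, mul_comm,
              Nat.card_eq_fintype_card (α := G)]
    rw [Cfsg.classInner, mul_left_cancel₀ Char.card_ne_zero h1, inv_mul_cancel₀ Char.card_ne_zero]
  have hF1 : F 1 = (θ : N → ℂ) 1 := by
    rw [hF, ← (hfZ 1).2 1]
    rfl
  have hirr : IsIrrCharacter G F := CharDeep.GenChar.isIrrCharacter_of_norm_one hgen hnorm (by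
    obtain ⟨d, hd, hd'⟩ := Char.IsIrrCharacter.apply_one_eq θ.2
    rw [hF1, hd', Complex.natCast_re]
    exact_mod_cast hd)
  refine ⟨⟨F, hirr⟩, (mem_principal_iff hM _).2 fun g => ?_, fun n => ?_⟩
  · exact (congr_subgroup_iff hM hgood.not_dvd_index (cyc N g) (le_cyc N g) ⟨F, hirr⟩ (fZ g)
      (hcompat _ _ (fZ g) (hfZ g)) ⟨g, mem_cyc N g⟩).1
      ((mem_principal_iff hM (fZ g)).1 (hfZ g).1 _)
  · show F n = _
    rw [← hcompat _ _ (fZ 1) (hfZ 1) ⟨n, le_cyc N 1 n.2⟩]
    exact (hfZ 1).2 n

/-- Alperin and Dade: restriction is a bijection between the principal blocks. -/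
theorem restriction_bijection (hM : IsPModular p M) [N.Normal] (hgood : Good p N) :
    (∀ χ ∈ principalBlock M G, ∃ θ ∈ principalBlock M N,
        ∀ n : N, (χ : G → ℂ) n = (θ : N → ℂ) n) ∧
      ∀ θ ∈ principalBlock M N, ∃! χ : IrrCharacter G,
        χ ∈ principalBlock M G ∧ ∀ n : N, (χ : G → ℂ) n = (θ : N → ℂ) n := by
  refine ⟨fun χ hχ => ?_, fun θ hθ => ?_⟩
  · obtain ⟨ψ, hψi, hψ⟩ := Char.IsCharacter.exists_constituent
      (Char.IsCharacter.restrict (Char.isCharacter_irr χ) N) (fun h => irr_one_ne_zero χ (by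
        have := congrFun h 1
        simpa using this))
    set θ : IrrCharacter N := ⟨ψ, hψi⟩
    have hθ : θ ∈ principalBlock M N := mem_principalBlock_of_over hM (θ := θ) hψ hχ
    obtain ⟨f, hfB, hf⟩ := exists_extension hM hgood hθ
    refine ⟨θ, hθ, ?_⟩
    rw [eq_of_extension hM hgood hf hfB hχ hψ]
    exact hf
  · obtain ⟨f, hfB, hf⟩ := exists_extension hM hgood hθ
    exact ⟨f, ⟨hfB, hf⟩, fun χ hχ =>
      eq_of_extension hM hgood hf hfB hχ.1 (over_of_extension hχ.2)⟩

end General

end CfsgLib.Blocks.AlperinDade
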