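import Cfsg.Agent.Lib.Blocks.CyclicCorner

/-!
# The block idempotent is a relative trace from the defect group

Over the residue field a central element whose central character values all lie in the local ideal
is nilpotent; so the defect class sum is invertible in the block algebra, and the block idempotent
is a trace from the defect group.
-/

set_option autoImplicit false
set_option linter.unusedSectionVars false
set_option maxHeartbeats 1000000

namespace CfsgLib.Blocks.BlockTrace

open Cfsg CfsgLib.Blocks.ResidueAlgebra CfsgLib.Blocks.TwoCharacters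
open scoped Classical

variable {G : Type*} [Group G] [Fintype G] {p : ℕ} {M : Ideal AlgInt}

theorem redChar_prod (hM : IsPModular p M) {ι : Type*} (F : ι → IrrCharacter G → ℂ)
    (h : ∀ i, IsLocalOn M (⊤ : Subgroup G) (F i)) {z : MonoidAlgebra (Residue hM) G}
    (hz : ∀ i, redChar hM (F i) = z) (s : Finset ι) :
    redChar hM (fun ψ => ∏ i ∈ s, F i ψ) = z ^ s.card := by
  induction s using Finset.induction_on with
  | empty => simp [redChar_one]
  | insert a s ha ih =>
    simp only [Finset.prod_insert ha, Finset.card_insert_of_notMem ha, pow_succ']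
    rw [redChar_mul (h a) (IsLocalOn.prod hM s fun i _ => h i), ih, hz]

/-- Central character values in the local ideal force nilpotency. -/
theorem isNilpotent_redChar (hM : IsPModular p M) {F : IrrCharacter G → ℂ}
    (hF : IsLocalOn M (⊤ : Subgroup G) F) (hI : ∀ ψ, MemLocalIdeal M (F ψ)) :
    IsNilpotent (redChar hM F) := by
  let H : IrrCharacter G → IrrCharacter G → ℂ := fun φ ψ => F ψ - F φ
  have hc : ∀ φ, IsLocalOn M (⊤ : Subgroup G) (fun _ : IrrCharacter G => F φ) := fun φ =>
    IsLocalOn.const hM (LI.memLocalRing (hI φ))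
  have hH : ∀ φ, IsLocalOn M (⊤ : Subgroup G) (H φ) := fun φ => IsLocalOn.sub hM hF (hc φ)
  have hred : ∀ φ, redChar hM (H φ) = redChar hM F := fun φ => by
    rw [redChar, redChar]
    refine toResAlg_congr hM (fun x => (hH φ x).1) fun x => ?_
    have : fourierInv (H φ) x - fourierInv F x
        = -(F φ * fourierInv (fun _ : IrrCharacter G => (1 : ℂ)) x) := by
      simp only [H, fourierInv, sub_mul, Finset.sum_sub_distrib, mul_sub, Finset.mul_sum]
      rw [sub_sub_cancel_left]
      exact congrArg Neg.neg (Finset.sum_congr rfl fun ψ _ => by ring)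
    rw [this]
    exact LI.neg (LI.mul_right hM (hI φ) ((IsLocalOn.one hM (C := (⊤ : Subgroup G))) x).1)
  refine ⟨Fintype.card (IrrCharacter G), ?_⟩
  rw [← Finset.card_univ, ← redChar_prod hM H hH hred,
    show (fun ψ => ∏ φ, H φ ψ) = fun _ => (0 : ℂ) from
      funext fun ψ => Finset.prod_eq_zero (Finset.mem_univ ψ) (sub_self _)]
  exact redChar_zero

theorem redChar_blockInd (hM : IsPModular p M) (B : Set (IrrCharacter G)) :
    redChar hM (blockInd B) = idem hM B := by
  rw [idem, redChar]
  congr 1
  funext x
  exact (blockCoeff_eq_fourierInv B x).symm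

/-- The block idempotent is a relative trace from a defect group. -/
theorem exists_trace (hM : IsPModular p M) {B : Set (IrrCharacter G)} (hB : IsPBlock M B)
    {D : Subgroup G} (hD : IsDefectGroup p M B D) :
    ∃ a : MonoidAlgebra (Residue hM) G, idem hM B * a = a ∧
      (∀ d ∈ D, Commute (MonoidAlgebra.single d 1) a) ∧
      ∑ q : G ⧸ D, MonoidAlgebra.single q.out 1 * a * MonoidAlgebra.single q.out⁻¹ 1 = idem hM B := by
  haveI := Fact.mk hM.1
  haveI := TwoCharacters.charP_residue hM
  obtain ⟨g, hg, S, hDS⟩ := hD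
  let C := Subgroup.centralizer ({g} : Set G)
  have hgD : D ≤ C := hDS.trans_le (Subgroup.map_subtype_le _)
  have hidx : ¬ p ∣ Nat.card C / Nat.card D := by
    have h1 : Nat.card D = Nat.card (S : Subgroup C) := by
      rw [hDS]; exact Subgroup.card_map_of_injective C.subtype_injective
    have h2 := Subgroup.card_mul_index (S : Subgroup C)
    rw [h1, ← h2, Nat.mul_div_cancel_left _ Nat.card_pos]
    exact S.not_dvd_index
  set n := Nat.card C / Nat.card D
  have hidx' : (n : Residue hM) ≠ 0 := fun h => hidx ((CharP.cast_eq_zero_iff (Residue hM) p _).1 h)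
  obtain ⟨χ, hχ⟩ := IsPBlock.nonempty hM hB
  set e := idem hM B with hedef
  have hec := idem_commute hM (B := B)
  have hee : e * e = e := idem_mul_self hM hB
  set w := omega (χ : G → ℂ) (classInd g) with hwdef
  have hwR : MemLocalRing M w := omega_LR hM χ (classInd_isClassFunction g) (classInd_LR hM g)
  set c := resid hM w with hcdef
  have hc0 : c ≠ 0 := fun h => by
    rw [hcdef, resid_eq_zero_iff hM hwR, hwdef, omega_classInd] at h
    exact hg.2.2 χ hχ h
  set z := e * toResAlg hM (classInd g) with hzdef
  let F : IrrCharacter G → ℂ := fun ψ => blockInd B ψ * omega (ψ : G → ℂ) (classInd g) - w * blockInd B ψ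
  have hl1 : IsLocalOn M (⊤ : Subgroup G) (blockInd B) := (IsPBlock.isLocalOn hM hB).top_of
  have hl2 : IsLocalOn M (⊤ : Subgroup G) (fun ψ : IrrCharacter G => omega (ψ : G → ℂ) (classInd g)) :=
    isLocalOn_omega hM (classInd_isClassFunction g) (fun x => classInd_LR hM g x)
      (fun x hx => absurd (Subgroup.mem_top x) hx)
  have hFI : ∀ ψ, MemLocalIdeal M (F ψ) := fun ψ => by
    show MemLocalIdeal M (_ - _)
    by_cases hψ : ψ ∈ B
    · rw [blockInd_of_mem hψ, one_mul, mul_one, hwdef]
      exact omega_congr hM (IsPBlock.sameBlock hM hB hψ hχ) (classInd_isClassFunction g) (classInd_LR hM g)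
    · rw [blockInd_of_notMem hψ, zero_mul, mul_zero, sub_zero]
      exact LI.zero hM
  have hFl : IsLocalOn M (⊤ : Subgroup G) F :=
    IsLocalOn.sub hM (IsLocalOn.mul hM hl1 hl2) (IsLocalOn.const_mul hM hwR hl1)
  have hred : redChar hM F + c • e = z := by
    have h1 : redChar hM (fun ψ => blockInd B ψ * omega (ψ : G → ℂ) (classInd g)) = z := by
      rw [redChar_mul hl1 hl2, redChar_omega (classInd_isClassFunction g), redChar_blockInd, hzdef]
    rw [← h1, hedef, ← redChar_blockInd hM B, redChar, redChar, redChar]
    refine ext_coeff fun x => ?_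
    rw [MonoidAlgebra.coeff_add, MonoidAlgebra.coeff_smul, Finsupp.add_apply, Finsupp.smul_apply,
      coeff_toResAlg, coeff_toResAlg, coeff_toResAlg, smul_eq_mul, hcdef, ← resid_mul hM hwR (hl1 x).1,
      ← resid_add hM (hFl x).1 (LR.mul hM hwR (hl1 x).1)]
    congr 1
    simp only [F, fourierInv, sub_mul, Finset.sum_sub_distrib, mul_sub, Finset.mul_sum]
    rw [sub_add_eq_add_sub, sub_eq_iff_eq_add]
    congr 1
    exact Finset.sum_congr rfl fun ψ _ => by ring
  have hzc : ∀ x, Commute z x := fun x => Commute.mul_left (show Commute e x from hec x)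
    (commute_toResAlg_of_classFunction (classInd_isClassFunction g) x)
  have hec1 : ∀ x, Commute (1 - e) x := fun x => (Commute.one_left x).sub_left (hec x)
  have hze : e * z = z := by rw [hzdef, ← mul_assoc, hee]
  -- a central inverse in the block algebra
  obtain ⟨u, hu⟩ : IsUnit (c • e + (1 - e)) := by
    have h00 : (1 - e) * e = 0 := by rw [sub_mul, one_mul, hee, sub_self]
    have h01 : e * (1 - e) = 0 := by rw [mul_sub, mul_one, hee, sub_self]
    have h11 : (1 - e) * (1 - e) = 1 - e := by rw [mul_sub, mul_one, h00, sub_zero]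
    refine ⟨⟨c • e + (1 - e), c⁻¹ • e + (1 - e), ?_, ?_⟩, rfl⟩ <;>
    · rw [add_mul, mul_add, mul_add, smul_mul_assoc, mul_smul_comm, mul_smul_comm, smul_mul_assoc, hee,
        h00, h01, h11, smul_smul, smul_zero, smul_zero, add_zero, zero_add]
      first | rw [mul_inv_cancel₀ hc0, one_smul] | rw [inv_mul_cancel₀ hc0, one_smul]
      abel
  obtain ⟨v, hv⟩ : IsUnit (z + (1 - e)) := by
    rw [show z + (1 - e) = (u : MonoidAlgebra (Residue hM) G) + redChar hM F by rw [hu, ← hred]; abel]
    refine (isNilpotent_redChar hM hFl hFI).isUnit_add_left_of_commute u.isUnit ?_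
    rw [redChar]
    exact commute_toResAlg_of_classFunction (fourierInv_isClassFunction F) _
  obtain ⟨b, hb⟩ : ∃ b, b = ((v⁻¹ : (MonoidAlgebra (Residue hM) G)ˣ) : MonoidAlgebra (Residue hM) G) :=
    ⟨_, rfl⟩
  have hbc : ∀ x, Commute b x := fun x => by
    have h1 : Commute ((v : (MonoidAlgebra (Residue hM) G)ˣ) : MonoidAlgebra (Residue hM) G) x := by
      rw [hv]; exact (hzc x).add_left (hec1 x)
    rw [hb]
    exact Commute.units_inv_left (u := v) (a := x) h1
  have hzb : z * b = e := by
    have h1 : e * (z + (1 - e)) = z := by rw [mul_add, hze, mul_sub, mul_one, hee, sub_self, add_zero]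
    calc z * b = e * (z + (1 - e)) * b := by rw [h1]
      _ = e := by rw [mul_assoc, ← hv, hb, Units.mul_inv, mul_one]
  refine ⟨(n : Residue hM)⁻¹ • (e * b * MonoidAlgebra.single g (1 : Residue hM)), ?_, fun d hd => ?_, ?_⟩
  · rw [mul_smul_comm, ← mul_assoc, ← mul_assoc, hee]
  · refine Commute.smul_right ?_ _
    refine Commute.mul_right (Commute.mul_right (hec _).symm (hbc _).symm) ?_
    show _ * _ = _ * _
    rw [MonoidAlgebra.single_mul_single, MonoidAlgebra.single_mul_single,
      Subgroup.mem_centralizer_singleton_iff.1 (hgD hd)]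
  · have hterm : ∀ q : G ⧸ D, MonoidAlgebra.single q.out (1 : Residue hM) *
        ((n : Residue hM)⁻¹ • (e * b * MonoidAlgebra.single g (1 : Residue hM))) *
          MonoidAlgebra.single q.out⁻¹ (1 : Residue hM)
        = (n : Residue hM)⁻¹ •
          (e * b * MonoidAlgebra.single (q.out * g * q.out⁻¹) (1 : Residue hM)) := fun q => by
      have hc : Commute (MonoidAlgebra.single q.out (1 : Residue hM)) (e * b) :=
        Commute.mul_right (hec _).symm (hbc _).symm
      rw [mul_smul_comm, smul_mul_assoc]
      refine congrArg (fun t : MonoidAlgebra (Residue hM) G => (n : Residue hM)⁻¹ • t) ?_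
      rw [← mul_assoc, hc.eq]
      simp only [mul_assoc, MonoidAlgebra.single_mul_single, mul_one]
    rw [Finset.sum_congr rfl fun q _ => hterm q, ← Finset.smul_sum, ← Finset.mul_sum,
      CyclicCorner.sum_conj_class hM D g hgD, mul_smul_comm, smul_smul, inv_mul_cancel₀ hidx', one_smul,
      mul_assoc, (hbc _).eq, ← mul_assoc, ← hzdef, hzb]

end CfsgLib.Blocks.BlockTrace
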