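import Mathlib.Algebra.Algebra.Operations
import Mathlib.LinearAlgebra.FiniteDimensional.Lemmas
import Mathlib.LinearAlgebra.FreeModule.Finite.Matrix

/-!
# A direct factor of an algebra with one simple module and a two-dimensional cocentre

If a central idempotent `e` of a finite-dimensional algebra `A` lies in the ideal generated by an
idempotent `E` with `E * A * E = k E + (nilpotent)`, and `e A` modulo its commutators has dimension
two, then `E * A * E` is the two-dimensional algebra of dual numbers and `dim (e A) = 2 m²`.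
-/

set_option autoImplicit false

namespace CfsgLib.Blocks.LocalRankTwo

open LinearMap (mulLeft mulRight)

variable {k A : Type*} [Field k] [Ring A] [Algebra k A]

/-- The span of the commutators. -/
def commSpan (k A : Type*) [Field k] [Ring A] [Algebra k A] : Submodule k A :=
  Submodule.span k (Set.range fun q : A × A => q.1 * q.2 - q.2 * q.1)

theorem comm_mem (a b : A) : a * b - b * a ∈ commSpan k A := Submodule.subset_span ⟨(a, b), rfl⟩

theorem exists_expansion {E z : A}
    (h : z ∈ Submodule.span k (Set.range fun q : A × A => q.1 * E * q.2)) :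
    ∃ (n : ℕ) (x y : Fin n → A), z = ∑ i, x i * E * y i := by
  induction h using Submodule.span_induction with
  | mem z hz =>
    obtain ⟨⟨a, b⟩, rfl⟩ := hz
    exact ⟨1, fun _ => a, fun _ => b, by simp⟩
  | zero => exact ⟨0, Fin.elim0, Fin.elim0, by simp⟩
  | add z w _ _ hz hw =>
    obtain ⟨n, x, y, rfl⟩ := hz
    obtain ⟨m, x', y', rfl⟩ := hw
    exact ⟨n + m, Fin.append x x', Fin.append y y', by simp [Fin.sum_univ_add]⟩
  | smul c z _ hz =>
    obtain ⟨n, x, y, rfl⟩ := hz
    exact ⟨n, fun i => c • x i, y, by simp [Finset.smul_sum]⟩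

theorem eq_zero_of_idem_mem {J : Submodule k A} {N : ℕ} (hJ : J ^ N = ⊥) {u : A}
    (hu : IsIdempotentElem u) (hm : u ∈ J) : u = 0 := by
  have h : ∀ n : ℕ, u ∈ J ^ (n + 1) := by
    intro n
    induction n with
    | zero => simpa using hm
    | succ n ih =>
      rw [pow_succ]
      exact hu.eq ▸ Submodule.mul_mem_mul ih hm
  have h1 := h N
  rw [pow_succ, hJ, Submodule.bot_mul] at h1
  exact (Submodule.mem_bot k).1 h1

theorem exists_finrank_eq [FiniteDimensional k A] {e E : A} (hec : ∀ a, e * a = a * e)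
    (hE : IsIdempotentElem E) (hE0 : E ≠ 0) (heE : e * E = E)
    (hgen : e ∈ Submodule.span k (Set.range fun q : A × A => q.1 * E * q.2))
    {J : Submodule k A} {N : ℕ} (hJ : J ^ N = ⊥) (hJl : ∀ a, ∀ j ∈ J, a * j ∈ J)
    (hdec : ∀ a, ∃ c : k, E * a * E - c • E ∈ J)
    (he : IsIdempotentElem e)
    (hcoc : Module.finrank k (LinearMap.range (mulLeft k e))
      = Module.finrank k ((commSpan k A).map (mulLeft k e)) + 2) :
    ∃ m : ℕ, Module.finrank k (LinearMap.range (mulLeft k e)) = 2 * m ^ 2 := by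
  obtain ⟨n, xs, ys, hexp⟩ := exists_expansion hgen
  have hEe : E * e = E := by rw [← hec, heE]
  -- the corner
  set R := LinearMap.range (mulLeft k E ∘ₗ mulRight k E) with hR
  have memR : ∀ {r : A}, r ∈ R ↔ E * r * E = r := by
    intro r
    constructor
    · rintro ⟨a, rfl⟩
      simp only [LinearMap.comp_apply, LinearMap.mulLeft_apply, LinearMap.mulRight_apply,
        ← mul_assoc, hE.eq]
      rw [mul_assoc (E * a), hE.eq]
    · intro h
      exact ⟨r, by simpa [mul_assoc] using h⟩
  have cornR : ∀ a, E * a * E ∈ R := fun a => ⟨a, by simp [mul_assoc]⟩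
  have hER : E ∈ R := memR.2 (by rw [hE.eq, hE.eq])
  have leftR : ∀ {r : A}, r ∈ R → E * r = r := fun {r} h => by
    conv_lhs => rw [← memR.1 h, ← mul_assoc, ← mul_assoc, hE.eq]
    exact memR.1 h
  have rightR : ∀ {r : A}, r ∈ R → r * E = r := fun {r} h => by
    conv_lhs => rw [← memR.1 h, mul_assoc, hE.eq]
    exact memR.1 h
  have mulR : ∀ {r s : A}, r ∈ R → s ∈ R → r * s ∈ R := fun {r s} hr hs => memR.2 (by
    rw [← mul_assoc, leftR hr, mul_assoc, rightR hs])
  set C := Submodule.span k {z : A | ∃ r ∈ R, ∃ s ∈ R, r * s - s * r = z} with hC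
  have memC : ∀ {r s : A}, r ∈ R → s ∈ R → r * s - s * r ∈ C := fun hr hs =>
    Submodule.subset_span ⟨_, hr, _, hs, rfl⟩
  have hCR : C ≤ R := Submodule.span_le.2 (by
    rintro _ ⟨r, hr, s, hs, rfl⟩
    exact sub_mem (mulR hr hs) (mulR hs hr))
  set K := (commSpan k A).map (mulLeft k e) with hK
  -- the corner maps onto `e A` modulo commutators
  have hsup : R ⊔ K = LinearMap.range (mulLeft k e) := by
    refine le_antisymm (sup_le (fun r hr => ⟨r, ?_⟩) ?_) ?_
    · rw [LinearMap.mulLeft_apply, ← leftR hr, ← mul_assoc, heE]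
    · rw [hK]; rintro _ ⟨z, -, rfl⟩; exact ⟨z, rfl⟩
    · rintro _ ⟨a, rfl⟩
      have e1 : mulLeft k e a = ∑ i, (E * (ys i * a * xs i) * E)
          + mulLeft k e (∑ i, ((xs i * E) * (E * (ys i * a)) - (E * (ys i * a)) * (xs i * E))) := by
        rw [LinearMap.mulLeft_apply, LinearMap.mulLeft_apply, Finset.sum_sub_distrib, mul_sub]
        have h1 : e * a = e * ∑ i, xs i * E * (E * (ys i * a)) := by
          have : ∑ i, xs i * E * (E * (ys i * a)) = e * a := by
            rw [hexp, Finset.sum_mul]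
            refine Finset.sum_congr rfl fun i _ => ?_
            simp only [← mul_assoc]
            rw [mul_assoc (xs i), hE.eq]
          rw [this, ← mul_assoc, he.eq]
        have h2 : e * ∑ i, E * (ys i * a) * (xs i * E) = ∑ i, E * (ys i * a * xs i) * E := by
          rw [Finset.mul_sum]
          refine Finset.sum_congr rfl fun i _ => ?_
          simp only [← mul_assoc, heE]
        rw [← h1, h2]
        abel
      rw [e1]
      refine Submodule.add_mem_sup (sum_mem fun i _ => cornR _) ⟨_, sum_mem fun i _ => ?_, rfl⟩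
      exact comm_mem _ _
  have hinf : R ⊓ K = C := by
    refine le_antisymm ?_ (le_inf hCR (Submodule.span_le.2 ?_))
    · let Ψ : A →ₗ[k] A := ∑ i, mulLeft k (E * ys i) ∘ₗ mulRight k (xs i * E)
      have hΨ : ∀ a, Ψ a = ∑ i, E * ys i * (a * (xs i * E)) := fun a => by simp [Ψ, mul_assoc]
      rintro z ⟨hzR, hzK⟩
      have h1 : Ψ z ∈ C := by
        suffices hall : ∀ w ∈ commSpan k A, Ψ (e * w) ∈ C by
          obtain ⟨w, hw, rfl⟩ := hzK
          exact hall w hw
        intro w hw
        induction hw using Submodule.span_induction with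
        | mem w hw =>
          obtain ⟨⟨b, c⟩, rfl⟩ := hw
          have key : ∀ b c : A, Ψ (e * (b * c))
              = ∑ i, ∑ j, (E * ys i * (b * (xs j * E))) * (E * ys j * (c * (xs i * E))) := by
            intro b c
            rw [hΨ]
            refine Finset.sum_congr rfl fun i _ => ?_
            rw [← mul_assoc e, hec b, mul_assoc b, hexp, Finset.sum_mul, Finset.mul_sum, Finset.sum_mul,
              Finset.mul_sum]
            refine Finset.sum_congr rfl fun j _ => ?_
            simp only [← mul_assoc]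
            rw [mul_assoc (E * ys i * b * xs j) E E, hE.eq]
          rw [mul_sub, map_sub, key, key]
          rw [Finset.sum_comm (f := fun i j => (E * ys i * (c * (xs j * E))) * (E * ys j * (b * (xs i * E)))),
            ← Finset.sum_sub_distrib]
          refine sum_mem fun i _ => ?_
          rw [← Finset.sum_sub_distrib]
          refine sum_mem fun j _ => memC ?_ ?_ <;>
            exact memR.2 (by simp only [← mul_assoc, hE.eq]; rw [mul_assoc _ E E, hE.eq])
        | zero => simp
        | add w w' _ _ hw hw' => simpa [mul_add] using add_mem hw hw'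
        | smul c w _ hw => simpa using Submodule.smul_mem _ c hw
      have h2 : Ψ z - z ∈ C := by
        have e2 : z = ∑ i, (E * xs i * E) * (E * ys i * E * z) := by
          have : ∑ i, (E * xs i * E) * (E * ys i * E * z) = E * (∑ i, xs i * E * ys i) * E * z := by
            rw [Finset.mul_sum, Finset.sum_mul, Finset.sum_mul]
            refine Finset.sum_congr rfl fun i _ => ?_
            simp only [← mul_assoc]
            rw [mul_assoc (E * xs i) E E, hE.eq]
          rw [this, ← hexp, hEe, hE.eq, leftR hzR]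
        nth_rewrite 2 [e2]
        rw [hΨ, ← Finset.sum_sub_distrib]
        refine sum_mem fun i _ => ?_
        have e3 : E * ys i * (z * (xs i * E)) = (E * ys i * E * z) * (E * xs i * E) := by
          conv_lhs => rw [← memR.1 hzR]
          simp only [← mul_assoc]
        rw [e3]
        exact memC (memR.2 (by simp only [← mul_assoc, hE.eq]; rw [mul_assoc _ z E, rightR hzR])) (cornR _)
      simpa using sub_mem h1 h2
    · rintro _ ⟨r, hr, s, hs, rfl⟩
      refine ⟨r * s - s * r, comm_mem _ _, ?_⟩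
      rw [LinearMap.mulLeft_apply, ← leftR (sub_mem (mulR hr hs) (mulR hs hr)), ← mul_assoc, heE]
  have hdimR : Module.finrank k R = Module.finrank k C + 2 := by
    have h := Submodule.finrank_sup_add_finrank_inf_eq R K
    rw [hsup, hinf, hcoc] at h
    omega
  -- the radical of the corner
  set I := R ⊓ J with hI
  have hEI : E ∉ I := fun h => hE0 (eq_zero_of_idem_mem hJ hE h.2)
  have hsplit : ∀ r ∈ R, ∃ c : k, r - c • E ∈ I := fun r hr => by
    obtain ⟨c, hc⟩ := hdec r
    rw [memR.1 hr] at hc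
    exact ⟨c, sub_mem hr (Submodule.smul_mem _ c hER), hc⟩
  have hCI0 : C = Submodule.span k {z : A | ∃ r ∈ I, ∃ s ∈ I, r * s - s * r = z} := by
    refine le_antisymm (Submodule.span_le.2 ?_) (Submodule.span_mono ?_)
    · rintro _ ⟨r, hr, s, hs, rfl⟩
      obtain ⟨c, hc⟩ := hsplit r hr
      obtain ⟨d, hd⟩ := hsplit s hs
      refine Submodule.subset_span ⟨_, hc, _, hd, ?_⟩
      simp only [sub_mul, mul_sub, smul_mul_assoc, mul_smul_comm, leftR hr, rightR hr, leftR hs,
        rightR hs, hE.eq, smul_sub, smul_smul, mul_comm c d]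
      abel
    · rintro z ⟨r, hr, s, hs, rfl⟩
      exact ⟨r, hr.1, s, hs.1, rfl⟩
  have hCI : C ≤ I := hCI0.le.trans (Submodule.span_le.2 (by
    rintro _ ⟨r, hr, s, hs, rfl⟩
    exact ⟨sub_mem (mulR hr.1 hs.1) (mulR hs.1 hr.1), sub_mem (hJl r s hs.2) (hJl s r hr.2)⟩))
  have hdimI : Module.finrank k I + 1 = Module.finrank k R := by
    have h1 : I ⊔ Submodule.span k {E} = R := by
      refine le_antisymm (sup_le inf_le_left ((Submodule.span_singleton_le_iff_mem _ _).2 hER)) fun r hr => ?_
      obtain ⟨c, hc⟩ := hsplit r hr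
      rw [← sub_add_cancel r (c • E)]
      exact Submodule.add_mem_sup hc (Submodule.smul_mem _ c (Submodule.mem_span_singleton_self E))
    rw [← h1, ← finrank_span_singleton (K := k) hE0]
    refine (Submodule.finrank_sup_add_finrank_inf_eq _ _).symm.trans ?_
    rw [disjoint_iff.1 ((Submodule.disjoint_span_singleton_of_notMem hEI)), finrank_bot, add_zero]
  obtain ⟨x, hxI, hxC⟩ : ∃ x ∈ I, x ∉ C := SetLike.not_le_iff_exists.1 fun hle => by
    have := Submodule.finrank_mono (R := k) hle
    omega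
  have hIx : C ⊔ Submodule.span k {x} = I := by
    refine Submodule.eq_of_le_of_finrank_le (sup_le hCI ((Submodule.span_singleton_le_iff_mem _ _).2 hxI)) ?_
    have hlt : C < C ⊔ Submodule.span k {x} := lt_of_le_of_ne le_sup_left fun e' =>
      hxC (e' ▸ Submodule.mem_sup_right (Submodule.mem_span_singleton_self x))
    have := Submodule.finrank_lt_finrank_of_lt hlt
    omega
  have hpow : ∀ n : ℕ, C ≤ J ^ (n + 1) := by
    intro n
    induction n with
    | zero => simpa using hCI.trans inf_le_right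
    | succ n ih =>
      conv_lhs => rw [hCI0]
      refine Submodule.span_le.2 ?_
      rintro _ ⟨r, hr, s, hs, rfl⟩
      rw [← hIx, Submodule.mem_sup] at hr hs
      obtain ⟨r', hr', _, hrx, rfl⟩ := hr
      obtain ⟨s', hs', _, hsx, rfl⟩ := hs
      obtain ⟨c, rfl⟩ := Submodule.mem_span_singleton.1 hrx
      obtain ⟨d, rfl⟩ := Submodule.mem_span_singleton.1 hsx
      have hl : ∀ {u v : A}, u ∈ C → v ∈ J → u * v ∈ J ^ (n + 1 + 1) := fun {u v} hu hv => by
        rw [pow_succ]; exact Submodule.mul_mem_mul (ih hu) hv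
      have hr2 : ∀ {u v : A}, u ∈ C → v ∈ J → v * u ∈ J ^ (n + 1 + 1) := fun {u v} hu hv => by
        rw [pow_succ']; exact Submodule.mul_mem_mul hv (ih hu)
      have e4 : (r' + c • x) * (s' + d • x) - (s' + d • x) * (r' + c • x)
          = (r' * s' - s' * r') + d • (r' * x - x * r') + c • (x * s' - s' * x) := by
        simp only [mul_add, add_mul, smul_mul_assoc, mul_smul_comm, smul_sub, smul_add, smul_smul, mul_comm d c]
        abel
      rw [SetLike.mem_coe, e4]
      refine add_mem (add_mem (sub_mem (hl hr' (hCI hs').2) (hl hs' (hCI hr').2)) ?_) ?_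
      · exact Submodule.smul_mem _ _ (sub_mem (hl hr' hxI.2) (hr2 hr' hxI.2))
      · exact Submodule.smul_mem _ _ (sub_mem (hr2 hs' hxI.2) (hl hs' hxI.2))
  have hC0 : C = ⊥ := le_bot_iff.1 ((hpow N).trans (le_of_eq (by rw [pow_succ, hJ, Submodule.bot_mul])))
  rw [hC0, bot_sup_eq] at hIx
  rw [hC0, finrank_bot] at hdimR
  have hx0 : x ≠ 0 := fun h => hxC (h ▸ zero_mem _)
  have hxE : x * E = x := rightR hxI.1
  have hEx : E * x = x := leftR hxI.1
  have hxx : x * x = 0 := by
    have h1 : x * x ∈ I := ⟨mulR hxI.1 hxI.1, hJl x x hxI.2⟩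
    rw [← hIx, Submodule.mem_span_singleton] at h1
    obtain ⟨c, hc⟩ := h1
    by_contra hne
    have hc0 : c ≠ 0 := fun h => hne (by rw [← hc, h, zero_smul])
    have hu : IsIdempotentElem (c⁻¹ • x) := by
      show c⁻¹ • x * c⁻¹ • x = c⁻¹ • x
      rw [smul_mul_assoc, mul_smul_comm, ← hc, smul_smul c⁻¹ c, inv_mul_cancel₀ hc0, one_smul]
    have := eq_zero_of_idem_mem hJ hu (Submodule.smul_mem _ _ hxI.2)
    exact hx0 ((smul_eq_zero.1 this).resolve_left (inv_ne_zero hc0))
  have hRmem : ∀ r ∈ R, ∃ c d : k, r = c • E + d • x := fun r hr => by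
    obtain ⟨c, hc⟩ := hsplit r hr
    rw [← hIx, Submodule.mem_span_singleton] at hc
    obtain ⟨d, hd⟩ := hc
    exact ⟨c, d, by rw [hd]; abel⟩
  -- the projective module
  set V := LinearMap.range (mulRight k E) with hV
  have memV : ∀ {v : A}, v ∈ V ↔ v * E = v := fun {v} =>
    ⟨by rintro ⟨a, rfl⟩; simp [mul_assoc, hE.eq], fun h => ⟨v, by simpa using h⟩⟩
  have expV : ∀ v ∈ V, e * v = v := fun v hv => by
    conv_lhs => rw [← memV.1 hv, ← mul_assoc, hec, mul_assoc, heE]
    exact memV.1 hv
  have hker : ∀ v ∈ V, v * x = 0 → ∃ w ∈ V, w * x = v := by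
    intro v hv hvx
    have hv2 : v = ∑ i, xs i * E * (E * (ys i * v) * E) := by
      conv_lhs => rw [← expV v hv, hexp, Finset.sum_mul]
      refine Finset.sum_congr rfl fun i _ => ?_
      conv_lhs => rw [← memV.1 hv]
      simp only [← mul_assoc]
      rw [mul_assoc (xs i) E E, hE.eq]
    choose c d hcd using fun i => hRmem _ (cornR (ys i * v))
    have hc : ∀ i, c i = 0 := fun i => by
      have h6 : E * (ys i * v) * E * x = 0 := by
        rw [mul_assoc _ E x, hEx, mul_assoc, mul_assoc, hvx, mul_zero, mul_zero]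
      rw [hcd i, add_mul, smul_mul_assoc, smul_mul_assoc, hEx, hxx, smul_zero, add_zero] at h6
      exact (smul_eq_zero.1 h6).resolve_right hx0
    refine ⟨∑ i, d i • (xs i * E), sum_mem fun i _ => Submodule.smul_mem _ _
      (memV.2 (by rw [mul_assoc, hE.eq])), ?_⟩
    rw [hv2, Finset.sum_mul]
    refine Finset.sum_congr rfl fun i _ => ?_
    rw [hcd i, hc i, zero_smul, zero_add, smul_mul_assoc, mul_smul_comm]
  set W := V.map (mulRight k x) with hW
  have hWV : W ≤ V := by
    rintro _ ⟨v, -, rfl⟩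
    exact memV.2 (by rw [LinearMap.mulRight_apply, mul_assoc, hxE])
  have hxV' : ∀ v ∈ V, v * x ∈ V := fun v _ => memV.2 (by rw [mul_assoc, hxE])
  obtain ⟨U', hU'⟩ := Submodule.exists_isCompl W
  set U := U' ⊓ V with hU
  have hWU : ∀ v ∈ V, ∃ u ∈ U, ∃ u' ∈ U, v = u + u' * x := by
    have hdecV : ∀ v ∈ V, ∃ u ∈ U, ∃ w ∈ V, v = u + w * x := fun v hv => by
      obtain ⟨w, hw, u, hu, huw⟩ := Submodule.mem_sup.1 (hU'.sup_eq_top ▸ Submodule.mem_top : v ∈ W ⊔ U')
      have huV : u ∈ V := by
        rw [show u = v - w by rw [← huw]; abel]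
        exact sub_mem hv (hWV hw)
      obtain ⟨w', hw', rfl⟩ := hw
      exact ⟨u, ⟨hu, huV⟩, w', hw', by rw [← huw, LinearMap.mulRight_apply]; abel⟩
    intro v hv
    obtain ⟨u, hu, w, hw, rfl⟩ := hdecV v hv
    obtain ⟨u', hu', w', -, rfl⟩ := hdecV w hw
    exact ⟨u, hu, u', hu', by rw [add_mul, mul_assoc, hxx, mul_zero, add_zero]⟩
  let P : (U × U) →ₗ[k] V := LinearMap.codRestrict V
    (U.subtype.coprod (mulRight k x ∘ₗ U.subtype))
    fun q => add_mem q.1.2.2 (hWV ⟨_, q.2.2.2, rfl⟩)
  have hP : ∀ q : U × U, (P q : A) = (q.1 : A) + (q.2 : A) * x := fun q => rfl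
  have hPbij : Function.Bijective P := by
    refine ⟨(injective_iff_map_eq_zero P).2 fun q hq => ?_, fun v => ?_⟩
    · have h0 : (q.1 : A) + (q.2 : A) * x = 0 := by rw [← hP, hq]; rfl
      have h1 : (q.1 : A) = 0 := by
        have : (q.1 : A) ∈ W ⊓ U' := ⟨by
          rw [eq_neg_of_add_eq_zero_left h0]
          exact neg_mem ⟨_, q.2.2.2, rfl⟩, q.1.2.1⟩
        rwa [hU'.inf_eq_bot, Submodule.mem_bot] at this
      rw [h1, zero_add] at h0
      obtain ⟨w, hw, hwx⟩ := hker _ q.2.2.2 h0
      have h2 : (q.2 : A) ∈ W ⊓ U' := ⟨⟨w, hw, hwx⟩, q.2.2.1⟩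
      rw [hU'.inf_eq_bot, Submodule.mem_bot] at h2
      exact Prod.ext (Subtype.ext h1) (Subtype.ext h2)
    · obtain ⟨u, hu, u', hu', he'⟩ := hWU v v.2
      exact ⟨(⟨u, hu⟩, ⟨u', hu'⟩), Subtype.ext he'.symm⟩
  let P' := LinearEquiv.ofBijective P hPbij
  have hdimV : Module.finrank k V = Module.finrank k U + Module.finrank k U := by
    rw [← P'.finrank_eq, Module.finrank_prod]
  refine ⟨Module.finrank k U, ?_⟩
  let act : A →ₗ[k] (U →ₗ[k] V) :=
    { toFun := fun a => LinearMap.codRestrict V (mulLeft k a ∘ₗ U.subtype) fun u =>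
        memV.2 (by rw [LinearMap.comp_apply, LinearMap.mulLeft_apply, mul_assoc]; exact congrArg _ (memV.1 u.2.2))
      map_add' := fun a b => LinearMap.ext fun u => Subtype.ext (add_mul a b (u : A))
      map_smul' := fun c a => LinearMap.ext fun u => Subtype.ext (smul_mul_assoc c a (u : A)) }
  have hact : ∀ a (u : U), (act a u : A) = a * u := fun a u => rfl
  let L := act ∘ₗ (LinearMap.range (mulLeft k e)).subtype
  have hLbij : Function.Bijective L := by
    refine ⟨(injective_iff_map_eq_zero L).2 fun a ha => ?_, fun φ => ?_⟩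
    · have hU0 : ∀ u : U, (a : A) * u = 0 := fun u =>
        congrArg (fun f : U →ₗ[k] V => (f u : A)) ha
      have hV0 : ∀ v ∈ V, (a : A) * v = 0 := fun v hv => by
        obtain ⟨u, hu, u', hu', rfl⟩ := hWU v hv
        rw [mul_add, ← mul_assoc, hU0 ⟨u, hu⟩, hU0 ⟨u', hu'⟩, zero_mul, add_zero]
      obtain ⟨b, hb⟩ := a.2
      have hae : (a : A) * e = a := by
        rw [← hec, ← hb, LinearMap.mulLeft_apply, ← mul_assoc, he.eq]
      refine Subtype.ext ?_
      show (a : A) = 0
      refine hae.symm.trans ?_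
      refine (congrArg ((a : A) * ·) hexp).trans ?_
      rw [Finset.mul_sum]
      exact Finset.sum_eq_zero fun i _ => by
        rw [← mul_assoc, hV0 _ (memV.2 (by rw [mul_assoc, hE.eq])), zero_mul]
    · let Φ : V →ₗ[k] A := (LinearMap.coprod (V.subtype ∘ₗ φ) (mulRight k x ∘ₗ (V.subtype ∘ₗ φ))) ∘ₗ
        (P'.symm : V →ₗ[k] U × U)
      have hΦ : ∀ q : U × U, Φ (P q) = (φ q.1 : A) + (φ q.2 : A) * x := fun q => by
        show (LinearMap.coprod _ _) (P'.symm (P' q)) = _
        rw [P'.symm_apply_apply]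
        rfl
      have hΦx : ∀ v : V, Φ ⟨(v : A) * x, hxV' _ v.2⟩ = Φ v * x := fun v => by
        obtain ⟨⟨u, u'⟩, rfl⟩ := hPbij.2 v
        have : (⟨(P (u, u') : A) * x, hxV' _ (P (u, u')).2⟩ : V) = P (0, u) :=
          Subtype.ext (by
            show (P (u, u') : A) * x = (P (0, u) : A)
            rw [hP, hP]; simp [add_mul, mul_assoc, hxx])
        rw [this, hΦ, hΦ]
        simp [add_mul, mul_assoc, hxx]
      have hΦE : ∀ v : V, Φ v * E = Φ v := fun v => by
        obtain ⟨q, rfl⟩ := hPbij.2 v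
        rw [hΦ, add_mul, mul_assoc, hxE, memV.1 (φ q.1).2]
      have hxV : ∀ i, xs i * E ∈ V := fun i => memV.2 (by rw [mul_assoc, hE.eq])
      let a : A := ∑ i, Φ ⟨_, hxV i⟩ * (E * ys i)
      have hav : ∀ v : V, a * (v : A) = Φ v := fun v => by
        choose c d hcd using fun i => hRmem _ (cornR (ys i * v))
        have hv2 : v = ∑ i, (c i • (⟨_, hxV i⟩ : V) + d i • (⟨(xs i * E) * x, hxV' _ (hxV i)⟩ : V)) := by
          refine Subtype.ext ?_
          rw [Submodule.coe_sum]
          conv_lhs => rw [← expV v v.2, hexp, Finset.sum_mul]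
          refine Finset.sum_congr rfl fun i _ => ?_
          simp only [Submodule.coe_add, Submodule.coe_smul]
          calc xs i * E * ys i * (v : A) = xs i * E * (E * (ys i * v) * E) := by
                conv_lhs => rw [← memV.1 v.2]
                simp only [← mul_assoc]
                rw [mul_assoc (xs i) E E, hE.eq]
            _ = _ := by
                rw [hcd i, mul_add, mul_smul_comm, mul_smul_comm, mul_assoc (xs i) E E, hE.eq]
        conv_rhs => rw [hv2, map_sum]
        rw [Finset.sum_mul]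
        refine Finset.sum_congr rfl fun i _ => ?_
        rw [map_add, map_smul, map_smul, hΦx ⟨_, hxV i⟩]
        calc Φ ⟨_, hxV i⟩ * (E * ys i) * (v : A) = Φ ⟨_, hxV i⟩ * (E * (ys i * v) * E) := by
              conv_lhs => rw [← memV.1 v.2]
              simp only [← mul_assoc]
          _ = _ := by rw [hcd i, mul_add, mul_smul_comm, mul_smul_comm, hΦE]
      refine ⟨⟨e * a, ⟨a, rfl⟩⟩, LinearMap.ext fun u => Subtype.ext ?_⟩
      show (act (e * a) u : A) = _
      rw [hact, mul_assoc]
      have h7 : a * (u : A) = (φ u : A) := by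
        have e7 : (⟨(u : A), u.2.2⟩ : V) = P (u, 0) := Subtype.ext (by rw [hP]; simp)
        have := hav ⟨(u : A), u.2.2⟩
        rw [e7, hΦ] at this
        simpa [hP] using this
      rw [h7, expV _ (φ u).2]
  rw [(LinearEquiv.ofBijective L hLbij).finrank_eq, Module.finrank_linearMap, hdimV]
  ring

end CfsgLib.Blocks.LocalRankTwo
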