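import Cfsg.Agent.Lib.Blocks.BrauerHom
import Cfsg.Agent.Lib.Blocks.InducedBlock
import Cfsg.Agent.Lib.Blocks.SecondMain

/-!
# Brauer's Second Main Theorem in terms of ordinary characters
-/

set_option autoImplicit false

namespace CfsgLib.Blocks

open Cfsg
open scoped Classical ComplexConjugate

variable {G : Type*} [Group G] [Fintype G] {p : ℕ} {M : Ideal AlgInt}

theorem conv_comm_classFun {f : G → ℂ} (hf : IsClassFunction G f) (g : G → ℂ) (z : G) :
    ∑ h, f h * g (h⁻¹ * z) = ∑ h, g h * f (h⁻¹ * z) := by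
  refine Fintype.sum_equiv ((Equiv.inv G).trans (Equiv.mulRight z)) _ _ fun h => ?_
  show f h * g (h⁻¹ * z) = g (h⁻¹ * z) * f ((h⁻¹ * z)⁻¹ * z)
  rw [show (h⁻¹ * z)⁻¹ * z = z⁻¹ * h * (z⁻¹)⁻¹ by simp [mul_assoc], hf h z⁻¹, mul_comm]

/-- A central element acts in an irreducible character by its central character. -/
theorem sum_classFun_mul_char (χ : IrrCharacter G) {f : G → ℂ} (hf : IsClassFunction G f) (w : G) :
    ∑ h, f h * (χ : G → ℂ) (w * h) = omega (χ : G → ℂ) f * (χ : G → ℂ) w := by
  conv_lhs => rw [← fourierInv_omega hf]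
  simp only [fourierInv, Finset.mul_sum, Finset.sum_mul]
  rw [Finset.sum_comm, Finset.sum_eq_single χ]
  · have h := gen_orth χ χ w
    rw [if_pos rfl] at h
    have e : ∑ k, (χ : G → ℂ) k⁻¹ * (χ : G → ℂ) (w * k)
        = (Nat.card G : ℂ) * (χ : G → ℂ) w / (χ : G → ℂ) 1 := by
      rw [← h]
      refine Fintype.sum_equiv (Equiv.mulLeft w) _ _ fun k => ?_
      simp [mul_assoc, mul_comm]
    calc _ = (Nat.card G : ℂ)⁻¹ * omega (χ : G → ℂ) f * (χ : G → ℂ) 1 *
          ∑ k, (χ : G → ℂ) k⁻¹ * (χ : G → ℂ) (w * k) := by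
          rw [Finset.mul_sum]; exact Finset.sum_congr rfl fun k _ => by ring
      _ = _ := by
          rw [e]
          have := irr_one_ne_zero χ
          have := CfsgLib.Char.card_ne_zero (G := G)
          field_simp
  · intro ψ _ hψ
    have h := gen_orth χ ψ w
    rw [if_neg (Ne.symm hψ)] at h
    have e : ∑ k, (ψ : G → ℂ) k⁻¹ * (χ : G → ℂ) (w * k) = 0 := by
      rw [← h]
      refine Fintype.sum_equiv (Equiv.mulLeft w) _ _ fun k => ?_
      simp [mul_assoc, mul_comm]
    calc _ = (Nat.card G : ℂ)⁻¹ * omega (ψ : G → ℂ) f * (ψ : G → ℂ) 1 *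
          ∑ k, (ψ : G → ℂ) k⁻¹ * (χ : G → ℂ) (w * k) := by
          rw [Finset.mul_sum]; exact Finset.sum_congr rfl fun k _ => by ring
      _ = 0 := by rw [e, mul_zero]
  · simp

/-- The projection of a class function to a set of irreducible characters is convolution with the
idempotent of the set. -/
theorem blockPart_eq_conv (b : Set (IrrCharacter G)) {ϑ : G → ℂ} (hϑ : IsClassFunction G ϑ) (y : G) :
    blockPart b ϑ y = ∑ k, blockCoeff b k * ϑ (y * k) := by
  have hexp : ∀ z, ϑ z = ∑ φ : IrrCharacter G, classInner ϑ (φ : G → ℂ) * (φ : G → ℂ) z := by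
    intro z
    conv_lhs => rw [CfsgLib.Char.IsClassFunction.eq_sum_irr hϑ]
    simp
  calc blockPart b ϑ y = ∑ φ : IrrCharacter G,
        blockInd b φ * (classInner ϑ (φ : G → ℂ) * (φ : G → ℂ) y) := by
        rw [blockPart, Subsingleton.elim (Fintype.ofFinite G) ‹Fintype G›,
          finsum_mem_eq_toFinset_sum]
        refine (Finset.sum_congr rfl fun φ hφ => ?_).trans
          (Finset.sum_subset (Finset.subset_univ _) fun φ _ hφ => ?_)
        · rw [blockInd_of_mem (Set.mem_toFinset.1 hφ), one_mul]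
        · rw [blockInd_of_notMem (by simpa using hφ), zero_mul]
    _ = ∑ φ : IrrCharacter G, classInner ϑ (φ : G → ℂ) *
        ∑ k, blockCoeff b k * (φ : G → ℂ) (y * k) := by
        refine Finset.sum_congr rfl fun φ _ => ?_
        rw [sum_classFun_mul_char φ (blockCoeff_isClassFunction b), omega_blockCoeff]
        ring
    _ = _ := by
        simp only [hexp (y * _), Finset.mul_sum]
        rw [Finset.sum_comm]
        exact Finset.sum_congr rfl fun k _ => Finset.sum_congr rfl fun φ _ => by ring

/-- Convolutions in `G` and in a subgroup containing `C_G(P)` agree modulo `M` on the centralizer. -/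
theorem conv_congr_sub (hM : IsPModular p M) {P H : Subgroup G} (hP : IsPGroup p P) (hPH : P ≤ H)
    (hCH : Subgroup.centralizer (P : Set G) ≤ H) {f g : G → ℂ}
    (hf : ∀ x, MemLocalRing M (f x)) (hg : ∀ x, MemLocalRing M (g x))
    (hfP : ∀ u ∈ P, ∀ x, f (u * x * u⁻¹) = f x) (hgP : ∀ u ∈ P, ∀ x, g (u * x * u⁻¹) = g x)
    {c : H} (hc : (c : G) ∈ Subgroup.centralizer (P : Set G)) :
    MemLocalIdeal M ((∑ x, f x * g (x⁻¹ * (c : G)))
      - ∑ y : H, f (y : G) * g ((y⁻¹ * c : H) : G)) := by
  have hmem : ∀ y : H, y ∈ Subgroup.centralizer ((P.subgroupOf H : Subgroup H) : Set H) ↔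
      (y : G) ∈ Subgroup.centralizer (P : Set G) := by
    intro y
    simp only [Subgroup.mem_centralizer_iff]
    constructor
    · intro h u hu
      exact congrArg Subtype.val (h ⟨u, hPH hu⟩ hu)
    · intro h u hu
      exact Subtype.ext (h u hu)
  have h1 := conv_congr_centralizer hM hP hf hg hfP hgP hc
  have h2 := conv_congr_centralizer hM (P := P.subgroupOf H) (hP.comap_subtype)
    (f := fun y : H => f y) (g := fun y : H => g y) (fun y => hf _) (fun y => hg _)
    (fun u hu y => hfP _ hu _) (fun u hu y => hgP _ hu _) ((hmem c).2 hc)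
  have e : ∑ y : H with y ∈ Subgroup.centralizer ((P.subgroupOf H : Subgroup H) : Set H),
        f (y : G) * g ((y⁻¹ * c : H) : G)
      = ∑ x : G with x ∈ Subgroup.centralizer (P : Set G), f x * g (x⁻¹ * (c : G)) := by
    refine Finset.sum_bij (fun y _ => (y : G))
      (fun y hy => by simpa using (hmem y).1 (Finset.mem_filter.1 hy).2)
      (fun _ _ _ _ h => Subtype.ext h) (fun x hx => ?_) fun y _ => rfl
    simp only [Finset.mem_filter, Finset.mem_univ, true_and] at hx
    exact ⟨⟨x, hCH hx⟩, by simpa [hmem] using hx, rfl⟩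
  rw [e] at h2
  exact LI.trans hM h1 (LI.sub_comm h2)

/-- The core of the Second Main Theorem: if the central characters of the block `b` of `H` kill the
idempotent of `B` modulo `M`, then `b` kills the `p`-section of `x` in the characters of `B`. -/
theorem second_main_core (hM : IsPModular p M) {H : Subgroup G} {x y : G} {k : ℕ}
    (hx : orderOf x = p ^ k) (hy : ¬ p ∣ orderOf y) (hxy : Commute x y) (hxH : x ∈ H) (hyH : y ∈ H)
    (hC : Subgroup.centralizer ({x} : Set G) ≤ H) {b : Set (IrrCharacter H)} (hb : IsPBlock M b)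
    {B : Set (IrrCharacter G)} (hB : IsPBlock M B) {χ : IrrCharacter G} (hχ : χ ∈ B)
    (hker : ∀ ξ ∈ b, MemLocalIdeal M (omega (ξ : H → ℂ) fun h : H => blockCoeff B h)) :
    ∑ z : H, blockCoeff b z * (χ : G → ℂ) (x * y * (z : G)) = 0 := by
  set P := Subgroup.zpowers x
  have hP : IsPGroup p P := IsPGroup.of_card (n := k) (by rw [Nat.card_zpowers, hx])
  have hPH : P ≤ H := by rw [Subgroup.zpowers_le]; exact hxH
  have hCH : Subgroup.centralizer (P : Set G) ≤ H := by rw [centralizer_zpowers]; exact hC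
  set eb : G → ℂ := fun g => if h : g ∈ H then blockCoeff b ⟨g, h⟩ else 0
  set eB : G → ℂ := fun g => blockCoeff B g
  have heB : ∀ g, MemLocalRing M (eB g) := blockCoeff_LR hM hB
  have heb : ∀ g, MemLocalRing M (eb g) := fun g => by
    by_cases h : g ∈ H
    · simp only [eb, dif_pos h]; exact blockCoeff_LR hM hb _
    · simp only [eb, dif_neg h]; exact LR.zero hM
  have hebval : ∀ z : H, eb (z : G) = blockCoeff b z := fun z => by simp [eb]
  have hebinv : ∀ u ∈ H, ∀ g, eb (u * g * u⁻¹) = eb g := by
    intro u hu g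
    by_cases h : g ∈ H
    · have h' : u * g * u⁻¹ ∈ H := mul_mem (mul_mem hu h) (inv_mem hu)
      simp only [eb, dif_pos h, dif_pos h']
      exact blockCoeff_isClassFunction b ⟨g, h⟩ ⟨u, hu⟩
    · have h' : u * g * u⁻¹ ∉ H := fun h' => h (by
        simpa [mul_assoc] using mul_mem (mul_mem (inv_mem hu) h') hu)
      simp only [eb, dif_neg h, dif_neg h']
  have heBinv : ∀ u g, eB (u * g * u⁻¹) = eB g := fun u g => blockCoeff_isClassFunction B g u
  set a : G → ℂ := fun g => ∑ h, eB h * eb (h⁻¹ * g)
  have haR : ∀ g, MemLocalRing M (a g) := fun g =>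
    LR.sum hM fun h _ => LR.mul hM (heB _) (heb _)
  have hEB : toAlg eB * toAlg eB = toAlg eB := by
    rw [toAlg_mul]; congr 1; funext g
    simp only [eB]; rw [blockCoeff_conv, Set.inter_self]
  have hEb : toAlg eb * toAlg eb = toAlg eb := by
    rw [toAlg_mul]; congr 1; funext g
    rw [← Finset.sum_filter_of_ne (p := fun h => h ∈ H) (fun h _ hne => by
      by_contra hh; exact hne (by simp [eb, hh]))]
    by_cases hg : g ∈ H
    · simp only [eb, dif_pos hg]
      rw [show blockCoeff b ⟨g, hg⟩ = blockCoeff (b ∩ b) ⟨g, hg⟩ by rw [Set.inter_self],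
        ← blockCoeff_conv]
      refine Finset.sum_bij (fun h hh => (⟨h, (Finset.mem_filter.1 hh).2⟩ : H))
        (fun _ _ => Finset.mem_univ _) (fun _ _ _ _ h => congrArg Subtype.val h)
        (fun z _ => ⟨(z : G), by simp, rfl⟩) fun h hh => ?_
      have h1 := (Finset.mem_filter.1 hh).2
      rw [dif_pos h1, dif_pos (mul_mem (inv_mem h1) hg)]
      rfl
    · simp only [eb, dif_neg hg]
      refine Finset.sum_eq_zero fun h hh => ?_
      have h1 := (Finset.mem_filter.1 hh).2
      have : h⁻¹ * g ∉ H := fun h2 => hg (by simpa using mul_mem h1 h2)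
      rw [dif_neg this, mul_zero]
  have hcomm : toAlg eb * toAlg eB = toAlg eB * toAlg eb := by
    rw [toAlg_mul, toAlg_mul]; congr 1; funext g
    exact (conv_comm_classFun (blockCoeff_isClassFunction B) eb g).symm
  have hA : toAlg a = toAlg eB * toAlg eb := (toAlg_mul eB eb).symm
  have haidem : ∀ g, ∑ h, a h * a (h⁻¹ * g) = a g := by
    have h : toAlg a * toAlg a = toAlg a := by
      rw [hA, mul_assoc, ← mul_assoc (toAlg eb) (toAlg eB), hcomm, mul_assoc (toAlg eB) (toAlg eb),
        hEb, ← mul_assoc, hEB]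
    intro g
    have := congrArg (fun z : MonoidAlgebra ℂ G => z.coeff g) h
    rw [toAlg_mul] at this
    simpa using this
  have hainv : ∀ u ∈ H, ∀ g, a (u * g * u⁻¹) = a g := by
    intro u hu g
    refine (Fintype.sum_equiv (MulAut.conj u).toEquiv _ _ fun h => ?_).symm
    show eB h * eb (h⁻¹ * g) = eB (u * h * u⁻¹) * eb ((u * h * u⁻¹)⁻¹ * (u * g * u⁻¹))
    rw [heBinv, show (u * h * u⁻¹)⁻¹ * (u * g * u⁻¹) = u * (h⁻¹ * g) * u⁻¹ by simp [mul_assoc],
      hebinv u hu]
  -- the truncation to the centralizer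
  set xH : H := ⟨x, hxH⟩
  set PH := P.subgroupOf H
  have hPHp : IsPGroup p PH := hP.comap_subtype
  set K := Subgroup.centralizer (PH : Set H)
  have hKN : K ≤ Subgroup.normalizer (PH : Set H) := by
    intro z hz
    refine Subgroup.mem_normalizer_iff.2 fun u => ⟨fun hu => ?_, fun hu => ?_⟩
    · rw [← Subgroup.mem_centralizer_iff.1 hz u hu]; simpa using hu
    · have h1 := Subgroup.mem_centralizer_iff.1 hz _ hu
      have h2 : z * u * z⁻¹ = u := by
        have := congrArg (fun w => z⁻¹ * w) h1
        simp [mul_assoc] at this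
        rw [mul_assoc, ← this]
      rwa [h2] at hu
  set r : H → ℂ := fun h => eB (h : G)
  have hrc : IsClassFunction H r := resFun_isClassFunction H (blockCoeff_isClassFunction B)
  have hrR : ∀ h, MemLocalRing M (r h) := fun h => heB _
  set F : IrrCharacter H → ℂ := fun ψ => omega (ψ : H → ℂ) r
  have hF : IsLocalOn M (⊤ : Subgroup H) F :=
    isLocalOn_omega hM hrc hrR fun z hz => absurd (Subgroup.mem_top z) hz
  have hFE : IsLocalOn M (⊤ : Subgroup H) fun ψ => F ψ * blockInd b ψ :=
    IsLocalOn.mul hM hF (IsPBlock.isLocalOn hM hb)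
  set u : H → ℂ := fourierInv fun ψ => F ψ * blockInd b ψ
  have hu : ∀ c : H, u c = ∑ z : H, r z * blockCoeff b (z⁻¹ * c) := by
    intro c
    simp only [u]
    rw [← fourierInv_mul, show fourierInv F = r from fourierInv_omega hrc]
    simp only [blockCoeff_eq_fourierInv]
  have hmemK : ∀ c : H, c ∈ K ↔ (c : G) ∈ Subgroup.centralizer (P : Set G) := by
    intro c
    simp only [K, Subgroup.mem_centralizer_iff]
    constructor
    · intro h v hv; exact congrArg Subtype.val (h ⟨v, hPH hv⟩ hv)
    · intro h v hv; exact Subtype.ext (h v hv)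
  have hua : ∀ c ∈ K, MemLocalIdeal M (a (c : G) - u c) := by
    intro c hc
    rw [hu]
    have := conv_congr_sub hM hP hPH hCH heB heb (fun v _ => heBinv v)
      (fun v hv => hebinv v (hPH hv)) ((hmemK c).1 hc)
    simpa only [hebval] using this
  set w := brTrunc PH K u
  have hwR : ∀ c, MemLocalRing M (w c) := brTrunc_LR hM fun z => (hFE z).1
  have hwc : IsClassFunction K w := brTrunc_isClassFunction hKN (fourierInv_isClassFunction _)
  have hwidem : ∀ c : K, MemLocalIdeal M (∑ z : K, w z * w (z⁻¹ * c) - w c) := by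
    intro c
    have hwu : ∀ z : K, w z = u (z : H) := fun z => if_pos z.2
    have h1 := brTrunc_conv hM hPHp (le_refl K) (fun z => (hFE z).1) (fun z => (hFE z).1)
      (fun v _ z => fourierInv_isClassFunction _ z v) (fun v _ z => fourierInv_isClassFunction _ z v) c
    rw [brTrunc, if_pos c.2] at h1
    refine LI.trans hM (LI.sub_comm h1) ?_
    rw [hwu c]
    -- `u * u` and `u` agree modulo `M` on the centralizer
    have h2 : MemLocalIdeal M (∑ z : H, u z * u (z⁻¹ * (c : H))
        - ∑ z : G, a z * a (z⁻¹ * ((c : H) : G))) := by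
      have hc' := (hmemK (c : H)).1 c.2
      refine LI.trans hM (y := ∑ z : H, a (z : G) * a ((z⁻¹ * (c : H) : H) : G)) ?_
        (LI.sub_comm (conv_congr_sub hM hP hPH hCH haR haR (fun v hv => hainv v (hPH hv))
          (fun v hv => hainv v (hPH hv)) hc'))
      have e1 := conv_congr_centralizer hM hPHp (fun z => (hFE z).1) (fun z => (hFE z).1)
        (fun v _ z => fourierInv_isClassFunction _ z v)
        (fun v _ z => fourierInv_isClassFunction _ z v) c.2
      have e2 := conv_congr_centralizer hM hPHp (f := fun z : H => a z) (g := fun z : H => a z)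
        (fun z => haR _) (fun z => haR _) (fun v _ z => hainv _ v.2 _) (fun v _ z => hainv _ v.2 _) c.2
      refine LI.trans hM e1 (LI.trans hM ?_ (LI.sub_comm e2))
      rw [← Finset.sum_sub_distrib]
      refine LI.sum hM fun z hz => ?_
      have hz' : z ∈ K := (Finset.mem_filter.1 hz).2
      have a1 := hua z hz'
      have a2 := hua (z⁻¹ * (c : H)) (mul_mem (inv_mem hz') c.2)
      have := LI.add hM (LI.mul_right hM (LI.sub_comm a1) ((hFE (z⁻¹ * (c : H))).1))
        (LI.mul_left hM (haR (z : G)) (LI.sub_comm a2))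
      convert this using 1
      ring
    rw [haidem] at h2
    exact LI.trans hM h2 (hua _ c.2)
  have hw0 : ∀ c : K, MemLocalIdeal M (w c) := by
    set W : IrrCharacter K → ℂ := fun ψ => omega (ψ : K → ℂ) w
    have hW : IsLocalOn M (⊤ : Subgroup K) W :=
      isLocalOn_omega hM hwc hwR fun z hz => absurd (Subgroup.mem_top z) hz
    have hidem : IsLocalZero M fun ψ => W ψ * W ψ - W ψ := by
      intro c
      have e : fourierInv (fun ψ => W ψ * W ψ - W ψ) c
          = fourierInv (fun ψ => W ψ * W ψ) c - fourierInv W c := by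
        simp only [fourierInv, sub_mul, Finset.sum_sub_distrib, mul_sub]
      rw [e, ← fourierInv_mul, show fourierInv W = w from fourierInv_omega hwc]
      exact hwidem c
    have hvals : ∀ ψ : IrrCharacter K, (1 : ℂ) ≠ 0 → MemLocalIdeal M (W ψ) := by
      intro ψ _
      obtain ⟨ξ, hξ⟩ := exists_brLam_eval hM hPHp (le_refl K) hKN ψ
      have := hξ u (fourierInv_isClassFunction _) fun z => (hFE z).1
      simp only [u, omega_fourierInv] at this
      have hv : MemLocalIdeal M (F ξ * blockInd b ξ) := by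
        by_cases hξb : ξ ∈ b
        · rw [blockInd_of_mem hξb, mul_one]; exact hker ξ hξb
        · rw [blockInd_of_notMem hξb, mul_zero]; exact LI.zero hM
      have h2 := LI.add hM this hv
      rw [sub_add_cancel] at h2
      exact h2
    have := isLocalZero_of_idem hM hW (IsLocalOn.one hM) hidem hvals
    intro c
    have hc := this c
    simp only [mul_one] at hc
    rwa [show fourierInv (fun ψ => W ψ) = w from fourierInv_omega hwc] at hc
  have hbr : ∀ g, Commute x g → MemLocalIdeal M (a g) := by
    intro g hg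
    have hgc : g ∈ Subgroup.centralizer (P : Set G) := by
      rw [centralizer_zpowers]
      exact Subgroup.mem_centralizer_singleton_iff.2 hg.eq.symm
    have hgK : (⟨g, hCH hgc⟩ : H) ∈ K := (hmemK _).2 hgc
    have h1 := hw0 ⟨_, hgK⟩
    have h2 : w ⟨_, hgK⟩ = u ⟨g, hCH hgc⟩ := if_pos hgK
    rw [h2] at h1
    have := LI.add hM (hua _ hgK) h1
    rwa [sub_add_cancel] at this
  obtain ⟨n, ρ, hρ, he⟩ := χ.2
  have hzero := trace_eq_zero_of_brauer_zero hM ρ haR haidem hx hy hxy
    (fun g => hainv x hxH g) (fun g => hainv y hyH g) hbr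
  rw [he] at hzero
  rw [← hzero]
  calc ∑ z : H, blockCoeff b z * (χ : G → ℂ) (x * y * (z : G))
      = ∑ g : G, eb g * (χ : G → ℂ) (x * y * g) := by
        rw [← Finset.sum_filter_of_ne (p := fun g => g ∈ H) (s := Finset.univ)
          (f := fun g => eb g * (χ : G → ℂ) (x * y * g)) (fun g _ hne => by
            by_contra hh; exact hne (by simp [eb, hh]))]
        refine Finset.sum_bij (fun z _ => (z : G)) (fun z _ => by simp)
          (fun _ _ _ _ h => Subtype.ext h) (fun g hg => ⟨⟨g, (Finset.mem_filter.1 hg).2⟩,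
            Finset.mem_univ _, rfl⟩) fun z _ => by rw [hebval]
    _ = ∑ g : G, a g * (χ : G → ℂ) (x * y * g) := by
        have hac : ∀ g, a g = ∑ h, eb h * eB (h⁻¹ * g) := fun g =>
          conv_comm_classFun (blockCoeff_isClassFunction B) eb g
        simp only [hac, Finset.sum_mul]
        rw [Finset.sum_comm]
        refine Finset.sum_congr rfl fun h _ => ?_
        calc eb h * (χ : G → ℂ) (x * y * h)
            = eb h * ∑ l, eB l * (χ : G → ℂ) (x * y * h * l) := by
              rw [sum_classFun_mul_char χ (blockCoeff_isClassFunction B), omega_blockCoeff,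
                blockInd_of_mem hχ, one_mul]
          _ = _ := by
              rw [Finset.mul_sum]
              refine Fintype.sum_equiv (Equiv.mulLeft h) _ _ fun l => ?_
              simp only [Equiv.coe_mulLeft, inv_mul_cancel_left]
              simp only [← mul_assoc]

/-- The Second Main Theorem for a block of `C_G(x)` not inducing the block of `χ`. -/
theorem blockPart_section_eq_zero (hM : IsPModular p M) {x : G} (hx : ∃ k : ℕ, orderOf x = p ^ k)
    {B : Set (IrrCharacter G)} (hB : IsPBlock M B) {χ : IrrCharacter G} (hχ : χ ∈ B)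
    {b : Set (IrrCharacter (Subgroup.centralizer ({x} : Set G)))} (hb : IsPBlock M b)
    (hnot : ¬ IsInducedBlock M (Subgroup.centralizer ({x} : Set G)) b B)
    {y : Subgroup.centralizer ({x} : Set G)} (hy : ¬ p ∣ orderOf y) :
    blockPart b (fun c : Subgroup.centralizer ({x} : Set G) => (χ : G → ℂ) (x * (c : G))) y = 0 := by
  obtain ⟨k, hk⟩ := hx
  obtain ⟨B₀, hind⟩ := exists_isInducedBlock_centralizer_singleton hM ⟨k, hk⟩ hb
  have hne : B₀ ≠ B := fun h => hnot (h ▸ hind)
  have hxC : x ∈ Subgroup.centralizer ({x} : Set G) :=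
    Subgroup.mem_centralizer_singleton_iff.2 rfl
  have hxy : Commute x (y : G) := (Subgroup.mem_centralizer_singleton_iff.1 y.2).symm
  have hker : ∀ ξ ∈ b, MemLocalIdeal M
      (omega (ξ : Subgroup.centralizer ({x} : Set G) → ℂ)
        fun h : Subgroup.centralizer ({x} : Set G) => blockCoeff B h) := by
    intro ξ hξ
    obtain ⟨χ₀, hχ₀⟩ := IsPBlock.nonempty hM hind.2.1
    have h := IsInducedBlock.omega_congr hM hind hξ hχ₀ (blockCoeff_isClassFunction B)
      (blockCoeff_LR hM hB)
    rw [omega_blockCoeff, blockInd_of_notMem fun h' => hne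
      (IsPBlock.eq_of_mem hM hind.2.1 hB hχ₀ h'), sub_zero] at h
    exact h
  have hcl : IsClassFunction (Subgroup.centralizer ({x} : Set G))
      fun c : Subgroup.centralizer ({x} : Set G) => (χ : G → ℂ) (x * (c : G)) := by
    intro c z
    have hz : (z : G) * x = x * (z : G) := Subgroup.mem_centralizer_singleton_iff.1 z.2
    show (χ : G → ℂ) (x * ((z : G) * (c : G) * (z : G)⁻¹)) = (χ : G → ℂ) (x * (c : G))
    rw [← mul_assoc, ← mul_assoc, ← hz, mul_assoc (z : G) x (c : G), irr_conj_apply]
  rw [blockPart_eq_conv b hcl]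
  have := second_main_core hM hk (by rwa [Subgroup.orderOf_coe]) hxy hxC y.2 le_rfl hb hB hχ hker
  rw [← this]
  exact Finset.sum_congr rfl fun z _ => by simp [mul_assoc]

end CfsgLib.Blocks
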