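import Cfsg.Agent.Lib.Blocks.DefectCount
import Cfsg.Agent.Lib.Blocks.Parts
import Cfsg.Agent.Lib.Blocks.SecondMainBlocks
import Cfsg.Agent.Lib.Blocks.LocalRankTwo
import Mathlib.RingTheory.SimpleModule.IsAlgClosed
import Mathlib.RingTheory.Artinian.Ring
import Mathlib.RingTheory.Idempotents
import Mathlib.LinearAlgebra.Matrix.Charpoly.Coeff

/-!
# Blocks with two irreducible characters

A block has exactly two irreducible characters if and only if its defect groups have order two.
If there are two characters, their restrictions to `p`-regular elements are proportional, so the block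
algebra over the residue field has one simple module and a cocentre of dimension two; it is then a
matrix algebra over the dual numbers, and its dimension is twice a square, which forces `p = 2`.
-/

set_option autoImplicit false
set_option maxHeartbeats 1000000

namespace CfsgLib.Blocks.TwoCharacters

open Cfsg CfsgLib.Blocks.ResidueAlgebra
open scoped Classical
open LinearMap (mulLeft)

variable {G : Type*} [Group G] [Fintype G] {p : ℕ} {M : Ideal AlgInt}

/-! ### Matrices over the local ring -/

noncomputable instance instFieldResidue (hM : IsPModular p M) : Field (Residue hM) :=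
  haveI := isMaximal_localMaxIdeal hM
  Ideal.Quotient.field _

theorem exists_factor {F : Type*} [Field F] {m n : Type*} [Fintype m] [Fintype n] (A : Matrix m n F) :
    ∃ (L : Matrix (Fin A.rank) m F) (R : Matrix n (Fin A.rank) F), L * A * R = 1 := by
  let b : Module.Basis (Fin A.rank) F (LinearMap.range A.mulVecLin) :=
    Module.finBasisOfFinrankEq F _ rfl
  have hv : ∀ l, ∃ v : n → F, A.mulVecLin v = (b l : m → F) := fun l => (b l).2
  choose v hv using hv
  let B : Matrix m (Fin A.rank) F := Matrix.of fun i l => (b l : m → F) i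
  let R : Matrix n (Fin A.rank) F := Matrix.of fun j l => v l j
  have hinj : Function.Injective B.mulVecLin := by
    rw [Matrix.coe_mulVecLin, Matrix.mulVec_injective_iff]
    exact b.linearIndependent.map' (LinearMap.range A.mulVecLin).subtype (Submodule.ker_subtype _)
  obtain ⟨g, hg⟩ := LinearMap.exists_leftInverse_of_injective B.mulVecLin (LinearMap.ker_eq_bot.2 hinj)
  refine ⟨LinearMap.toMatrix' g, R, ?_⟩
  have hAR : A * R = B := by
    ext i l
    exact congrFun (hv l) i
  rw [Matrix.mul_assoc, hAR, ← LinearMap.toMatrix'_id (R := F), ← hg, LinearMap.toMatrix'_comp]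
  congr 1
  exact (LinearMap.toMatrix'_toLin' B).symm

theorem rank_add_rank_one_sub {F : Type*} [Field F] {n : Type*} [Fintype n] (P : Matrix n n F)
    (hP : P * P = P) : P.rank + (1 - P).rank = Fintype.card n := by
  have h : LinearMap.range (1 - P).mulVecLin = LinearMap.ker P.mulVecLin := by
    refine le_antisymm ?_ fun v hv => ⟨v, ?_⟩
    · rintro _ ⟨v, rfl⟩
      rw [LinearMap.mem_ker, Matrix.mulVecLin_apply, Matrix.mulVecLin_apply, Matrix.mulVec_mulVec,
        Matrix.mul_sub, Matrix.mul_one, hP, sub_self, Matrix.zero_mulVec]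
    · rw [LinearMap.mem_ker, Matrix.mulVecLin_apply] at hv
      rw [Matrix.mulVecLin_apply, Matrix.sub_mulVec, Matrix.one_mulVec, hv, sub_zero]
  rw [Matrix.rank, Matrix.rank, h, LinearMap.finrank_range_add_finrank_ker,
    Module.finrank_fintype_fun_eq_card]

theorem rank_resid_le (hM : IsPModular p M) {n : Type*} [Fintype n] (Q : Matrix n n ℂ)
    (hQ : ∀ i j, MemLocalRing M (Q i j)) : (Q.map (resid hM)).rank ≤ Q.rank := by
  set A := Q.map (resid hM) with hA
  obtain ⟨L, R, hLR⟩ := exists_factor A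
  let φ := Ideal.Quotient.mk (localMaxIdeal hM)
  let Q0 : Matrix n n (localSubring hM) := Matrix.of fun i j => ⟨Q i j, hQ i j⟩
  obtain ⟨L0, hL0⟩ : ∃ L0 : Matrix (Fin A.rank) n (localSubring hM), L0.map φ = L :=
    ⟨L.map (Function.surjInv Ideal.Quotient.mk_surjective), by
      ext i j; exact Function.surjInv_eq Ideal.Quotient.mk_surjective _⟩
  obtain ⟨R0, hR0⟩ : ∃ R0 : Matrix n (Fin A.rank) (localSubring hM), R0.map φ = R :=
    ⟨R.map (Function.surjInv Ideal.Quotient.mk_surjective), by
      ext i j; exact Function.surjInv_eq Ideal.Quotient.mk_surjective _⟩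
  have hQ0 : Q0.map φ = A := by
    ext i j
    exact (resid_mk hM ⟨Q i j, hQ i j⟩).symm
  have hdet : ((L0 * Q0 * R0).map (localSubring hM).subtype).det ≠ 0 := by
    intro h
    rw [← RingHom.mapMatrix_apply, ← RingHom.map_det, map_eq_zero_iff _ Subtype.val_injective] at h
    have h1 := congrArg φ h
    rw [RingHom.map_det, RingHom.mapMatrix_apply, Matrix.map_mul, Matrix.map_mul, hL0, hQ0, hR0,
      hLR, Matrix.det_one, map_zero] at h1
    haveI := isMaximal_localMaxIdeal hM
    exact one_ne_zero h1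
  have h2 := Matrix.rank_of_isUnit _ ((Matrix.isUnit_iff_isUnit_det _).2 (isUnit_iff_ne_zero.2 hdet))
  rw [Fintype.card_fin, Matrix.map_mul, Matrix.map_mul,
    show Q0.map (localSubring hM).subtype = Q from rfl] at h2
  exact h2.symm.trans_le ((Matrix.rank_mul_le_left _ _).trans (Matrix.rank_mul_le_right _ _))

/-- An idempotent matrix over the local ring keeps its rank, the trace, in the residue field. -/
theorem rank_resid_eq (hM : IsPModular p M) {n : Type*} [Fintype n] (Q : Matrix n n ℂ)
    (hQ : ∀ i j, MemLocalRing M (Q i j)) (hidem : Q * Q = Q) :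
    ((Q.map (resid hM)).rank : ℂ) = Q.trace := by
  haveI := isMaximal_localMaxIdeal hM
  have h1 := rank_resid_le hM Q hQ
  have hQ' : ∀ i j, MemLocalRing M ((1 - Q) i j) := fun i j => by
    rw [Matrix.sub_apply, Matrix.one_apply]
    exact LR.sub hM (by split <;> [exact LR.one hM; exact LR.zero hM]) (hQ i j)
  have h2 := rank_resid_le hM (1 - Q) hQ'
  have hmap : (1 - Q).map (resid hM) = 1 - Q.map (resid hM) := by
    ext i j
    simp only [Matrix.map_apply, Matrix.sub_apply, Matrix.one_apply]
    have ha : MemLocalRing M (if i = j then (1 : ℂ) else 0) := by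
      split <;> [exact LR.one hM; exact LR.zero hM]
    rw [eq_sub_iff_add_eq, ← resid_add hM (LR.sub hM ha (hQ i j)) (hQ i j), sub_add_cancel]
    split <;> [exact resid_one hM; exact resid_zero hM]
  have hA : Q.map (resid hM) * Q.map (resid hM) = Q.map (resid hM) := by
    ext i j
    conv_rhs => rw [Matrix.map_apply, ← hidem, Matrix.mul_apply,
      resid_sum hM _ fun l _ => LR.mul hM (hQ i l) (hQ l j)]
    simp only [Matrix.mul_apply, Matrix.map_apply]
    exact Finset.sum_congr rfl fun l _ => (resid_mul hM (hQ i l) (hQ l j)).symm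
  rw [hmap] at h2
  have h3 := rank_add_rank_one_sub _ hA
  have h4 := rank_add_rank_one_sub _ hidem
  have heq : (Q.map (resid hM)).rank = Q.rank := by omega
  have hproj : LinearMap.IsProj (LinearMap.range Q.toLin') Q.toLin' := by
    refine ⟨fun x => LinearMap.mem_range_self _ _, ?_⟩
    rintro _ ⟨x, rfl⟩
    rw [← LinearMap.comp_apply, ← Matrix.toLin'_mul, hidem]
  have htr := hproj.trace
  rw [Matrix.trace_toLin'_eq] at htr
  rw [heq, htr]
  rfl

/-! ### The group algebra over the residue field -/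

section Algebra

variable (hM : IsPModular p M)

/-- Reduction of algebraic integers. -/
noncomputable def redInt : AlgInt →+* Residue hM :=
  (Ideal.Quotient.mk (localMaxIdeal hM)).comp
    ((SubringClass.subtype AlgInt : AlgInt →+* ℂ).codRestrict (localSubring hM) fun a => LR.of_algInt hM a)

theorem redInt_surjective : Function.Surjective (redInt hM) := by
  intro r
  obtain ⟨⟨z, a, b, hb, rfl⟩, rfl⟩ := Ideal.Quotient.mk_surjective r
  obtain ⟨c, i, hi, he⟩ := hM.2.1.exists_inv hb
  refine ⟨a * c, (Ideal.Quotient.eq).2 ?_⟩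
  show MemLocalIdeal M (((a * c : AlgInt) : ℂ) - (a : ℂ) / (b : ℂ))
  refine ⟨-(a * i), b, M.neg_mem (M.mul_mem_left _ hi), hb, ?_⟩
  have hb0 : (b : ℂ) ≠ 0 := coe_ne_zero_of_notMem hb
  have h1 : (c : ℂ) * b + i = 1 := by exact_mod_cast congrArg (fun x : AlgInt => (x : ℂ)) he
  field_simp
  push_cast
  linear_combination (a : ℂ) * (-h1)

theorem redInt_apply (a : AlgInt) : redInt hM a = resid hM (a : ℂ) :=
  (resid_mk hM ⟨(a : ℂ), LR.of_algInt hM a⟩).symm

theorem isAlgClosed_residue : IsAlgClosed (Residue hM) := by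
  refine IsAlgClosed.of_exists_root _ fun P hmonic hirr => ?_
  obtain ⟨Q, hQP, hQd, hQm⟩ := Polynomial.lifts_and_natDegree_eq_and_monic
    ((Polynomial.lifts_iff_coeff_lifts _).2 fun n => redInt_surjective hM (P.coeff n)) hmonic
  have hd : (Q.map (SubringClass.subtype AlgInt : AlgInt →+* ℂ)).degree ≠ 0 := by
    rw [Polynomial.degree_map_eq_of_injective Subtype.val_injective]
    intro h
    have h' := hirr.natDegree_pos
    rw [← hQd, Polynomial.natDegree_eq_of_degree_eq_some h] at h'
    exact lt_irrefl _ h'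
  obtain ⟨z, hz⟩ := IsAlgClosed.exists_root _ hd
  have hzint : IsIntegral ℤ z := isIntegral_trans (A := AlgInt) z ⟨Q, hQm, by
    rw [← Polynomial.eval_map]; exact hz⟩
  let z₀ : AlgInt := ⟨z, hzint⟩
  refine ⟨redInt hM z₀, ?_⟩
  have h0 : Q.eval z₀ = 0 := Subtype.ext (by
    have h' := hz
    rw [Polynomial.IsRoot.def] at h'
    exact (Polynomial.eval_map_apply (SubringClass.subtype AlgInt : AlgInt →+* ℂ) _).symm.trans h')
  rw [← hQP, Polynomial.eval_map, Polynomial.eval₂_at_apply, h0, map_zero]

theorem charP_residue : CharP (Residue hM) p :=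
  (CharP.charP_iff_prime_eq_zero hM.1).2 (by
    rw [← resid_natCast hM]; exact resid_eq_zero hM (LI.natCast_prime hM))

end Algebra

/-! ### Finite-dimensional algebras with a split semisimple quotient -/

theorem exists_split (k A : Type*) [Field k] [IsAlgClosed k] [Ring A] [Algebra k A] [Module.Finite k A] :
    ∃ (r : ℕ) (d : Fin r → ℕ), (∀ i, NeZero (d i)) ∧
      ∃ π : A →ₐ[k] Π i, Matrix (Fin (d i)) (Fin (d i)) k, Function.Surjective π ∧
        ∃ N, (LinearMap.ker π.toLinearMap) ^ N = ⊥ := by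
  haveI : IsArtinianRing A := IsArtinianRing.of_finite k A
  obtain ⟨r, d, hd, ⟨w⟩⟩ :=
    IsSemisimpleRing.exists_algEquiv_pi_matrix_of_isAlgClosed k (A ⧸ Ring.jacobson A)
  refine ⟨r, d, hd, w.toAlgHom.comp (Ideal.Quotient.mkₐ k (Ring.jacobson A)),
    fun y => (w.surjective.comp (Ideal.Quotient.mkₐ_surjective k (Ring.jacobson A))) y, ?_⟩
  set J : Submodule k A :=
    LinearMap.ker (w.toAlgHom.comp (Ideal.Quotient.mkₐ k (Ring.jacobson A))).toLinearMap with hJ
  have hπJ : ∀ x, x ∈ J → x ∈ Ring.jacobson A := fun x hx => by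
    have h : w (Ideal.Quotient.mk _ x) = 0 := LinearMap.mem_ker.1 hx
    rwa [map_eq_zero_iff _ w.injective, Ideal.Quotient.eq_zero_iff_mem] at h
  obtain ⟨N, hN⟩ := IsSemiprimaryRing.isNilpotent (R := A)
  have h : ∀ n, J ^ n ≤ (Ring.jacobson A ^ n).restrictScalars k := by
    intro n
    induction n with
    | zero =>
      intro x _
      rw [Submodule.restrictScalars_mem, Submodule.pow_zero, Ideal.one_eq_top]
      trivial
    | succ n ih =>
      refine (le_of_eq (pow_succ J n)).trans (Submodule.mul_le.2 fun a ha b hb => ?_)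
      rw [Submodule.restrictScalars_mem, Submodule.pow_succ]
      exact Ideal.mul_mem_mul (ih ha) (hπJ b hb)
  refine ⟨N, le_bot_iff.1 ((h N).trans ?_)⟩
  rw [hN]
  intro x hx
  simpa using hx

theorem isNilpotent_of_map {k A S : Type*} [Field k] [Ring A] [Algebra k A] [Ring S] [Algebra k S]
    {π : A →ₐ[k] S} {N : ℕ} (hN : (LinearMap.ker π.toLinearMap) ^ N = ⊥) {x : A} (hx : π x = 0) :
    IsNilpotent x :=
  ⟨N, (Submodule.mem_bot k).1 (hN ▸ Submodule.pow_mem_pow _ (LinearMap.mem_ker.2 hx) N)⟩

theorem eq_zero_or_one {k A : Type*} [Field k] [Ring A] [Algebra k A] {r : ℕ} {d : Fin r → ℕ}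
    (hd : ∀ i, NeZero (d i)) {π : A →ₐ[k] Π i, Matrix (Fin (d i)) (Fin (d i)) k}
    (hπ : Function.Surjective π) {e : A} (hec : ∀ a, e * a = a * e) (hee : e * e = e) (i : Fin r) :
    π e i = 0 ∨ π e i = 1 := by
  obtain ⟨c, hc⟩ : π e i ∈ Set.range (Matrix.scalar (Fin (d i))) := by
    refine Matrix.mem_range_scalar_of_commute_single fun a b _ => ?_
    obtain ⟨x, hx⟩ := hπ (Pi.single i (Matrix.single a b 1))
    have h1 := congrFun (congrArg π (hec x)) i
    rw [map_mul, map_mul, Pi.mul_apply, Pi.mul_apply, hx, Pi.single_eq_same] at h1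
    exact h1.symm
  haveI := hd i
  have h2 : c * c = c := by
    have h3 := congrFun (congrArg π hee) i
    rw [map_mul, Pi.mul_apply, ← hc, ← map_mul] at h3
    exact Matrix.scalar_inj.1 h3
  rcases mul_eq_zero.1 (show c * (c - 1) = 0 by rw [mul_sub, h2, mul_one, sub_self]) with h4 | h4
  · exact Or.inl (by rw [← hc, h4, map_zero])
  · exact Or.inr (by rw [← hc, sub_eq_zero.1 h4, map_one])

theorem exists_primitive {k A : Type*} [Field k] [Ring A] [Algebra k A] {r : ℕ} {d : Fin r → ℕ}
    (hd : ∀ i, NeZero (d i)) {π : A →ₐ[k] Π i, Matrix (Fin (d i)) (Fin (d i)) k}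
    (hπ : Function.Surjective π) {N : ℕ} (hN : (LinearMap.ker π.toLinearMap) ^ N = ⊥) {e : A}
    (hec : ∀ a, e * a = a * e) (hee : e * e = e) (i₀ : Fin r) (hπe : π e = Pi.single i₀ 1) :
    ∃ E : A, IsIdempotentElem E ∧ E ≠ 0 ∧ e * E = E ∧
      (∀ a, ∃ c : k, E * a * E - c • E ∈ LinearMap.ker π.toLinearMap) ∧
      e ∈ Submodule.span k (Set.range fun q : A × A => q.1 * E * q.2) := by
  haveI := hd i₀
  let U : Fin (d i₀) → Fin (d i₀) → Π i, Matrix (Fin (d i)) (Fin (d i)) k := fun a b =>
    Pi.single i₀ (Matrix.single a b 1)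
  obtain ⟨E₀, hE₀, hπE₀⟩ := exists_isIdempotentElem_eq_of_ker_isNilpotent π.toRingHom
    (fun x hx => isNilpotent_of_map hN (RingHom.mem_ker.1 hx)) (U 0 0) (RingHom.mem_range.2 (hπ _)) (by
      show U 0 0 * U 0 0 = U 0 0
      rw [← Pi.single_mul, Matrix.single_mul_single_same, mul_one])
  set E₁ : A := e * E₀ with hE₁def
  have hπE : π E₁ = U 0 0 := by
    rw [hE₁def, map_mul, show π E₀ = U 0 0 from hπE₀, hπe, ← Pi.single_mul, one_mul]
  have hE₁ : IsIdempotentElem E₁ := by
    show e * E₀ * (e * E₀) = e * E₀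
    rw [mul_assoc, ← mul_assoc E₀, ← hec E₀, mul_assoc e E₀ E₀, hE₀.eq, ← mul_assoc, hee]
  have hE0 : E₁ ≠ 0 := fun h => by
    rw [h, map_zero] at hπE
    have := congrFun (congrFun (congrFun hπE.symm i₀) 0) 0
    simp [U] at this
  have heE : e * E₁ = E₁ := by rw [hE₁def, ← mul_assoc, hee]
  have hdec : ∀ a, ∃ c : k, E₁ * a * E₁ - c • E₁ ∈ LinearMap.ker π.toLinearMap := fun a => by
    refine ⟨π a i₀ 0 0, LinearMap.mem_ker.2 ?_⟩
    show π _ = 0
    rw [map_sub, map_smul, map_mul, map_mul, hπE, sub_eq_zero]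
    funext i
    by_cases hi : i = i₀
    · subst hi
      simp [U, Matrix.single_mul_mul_single]
    · simp [U, Pi.single_eq_of_ne hi]
  have hgen : e ∈ Submodule.span k (Set.range fun q : A × A => q.1 * E₁ * q.2) := by
    choose al hal using fun l => hπ (U l 0)
    choose bl hbl using fun l => hπ (U 0 l)
    set t := ∑ l, al l * E₁ * bl l with htdef
    have ht : π t = π e := by
      rw [htdef, map_sum, hπe]
      simp only [map_mul, hal, hbl, hπE, U, ← Pi.single_mul, Matrix.single_mul_single_same, mul_one]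
      funext i
      rw [Finset.sum_apply]
      by_cases hi : i = i₀
      · subst hi
        simp only [Pi.single_eq_same]
        exact Matrix.sum_single_one
      · simp [Pi.single_eq_of_ne hi]
    have hn : IsNilpotent (e - t) := isNilpotent_of_map hN (by rw [map_sub, ht, sub_self])
    obtain ⟨u, hu⟩ := hn.isUnit_one_sub
    have h1 : e * (1 - (e - t)) = e * t := by rw [mul_sub, mul_one, mul_sub, hee]; abel
    have h2 : e = ∑ l, e * al l * E₁ * (bl l * ↑u⁻¹) := by
      have h3 : e = e * t * ↑u⁻¹ := by rw [← h1, ← hu, Units.mul_inv_cancel_right]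
      conv_lhs => rw [h3, htdef, Finset.mul_sum, Finset.sum_mul]
      exact Finset.sum_congr rfl fun l _ => by simp only [mul_assoc]
    rw [h2]
    exact sum_mem fun l _ => Submodule.subset_span ⟨(e * al l, bl l * ↑u⁻¹), rfl⟩
  exact ⟨E₁, hE₁, hE0, heE, hdec, hgen⟩

/-! ### The block idempotent -/

section BlockAlgebra

variable (hM : IsPModular p M) {B : Set (IrrCharacter G)}

/-- The reduced block idempotent. -/
noncomputable def idem (B : Set (IrrCharacter G)) : MonoidAlgebra (Residue hM) G :=
  toResAlg hM fun g => blockCoeff B g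

theorem coeff_idem (g : G) : (idem hM B).coeff g = resid hM (blockCoeff B g) := coeff_toResAlg hM _ g

theorem idem_commute (a : MonoidAlgebra (Residue hM) G) : idem hM B * a = a * idem hM B :=
  (commute_toResAlg_of_classFunction (blockCoeff_isClassFunction B) a).eq

variable (hB : IsPBlock M B)
include hM hB

theorem idem_mul_self : idem hM B * idem hM B = idem hM B := by
  rw [idem, ← toResAlg_mul hM (fun x => blockCoeff_LR hM hB x) fun x => blockCoeff_LR hM hB x]
  congr 1
  funext g
  rw [blockCoeff_conv, Set.inter_self]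

omit hB in
/-- Coordinates on the group algebra. -/
noncomputable def coord : MonoidAlgebra (Residue hM) G ≃ₗ[Residue hM] (G → Residue hM) where
  toFun x g := x.coeff g
  map_add' x y := funext fun g => by simp
  map_smul' c x := funext fun g => by simp
  invFun v := MonoidAlgebra.ofCoeff (Finsupp.equivFunOnFinite.symm v)
  left_inv x := ext_coeff fun g => by simp
  right_inv v := funext fun g => by simp

theorem finrank_range_mulLeft :
    (Module.finrank (Residue hM) (LinearMap.range (mulLeft (Residue hM) (idem hM B))) : ℂ)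
      = ∑ χ ∈ B.toFinset, (χ : G → ℂ) 1 ^ 2 := by
  set Q : Matrix G G ℂ := Matrix.of fun g h => blockCoeff B (g * h⁻¹) with hQdef
  have hQ : ∀ i j, MemLocalRing M (Q i j) := fun i j => blockCoeff_LR hM hB _
  have hidem : Q * Q = Q := by
    ext g h
    rw [Matrix.mul_apply]
    calc ∑ l, blockCoeff B (g * l⁻¹) * blockCoeff B (l * h⁻¹)
        = ∑ x, blockCoeff B x * blockCoeff B (x⁻¹ * (g * h⁻¹)) := by
          refine Fintype.sum_equiv ((Equiv.inv G).trans (Equiv.mulLeft g)) _ _ fun l => ?_
          simp [mul_assoc]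
      _ = _ := by rw [blockCoeff_conv, Set.inter_self]; rfl
  have hrange : Module.finrank (Residue hM) (LinearMap.range (mulLeft (Residue hM) (idem hM B)))
      = (Q.map (resid hM)).rank := by
    rw [Matrix.rank, ← LinearEquiv.finrank_map_eq (coord hM (G := G)), ← LinearMap.range_comp]
    have hcomp : (coord hM (G := G)).toLinearMap ∘ₗ mulLeft (Residue hM) (idem hM B)
        = (Q.map (resid hM)).mulVecLin ∘ₗ (coord hM (G := G)).toLinearMap := by
      refine LinearMap.ext fun x => funext fun g => ?_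
      show (idem hM B * x).coeff g = ∑ h, resid hM (blockCoeff B (g * h⁻¹)) * x.coeff h
      rw [coeff_mul_sum]
      refine Fintype.sum_equiv ((Equiv.inv G).trans (Equiv.mulRight g)) _ _ fun a => ?_
      simp [coeff_idem]
    rw [hcomp, LinearMap.range_comp_of_range_eq_top _ (LinearEquiv.range _)]
  have htr : Q.trace = ∑ χ ∈ B.toFinset, (χ : G → ℂ) 1 ^ 2 := by
    simp only [Matrix.trace, Matrix.diag_apply, Q, Matrix.of_apply, mul_inv_cancel, Finset.sum_const,
      Finset.card_univ, nsmul_eq_mul, Fintype.card_eq_nat_card]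
    rw [blockCoeff, mul_inv_cancel_left₀ CfsgLib.Char.card_ne_zero, finsum_mem_eq_toFinset_sum]
    exact Finset.sum_congr rfl fun χ _ => by rw [conj_irr, inv_one, sq]
  rw [hrange, rank_resid_eq hM Q hQ hidem, htr]

omit hB in
/-- Sums over the conjugacy classes. -/
noncomputable def classSum : MonoidAlgebra (Residue hM) G →ₗ[Residue hM] (ConjClasses G → Residue hM) where
  toFun x c := ∑ g, if ConjClasses.mk g = c then x.coeff g else 0
  map_add' x y := funext fun c => by
    simp only [MonoidAlgebra.coeff_add, Finsupp.add_apply, Pi.add_apply, ← Finset.sum_add_distrib]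
    exact Finset.sum_congr rfl fun g _ => by split <;> simp
  map_smul' a x := funext fun c => by
    simp [Finset.mul_sum, mul_ite]

omit hB in
theorem classSum_single (g : G) (a : Residue hM) (c : ConjClasses G) :
    classSum hM (MonoidAlgebra.single g a) c = if ConjClasses.mk g = c then a else 0 := by
  show (∑ h, if ConjClasses.mk h = c then (MonoidAlgebra.single g a).coeff h else 0) = _
  rw [Finset.sum_eq_single g]
  · simp
  · intro h _ hne
    simp [MonoidAlgebra.coeff_single, Finsupp.single_apply, Ne.symm hne]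
  · simp

omit hB in
theorem classSum_mul (x y : MonoidAlgebra (Residue hM) G) (c : ConjClasses G) :
    classSum hM (x * y) c
      = ∑ a, ∑ b, if ConjClasses.mk (a * b) = c then x.coeff a * y.coeff b else 0 := by
  show (∑ g, if ConjClasses.mk g = c then (x * y).coeff g else 0) = _
  simp only [coeff_mul_sum]
  have : ∀ g, (if ConjClasses.mk g = c then ∑ a, x.coeff a * y.coeff (a⁻¹ * g) else 0)
      = ∑ a, if ConjClasses.mk g = c then x.coeff a * y.coeff (a⁻¹ * g) else 0 := fun g => by
    split <;> simp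
  rw [Finset.sum_congr rfl fun g _ => this g, Finset.sum_comm]
  refine Finset.sum_congr rfl fun a _ => ?_
  exact Fintype.sum_equiv (Equiv.mulLeft a⁻¹) _ _ fun g => by simp

omit hB in
theorem sum_single_eq (x : MonoidAlgebra (Residue hM) G) :
    ∑ g, MonoidAlgebra.single g (x.coeff g) = x := by
  refine ext_coeff fun h => ?_
  simp [Finsupp.single_apply]

omit hB in
theorem ker_classSum :
    LinearMap.ker (classSum hM (G := G)) = LocalRankTwo.commSpan (Residue hM) (MonoidAlgebra (Residue hM) G) := by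
  refine le_antisymm (fun x hx => ?_) (Submodule.span_le.2 ?_)
  · rw [LinearMap.mem_ker] at hx
    have h1 : ∀ g : G, MonoidAlgebra.single g (x.coeff g)
        - MonoidAlgebra.single (ConjClasses.mk g).out (x.coeff g)
          ∈ LocalRankTwo.commSpan (Residue hM) (MonoidAlgebra (Residue hM) G) := by
      intro g
      obtain ⟨h, hh⟩ := isConj_iff.1 (ConjClasses.mk_eq_mk_iff_isConj.1 (Quotient.out_eq (ConjClasses.mk g)).symm)
      have := LocalRankTwo.comm_mem (k := Residue hM) (MonoidAlgebra.single (g * h⁻¹) (x.coeff g))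
        (MonoidAlgebra.single h 1)
      rwa [MonoidAlgebra.single_mul_single, MonoidAlgebra.single_mul_single, mul_one, one_mul,
        inv_mul_cancel_right, ← mul_assoc, hh] at this
    have h2 : ∑ g : G, MonoidAlgebra.single (ConjClasses.mk g).out (x.coeff g)
        = (0 : MonoidAlgebra (Residue hM) G) := by
      rw [← Finset.sum_fiberwise (g := ConjClasses.mk)]
      refine Finset.sum_eq_zero fun c _ => ?_
      have h3 : ∑ g ∈ Finset.univ.filter (fun g => ConjClasses.mk g = c),
          MonoidAlgebra.single (ConjClasses.mk g).out (x.coeff g)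
          = MonoidAlgebra.single c.out (classSum hM x c) := by
        refine ext_coeff fun h => ?_
        show _ = (MonoidAlgebra.single c.out (∑ g, if ConjClasses.mk g = c then x.coeff g else 0)).coeff h
        simp only [MonoidAlgebra.coeff_sum, Finsupp.finsetSum_apply, MonoidAlgebra.coeff_single,
          Finsupp.single_apply, Finset.sum_filter]
        by_cases hc : c.out = h
        · rw [if_pos hc]
          refine Finset.sum_congr rfl fun g _ => ?_
          by_cases hg : ConjClasses.mk g = c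
          · simp [hg, hc]
          · simp [hg]
        · rw [if_neg hc]
          refine Finset.sum_eq_zero fun g _ => ?_
          by_cases hg : ConjClasses.mk g = c
          · simp [hg, hc]
          · simp [hg]
      rw [h3, hx]
      simp
    have h4 := Submodule.sum_mem _ fun g (_ : g ∈ Finset.univ) => h1 g
    rwa [Finset.sum_sub_distrib, h2, sub_zero, sum_single_eq] at h4
  · rintro _ ⟨⟨x, y⟩, rfl⟩
    refine LinearMap.mem_ker.2 (funext fun c => ?_)
    rw [map_sub, Pi.sub_apply, classSum_mul, classSum_mul, Pi.zero_apply, sub_eq_zero, Finset.sum_comm]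
    refine Finset.sum_congr rfl fun b _ => Finset.sum_congr rfl fun a _ => ?_
    rw [show ConjClasses.mk (a * b) = ConjClasses.mk (b * a) from
      ConjClasses.mk_eq_mk_iff_isConj.2 (isConj_iff.2 ⟨b, by group⟩), mul_comm (x.coeff a)]

theorem finrank_cocentre :
    Module.finrank (Residue hM) (LinearMap.range (mulLeft (Residue hM) (idem hM B)))
      = Module.finrank (Residue hM)
          ((LocalRankTwo.commSpan (Residue hM) (MonoidAlgebra (Residue hM) G)).map
            (mulLeft (Residue hM) (idem hM B)))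
        + Nat.card B := by
  set A := MonoidAlgebra (Residue hM) G
  set T := mulLeft (Residue hM) (idem hM B) with hT
  have hker : (LinearMap.range T ⊓ LinearMap.ker (classSum hM (G := G)))
      = (LocalRankTwo.commSpan (Residue hM) A).map T := by
    rw [ker_classSum]
    refine le_antisymm ?_ (le_inf LinearMap.map_le_range ?_)
    · rintro z ⟨⟨a, rfl⟩, hz⟩
      refine ⟨T a, hz, ?_⟩
      rw [hT, LinearMap.mulLeft_apply, LinearMap.mulLeft_apply, ← mul_assoc, idem_mul_self hM hB]
    · rw [LocalRankTwo.commSpan, Submodule.map_span, Submodule.span_le]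
      rintro _ ⟨_, ⟨⟨a, b⟩, rfl⟩, rfl⟩
      rw [SetLike.mem_coe, hT, LinearMap.mulLeft_apply, mul_sub, ← mul_assoc, ← mul_assoc,
        show idem hM B * b * a = a * 0 + idem hM B * b * a by rw [mul_zero, zero_add]]
      rw [mul_zero, zero_add, idem_commute hM b, mul_assoc b]
      exact Submodule.subset_span ⟨(idem hM B * a, b), rfl⟩
  set Q : Matrix (ConjClasses G) (ConjClasses G) ℂ := Matrix.of fun c d =>
    ∑ g, if ConjClasses.mk g = c then blockCoeff B (g * d.out⁻¹) else 0 with hQdef
  have hQ : ∀ i j, MemLocalRing M (Q i j) := fun c d => LR.sum hM fun g _ => by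
    split <;> [exact blockCoeff_LR hM hB _; exact LR.zero hM]
  -- the class sums do not depend on the representative
  have hinv : ∀ (c : ConjClasses G) (h h' : G), IsConj h h' →
      (∑ g, if ConjClasses.mk g = c then blockCoeff B (g * h⁻¹) else 0)
        = ∑ g, if ConjClasses.mk g = c then blockCoeff B (g * h'⁻¹) else 0 := by
    intro c h h' hc
    obtain ⟨u, rfl⟩ := isConj_iff.1 hc
    refine Fintype.sum_equiv (MulAut.conj u).toEquiv _ _ fun g => ?_
    rw [MulEquiv.toEquiv_eq_coe, EquivLike.coe_coe, MulAut.conj_apply,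
      show ConjClasses.mk (u * g * u⁻¹) = ConjClasses.mk g from
        (ConjClasses.mk_eq_mk_iff_isConj.2 (isConj_iff.2 ⟨u, rfl⟩)).symm,
      show u * g * u⁻¹ * (u * h * u⁻¹)⁻¹ = u * (g * h⁻¹) * u⁻¹ by group]
    split
    · exact (blockCoeff_isClassFunction B (g * h⁻¹) u).symm
    · rfl
  have hout : ∀ h : G, IsConj (ConjClasses.mk h).out h := fun h =>
    ConjClasses.mk_eq_mk_iff_isConj.1 (Quotient.out_eq _)
  have hcomp : classSum hM ∘ₗ T = (Q.map (resid hM)).mulVecLin ∘ₗ classSum hM := by
    refine LinearMap.ext fun x => funext fun c => ?_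
    rw [LinearMap.comp_apply, LinearMap.comp_apply, hT, LinearMap.mulLeft_apply, classSum_mul,
      Matrix.mulVecLin_apply, Matrix.mulVec, dotProduct, Finset.sum_comm]
    show _ = ∑ d, (Q.map (resid hM)) c d * ∑ g, if ConjClasses.mk g = d then x.coeff g else 0
    simp only [Finset.mul_sum, mul_ite, mul_zero]
    rw [Finset.sum_comm (s := (Finset.univ : Finset (ConjClasses G)))]
    refine Finset.sum_congr rfl fun b _ => ?_
    rw [Finset.sum_ite_eq, if_pos (Finset.mem_univ _), Matrix.map_apply,
      show Q c (ConjClasses.mk b) = ∑ g, if ConjClasses.mk g = c then blockCoeff B (g * b⁻¹) else 0 from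
        hinv c _ b (hout b), resid_sum hM _ fun g _ => by
        split <;> [exact blockCoeff_LR hM hB _; exact LR.zero hM],
      Finset.sum_mul]
    refine Fintype.sum_equiv (Equiv.mulRight b) _ _ fun a => ?_
    simp only [Equiv.coe_mulRight, mul_inv_cancel_right]
    split <;> simp [coeff_idem, resid_zero]
  have hsurj : LinearMap.range (classSum hM (G := G)) = ⊤ := by
    refine LinearMap.range_eq_top.2 fun v => ⟨∑ d, MonoidAlgebra.single d.out (v d), funext fun c => ?_⟩
    rw [map_sum, Finset.sum_apply, Finset.sum_eq_single c]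
    · rw [classSum_single]
      exact if_pos (Quotient.out_eq c)
    · intro d _ hd
      rw [classSum_single]
      exact if_neg (fun h => hd ((Quotient.out_eq d).symm.trans h))
    · simp
  have hrk : Module.finrank (Residue hM) ((LinearMap.range T).map (classSum hM (G := G)))
      = (Q.map (resid hM)).rank := by
    rw [← LinearMap.range_comp, hcomp, LinearMap.range_comp_of_range_eq_top _ hsurj, Matrix.rank]
  have hidem : Q * Q = Q := by
    ext c e'
    rw [Matrix.mul_apply]
    calc ∑ d, Q c d * Q d e' = ∑ h, (∑ g, if ConjClasses.mk g = c then blockCoeff B (g * h⁻¹) else 0) *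
          blockCoeff B (h * e'.out⁻¹) := by
          simp only [Q, Matrix.of_apply, Finset.mul_sum, mul_ite, mul_zero]
          rw [Finset.sum_comm (s := (Finset.univ : Finset (ConjClasses G)))]
          refine Finset.sum_congr rfl fun h _ => ?_
          rw [Finset.sum_ite_eq, if_pos (Finset.mem_univ _), hinv c _ h (hout h)]
      _ = ∑ g, if ConjClasses.mk g = c then
            (∑ h, blockCoeff B (g * h⁻¹) * blockCoeff B (h * e'.out⁻¹)) else 0 := by
          simp only [Finset.sum_mul, ite_mul, zero_mul]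
          rw [Finset.sum_comm]
          exact Finset.sum_congr rfl fun g _ => by split <;> simp
      _ = _ := by
          refine Finset.sum_congr rfl fun g _ => ?_
          split
          · calc _ = ∑ x, blockCoeff B x * blockCoeff B (x⁻¹ * (g * e'.out⁻¹)) := by
                  refine Fintype.sum_equiv ((Equiv.inv G).trans (Equiv.mulLeft g)) _ _ fun l => ?_
                  simp [mul_assoc]
              _ = _ := by rw [blockCoeff_conv, Set.inter_self]
          · rfl
  have htr : Q.trace = (Nat.card B : ℂ) := by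
    have h1 : Q.trace = ∑ g, blockCoeff B (g * (ConjClasses.mk g).out⁻¹) := by
      simp only [Matrix.trace, Matrix.diag_apply, Q, Matrix.of_apply]
      rw [Finset.sum_comm]
      exact Finset.sum_congr rfl fun g _ => by simp
    have h2 : ∀ χ : IrrCharacter G, ∑ g, (χ : G → ℂ) (g * (ConjClasses.mk g).out⁻¹)⁻¹
        = (Nat.card G : ℂ) / (χ : G → ℂ) 1 := by
      intro χ
      have hx : ∀ x : G, ∑ g, (χ : G → ℂ) ((ConjClasses.mk g).out * (x * g⁻¹ * x⁻¹))
          = ∑ g, (χ : G → ℂ) (g * (ConjClasses.mk g).out⁻¹)⁻¹ := fun x => by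
        refine Fintype.sum_equiv (MulAut.conj x).toEquiv _ _ fun g => ?_
        rw [MulEquiv.toEquiv_eq_coe, EquivLike.coe_coe, MulAut.conj_apply,
          show ConjClasses.mk (x * g * x⁻¹) = ConjClasses.mk g from
            (ConjClasses.mk_eq_mk_iff_isConj.2 (isConj_iff.2 ⟨x, rfl⟩)).symm]
        congr 1
        group
      have h3 : ∑ x : G, ∑ g, (χ : G → ℂ) ((ConjClasses.mk g).out * (x * g⁻¹ * x⁻¹))
          = (Nat.card G : ℂ) * ((Nat.card G : ℂ) / (χ : G → ℂ) 1) := by
        rw [Finset.sum_comm]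
        simp only [sum_conj_mul]
        rw [Finset.sum_congr rfl fun g _ => by
          rw [CfsgLib.Char.IsClassFunction.apply_eq_of_isConj
            (CfsgLib.Char.IsIrrCharacter.isClassFunction χ.2) (hout g)]]
        have h5 := sum_mul_inv χ χ
        rw [if_pos rfl] at h5
        rw [← Finset.sum_div]
        simp only [mul_assoc]
        rw [← Finset.mul_sum, h5]
        ring
      rw [Finset.sum_congr rfl fun x _ => hx x, Finset.sum_const, Finset.card_univ, nsmul_eq_mul,
        Fintype.card_eq_nat_card] at h3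
      exact mul_left_cancel₀ CfsgLib.Char.card_ne_zero h3
    rw [h1]
    simp only [blockCoeff, finsum_mem_eq_toFinset_sum, conj_irr, Finset.mul_sum]
    rw [Finset.sum_comm]
    have h4 : ∀ χ ∈ B.toFinset, ∑ g, (Nat.card G : ℂ)⁻¹ *
        ((χ : G → ℂ) 1 * (χ : G → ℂ) (g * (ConjClasses.mk g).out⁻¹)⁻¹) = 1 := fun χ _ => by
      rw [← Finset.mul_sum, ← Finset.mul_sum, h2 χ, mul_div_cancel₀ _ (irr_one_ne_zero χ),
        inv_mul_cancel₀ CfsgLib.Char.card_ne_zero]
    rw [Finset.sum_congr rfl h4, Finset.sum_const, nsmul_eq_mul, mul_one, Set.toFinset_card,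
      Nat.card_eq_fintype_card]
  have h6 : (Q.map (resid hM)).rank = Nat.card B := by
    have := rank_resid_eq hM Q hQ hidem
    rw [htr] at this
    exact_mod_cast this
  have h7 := LinearMap.finrank_range_add_finrank_ker ((classSum hM (G := G)).domRestrict (LinearMap.range T))
  rw [LinearMap.range_domRestrict, hrk, h6] at h7
  have h8 : Module.finrank (Residue hM) (LinearMap.ker ((classSum hM (G := G)).domRestrict (LinearMap.range T)))
      = Module.finrank (Residue hM) ((LocalRankTwo.commSpan (Residue hM) A).map T) := by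
    rw [← hker, ← Submodule.map_comap_subtype, LinearMap.ker_domRestrict,
      Submodule.finrank_map_subtype_eq]
  show _ = Module.finrank (Residue hM) ((LocalRankTwo.commSpan (Residue hM) A).map T) + _
  omega

theorem idem_ne_zero : idem hM B ≠ 0 := by
  intro h
  obtain ⟨χ, hχ⟩ := IsPBlock.nonempty hM hB
  have h1 : redChar hM (blockInd B) = 0 := by
    rw [← h, idem, redChar]
    congr 1
    funext g
    exact (blockCoeff_eq_fourierInv B g).symm
  have := LI_of_redChar_eq_zero (IsPBlock.isLocalOn hM hB) h1 χ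
  rw [blockInd_of_mem hχ] at this
  exact LI.not_one hM this

/-- Only one simple module lies in a block with proportional regular restrictions. -/
theorem eq_of_proportional {χ₁ : IrrCharacter G}
    (hprop : ∀ φ ∈ B, ∀ g : G, IsPRegular p g →
      (φ : G → ℂ) g * (χ₁ : G → ℂ) 1 = (φ : G → ℂ) 1 * (χ₁ : G → ℂ) g)
    [CharP (Residue hM) p] {r : ℕ} {d : Fin r → ℕ} (hd : ∀ i, NeZero (d i))
    {π : MonoidAlgebra (Residue hM) G →ₐ[Residue hM] Π i, Matrix (Fin (d i)) (Fin (d i)) (Residue hM)}
    (hπ : Function.Surjective π) {i₀ j : Fin r} (hi₀ : π (idem hM B) i₀ = 1)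
    (hj : π (idem hM B) j = 1) : j = i₀ := by
  haveI := Fact.mk hM.1
  let k := Residue hM
  set e := idem hM B with hedef
  let f : ∀ i, G → k := fun i g => (π (MonoidAlgebra.single g 1) i).trace
  have hlin : ∀ i (x : MonoidAlgebra k G), (π x i).trace = ∑ g, x.coeff g * f i g := fun i x => by
    conv_lhs => rw [← sum_single_eq hM x]
    rw [map_sum, Finset.sum_apply, Matrix.trace_sum]
    refine Finset.sum_congr rfl fun g _ => ?_
    rw [show MonoidAlgebra.single g (x.coeff g) = (x.coeff g) • MonoidAlgebra.single g (1 : k) by simp,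
      map_smul, Pi.smul_apply, Matrix.trace_smul, smul_eq_mul]
  have hmulcomm : ∀ i (g h : G), f i (g * h) = f i (h * g) := fun i g h => by
    show (π (MonoidAlgebra.single (g * h) 1) i).trace = (π (MonoidAlgebra.single (h * g) 1) i).trace
    rw [show MonoidAlgebra.single (g * h) (1 : k) = MonoidAlgebra.single g 1 * MonoidAlgebra.single h 1 by simp,
      show MonoidAlgebra.single (h * g) (1 : k) = MonoidAlgebra.single h 1 * MonoidAlgebra.single g 1 by simp,
      map_mul, map_mul, Pi.mul_apply, Pi.mul_apply, Matrix.trace_mul_comm]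
  have hclass : ∀ i, ∀ g h : G, f i (h * g * h⁻¹) = f i g := fun i g h => by
    rw [hmulcomm, inv_mul_cancel_left]
  obtain ⟨E, E', hE1, -, -, hE4, hE5⟩ := qPart_exponents (G := G) p
  have hreg : ∀ g : G, IsPRegular p (g ^ E) := fun g hdvd =>
    Nat.not_dvd_ordCompl hM.1 Nat.card_pos.ne' (hdvd.trans (hE4 g))
  have hfreg : ∀ i g, f i g = f i (g ^ E) := fun i g => by
    let ρ : G → Matrix (Fin (d i)) (Fin (d i)) k := fun g => π (MonoidAlgebra.single g 1) i
    have hρm : ∀ g h, ρ (g * h) = ρ g * ρ h := fun g h => by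
      show π (MonoidAlgebra.single (g * h) 1) i = _
      rw [show MonoidAlgebra.single (g * h) (1 : k) = MonoidAlgebra.single g 1 * MonoidAlgebra.single h 1 by simp,
        map_mul, Pi.mul_apply]
    have hρ1 : ρ 1 = 1 := by
      show π (MonoidAlgebra.single 1 1) i = 1
      rw [← MonoidAlgebra.one_def, map_one, Pi.one_apply]
    let ρ' : G →* Matrix (Fin (d i)) (Fin (d i)) k := ⟨⟨ρ, hρ1⟩, hρm⟩
    have hcm : Commute (ρ' (g ^ E)) (ρ' (g ^ E')) := ((Commute.refl g).pow_pow _ _).map ρ'
    haveI := hd i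
    haveI : CharP (Matrix (Fin (d i)) (Fin (d i)) k) p :=
      charP_of_injective_algebraMap (algebraMap k (Matrix (Fin (d i)) (Fin (d i)) k)).injective p
    have hn : IsNilpotent (ρ' (g ^ E') - 1) := by
      refine ⟨p ^ (Nat.card G).factorization p, ?_⟩
      rw [sub_pow_char_pow_of_commute p _ (Commute.one_right _), one_pow, ← map_pow,
        orderOf_dvd_iff_pow_eq_one.1 (hE5 g), map_one, sub_self]
    have h5 : IsNilpotent (ρ' (g ^ E) * (ρ' (g ^ E') - 1)) :=
      ((hcm.sub_right (Commute.one_right _))).isNilpotent_mul_left hn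
    have h6 := (Matrix.isNilpotent_trace_of_isNilpotent h5).eq_zero
    rw [mul_sub, mul_one, ← map_mul, hE1, Matrix.trace_sub, sub_eq_zero] at h6
    exact h6
  by_contra hne
  let F : Fin r → G → ℂ := fun i g => sec hM (f i g)
  have hFcl : ∀ i, IsClassFunction G (F i) := fun i g h => congrArg (sec hM) (hclass i g h)
  have hH : ∀ i, π e i = 1 → ∀ g, MemLocalRing M (blockPart B (F i) g) ∧
      resid hM (blockPart B (F i) g) = f i g := by
    intro i hi g
    rw [blockPart_eq_conv B (hFcl i)]
    refine ⟨LR.sum hM fun h _ => LR.mul hM (blockCoeff_LR hM hB h) (sec_LR hM _), ?_⟩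
    rw [resid_sum hM _ fun h _ => LR.mul hM (blockCoeff_LR hM hB h) (sec_LR hM _)]
    have h1 : f i g = (π (e * MonoidAlgebra.single g 1) i).trace := by
      rw [map_mul, Pi.mul_apply, hi, one_mul]
    rw [h1, hlin]
    refine Fintype.sum_equiv (Equiv.mulRight g) _ _ fun h => ?_
    simp only [Equiv.coe_mulRight]
    rw [resid_mul hM (blockCoeff_LR hM hB h) (sec_LR hM _), resid_sec, hmulcomm i g h,
      coeff_mul_sum, Finset.sum_eq_single h]
    · simp [e, hedef]
      exact Or.inl (coeff_idem hM h).symm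
    · intro a _ ha
      have hne' : g ≠ a⁻¹ * (h * g) := fun e1 => ha (by
        have e2 : a * g = h * g := by rw [eq_inv_mul_iff_mul_eq] at e1; exact e1
        exact mul_right_cancel e2)
      simp [MonoidAlgebra.coeff_single, Finsupp.single_apply, hne']
    · simp
  let K : Fin r → ℂ := fun i => ∑ φ : IrrCharacter G,
    blockInd B φ * (classInner (F i) (φ : G → ℂ) * ((φ : G → ℂ) 1 / (χ₁ : G → ℂ) 1))
  have hHK : ∀ i g, IsPRegular p g → blockPart B (F i) g = K i * (χ₁ : G → ℂ) g := by
    intro i g hg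
    rw [blockPart_eq_sum, Finset.sum_mul]
    refine Finset.sum_congr rfl fun φ _ => ?_
    by_cases hφ : φ ∈ B
    · have h1 := hprop φ hφ g hg
      have h2 := irr_one_ne_zero χ₁
      field_simp
      linear_combination (blockInd B φ * classInner (F i) (φ : G → ℂ)) * h1
    · rw [blockInd_of_notMem hφ]; ring
  have hprop2 : ∀ g₀ g, f i₀ g * f j g₀ = f j g * f i₀ g₀ := by
    intro g₀ g
    rw [hfreg i₀ g, hfreg j g, hfreg i₀ g₀, hfreg j g₀]
    obtain ⟨a1, a2⟩ := hH i₀ hi₀ (g ^ E)
    obtain ⟨b1, b2⟩ := hH j hj (g₀ ^ E)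
    obtain ⟨c1, c2⟩ := hH j hj (g ^ E)
    obtain ⟨d1, d2⟩ := hH i₀ hi₀ (g₀ ^ E)
    rw [← a2, ← b2, ← c2, ← d2, ← resid_mul hM a1 b1, ← resid_mul hM c1 d1]
    congr 1
    rw [hHK i₀ _ (hreg g), hHK j _ (hreg g₀), hHK j _ (hreg g), hHK i₀ _ (hreg g₀)]
    ring
  obtain ⟨x, hx⟩ := hπ (Pi.single i₀ (haveI := hd i₀; Matrix.single (0 : Fin (d i₀)) 0 1))
  have htx : (π x i₀).trace = 1 ∧ (π x j).trace = 0 := by
    rw [hx, Pi.single_eq_same, Pi.single_eq_of_ne hne, Matrix.trace_zero]
    exact ⟨by simp, rfl⟩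
  obtain ⟨y, hy⟩ := hπ (Pi.single j (haveI := hd j; Matrix.single (0 : Fin (d j)) 0 1))
  have hty : (π y j).trace = 1 := by
    rw [hy, Pi.single_eq_same]; simp
  obtain ⟨g₀, hg₀⟩ : ∃ g₀, f j g₀ ≠ 0 := by
    by_contra hno
    push Not at hno
    rw [hlin] at hty
    simp [hno] at hty
  have h7 : (π x i₀).trace * f j g₀ = (π x j).trace * f i₀ g₀ := by
    rw [hlin, hlin, Finset.sum_mul, Finset.sum_mul]
    exact Finset.sum_congr rfl fun g _ => by rw [mul_assoc, mul_assoc, hprop2 g₀ g]
  rw [htx.1, htx.2, one_mul, zero_mul] at h7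
  exact hg₀ h7

/-- If the characters of the block are proportional on regular elements, the block algebra is twice
a square in dimension. -/
theorem exists_sq (hcard : Nat.card B = 2) {χ₁ : IrrCharacter G}
    (hprop : ∀ φ ∈ B, ∀ g : G, IsPRegular p g →
      (φ : G → ℂ) g * (χ₁ : G → ℂ) 1 = (φ : G → ℂ) 1 * (χ₁ : G → ℂ) g) :
    ∃ m : ℕ, ∑ χ ∈ B.toFinset, charDegree (χ : G → ℂ) ^ 2 = 2 * m ^ 2 := by
  haveI := Fact.mk hM.1
  haveI := charP_residue hM
  haveI := isAlgClosed_residue hM
  haveI : Module.Finite (Residue hM) (MonoidAlgebra (Residue hM) G) :=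
    Module.Finite.equiv (coord hM (G := G)).symm
  obtain ⟨r, d, hd, π, hπ, N, hN⟩ := exists_split (Residue hM) (MonoidAlgebra (Residue hM) G)
  have hec := idem_commute hM (B := B)
  have hee := idem_mul_self hM hB
  have h01 := eq_zero_or_one hd hπ hec hee
  obtain ⟨i₀, hi₀⟩ : ∃ i, π (idem hM B) i = 1 := by
    by_contra hno
    push Not at hno
    have h0 : π (idem hM B) = 0 := funext fun i => (h01 i).resolve_right (hno i)
    obtain ⟨n, hn⟩ := isNilpotent_of_map hN h0
    refine idem_ne_zero hM hB ?_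
    have : IsIdempotentElem (idem hM B) := hee
    rw [← this.pow_succ_eq n, pow_succ, hn, zero_mul]
  have hπe : π (idem hM B) = Pi.single i₀ 1 := funext fun i => by
    by_cases hi : i = i₀
    · subst hi; rw [hi₀, Pi.single_eq_same]
    · rw [Pi.single_eq_of_ne hi, (h01 i).resolve_right fun h =>
        hi (eq_of_proportional hM hB hprop hd hπ hi₀ h)]
  obtain ⟨E, hE, hE0, heE, hdec, hgen⟩ := exists_primitive hd hπ hN hec hee i₀ hπe
  have hcoc := finrank_cocentre hM hB
  rw [hcard] at hcoc
  obtain ⟨m, hm⟩ := LocalRankTwo.exists_finrank_eq hec hE hE0 heE hgen hN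
    (fun a j hj => LinearMap.mem_ker.2 (by
      show π (a * j) = 0
      rw [map_mul, show π j = 0 from LinearMap.mem_ker.1 hj, mul_zero])) hdec hee hcoc
  refine ⟨m, ?_⟩
  apply Nat.cast_injective (R := ℂ)
  have h8 := finrank_range_mulLeft hM hB
  rw [hm] at h8
  push_cast at h8 ⊢
  rw [h8]
  exact Finset.sum_congr rfl fun χ _ => by rw [irr_one_eq]

end BlockAlgebra

/-! ### The theorem -/

section Main

variable (hM : IsPModular p M) {B : Set (IrrCharacter G)} (hB : IsPBlock M B)
include hM hB

theorem blockDefect_eq_zero_of_card_one (h : Nat.card B = 1) : blockDefect p B = 0 := by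
  obtain ⟨χ, hχ, h0⟩ := exists_degVal_eq_min (p := p) (IsPBlock.nonempty hM hB)
  have hBs : B.toFinset = {χ} := by
    refine (Finset.eq_singleton_iff_unique_mem).2 ⟨Set.mem_toFinset.2 hχ, fun ψ hψ => ?_⟩
    have hs := (Nat.card_eq_one_iff_unique.1 h).1
    exact congrArg Subtype.val (hs.elim ⟨ψ, Set.mem_toFinset.1 hψ⟩ ⟨χ, hχ⟩)
  have h1 := sum_regInt_sq hM hB hχ
  rw [hBs, Finset.sum_singleton, sq] at h1
  have h2 : regInt p χ χ = (pPartCard p G : ℤ) :=
    mul_right_cancel₀ (regInt_ne_zero_of_min hM hB hχ h0 hχ) h1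
  have h3 := (regInt_exact_of_min hM hB hχ h0 hχ).2
  rw [h2, pPartCard, Nat.cast_pow] at h3
  have h4 : ¬ degVal p χ + 1 ≤ (Nat.card G).factorization p := fun hle => h3 (pow_dvd_pow _ hle)
  have h5 := blockDefect_add_min (p := p) (IsPBlock.nonempty hM hB)
  omega

theorem eq_two_of_card_two (hcard : Nat.card B = 2) : p = 2 ∧ blockDefect p B = 1 := by
  haveI := Fact.mk hM.1
  obtain ⟨χ, hχ, h0⟩ := exists_degVal_eq_min (p := p) (IsPBlock.nonempty hM hB)
  obtain ⟨ψ, hψ, hne, hBs⟩ : ∃ ψ ∈ B, χ ≠ ψ ∧ B.toFinset = {χ, ψ} := by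
    have h2 : B.toFinset.card = 2 := by rw [Set.toFinset_card, ← Nat.card_eq_fintype_card, hcard]
    obtain ⟨a, b, hab, he⟩ := Finset.card_eq_two.1 h2
    have hχ' : χ ∈ ({a, b} : Finset _) := he ▸ Set.mem_toFinset.2 hχ
    rcases Finset.mem_insert.1 hχ' with rfl | h3
    · exact ⟨b, Set.mem_toFinset.1 (he ▸ by simp), hab, he⟩
    · rw [Finset.mem_singleton] at h3
      subst h3
      exact ⟨a, Set.mem_toFinset.1 (he ▸ by simp), hab.symm, by rw [he, Finset.pair_comm]⟩
  set m := degVal p χ with hm
  set a := (Nat.card G).factorization p with ha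
  set q : ℤ := (pPartCard p G : ℤ) with hq
  set A : ℤ := regInt p χ χ with hA
  set C : ℤ := regInt p χ ψ with hC
  have hC0 : C ≠ 0 := regInt_ne_zero_of_min hM hB hχ h0 hψ
  have hsq : A ^ 2 + C ^ 2 = q * A := by
    have h := sum_regInt_sq hM hB hχ
    rwa [hBs, Finset.sum_pair hne] at h
  have hrel : ∀ g : G, IsPRegular p g → (C : ℂ) * (ψ : G → ℂ) g = ((q : ℂ) - A) * (χ : G → ℂ) g := by
    intro g hg
    have h := sum_regInner_mul hM (IsPBlock.isLocalOn hM hB) χ g
    rw [if_pos hg, blockInd_of_mem hχ, mul_one, ← Finset.sum_subset (Finset.subset_univ B.toFinset)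
      (fun φ _ hφ => by rw [blockInd_of_notMem (by simpa using hφ), zero_mul, zero_mul]), hBs,
      Finset.sum_pair hne, blockInd_of_mem hχ, blockInd_of_mem hψ, one_mul, one_mul,
      ← cast_regInt hM.1, ← cast_regInt hM.1] at h
    simp only [hA, hC, hq]
    push_cast
    linear_combination h
  set n₁ : ℕ := charDegree (χ : G → ℂ) with hn₁
  set n₂ : ℕ := charDegree (ψ : G → ℂ) with hn₂
  have hone : IsPRegular p (1 : G) := by
    rw [IsPRegular, orderOf_one]; exact hM.1.not_dvd_one
  have hdeg : (C : ℤ) * n₂ = (q - A) * n₁ := by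
    have h := hrel 1 hone
    rw [irr_one_eq χ, irr_one_eq ψ] at h
    exact_mod_cast h
  have hCC : (C : ℂ) ≠ 0 := by exact_mod_cast hC0
  obtain ⟨m', hm'⟩ := exists_sq hM hB hcard (χ₁ := χ) (fun φ hφ g hg => by
    have : φ = χ ∨ φ = ψ := by simpa [hBs] using Set.mem_toFinset.2 hφ
    rcases this with rfl | rfl
    · ring
    · refine mul_left_cancel₀ hCC ?_
      linear_combination (χ : G → ℂ) 1 * hrel g hg - (χ : G → ℂ) g * hrel 1 hone)
  rw [hBs, Finset.sum_pair hne] at hm'
  have hn₁0 : 0 < n₁ := charDegree_pos χ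
  have hn₂0 : 0 < n₂ := charDegree_pos ψ
  have hAq : q - A ≠ 0 := fun h => hC0 (by
    rcases mul_eq_zero.1 (show C * (n₂ : ℤ) = 0 by rw [hdeg, h, zero_mul]) with h1 | h1
    · exact h1
    · omega)
  have hkey : q * (n₁ : ℤ) ^ 2 = A * ((n₁ : ℤ) ^ 2 + (n₂ : ℤ) ^ 2) := by
    refine mul_left_cancel₀ hAq ?_
    have h1 : C ^ 2 * (n₂ : ℤ) ^ 2 = (q - A) ^ 2 * (n₁ : ℤ) ^ 2 := by rw [← mul_pow, hdeg, mul_pow]
    linear_combination -h1 + (n₂ : ℤ) ^ 2 * hsq
  have hkey2 : q * (n₂ : ℤ) ^ 2 = (q - A) * ((n₁ : ℤ) ^ 2 + (n₂ : ℤ) ^ 2) := by linear_combination -hkey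
  obtain ⟨g, e₁, e₂, hg, hco, he1, he2⟩ := Nat.exists_coprime' (Nat.gcd_pos_of_pos_left n₂ hn₁0)
  set c := e₁ ^ 2 + e₂ ^ 2 with hc
  have he1q : q * (e₁ : ℤ) ^ 2 = A * (c : ℤ) := by
    refine mul_left_cancel₀ (pow_ne_zero 2 (by exact_mod_cast hg.ne' : (g : ℤ) ≠ 0)) ?_
    rw [he1, he2] at hkey
    push_cast [hc] at hkey ⊢
    linear_combination hkey
  have he2q : q * (e₂ : ℤ) ^ 2 = (q - A) * (c : ℤ) := by
    refine mul_left_cancel₀ (pow_ne_zero 2 (by exact_mod_cast hg.ne' : (g : ℤ) ≠ 0)) ?_
    rw [he1, he2] at hkey2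
    push_cast [hc] at hkey2 ⊢
    linear_combination hkey2
  have hcq : (c : ℤ) ∣ q := by
    have hcop : IsCoprime ((e₁ : ℤ) ^ 2) ((e₂ : ℤ) ^ 2) := (Nat.isCoprime_iff_coprime.2 hco).pow
    obtain ⟨u, v, huv⟩ := hcop
    exact ⟨u * A + v * (q - A), by linear_combination (-q) * huv + u * he1q + v * he2q⟩
  have hcqN : c ∣ p ^ a := by
    rw [hq, pPartCard] at hcq
    exact_mod_cast hcq
  obtain ⟨t, ht, hct⟩ := (Nat.dvd_prime_pow hM.1).1 hcqN
  have he₁0 : 0 < e₁ := Nat.pos_of_ne_zero fun h => by rw [h, zero_mul] at he1; omega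
  have he₂0 : 0 < e₂ := Nat.pos_of_ne_zero fun h => by rw [h, zero_mul] at he2; omega
  have hc2 : 2 ≤ c := by
    have := Nat.one_le_pow 2 _ he₁0; have := Nat.one_le_pow 2 _ he₂0; omega
  have hpc : p ∣ c := by
    rw [hct]
    refine dvd_pow_self p fun h => ?_
    rw [h, pow_zero] at hct; omega
  have hpe1 : ¬ p ∣ e₁ := fun h => by
    have h1 : p ∣ e₂ ^ 2 := (Nat.dvd_add_right (dvd_pow h (by norm_num))).1 hpc
    exact hM.1.not_dvd_one (hco ▸ Nat.dvd_gcd h (hM.1.dvd_of_dvd_pow h1))
  have hvn : m = g.factorization p := by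
    show n₁.factorization p = _
    rw [he1, Nat.factorization_mul he₁0.ne' hg.ne', Finsupp.add_apply,
      Nat.factorization_eq_zero_of_not_dvd hpe1, zero_add]
  have htd : t + m = a := by
    obtain ⟨h1, h2⟩ := regInt_exact_of_min hM hB hχ h0 hχ
    obtain ⟨A', hA'⟩ := h1
    have hA'p : ¬ (p : ℤ) ∣ A' := fun hd => h2 (by
      rw [hA', pow_succ]; exact mul_dvd_mul_left _ hd)
    rw [hq, pPartCard, hA, hA', hct] at he1q
    push_cast at he1q
    have h3 := congrArg Int.natAbs he1q
    simp only [Int.natAbs_mul, Int.natAbs_pow, Int.natAbs_natCast] at h3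
    have hA'0 : A'.natAbs ≠ 0 := fun h => hA'p (by rw [Int.natAbs_eq_zero.1 h]; exact dvd_zero _)
    have h4 := congrArg (fun n : ℕ => n.factorization p) h3
    simp only [Nat.factorization_mul (pow_ne_zero _ hM.1.ne_zero) (pow_ne_zero _ he₁0.ne'),
      Nat.factorization_mul (mul_ne_zero (pow_ne_zero _ hM.1.ne_zero) hA'0) (pow_ne_zero _ hM.1.ne_zero),
      Nat.factorization_mul (pow_ne_zero _ hM.1.ne_zero) hA'0, Finsupp.add_apply, Nat.factorization_pow,
      Finsupp.smul_apply, hM.1.factorization_self,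
      Nat.factorization_eq_zero_of_not_dvd hpe1,
      Nat.factorization_eq_zero_of_not_dvd (fun h => hA'p (Int.natCast_dvd.2 h)), smul_eq_mul] at h4
    omega
  have hd' : blockDefect p B = t := by
    have h5 := blockDefect_add_min (p := p) (IsPBlock.nonempty hM hB)
    omega
  have hsum : g ^ 2 * c = 2 * m' ^ 2 := by
    rw [← hm', ← hn₁, ← hn₂, he1, he2, hc]; ring
  have hp2 : p = 2 := by
    by_contra hne2
    have hm0 : m' ≠ 0 := fun h => by
      rw [h] at hsum
      have : 0 < g ^ 2 * c := Nat.mul_pos (pow_pos hg 2) (by omega)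
      omega
    have h1 := congrArg (fun n : ℕ => n.factorization 2) hsum
    simp only [hct] at h1
    rw [Nat.factorization_mul (pow_ne_zero _ hg.ne') (pow_ne_zero _ hM.1.ne_zero),
      Nat.factorization_mul (by norm_num) (pow_ne_zero _ hm0)] at h1
    simp only [Finsupp.add_apply, Nat.factorization_pow, Finsupp.smul_apply, smul_eq_mul,
      Nat.prime_two.factorization_self,
      Nat.factorization_eq_zero_of_not_dvd (fun h : 2 ∣ p => hne2 ((Nat.prime_dvd_prime_iff_eq Nat.prime_two hM.1).1 h).symm)] at h1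
    omega
  refine ⟨hp2, ?_⟩
  subst hp2
  have he2o : Odd e₂ := by
    rw [Nat.odd_iff]
    rcases Nat.mod_two_eq_zero_or_one e₂ with h | h
    · exfalso
      have h1 : 2 ∣ e₂ ^ 2 := dvd_pow (Nat.dvd_of_mod_eq_zero h) (by norm_num)
      exact hpe1 (Nat.prime_two.dvd_of_dvd_pow ((Nat.dvd_add_left h1).1 hpc))
    · exact h
  have he1o : Odd e₁ := Nat.not_even_iff_odd.1 fun h => hpe1 (even_iff_two_dvd.1 h)
  obtain ⟨u, hu⟩ := he1o
  obtain ⟨v, hv⟩ := he2o
  have hc4 : c % 4 = 2 := by
    rw [hc, hu, hv]; ring_nf; omega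
  rw [hd']
  rcases t with _ | _ | t
  · simp at hct; omega
  · rfl
  · rw [hct, pow_succ, pow_succ, mul_assoc] at hc4; omega

/-- A block has two characters exactly when its defect groups have order two. -/
theorem card_eq_two_iff {D : Subgroup G} (hD : IsDefectGroup p M B D) :
    Nat.card B = 2 ↔ Nat.card D = 2 := by
  rw [card_defectGroup hM hB hD]
  constructor
  · intro h
    obtain ⟨h1, h2⟩ := eq_two_of_card_two hM hB h
    rw [h2, pow_one, h1]
  · intro h
    have hd : blockDefect p B ≠ 0 := fun h0 => by rw [h0] at h; simp at h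
    have h4 := four_mul_card_le hM hB
    rw [two_mul, pow_add, h] at h4
    have h1 : Nat.card B ≠ 1 := fun h1 => hd (blockDefect_eq_zero_of_card_one hM hB h1)
    have h0 : 0 < Nat.card B := Nat.card_pos_iff.2 ⟨(IsPBlock.nonempty hM hB).to_subtype, inferInstance⟩
    omega

end Main

end CfsgLib.Blocks.TwoCharacters
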