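import Cfsg.Agent.Lib.Blocks.RankOneCorner
import Cfsg.Agent.Lib.Blocks.TwoCharacters
import Cfsg.Agent.Lib.DegreeTools.TISum

/-!
# Blocks with one Brauer character

The block algebra of such a block is a matrix algebra over a symmetric local corner. If the corner
is commutative, all characters of the block agree on regular elements and the defect groups have as
many elements as the block has characters.
-/

set_option autoImplicit false
set_option linter.unusedSectionVars false
set_option maxHeartbeats 1000000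
set_option synthInstance.maxHeartbeats 200000

namespace CfsgLib.Blocks.RankOneFrame

open Cfsg CfsgLib.Blocks.ResidueAlgebra CfsgLib.Blocks.TwoCharacters
open CfsgLib.DegreeTools.ValLattice (QBar valSub mem_valSub)
open scoped Classical
open LinearMap (mulLeft mulRight)

variable {G : Type*} [Group G] [Fintype G] {p : ℕ} {M : Ideal AlgInt}

/-- A representation over the local ring at `M` with a given character. -/
theorem exists_lattice_rep (hM : IsPModular p M) (χ : IrrCharacter G) :
    ∃ (n : ℕ) (S : G →* Matrix (Fin n) (Fin n) ℂ),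
      (∀ g i j, MemLocalRing M (S g i j)) ∧ ∀ g, (χ : G → ℂ) g = (S g).trace := by
  obtain ⟨n, ρ, -, hρ⟩ := χ.2
  obtain ⟨A, hA⟩ := CfsgLib.DegreeTools.TISum.exists_qbar_rep ρ
  let R := valSub hM
  let f : G × Fin n → (Fin n → QBar) := fun x => Matrix.mulVec (A x.1) (Pi.single x.2 1)
  let L : Submodule R (Fin n → QBar) := Submodule.span R (Set.range f)
  haveI : Module.Finite R L := Module.Finite.span_of_finite R (Set.finite_range f)
  haveI : Module.IsTorsionFree R L := inferInstance
  haveI : Module.Flat R L := Module.Flat.flat_iff_torsion_eq_bot_of_isBezout.2 (by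
    rw [← Submodule.isTorsionFree_iff_torsion_eq_bot]; infer_instance)
  haveI : Module.Free R L := Module.free_of_flat_of_isLocalRing
  let b := Module.Free.chooseBasis R L
  haveI : Fintype (Module.Free.ChooseBasisIndex R L) := Module.Free.ChooseBasisIndex.fintype R L
  have hli : LinearIndependent QBar fun i => (b i : Fin n → QBar) :=
    (LinearIndependent.iff_fractionRing R QBar).1
      (b.linearIndependent.map' L.subtype (Submodule.ker_subtype _))
  have hsp : ⊤ ≤ Submodule.span QBar (Set.range fun i => (b i : Fin n → QBar)) := by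
    rw [← (Pi.basisFun QBar (Fin n)).span_eq, Submodule.span_le]
    rintro _ ⟨i, rfl⟩
    have h1 : (Pi.basisFun QBar (Fin n) i : Fin n → QBar) ∈ L := by
      refine Submodule.subset_span ⟨(1, i), ?_⟩
      show Matrix.mulVec (A 1) (Pi.single i 1) = _
      rw [map_one, Matrix.one_mulVec, Pi.basisFun_apply]
    have h2 := b.sum_repr ⟨_, h1⟩
    have h3 := congrArg (fun x : L => (x : Fin n → QBar)) h2
    simp only [Submodule.coe_sum, Submodule.coe_smul] at h3
    rw [SetLike.mem_coe, ← h3]
    refine sum_mem fun j _ => ?_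
    exact Submodule.smul_mem _ ((b.repr ⟨_, h1⟩ j : R) : QBar) (Submodule.subset_span ⟨j, rfl⟩)
  let bb := Module.Basis.mk hli hsp
  have hbb : ∀ i, bb i = (b i : Fin n → QBar) := Module.Basis.mk_apply hli hsp
  let ψ := bb.indexEquiv (Pi.basisFun QBar (Fin n))
  let bn := bb.reindex ψ
  let T : G →* Matrix (Fin n) (Fin n) QBar :=
    ((LinearMap.toMatrixAlgEquiv bn).toAlgHom.toMonoidHom.comp
      Matrix.toLinAlgEquiv'.toAlgHom.toMonoidHom).comp A
  let S : G →* Matrix (Fin n) (Fin n) ℂ := (algebraMap QBar ℂ).mapMatrix.toMonoidHom.comp T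
  have hstab : ∀ (g : G), ∀ x ∈ L, Matrix.mulVec (A g) x ∈ L := fun g x hx => by
    induction hx using Submodule.span_induction with
    | mem x hx =>
      obtain ⟨⟨h, i⟩, rfl⟩ := hx
      refine Submodule.subset_span ⟨(g * h, i), ?_⟩
      show Matrix.mulVec (A (g * h)) _ = Matrix.mulVec (A g) (Matrix.mulVec (A h) _)
      rw [map_mul, Matrix.mulVec_mulVec]
    | zero => simp
    | add x y _ _ hx hy => rw [Matrix.mulVec_add]; exact L.add_mem hx hy
    | smul c x _ hx => rw [Matrix.mulVec_smul]; exact L.smul_mem c hx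
  have hrepr : ∀ x : L, ∀ i, bb.repr (x : Fin n → QBar) i = ((b.repr x i : R) : QBar) := fun x i => by
    have h3 := congrArg (fun x : L => (x : Fin n → QBar)) (b.sum_repr x)
    simp only [Submodule.coe_sum, Submodule.coe_smul] at h3
    conv_lhs => rw [← h3]
    rw [show (∑ j, b.repr x j • (b j : Fin n → QBar)) = ∑ j, ((b.repr x j : R) : QBar) • bb j from
      Finset.sum_congr rfl fun j _ => by rw [hbb]; rfl]
    rw [bb.repr_sum_self]
  refine ⟨n, S, fun g i j => ?_, fun g => ?_⟩
  · show MemLocalRing M (algebraMap QBar ℂ (LinearMap.toMatrixAlgEquiv bn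
      (Matrix.toLinAlgEquiv' (A g)) i j))
    rw [LinearMap.toMatrixAlgEquiv_apply, Matrix.toLinAlgEquiv'_apply, Module.Basis.reindex_apply,
      Module.Basis.repr_reindex_apply, hbb, hrepr ⟨_, hstab g _ (b _).2⟩]
    exact mem_valSub.1 (b.repr _ _).2
  · rw [← hρ, hA g]
    show algebraMap QBar ℂ (A g).trace
      = ((LinearMap.toMatrixAlgEquiv bn (Matrix.toLinAlgEquiv' (A g))).map (algebraMap QBar ℂ)).trace
    rw [← AddMonoidHom.map_trace (algebraMap QBar ℂ)]
    congr 1
    rw [show LinearMap.toMatrixAlgEquiv bn (Matrix.toLinAlgEquiv' (A g))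
      = LinearMap.toMatrix bn bn (Matrix.toLinAlgEquiv' (A g)) from rfl,
      ← LinearMap.trace_eq_matrix_trace QBar bn]
    exact (Matrix.trace_toLin'_eq _).symm

/-- A block algebra written as a matrix algebra over its local corner. -/
structure Frame (hM : IsPModular p M) (B : Set (IrrCharacter G)) where
  m : ℕ
  E : MonoidAlgebra (Residue hM) G
  P : Fin m → MonoidAlgebra (Residue hM) G
  Q : Fin m → MonoidAlgebra (Residue hM) G
  I : Submodule (Residue hM) (MonoidAlgebra (Residue hM) G)
  idemE : IsIdempotentElem E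
  notMem : E ∉ I
  pos : 0 < m
  hQP : ∀ l j, Q l * P j = if l = j then E else 0
  hsum : ∑ l, P l * Q l = idem hM B
  hPE : ∀ l, P l * E = P l
  hEQ : ∀ l, E * Q l = Q l
  heP : ∀ l, idem hM B * P l = P l
  heE : idem hM B * E = E
  loc : ∃ τ, SymLocalCorner.SymLocal τ E (RankOneCorner.corner (Residue hM) E) I
  dimI : Module.finrank (Residue hM) I + 1
    = Module.finrank (Residue hM) (RankOneCorner.corner (Residue hM) E)
  dimR : Module.finrank (Residue hM) (RankOneCorner.corner (Residue hM) E)
    = Module.finrank (Residue hM) (SymLocalCorner.comSub (RankOneCorner.corner (Residue hM) E))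
      + Nat.card B

section Dim

variable (hM : IsPModular p M) {B : Set (IrrCharacter G)} (hB : IsPBlock M B)
include hM hB

/-- A block whose members agree up to scalars on regular elements has a frame. -/
theorem exists_frame {χ₁ : IrrCharacter G}
    (hprop : ∀ φ ∈ B, ∀ g : G, IsPRegular p g →
      (φ : G → ℂ) g * (χ₁ : G → ℂ) 1 = (φ : G → ℂ) 1 * (χ₁ : G → ℂ) g) :
    Nonempty (Frame hM B) := by
  haveI := Fact.mk hM.1
  haveI := charP_residue hM
  haveI := isAlgClosed_residue hM
  let k := Residue hM
  haveI : Module.Finite k (MonoidAlgebra k G) := Module.Finite.equiv (coord hM (G := G)).symm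
  obtain ⟨r, d, hd, π, hπ, N, hN⟩ := exists_split k (MonoidAlgebra k G)
  set e := idem hM B with hedef
  have hec := idem_commute hM (B := B)
  have hee := idem_mul_self hM hB
  have h01 := eq_zero_or_one hd hπ hec hee
  obtain ⟨i₀, hi₀⟩ : ∃ i, π e i = 1 := by
    by_contra hno
    push Not at hno
    have h0 : π e = 0 := funext fun i => (h01 i).resolve_right (hno i)
    obtain ⟨n, hn⟩ := isNilpotent_of_map hN h0
    refine idem_ne_zero hM hB ?_
    have : IsIdempotentElem e := hee
    rw [← hedef, ← this.pow_succ_eq n, pow_succ, hn, zero_mul]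
  have hπe : π e = Pi.single i₀ 1 := funext fun i => by
    by_cases hi : i = i₀
    · subst hi; rw [hi₀, Pi.single_eq_same]
    · rw [Pi.single_eq_of_ne hi, (h01 i).resolve_right fun h =>
        hi (eq_of_proportional hM hB hprop hd hπ hi₀ h)]
  haveI := hd i₀
  let U : Π i, Matrix (Fin (d i)) (Fin (d i)) k := Pi.single i₀ (Matrix.single (0 : Fin (d i₀)) 0 1)
  obtain ⟨E₀, hE₀, hπE₀⟩ := exists_isIdempotentElem_eq_of_ker_isNilpotent π.toRingHom
    (fun x hx => isNilpotent_of_map hN (RingHom.mem_ker.1 hx)) U (RingHom.mem_range.2 (hπ _)) (by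
      show U * U = U
      rw [← Pi.single_mul, Matrix.single_mul_single_same, mul_one])
  obtain ⟨E, hEdef⟩ : ∃ E, E = e * E₀ := ⟨_, rfl⟩
  have hπE : π E = U := by
    rw [hEdef, map_mul, show π E₀ = U from hπE₀, hπe, ← Pi.single_mul, one_mul]
  have hE : IsIdempotentElem E := by
    rw [hEdef]
    show e * E₀ * (e * E₀) = e * E₀
    rw [mul_assoc, ← mul_assoc E₀, ← hec E₀, mul_assoc e E₀ E₀, hE₀.eq, ← mul_assoc, hee]
  have heE : e * E = E := by rw [hEdef, ← mul_assoc, hee]
  obtain ⟨P, Q, hQP, hsum, hPE, hEQ, heP⟩ :=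
    RankOneCorner.exists_units hd hπ hN hec hee hπe hE heE hπE
  let m := d i₀
  set J := LinearMap.ker π.toLinearMap with hJ
  set R := RankOneCorner.corner k E with hR
  set I := R ⊓ J with hI
  have memR := fun {r : MonoidAlgebra k G} => RankOneCorner.mem_corner (k := k) (r := r) hE
  have hJl : ∀ a, ∀ j ∈ J, a * j ∈ J := fun a j hj => LinearMap.mem_ker.2 (by
    show π (a * j) = 0
    rw [map_mul, show π j = 0 from LinearMap.mem_ker.1 hj, mul_zero])
  have hleft : ∀ x ∈ R, E * x = x := fun x hx => by
    conv_lhs => rw [← memR.1 hx, ← mul_assoc, ← mul_assoc, hE.eq]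
    exact memR.1 hx
  have hright : ∀ x ∈ R, x * E = x := fun x hx => by
    conv_lhs => rw [← memR.1 hx, mul_assoc, hE.eq]
    exact memR.1 hx
  have hmul : ∀ x ∈ R, ∀ y ∈ R, x * y ∈ R := fun x hx y hy => memR.2 (by
    rw [← mul_assoc, hleft x hx, mul_assoc, hright y hy])
  have hER : E ∈ R := memR.2 (by rw [hE.eq, hE.eq])
  have hEJ : E ∉ J := fun h => by
    have h1 : π E = 0 := LinearMap.mem_ker.1 h
    rw [hπE] at h1
    have := congrFun (congrFun (congrFun h1 i₀) 0) 0
    simp [U] at this
  have hdec : ∀ x ∈ R, ∃ c : k, x - c • E ∈ I := fun x hx => by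
    refine ⟨π x i₀ 0 0, sub_mem hx (Submodule.smul_mem _ _ hER), LinearMap.mem_ker.2 ?_⟩
    show π _ = 0
    have key : π (E * x * E) = π x i₀ 0 0 • π E := by
      rw [map_mul, map_mul, hπE]
      funext i
      by_cases hi : i = i₀
      · subst hi
        simp only [Pi.mul_apply, Pi.smul_apply, U, Pi.single_eq_same]
        ext a b
        simp [Matrix.single_apply, Matrix.mul_apply, Finset.sum_ite_eq, ite_and]
        split_ifs <;> rfl
      · simp [U, Pi.single_eq_of_ne hi]
    rw [memR.1 hx] at key
    rw [map_sub, map_smul]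
    exact sub_eq_zero.2 key
  let τ : MonoidAlgebra k G →ₗ[k] k :=
    { toFun := fun x => x.coeff 1
      map_add' := fun x y => by simp
      map_smul' := fun c x => by simp }
  have hτsymm : ∀ a b, τ (a * b) = τ (b * a) := fun a b => by
    show (a * b).coeff 1 = (b * a).coeff 1
    rw [coeff_mul_sum, coeff_mul_sum]
    refine Fintype.sum_equiv (Equiv.inv G) _ _ fun g => ?_
    simp [mul_comm]
  have hsym : SymLocalCorner.SymLocal τ E R I :=
    { memE := hER
      left := hleft
      right := hright
      mul := hmul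
      le := inf_le_left
      idealI := fun x hx y hy => ⟨hmul x hx y hy.1, hJl x y hy.2⟩
      split := hdec
      nil := by
        refine ⟨N, le_bot_iff.1 ?_⟩
        calc I ^ N ≤ J ^ N := pow_le_pow_left' (inf_le_right : I ≤ J) N
          _ = ⊥ := hN
      symm := hτsymm
      nondeg := fun x hx hx0 => by
        obtain ⟨g, hg⟩ : ∃ g, x.coeff g ≠ 0 := by
          by_contra hno
          push Not at hno
          exact hx0 (ext_coeff fun g => by simp [hno g])
        refine ⟨E * MonoidAlgebra.single g⁻¹ 1 * E, memR.2 (by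
          simp only [← mul_assoc, hE.eq]; rw [mul_assoc _ E E, hE.eq]), ?_⟩
        rw [show x * (E * MonoidAlgebra.single g⁻¹ 1 * E) = x * MonoidAlgebra.single g⁻¹ 1 * E by
          rw [← mul_assoc, ← mul_assoc, hright x hx], hτsymm, ← mul_assoc, hleft x hx]
        show (x * MonoidAlgebra.single g⁻¹ 1).coeff 1 ≠ 0
        rw [coeff_mul_sum, Finset.sum_eq_single g]
        · simpa using hg
        · intro a _ ha
          simp [MonoidAlgebra.coeff_single, Finsupp.single_apply, ha.symm]
        · simp }
  have hIdim : Module.finrank k I + 1 = Module.finrank k R := by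
    have hEI : E ∉ I := fun h => hEJ h.2
    have h1 : I ⊔ Submodule.span k {E} = R := by
      refine le_antisymm (sup_le inf_le_left ((Submodule.span_singleton_le_iff_mem _ _).2 hER)) fun x hx => ?_
      obtain ⟨c, hc⟩ := hdec x hx
      rw [← sub_add_cancel x (c • E)]
      exact Submodule.add_mem_sup hc (Submodule.smul_mem _ c (Submodule.mem_span_singleton_self E))
    have hE0 : E ≠ 0 := fun h => hEJ (h ▸ zero_mem _)
    rw [← h1, ← finrank_span_singleton (K := k) hE0]
    refine (Submodule.finrank_sup_add_finrank_inf_eq _ _).symm.trans ?_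
    rw [disjoint_iff.1 (Submodule.disjoint_span_singleton_of_notMem hEI), finrank_bot, add_zero]
  have hgen : e ∈ Submodule.span k (Set.range fun q : MonoidAlgebra k G × MonoidAlgebra k G =>
      q.1 * E * q.2) := by
    have h1 : ∑ l, P l * Q l ∈ Submodule.span k
        (Set.range fun q : MonoidAlgebra k G × MonoidAlgebra k G => q.1 * E * q.2) :=
      sum_mem fun l _ => Submodule.subset_span ⟨(P l, Q l), congrArg (· * Q l) (hPE l)⟩
    rwa [hsum] at h1
  have hRdim := RankOneCorner.finrank_corner hec hE heE hee hgen (finrank_cocentre hM hB)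
  exact ⟨⟨m, E, P, Q, I, hE, fun h => hEJ h.2, Nat.pos_of_ne_zero (hd i₀).out, hQP, hsum, hPE, hEQ,
    heP, heE, ⟨τ, hsym⟩, hIdim, hRdim⟩⟩

/-- A commutative corner forces equal degrees. -/
theorem degree_eq (F : Frame hM B)
    (hC : SymLocalCorner.comSub (RankOneCorner.corner (Residue hM) F.E) = ⊥) :
    ∃ m : ℕ, ∀ φ ∈ B, charDegree (φ : G → ℂ) = m := by
  haveI := Fact.mk hM.1
  let k := Residue hM
  haveI : Module.Finite k (MonoidAlgebra k G) := Module.Finite.equiv (coord hM (G := G)).symm
  revert hC
  obtain ⟨m, E, P, Q, I, hE, -, -, hQP, hsum, hPE, hEQ, heP, heE, -, -, hRdim⟩ := F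
  intro hC
  set e := idem hM B with hedef
  have hec := idem_commute hM (B := B)
  have hee := idem_mul_self hM hB
  set R := RankOneCorner.corner k E with hR
  rw [hC, finrank_bot, zero_add] at hRdim
  have hdim := finrank_range_mulLeft hM hB
  rw [RankOneCorner.finrank_range_eq hE hec hee hQP hsum hPE hEQ heP, ← hR, hRdim] at hdim
  have hsq : ∑ φ ∈ B.toFinset, charDegree (φ : G → ℂ) ^ 2 = m ^ 2 * Nat.card B := by
    apply Nat.cast_injective (R := ℂ)
    push_cast at hdim ⊢
    rw [hdim]
    exact Finset.sum_congr rfl fun χ _ => by rw [irr_one_eq]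
  -- `m` divides every degree
  have hdvd : ∀ φ ∈ B, m ∣ charDegree (φ : G → ℂ) := by
    intro φ hφ
    obtain ⟨n, S, hS, hφS⟩ := exists_lattice_rep hM φ
    have hn : charDegree (φ : G → ℂ) = n := by
      have h1 := hφS 1
      rw [map_one, Matrix.trace_one, irr_one_eq, Fintype.card_fin] at h1
      exact_mod_cast h1
    rw [hn]
    let S₀ : G →* Matrix (Fin n) (Fin n) k :=
      { toFun := fun g => (S g).map (resid hM)
        map_one' := by
          ext i j
          rw [map_one, Matrix.map_apply, Matrix.one_apply, Matrix.one_apply]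
          split <;> [exact resid_one hM; exact resid_zero hM]
        map_mul' := fun g h => by
          ext i j
          rw [map_mul, Matrix.map_apply, Matrix.mul_apply,
            resid_sum hM _ fun l _ => LR.mul hM (hS g i l) (hS h l j), Matrix.mul_apply]
          exact Finset.sum_congr rfl fun l _ => resid_mul hM (hS g i l) (hS h l j) }
    let Φ₀ : MonoidAlgebra k G →ₐ[k] Matrix (Fin n) (Fin n) k :=
      MonoidAlgebra.lift k (Matrix (Fin n) (Fin n) k) G S₀
    let Z : Matrix (Fin n) (Fin n) ℂ := ∑ g, blockCoeff B g • S g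
    have hZ : ∀ i j, MemLocalRing M (Z i j) := fun i j => by
      simp only [Z, Matrix.sum_apply, Matrix.smul_apply, smul_eq_mul]
      exact LR.sum hM fun g _ => LR.mul hM (blockCoeff_LR hM hB g) (hS g i j)
    have hZZ : Z * Z = Z := by
      calc Z * Z = ∑ g, ∑ h, (blockCoeff B g * blockCoeff B h) • S (g * h) := by
            simp only [Z, Finset.sum_mul_sum, smul_mul_smul_comm, map_mul]
        _ = ∑ g, ∑ u, (blockCoeff B g * blockCoeff B (g⁻¹ * u)) • S u :=
            Finset.sum_congr rfl fun g _ =>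
              Fintype.sum_equiv (Equiv.mulLeft g) _ _ fun h => by simp
        _ = _ := by
            rw [Finset.sum_comm]
            refine Finset.sum_congr rfl fun u _ => ?_
            rw [← Finset.sum_smul, blockCoeff_conv, Set.inter_self]
    have htr : Z.trace = (n : ℂ) := by
      simp only [Z, Matrix.trace_sum, Matrix.trace_smul, smul_eq_mul, ← hφS]
      have h1 := omega_blockCoeff B φ
      rw [blockInd_of_mem hφ, omega] at h1
      rw [← hn, ← irr_one_eq]
      have h2 := irr_one_ne_zero φ
      field_simp at h1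
      first | exact h1 | (rw [← h1]; exact Finset.sum_congr rfl fun g _ => by ring)
    have hrank : (Z.map (resid hM)).rank = n := by
      have := rank_resid_eq hM Z hZ hZZ
      rw [htr] at this
      exact_mod_cast this
    have hΦe : Φ₀ e = Z.map (resid hM) := by
      show MonoidAlgebra.lift k _ G S₀ e = _
      rw [MonoidAlgebra.lift_apply, Finsupp.sum_fintype _ _ (by simp)]
      ext i j
      simp only [Z, Matrix.sum_apply, Matrix.smul_apply, smul_eq_mul, Matrix.map_apply]
      rw [resid_sum hM _ fun g _ => LR.mul hM (blockCoeff_LR hM hB g) (hS g i j)]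
      refine Finset.sum_congr rfl fun g _ => ?_
      rw [resid_mul hM (blockCoeff_LR hM hB g) (hS g i j), ← coeff_idem hM g]
      rfl
    have hone : Φ₀ e = 1 := by
      have hu : IsUnit (Φ₀ e) := by
        rw [hΦe, ← Matrix.mulVec_surjective_iff_isUnit]
        show Function.Surjective (Z.map (resid hM)).mulVecLin
        rw [← LinearMap.range_eq_top]
        refine Submodule.eq_top_of_finrank_eq ?_
        rw [Module.finrank_fin_fun]
        exact hrank
      exact hu.mul_left_cancel (by rw [mul_one, ← map_mul, hee])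
    let Φ : MonoidAlgebra k G →ₐ[k] Module.End k (Fin n → k) :=
      Matrix.toLinAlgEquiv'.toAlgHom.comp Φ₀
    have h3 := RankOneCorner.dvd_finrank Φ
      (show Φ e = 1 by show Matrix.toLinAlgEquiv' (Φ₀ e) = 1; rw [hone, map_one]) hQP hsum hEQ
    rwa [Module.finrank_fin_fun] at h3
  refine ⟨m, fun φ hφ => ?_⟩
  have hge : ∀ ψ ∈ B.toFinset, m ^ 2 ≤ charDegree (ψ : G → ℂ) ^ 2 := fun ψ hψ =>
    Nat.pow_le_pow_left (Nat.le_of_dvd (charDegree_pos ψ) (hdvd ψ (Set.mem_toFinset.1 hψ))) 2
  have heq := (Finset.sum_eq_sum_iff_of_le hge).1 (by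
    rw [hsq, Finset.sum_const, smul_eq_mul, Set.toFinset_card, ← Nat.card_eq_fintype_card, mul_comm])
  exact (Nat.pow_left_injective (by norm_num) (heq φ (Set.mem_toFinset.2 hφ))).symm

/-- The defect groups have as many elements as the block has characters. -/
theorem card_eq_pow (hl : blockRank p B = 1)
    (hC : ∀ F : Frame hM B, SymLocalCorner.comSub (RankOneCorner.corner (Residue hM) F.E) = ⊥) :
    Nat.card B = p ^ blockDefect p B := by
  haveI := Fact.mk hM.1
  obtain ⟨χ, hχ, h0⟩ := exists_degVal_eq_min (p := p) (IsPBlock.nonempty hM hB)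
  have hone : IsPRegular p (1 : G) := by
    rw [IsPRegular, orderOf_one]; exact hM.1.not_dvd_one
  have hprop : ∀ φ ∈ B, ∀ g : G, IsPRegular p g →
      (φ : G → ℂ) g * (χ : G → ℂ) 1 = (φ : G → ℂ) 1 * (χ : G → ℂ) g := by
    intro φ hφ g hg
    have hmem : ∀ ψ ∈ B, pRegularPart p (ψ : G → ℂ) ∈ Submodule.span ℂ
        ((fun ψ : IrrCharacter G => pRegularPart p (ψ : G → ℂ)) '' B) := fun ψ hψ =>
      Submodule.subset_span ⟨ψ, hψ, rfl⟩
    have hne : pRegularPart p (χ : G → ℂ) ≠ 0 := fun h => irr_one_ne_zero χ (by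
      simpa [pRegularPart, hone] using congrFun h 1)
    obtain ⟨c, hc⟩ := (finrank_eq_one_iff_of_nonzero'
      (⟨_, hmem χ hχ⟩ : Submodule.span ℂ
        ((fun ψ : IrrCharacter G => pRegularPart p (ψ : G → ℂ)) '' B))
      (fun h => hne (congrArg Subtype.val h))).1 hl ⟨_, hmem φ hφ⟩
    have hc' := congrArg Subtype.val hc
    have e1 := congrFun hc' 1
    have e2 := congrFun hc' g
    simp only [Submodule.coe_smul, Pi.smul_apply, smul_eq_mul, pRegularPart, if_pos hone,
      if_pos hg] at e1 e2
    rw [← e1, ← e2]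
    ring
  obtain ⟨F⟩ := exists_frame hM hB hprop
  obtain ⟨m, hm⟩ := degree_eq hM hB F (hC F)
  have hagree : ∀ φ ∈ B, ∀ g : G, IsPRegular p g → (φ : G → ℂ) g = (χ : G → ℂ) g := by
    intro φ hφ g hg
    have h := hprop φ hφ g hg
    rw [irr_one_eq χ, irr_one_eq φ, hm χ hχ, hm φ hφ] at h
    exact mul_right_cancel₀ (by
      rw [← hm χ hχ]; exact_mod_cast (charDegree_pos χ).ne') (h.trans (mul_comm _ _))
  have hreg : ∀ φ ∈ B, regInt p χ φ = regInt p χ χ := fun φ hφ => by
    apply Int.cast_injective (α := ℂ)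
    rw [cast_regInt hM.1, cast_regInt hM.1, regInner, regInner]
    congr 1
    refine Finset.sum_congr rfl fun g hg => ?_
    rw [hagree φ hφ g⁻¹ (by
      have := (Finset.mem_filter.1 hg).2
      rwa [IsPRegular, orderOf_inv])]
  set A := regInt p χ χ
  have hA0 : A ≠ 0 := regInt_ne_zero_of_min hM hB hχ h0 hχ
  have hsum : (Nat.card B : ℤ) * A = (pPartCard p G : ℤ) := by
    have h := sum_regInt_sq hM hB hχ
    rw [Finset.sum_congr rfl fun φ hφ => by rw [hreg φ (Set.mem_toFinset.1 hφ)], Finset.sum_const,
      nsmul_eq_mul, Set.toFinset_card, ← Nat.card_eq_fintype_card] at h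
    exact mul_right_cancel₀ hA0 (by rw [mul_assoc, ← sq]; exact h)
  obtain ⟨⟨A', hA'⟩, hA''⟩ := regInt_exact_of_min hM hB hχ h0 hχ
  have hA'p : ¬ (p : ℤ) ∣ A' := fun hd => hA'' (by
    show _ ∣ A
    rw [show A = _ from hA', pow_succ]; exact mul_dvd_mul_left _ hd)
  set a := (Nat.card G).factorization p
  set v := degVal p χ
  have hN : Nat.card B * (p ^ v * A'.natAbs) = p ^ a := by
    have h3 := congrArg Int.natAbs hsum
    rw [show A = _ from hA', pPartCard] at h3
    simpa only [Int.natAbs_mul, Int.natAbs_pow, Int.natAbs_natCast, Nat.cast_pow] using h3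
  have hA'1 : A'.natAbs = 1 := by
    obtain ⟨i, -, hi⟩ := (Nat.dvd_prime_pow hM.1).1 (Dvd.intro_left (Nat.card B * p ^ v)
      (by rw [mul_assoc]; exact hN))
    rcases i with _ | i
    · rw [hi, pow_zero]
    · exact absurd (Int.natCast_dvd.2 (hi ▸ dvd_pow_self p (Nat.succ_ne_zero i))) hA'p
  rw [hA'1, mul_one] at hN
  have hd := blockDefect_add_min (p := p) (IsPBlock.nonempty hM hB)
  have hva : a = blockDefect p B + v := by omega
  rw [hva, pow_add] at hN
  exact Nat.eq_of_mul_eq_mul_right (pow_pos hM.1.pos v) hN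

end Dim

end CfsgLib.Blocks.RankOneFrame
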