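import Cfsg.Agent.Lib.Blocks.Section

/-!
# The Gram matrix of the contributions of a subsection
-/

set_option autoImplicit false

namespace CfsgLib.Blocks

open Cfsg
open scoped Classical ComplexConjugate

variable {G : Type*} [Group G] [Fintype G] {p : ℕ} {M : Ideal AlgInt} {x : G}

/-- The `b`-part of `c ↦ χ (x c)`. -/
noncomputable def secPart (x : G) (K : Subgroup G) (b : Set (IrrCharacter K)) (χ : IrrCharacter G) :
    K → ℂ :=
  blockPart b fun c : K => (χ : G → ℂ) (x * (c : G))

theorem centralizer_singleton_inv (x : G) :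
    Subgroup.centralizer ({x⁻¹} : Set G) = Subgroup.centralizer ({x} : Set G) := by
  ext g
  simp only [Subgroup.mem_centralizer_singleton_iff]
  exact ⟨fun h => by simpa using (Commute.inv_right (show Commute g x⁻¹ from h)).eq,
    fun h => (Commute.inv_right (show Commute g x from h)).eq⟩

theorem blockPart_blockPart (b : Set (IrrCharacter G)) (ϑ : G → ℂ) :
    blockPart b (blockPart b ϑ) = blockPart b ϑ := by
  have h : ∀ φ : IrrCharacter G, classInner (blockPart b ϑ) (φ : G → ℂ)
      = blockInd b φ * classInner ϑ (φ : G → ℂ) := by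
    intro φ
    have e : blockPart b ϑ = fun y => ∑ ψ : IrrCharacter G,
        (blockInd b ψ * classInner ϑ (ψ : G → ℂ)) * (ψ : G → ℂ) y :=
      funext fun y => by
        rw [blockPart_eq_sum]; exact Finset.sum_congr rfl fun ψ _ => by ring
    have h := coeff_eq_of_sum_eq (c := fun ψ => blockInd b ψ * classInner ϑ (ψ : G → ℂ))
      (θ := blockPart b ϑ) (fun y => (congrFun e y).symm) φ
    rw [Cfsg.classInner]
    simp only [conj_irr]
    exact h.symm
  funext y
  rw [blockPart_eq_sum, blockPart_eq_sum b ϑ y]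
  refine Finset.sum_congr rfl fun φ _ => ?_
  rw [h φ, ← mul_assoc, ← mul_assoc, blockInd_mul_self, ← mul_assoc]

theorem secPart_eq_sum_regular (hM : IsPModular p M) {K : Subgroup G} {b : Set (IrrCharacter K)}
    (hb : IsPBlock M b) (x : G) (χ : IrrCharacter G) {s : K} (hs : ¬ p ∣ orderOf s) :
    secPart x K b χ s = (Nat.card K : ℂ)⁻¹ *
      ∑ c : K with IsPRegular p c, (χ : G → ℂ) (x * (c : G)) * blockKernel b c s :=
  blockPart_eq_sum_regular hM (IsPBlock.isLocalOn hM hb) _ hs

/-- `∑_{s regular} P(s) K(s, t) = |K| P(t)`. -/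
theorem sum_secPart_mul_blockKernel (hM : IsPModular p M) {K : Subgroup G}
    {b : Set (IrrCharacter K)} (hb : IsPBlock M b) (x : G) (χ : IrrCharacter G) {t : K}
    (ht : ¬ p ∣ orderOf t) :
    ∑ s : K with IsPRegular p s, secPart x K b χ s * blockKernel b s t
      = (Nat.card K : ℂ) * secPart x K b χ t := by
  have h := blockPart_eq_sum_regular hM (IsPBlock.isLocalOn hM hb) (secPart x K b χ) ht
  rw [secPart, blockPart_blockPart, inv_mul_eq_div, eq_div_iff CfsgLib.Char.card_ne_zero] at h
  rw [mul_comm (Nat.card K : ℂ)]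
  exact h.symm

theorem card_conj_filter_inv (p : ℕ) {H : Type*} [Group H] [Fintype H] (t : H) :
    IsPRegular p t⁻¹ ↔ IsPRegular p t := by simp [IsPRegular]

/-- Orthogonality of the contributions at regular elements. -/
theorem sum_secPart_mul (hM : IsPModular p M) {K : Subgroup G}
    (hK : K = Subgroup.centralizer ({x} : Set G)) (hx : ∃ k : ℕ, orderOf x = p ^ k)
    {b : Set (IrrCharacter K)} (hb : IsPBlock M b) {s t : K} (hs : ¬ p ∣ orderOf s)
    (ht : ¬ p ∣ orderOf t) :
    ∑ χ : IrrCharacter G, secPart x K b χ s * secPart x⁻¹ K b χ t⁻¹ = blockKernel b t s := by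
  have ht' : ¬ p ∣ orderOf t⁻¹ := by rwa [orderOf_inv]
  have e : ∀ χ : IrrCharacter G, secPart x K b χ s * secPart x⁻¹ K b χ t⁻¹
      = (Nat.card K : ℂ)⁻¹ * (Nat.card K : ℂ)⁻¹ * ∑ d : K with IsPRegular p d,
          ∑ c : K with IsPRegular p c, blockKernel b c s * blockKernel b d⁻¹ t⁻¹ *
            ((χ : G → ℂ) (x * (c : G)) * (χ : G → ℂ) (x * (d : G))⁻¹) := by
    intro χ
    rw [secPart_eq_sum_regular hM hb x χ hs, secPart_eq_sum_regular hM hb x⁻¹ χ ht']
    have hre : ∑ d : K with IsPRegular p d, (χ : G → ℂ) (x⁻¹ * (d : G)) * blockKernel b d t⁻¹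
        = ∑ d : K with IsPRegular p d, (χ : G → ℂ) (x * (d : G))⁻¹ * blockKernel b d⁻¹ t⁻¹ := by
      refine Finset.sum_nbij' (fun d => d⁻¹) (fun d => d⁻¹) ?_ ?_ ?_ ?_ ?_
      · intro d hd; simpa [card_conj_filter_inv] using hd
      · intro d hd; simpa [card_conj_filter_inv] using hd
      · intro d _; simp
      · intro d _; simp
      · intro d _
        have hcomm : Commute x (d : G) :=
          (Subgroup.mem_centralizer_singleton_iff.1 (hK ▸ d.2)).symm
        rw [inv_inv, Subgroup.coe_inv, mul_inv_rev, inv_inv, ← (hcomm.inv_left).eq]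
    rw [hre, Finset.mul_sum, Finset.sum_mul]
    simp only [Finset.mul_sum]
    rw [Finset.sum_comm]
    exact Finset.sum_congr rfl fun d _ => Finset.sum_congr rfl fun c _ => by ring
  rw [Finset.sum_congr rfl fun χ _ => e χ, ← Finset.mul_sum, Finset.sum_comm]
  have inner : ∀ d : K, IsPRegular p d →
      ∑ χ : IrrCharacter G, ∑ c : K with IsPRegular p c, blockKernel b c s * blockKernel b d⁻¹ t⁻¹ *
        ((χ : G → ℂ) (x * (c : G)) * (χ : G → ℂ) (x * (d : G))⁻¹)
        = (Nat.card K : ℂ) * (blockKernel b d s * blockKernel b t d) := by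
    intro d hd
    rw [Finset.sum_comm]
    simp only [← Finset.mul_sum]
    rw [Finset.sum_congr rfl (g := fun c : K => (blockKernel b c s * blockKernel b d⁻¹ t⁻¹) *
      ((Finset.univ.filter fun g : K => g * c * g⁻¹ = d).card : ℂ)) fun c hc => by
        rw [sum_irr_section hM.1 hK hx (Finset.mem_filter.1 hc).2 hd]]
    have h5 := sum_mul_card_conj p (fun c : K => blockKernel b c s * blockKernel b d⁻¹ t⁻¹)
      (fun c g => by
        show blockKernel b (g * c * g⁻¹) s * _ = _
        rw [blockKernel_conj]) hd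
    rw [blockKernel_inv] at h5
    rw [blockKernel_inv]
    convert h5 using 1
    congr! 5
  rw [Finset.sum_congr rfl fun d hd => inner d (Finset.mem_filter.1 hd).2, ← Finset.mul_sum,
    ← mul_assoc, mul_assoc (Nat.card K : ℂ)⁻¹, inv_mul_cancel₀ CfsgLib.Char.card_ne_zero, mul_one]
  -- `∑_d K(d, s) K(t, d) = |K| K(t, s)`
  rw [inv_mul_eq_iff_eq_mul₀ CfsgLib.Char.card_ne_zero]
  simp only [blockKernel, Finset.mul_sum, Finset.sum_mul]
  rw [Finset.sum_comm]
  refine Finset.sum_congr rfl fun ψ _ => ?_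
  have hexp := sum_regInner_mul hM (IsPBlock.isLocalOn hM hb) ψ s
  rw [if_pos (show IsPRegular p s from hs)] at hexp
  have hq0 := pPartCard_ne_zero (G := K) hM.1
  have hz : ∀ φ : IrrCharacter K, ∑ d : K with IsPRegular p d, (ψ : K → ℂ) d * (φ : K → ℂ) d⁻¹
      = (Nat.card K : ℂ) * (pPartCard p K : ℂ)⁻¹ * regInner p (ψ : K → ℂ) (φ : K → ℂ) := by
    intro φ
    rw [regInner]
    have := CfsgLib.Char.card_ne_zero (G := K)
    field_simp
  calc _ = blockInd b ψ * (ψ : K → ℂ) t⁻¹ * ∑ φ : IrrCharacter K, blockInd b φ * (φ : K → ℂ) s *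
        ∑ d : K with IsPRegular p d, (ψ : K → ℂ) d * (φ : K → ℂ) d⁻¹ := by
        simp only [Finset.mul_sum]
        rw [Finset.sum_comm]
        exact Finset.sum_congr rfl fun φ _ => Finset.sum_congr rfl fun d _ => by ring
    _ = blockInd b ψ * (ψ : K → ℂ) t⁻¹ * ((Nat.card K : ℂ) * (pPartCard p K : ℂ)⁻¹ *
        ∑ φ : IrrCharacter K, blockInd b φ * regInner p (ψ : K → ℂ) (φ : K → ℂ) * (φ : K → ℂ) s) := by
        congr 1
        rw [Finset.mul_sum]
        exact Finset.sum_congr rfl fun φ _ => by rw [hz φ]; ring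
    _ = _ := by
        rw [hexp]
        field_simp
        rw [sq, blockInd_mul_self]

/-- The trace of the contributions. -/
theorem sum_sum_secPart_mul (hM : IsPModular p M) {K : Subgroup G}
    (hK : K = Subgroup.centralizer ({x} : Set G)) (hx : ∃ k : ℕ, orderOf x = p ^ k)
    {b : Set (IrrCharacter K)} (hb : IsPBlock M b) :
    ∑ χ : IrrCharacter G, ∑ s : K with IsPRegular p s, secPart x K b χ s * secPart x⁻¹ K b χ s⁻¹
      = (Nat.card K : ℂ) * (blockRank p b : ℂ) := by
  rw [Finset.sum_comm, ← sum_blockKernel_regular hM hb]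
  exact Finset.sum_congr rfl fun s hs => sum_secPart_mul hM hK hx hb (Finset.mem_filter.1 hs).2
    (Finset.mem_filter.1 hs).2

/-- Characters outside the induced block have no contribution. -/
theorem secPart_eq_zero_of_notMem (hM : IsPModular p M) {K : Subgroup G}
    (hK : K = Subgroup.centralizer ({x} : Set G)) (hx : ∃ k : ℕ, orderOf x = p ^ k)
    {b : Set (IrrCharacter K)} {B : Set (IrrCharacter G)} (hind : IsInducedBlock M K b B)
    {χ : IrrCharacter G} (hχ : χ ∉ B) {s : K} (hs : ¬ p ∣ orderOf s) :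
    secPart x K b χ s = 0 :=
  blockPart_eq_zero_of_not_induced hM hK hx (isPBlock_blockOf χ) (SameBlock_refl hM _) hind.1
    (fun h => hχ (by
      rw [IsInducedBlock.unique hM hind h]
      exact SameBlock_refl hM _)) hs

/-- The contribution of the subsection `(x, b)` to a pair of characters. -/
noncomputable def contrib (p : ℕ) (x : G) (K : Subgroup G) (b : Set (IrrCharacter K))
    (χ φ : IrrCharacter G) : ℂ :=
  (pPartCard p K : ℂ) * (Nat.card K : ℂ)⁻¹ *
    ∑ s : K with IsPRegular p s, secPart x K b χ s * secPart x⁻¹ K b φ s⁻¹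

/-- The contributions are idempotent up to the `p`-part of the order. -/
theorem sum_contrib_mul (hM : IsPModular p M) {K : Subgroup G}
    (hK : K = Subgroup.centralizer ({x} : Set G)) (hx : ∃ k : ℕ, orderOf x = p ^ k)
    {b : Set (IrrCharacter K)} (hb : IsPBlock M b) (χ : IrrCharacter G) :
    ∑ φ : IrrCharacter G, contrib p x K b χ φ * contrib p x K b φ χ
      = (pPartCard p K : ℂ) * (pPartCard p K : ℂ) * (Nat.card K : ℂ)⁻¹ *
        ∑ t ∈ Finset.univ.filter (fun s : K => IsPRegular p s),
          secPart x K b χ t * secPart x⁻¹ K b χ t⁻¹ := by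
  set q : ℂ := (pPartCard p K : ℂ)
  set R := Finset.univ.filter fun s : K => IsPRegular p s
  calc _ = q * q * ((Nat.card K : ℂ)⁻¹ * (Nat.card K : ℂ)⁻¹) * ∑ t ∈ R, secPart x⁻¹ K b χ t⁻¹ *
        ∑ s ∈ R, secPart x K b χ s *
          ∑ φ : IrrCharacter G, secPart x K b φ t * secPart x⁻¹ K b φ s⁻¹ := by
        simp only [contrib, Finset.mul_sum, Finset.sum_mul]
        rw [Finset.sum_comm]
        refine Finset.sum_congr rfl fun t _ => ?_
        rw [Finset.sum_comm]
        exact Finset.sum_congr rfl fun s _ => Finset.sum_congr rfl fun φ _ => by ring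
    _ = _ := by
        rw [Finset.mul_sum, Finset.mul_sum]
        refine Finset.sum_congr rfl fun t ht => ?_
        rw [Finset.sum_congr rfl (g := fun s => secPart x K b χ s * blockKernel b s t) fun s hs => by
          rw [sum_secPart_mul hM hK hx hb (Finset.mem_filter.1 ht).2 (Finset.mem_filter.1 hs).2],
          sum_secPart_mul_blockKernel hM hb x χ (Finset.mem_filter.1 ht).2]
        have := CfsgLib.Char.card_ne_zero (G := K)
        field_simp

theorem sum_contrib_sq (hM : IsPModular p M) {K : Subgroup G}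
    (hK : K = Subgroup.centralizer ({x} : Set G)) (hx : ∃ k : ℕ, orderOf x = p ^ k)
    {b : Set (IrrCharacter K)} (hb : IsPBlock M b) :
    ∑ χ : IrrCharacter G, ∑ φ : IrrCharacter G, contrib p x K b χ φ * contrib p x K b φ χ
      = (pPartCard p K : ℂ) ^ 2 * (blockRank p b : ℂ) := by
  rw [Finset.sum_congr rfl fun χ _ => sum_contrib_mul hM hK hx hb χ, ← Finset.mul_sum,
    sum_sum_secPart_mul hM hK hx hb]
  have := CfsgLib.Char.card_ne_zero (G := K)
  field_simp

theorem sum_contrib_self (hM : IsPModular p M) {K : Subgroup G}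
    (hK : K = Subgroup.centralizer ({x} : Set G)) (hx : ∃ k : ℕ, orderOf x = p ^ k)
    {b : Set (IrrCharacter K)} (hb : IsPBlock M b) :
    ∑ χ : IrrCharacter G, contrib p x K b χ χ = (pPartCard p K : ℂ) * (blockRank p b : ℂ) := by
  simp only [contrib, ← Finset.mul_sum]
  rw [sum_sum_secPart_mul hM hK hx hb]
  have := CfsgLib.Char.card_ne_zero (G := K)
  field_simp

end CfsgLib.Blocks
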