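import Cfsg.Agent.Lib.Blocks.SimpleCount
import Cfsg.Agent.Lib.Blocks.SectionGram
import Cfsg.Agent.Lib.Char.SimpleTrace

/-!
# A basis of the functions on regular classes permuted by automorphisms

The traces of the simple modules over the residue field, lifted to the local ring, give a basis of
the class functions on `p`-regular classes.  The automorphisms of the group permute it and a block
projection can be made diagonal in it.  So an automorphism fixing the block has a non-negative
integral trace on the regular functions of the block.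
-/

set_option autoImplicit false
set_option linter.unusedSectionVars false
set_option maxHeartbeats 1000000
set_option synthInstance.maxHeartbeats 200000

namespace CfsgLib.Blocks.RegularBasis

open Cfsg CfsgLib.Blocks CfsgLib.Blocks.ResidueAlgebra CfsgLib.Blocks.TwoCharacters
open scoped Classical

universe u

section Family

variable {k : Type} [Field k] {H : Type u} [Group H] [Finite H] {r : ℕ} {d : Fin r → ℕ}

/-- The representation of a matrix component. -/
noncomputable def compRep (π : MonoidAlgebra k H →ₐ[k] Π i, Matrix (Fin (d i)) (Fin (d i)) k)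
    (i : Fin r) : Representation k H (ULift.{u} (Fin (d i) → k)) where
  toFun g := ULift.moduleEquiv.symm.conj (Matrix.toLin' (π (MonoidAlgebra.single g 1) i))
  map_one' := by
    rw [← MonoidAlgebra.one_def, map_one, Pi.one_apply, Matrix.toLin'_one]
    ext x
    simp [LinearEquiv.conj_apply]
  map_mul' a b := by
    rw [show MonoidAlgebra.single (a * b) (1 : k) = MonoidAlgebra.single a 1 * MonoidAlgebra.single b 1 by
      rw [MonoidAlgebra.single_mul_single, mul_one], map_mul, Pi.mul_apply, Matrix.toLin'_mul]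
    ext x
    simp [LinearEquiv.conj_apply]

theorem compRep_apply (π : MonoidAlgebra k H →ₐ[k] Π i, Matrix (Fin (d i)) (Fin (d i)) k)
    (i : Fin r) (g : H) (x : Fin (d i) → k) :
    compRep π i g (ULift.up x) = ULift.up (Matrix.mulVec (π (MonoidAlgebra.single g 1) i) x) := by
  simp [compRep, LinearEquiv.conj_apply]

theorem sum_coeff_smul (x : MonoidAlgebra k H) [Fintype H] :
    ∑ g, x.coeff g • MonoidAlgebra.single g (1 : k) = x := by
  refine MonoidAlgebra.coeff_injective (Finsupp.ext fun h => ?_)
  simp [MonoidAlgebra.coeff_sum, Finsupp.single_apply]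

variable [Fintype H] (π : MonoidAlgebra k H →ₐ[k] Π i, Matrix (Fin (d i)) (Fin (d i)) k)

/-- The trace of a component. -/
noncomputable def tr (i : Fin r) (g : H) : k := (π (MonoidAlgebra.single g 1) i).trace

theorem traceFun_compRep (i : Fin r) : SimpleTrace.traceFun (compRep π i) = tr π i := by
  funext g
  show LinearMap.trace k _ (ULift.moduleEquiv.symm.conj _) = _
  rw [LinearMap.trace_conj', Matrix.trace_toLin'_eq]
  rfl

theorem trace_apply (i : Fin r) (x : MonoidAlgebra k H) :
    (π x i).trace = ∑ g, x.coeff g * tr π i g := by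
  conv_lhs => rw [← sum_coeff_smul x]
  simp only [map_sum, map_smul, Finset.sum_apply, Pi.smul_apply, Matrix.trace_sum,
    Matrix.trace_smul, smul_eq_mul]
  rfl

variable {π} [∀ i, NeZero (d i)] (hπ : Function.Surjective π)

include hπ

theorem tr_independent {a : Fin r → k} (ha : ∀ g, ∑ i, a i * tr π i g = 0) : a = 0 := by
  funext i
  obtain ⟨x, hx⟩ := hπ (Pi.single i (Matrix.single 0 0 1))
  have h : ∑ j, a j * (π x j).trace = 0 := by
    simp only [trace_apply, Finset.mul_sum]
    rw [Finset.sum_comm]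
    refine Finset.sum_eq_zero fun g _ => ?_
    rw [← mul_zero (x.coeff g), ← ha g, Finset.mul_sum]
    exact Finset.sum_congr rfl fun j _ => by ring
  rw [hx, Finset.sum_eq_single i] at h
  · simpa [Matrix.trace_single_eq_same] using h
  · intro j _ hj; simp [Pi.single_eq_of_ne hj]
  · simp

theorem compRep_irr (i : Fin r) : SimpleTrace.Irr (compRep π i) := by
  refine ⟨(ULift.moduleEquiv (R := k) (M := Fin (d i) → k)).toEquiv.nontrivial, fun W hW => ?_⟩
  refine or_iff_not_imp_left.2 fun hne => ?_
  obtain ⟨⟨w⟩, hw, hw0⟩ := W.ne_bot_iff.1 hne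
  have hst : ∀ x : MonoidAlgebra k H, ∀ v : Fin (d i) → k, ULift.up v ∈ W →
      ULift.up (Matrix.mulVec (π x i) v) ∈ W := by
    intro x v hv
    have e : ULift.up (Matrix.mulVec (π x i) v) = ∑ g, x.coeff g • compRep π i g (ULift.up v) := by
      refine (ULift.moduleEquiv (R := k)).injective ?_
      rw [map_sum]
      conv_lhs => rw [← sum_coeff_smul x]
      simp only [map_sum, map_smul, Finset.sum_apply, Pi.smul_apply, compRep_apply]
      show Matrix.mulVec _ v = _
      rw [Matrix.sum_mulVec]
      exact Finset.sum_congr rfl fun g _ => Matrix.smul_mulVec _ _ _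
    rw [e]
    exact Submodule.sum_mem _ fun g _ => W.smul_mem _ (hW g _ hv)
  obtain ⟨c, hc⟩ : ∃ c, w c ≠ 0 := by
    by_contra h
    push Not at h
    exact hw0 (congrArg ULift.up (funext h : w = 0))
  rw [eq_top_iff]
  rintro ⟨v⟩ -
  obtain ⟨x, hx⟩ := hπ (Pi.single i (Matrix.vecMulVec v (Pi.single c (w c)⁻¹)))
  have := hst x w hw
  rwa [hx, Pi.single_eq_same, Matrix.vecMulVec_mulVec, single_dotProduct, inv_mul_cancel₀ hc,
    MulOpposite.op_one, one_smul] at this

theorem compRep_hne (i j : Fin r) (hij : i ≠ j)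
    (F : ULift.{u} (Fin (d i) → k) →ₗ[k] ULift.{u} (Fin (d j) → k))
    (hF : ∀ g x, F (compRep π i g x) = compRep π j g (F x)) : F = 0 := by
  refine LinearMap.ext fun v => ?_
  obtain ⟨v⟩ := v
  obtain ⟨x, hx⟩ := hπ (Pi.single i 1)
  have e : ∀ (l : Fin r) (w : Fin (d l) → k),
      ∑ g, x.coeff g • compRep π l g (ULift.up w) = ULift.up (Matrix.mulVec (π x l) w) := by
    intro l w
    refine (ULift.moduleEquiv (R := k)).injective ?_
    rw [map_sum]
    conv_rhs => rw [← sum_coeff_smul x]
    simp only [map_sum, map_smul, Finset.sum_apply, Pi.smul_apply, compRep_apply]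
    show _ = Matrix.mulVec _ w
    rw [Matrix.sum_mulVec]
    refine Finset.sum_congr rfl fun g _ => ?_
    rw [Matrix.smul_mulVec]
    rfl
  have h1 := congrArg F (e i v)
  rw [map_sum] at h1
  simp only [map_smul, hF] at h1
  rw [show F (ULift.up v) = ULift.up (F (ULift.up v)).down from rfl, e j, hx, Pi.single_eq_same,
    Pi.single_eq_of_ne (Ne.symm hij), Matrix.zero_mulVec, Matrix.one_mulVec] at h1
  exact h1.symm

variable {N : ℕ} (hN : (LinearMap.ker π.toLinearMap) ^ N = ⊥)

include hN

theorem compRep_hall {W : Type u} [AddCommGroup W] [Module k W] [FiniteDimensional k W]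
    (σ : Representation k H W) (hσ : SimpleTrace.Irr σ) :
    ∃ i, SimpleTrace.traceFun σ = tr π i := by
  haveI : IsSimpleModule (MonoidAlgebra k H) σ.asModule :=
    (Representation.irreducible_iff_isSimpleModule_asModule _).mp hσ.isIrreducible
  haveI := hσ.1
  haveI : Nontrivial σ.asModule := σ.asModuleEquiv.toEquiv.nontrivial
  obtain ⟨i, e, v, he, hev, hv⟩ := SimpleCount.exists_index (A := MonoidAlgebra k H) (V := σ.asModule) hπ hN
  set v' : W := σ.asModuleEquiv v with hv'
  have hv'0 : v' ≠ 0 := fun h => hv (σ.asModuleEquiv.map_eq_zero_iff.1 h)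
  have hact : ∀ a, σ.asModuleEquiv (a • v) = σ.asAlgebraHom a v' := fun a =>
    Representation.asModuleEquiv_map_smul σ a v
  have hcongr : ∀ a b, π a = π b → σ.asAlgebraHom a v' = σ.asAlgebraHom b v' := fun a b h => by
    rw [← hact, ← hact, SimpleCount.smul_congr hN h v]
  let col : (Fin (d i) → k) → MonoidAlgebra k H := fun x =>
    Function.surjInv hπ (Pi.single i (Matrix.vecMulVec x (Pi.single 0 1)))
  have hcol : ∀ x, π (col x) = Pi.single i (Matrix.vecMulVec x (Pi.single 0 1)) := fun x =>
    Function.surjInv_eq hπ _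
  let Φ : ULift.{u} (Fin (d i) → k) →ₗ[k] W :=
    { toFun := fun x => σ.asAlgebraHom (col x.down) v'
      map_add' := fun x y => by
        rw [← LinearMap.add_apply, ← map_add]
        refine hcongr _ _ ?_
        rw [map_add, hcol, hcol, hcol, ULift.add_down, Matrix.add_vecMulVec, Pi.single_add]
      map_smul' := fun c x => by
        rw [RingHom.id_apply, ← LinearMap.smul_apply, ← map_smul]
        refine hcongr _ _ ?_
        rw [map_smul, hcol, hcol, ULift.smul_down, Matrix.smul_vecMulVec, ← Pi.single_smul] }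
  have hΦ : ∀ g x, Φ (compRep π i g x) = σ g (Φ x) := by
    rintro g ⟨x⟩
    rw [compRep_apply]
    show σ.asAlgebraHom (col _) v' = σ g (σ.asAlgebraHom (col x) v')
    rw [← σ.asAlgebraHom_single_one g, ← Module.End.mul_apply, ← map_mul]
    refine hcongr _ _ ?_
    rw [map_mul, hcol, hcol]
    funext j
    rcases eq_or_ne j i with rfl | hj
    · rw [Pi.mul_apply, Pi.single_eq_same, Pi.single_eq_same, Matrix.mul_vecMulVec]
    · rw [Pi.mul_apply, Pi.single_eq_of_ne hj, Pi.single_eq_of_ne hj, mul_zero]
  have hinj : Function.Injective Φ := by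
    rw [injective_iff_map_eq_zero]
    rintro ⟨x⟩ hx
    have h0 : (col x : MonoidAlgebra k H) • v = 0 :=
      σ.asModuleEquiv.map_eq_zero_iff.1 ((hact _).trans hx)
    have h1 := (SimpleCount.smul_eq_zero_iff hπ hN he hev hv _).1 h0
    rw [map_mul, hcol, he, ← Pi.single_mul, Matrix.vecMulVec_mul] at h1
    have h2 := congrFun h1 i
    rw [Pi.single_eq_same, Pi.zero_apply] at h2
    refine congrArg ULift.up (funext fun a => ?_)
    have h3 := congrFun (congrFun h2 a) 0
    simpa [Matrix.vecMulVec_apply, Matrix.vecMul, dotProduct, Matrix.single_apply] using h3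
  have hsurj : Function.Surjective Φ := by
    have hst : SimpleTrace.Stable σ (LinearMap.range Φ) := by
      rintro g _ ⟨x, rfl⟩
      exact ⟨_, hΦ g x⟩
    refine LinearMap.range_eq_top.1 ((hσ.2 _ hst).resolve_left fun h => hv'0 ?_)
    have h1 : Φ (ULift.up (Pi.single 0 1)) = v' := by
      show σ.asAlgebraHom (col _) v' = v'
      rw [← hact]
      show σ.asModuleEquiv _ = σ.asModuleEquiv v
      conv_rhs => rw [← hev]
      refine congrArg σ.asModuleEquiv (SimpleCount.smul_congr hN ?_ v)
      rw [hcol, he]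
      refine congrArg (Pi.single i) ?_
      ext a b
      rw [Matrix.vecMulVec_apply, Matrix.single_apply]
      show (Pi.single (0 : Fin (d i)) (1 : k) : Fin (d i) → k) a * (Pi.single (0 : Fin (d i)) (1 : k) : Fin (d i) → k) b = _
      rw [Pi.single_apply, Pi.single_apply]
      by_cases ha : a = 0 <;> by_cases hb : b = 0 <;> simp [ha, hb, Ne.symm, eq_comm]
    rw [← h1]
    exact LinearMap.mem_range_self Φ _ |> fun hm => (Submodule.mem_bot k).1 (h ▸ hm)
  let Ψ := LinearEquiv.ofBijective Φ ⟨hinj, hsurj⟩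
  refine ⟨i, ?_⟩
  rw [← traceFun_compRep π i]
  funext g
  show LinearMap.trace k W (σ g) = LinearMap.trace k _ (compRep π i g)
  rw [← LinearMap.trace_conj' (compRep π i g) Ψ]
  congr 1
  refine LinearMap.ext fun w => ?_
  obtain ⟨x, rfl⟩ := Ψ.surjective w
  rw [LinearEquiv.conj_apply_apply, LinearEquiv.symm_apply_apply]
  exact (hΦ g x).symm

end Family

/-- The traces of the simple modules over the residue field. -/
theorem exists_family {p : ℕ} [Fact p.Prime] {M : Ideal AlgInt} (hM : IsPModular p M)
    (H : Type u) [Group H] [Fintype H] :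
    ∃ (r : ℕ) (f : Fin r → H → Residue hM),
      r = Nat.card {c : ConjClasses H // ∃ g, ConjClasses.mk g = c ∧ (orderOf g).Coprime p} ∧
      (∀ i g h, f i (g * h * g⁻¹) = f i h) ∧
      (∀ a : Fin r → Residue hM, (∀ g, IsPRegular p g → ∑ i, a i * f i g = 0) → a = 0) ∧
      (∀ α : H ≃* H, ∃ τ : Equiv.Perm (Fin r), ∀ i g, f i (α g) = f (τ i) g) ∧
      ∀ e : MonoidAlgebra (Residue hM) H, (∀ a, e * a = a * e) → e * e = e → ∀ i,
        ∃ ω : Residue hM, (ω = 0 ∨ ω = 1) ∧ ∀ h, ∑ x, e.coeff x * f i (h * x) = ω * f i h := by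
  haveI := charP_residue hM
  haveI := isAlgClosed_residue hM
  haveI : Module.Finite (Residue hM) (MonoidAlgebra (Residue hM) H) :=
    Module.Finite.equiv (MonoidAlgebra.coeffLinearEquiv (Residue hM)).symm
  obtain ⟨r, d, hd, π, hπ, N, hN⟩ := exists_split (Residue hM) (MonoidAlgebra (Residue hM) H)
  haveI := hd
  have hall : ∀ (W : Type u) [AddCommGroup W] [Module (Residue hM) W] [FiniteDimensional (Residue hM) W]
      (σ : Representation (Residue hM) H W), SimpleTrace.Irr σ → ∃ i, SimpleTrace.traceFun σ = tr π i :=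
    fun W _ _ _ σ hσ => compRep_hall hπ hN σ hσ
  have hcard := SimpleTrace.card_eq_pRegular (G := H) (k := Residue hM) p
    (fun i => ULift.{u} (Fin (d i) → Residue hM)) (compRep π) (compRep_irr hπ) (compRep_hne hπ)
    fun W _ _ _ σ hσ => by
      obtain ⟨i, hi⟩ := hall W σ hσ
      exact ⟨i, hi.trans (traceFun_compRep π i).symm⟩
  rw [Fintype.card_fin] at hcard
  have hreg : ∀ g : H, ∃ y, IsPRegular p y ∧ ∀ i, tr π i g = tr π i y := by
    intro g
    obtain ⟨x, y, -, hxy, hc, hy, ⟨j, hj⟩, -, -⟩ := exists_isPPart (G := H) hM.1 g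
    refine ⟨y, hy, fun i => ?_⟩
    rw [← traceFun_compRep, ← hxy, hc.eq]
    exact SimpleTrace.traceFun_mul_pElem p _ hc.symm (n := j) (by rw [← hj, pow_orderOf_eq_one])
  have hind : ∀ a : Fin r → Residue hM, (∀ g, IsPRegular p g → ∑ i, a i * tr π i g = 0) → a = 0 := by
    intro a ha
    refine tr_independent hπ fun g => ?_
    obtain ⟨y, hy, he⟩ := hreg g
    rw [← ha y hy]
    exact Finset.sum_congr rfl fun i _ => by rw [he]
  have hinj : Function.Injective (tr π) := by
    intro i j hij
    by_contra hne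
    have := congrFun (tr_independent hπ (a := Pi.single i 1 - Pi.single j 1) fun g => by
      simp [sub_mul, Finset.sum_sub_distrib, Pi.single_apply, hij]) i
    simp [Pi.single_eq_of_ne hne] at this
  refine ⟨r, tr π, hcard, fun i g h => ?_, hind, fun α => ?_, fun e hec hee i => ?_⟩
  · rw [← traceFun_compRep]
    exact SimpleTrace.traceFun_conj _ _ _
  · have hex : ∀ i, ∃ j, (fun g => tr π i (α g)) = tr π j := fun i => by
      obtain ⟨hnt, hW⟩ := compRep_irr hπ i
      obtain ⟨j, hj⟩ := hall _ ((compRep π i).comp α.toMonoidHom) ⟨hnt, fun W hst => hW W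
        fun g x hx => by simpa using hst (α.symm g) x hx⟩
      refine ⟨j, Eq.trans ?_ hj⟩
      funext g
      rw [← traceFun_compRep]
      rfl
    choose τ hτ using hex
    have hτinj : Function.Injective τ := fun a b hab => hinj (funext fun g => by
      have := congrFun ((hτ a).trans (hab ▸ (hτ b).symm)) (α.symm g)
      simpa using this)
    exact ⟨Equiv.ofBijective τ (Finite.injective_iff_bijective.1 hτinj), fun i g => congrFun (hτ i) g⟩
  · have h01 := eq_zero_or_one hd hπ hec hee i
    refine ⟨(π e i) 0 0, ?_, fun h => ?_⟩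
    · rcases h01 with h | h <;> simp [h]
    · have e1 : ∑ x, e.coeff x * tr π i (h * x) = (π (MonoidAlgebra.single h 1 * e) i).trace := by
        rw [trace_apply]
        refine Fintype.sum_equiv (Equiv.mulLeft h) _ _ fun x => ?_
        simp [MonoidAlgebra.coeff_single_mul_apply]
      rw [e1, map_mul, Pi.mul_apply]
      rcases h01 with h0 | h0 <;> simp [h0, tr]

theorem isClassFunction_blockKernel_diag {H : Type u} [Group H] [Fintype H] (S : Set (IrrCharacter H))
    (α : H ≃* H) : IsClassFunction H fun h => blockKernel S h (α h) := by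
  intro h g
  show blockKernel S (g * h * g⁻¹) (α (g * h * g⁻¹)) = blockKernel S h (α h)
  rw [blockKernel_conj, map_mul, map_mul, map_inv]
  simp only [blockKernel, irr_conj_apply]

/-- An automorphism fixing a block idempotent has non-negative integral trace on the regular
functions of the block. -/
theorem exists_nat_trace {p : ℕ} [Fact p.Prime] {M : Ideal AlgInt} (hM : IsPModular p M)
    {H : Type u} [Group H] [Fintype H] {S : Set (IrrCharacter H)}
    (hS : IsLocalOn M (⊤ : Subgroup H) (blockInd S)) (α : H ≃* H)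
    (hα : ∀ h, blockCoeff S (α h) = blockCoeff S h) :
    ∃ n : ℕ, ∑ h : H with IsPRegular p h, blockKernel S h (α h) = (Nat.card H : ℂ) * (n : ℂ) := by
  obtain ⟨r, f, hr, hfc, hfi, hfa, hfe⟩ := exists_family hM H
  obtain ⟨τ, hτ⟩ := hfa α
  -- representatives of the regular classes
  set C := {c : ConjClasses H // ∃ g, ConjClasses.mk g = c ∧ (orderOf g).Coprime p}
  let e0 : Fin r ≃ C := (finCongr hr).trans (Finite.equivFin C).symm
  choose x hx hxp using fun c : C => c.2
  let y : Fin r → H := fun a => x (e0 a)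
  have hy : ∀ a, IsPRegular p (y a) := fun a =>
    (hM.1.coprime_iff_not_dvd).1 (hxp (e0 a)).symm
  -- every regular element is conjugate to exactly one representative
  let idx : {h : H // IsPRegular p h} → Fin r := fun h =>
    e0.symm ⟨ConjClasses.mk (h : H), h, rfl, ((hM.1.coprime_iff_not_dvd).2 h.2).symm⟩
  have hidx : ∀ h, ConjClasses.mk (y (idx h)) = ConjClasses.mk (h : H) := fun h => by
    show ConjClasses.mk (x (e0 (e0.symm _))) = _
    rw [Equiv.apply_symm_apply, hx]
  let cnt : Fin r → ℕ := fun a =>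
    (Finset.univ.filter fun h : {h : H // IsPRegular p h} => idx h = a).card
  have hsum : ∀ F : H → ℂ, IsClassFunction H F →
      ∑ h : H with IsPRegular p h, F h = ∑ a, (cnt a : ℂ) * F (y a) := by
    intro F hF
    rw [Finset.sum_subtype _ (p := fun h => IsPRegular p h) (fun h => by simp),
      ← Finset.sum_fiberwise Finset.univ idx]
    refine Finset.sum_congr rfl fun a _ => ?_
    rw [Finset.sum_congr rfl (g := fun _ => F (y a)) fun h hh => ?_, Finset.sum_const, nsmul_eq_mul]
    obtain rfl := (Finset.mem_filter.1 hh).2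
    obtain ⟨g, hg⟩ := isConj_iff.1 (ConjClasses.mk_eq_mk_iff_isConj.1 (hidx h))
    rw [← hg, hF]
  -- the idempotent
  have hLR : ∀ h, MemLocalRing M (blockCoeff S h) := fun h => by
    rw [blockCoeff_eq_fourierInv]; exact (hS h).1
  set e := toResAlg hM (fun h => blockCoeff S h) with he
  have hec : ∀ a, e * a = a * e :=
    fun a => commute_toResAlg_of_classFunction (blockCoeff_isClassFunction S) a
  have hee : e * e = e := by
    rw [he, ← toResAlg_mul hM hLR hLR]
    congr 1
    funext g
    rw [blockCoeff_conv, Set.inter_self]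
  choose ω hω01 hω using hfe e hec hee
  -- the lifts
  let β : Fin r → H → ℂ := fun i h => sec hM (f i h)
  have hβc : ∀ i, IsClassFunction H (β i) := fun i h g => by simp only [β, hfc]
  have hβa : ∀ i g, β i (α g) = β (τ i) g := fun i g => by simp only [β, hτ]
  let P : (H → ℂ) → H → ℂ := fun ϑ h => ∑ k, blockCoeff S k * ϑ (h * k)
  have hPb : ∀ ϑ, IsClassFunction H ϑ → blockPart S ϑ = P ϑ := fun ϑ hϑ =>
    funext (blockPart_eq_conv S hϑ)
  have hPc : ∀ ϑ, IsClassFunction H ϑ → IsClassFunction H (P ϑ) := fun ϑ hϑ h g => by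
    refine (Fintype.sum_equiv (MulAut.conj g).toEquiv _ _ fun k => ?_).symm
    show _ = blockCoeff S (g * k * g⁻¹) * ϑ (g * h * g⁻¹ * (g * k * g⁻¹))
    rw [show blockCoeff S (g * k * g⁻¹) = blockCoeff S k from blockCoeff_isClassFunction S k g,
      show g * h * g⁻¹ * (g * k * g⁻¹) = g * (h * k) * g⁻¹ by group, hϑ]
  have hPP : ∀ ϑ, IsClassFunction H ϑ → P (P ϑ) = P ϑ := fun ϑ hϑ => by
    rw [← hPb _ (hPc ϑ hϑ), ← hPb ϑ hϑ, blockPart_blockPart]
  have hPa : ∀ (ϑ : H → ℂ) h, P ϑ (α h) = P (fun g => ϑ (α g)) h := fun ϑ h => by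
    refine (Fintype.sum_equiv α.toEquiv _ _ fun k => ?_).symm
    show _ = blockCoeff S (α k) * ϑ (α h * α k)
    rw [hα, ← map_mul]
  have hPsub : ∀ (ϑ η : H → ℂ) h, P (fun g => ϑ g - η g) h = P ϑ h - P η h := fun ϑ η h => by
    simp only [P, mul_sub, Finset.sum_sub_distrib]
  -- the idempotent commutes with `α`
  have hωτ : ∀ i, ω (τ i) = ω i := by
    intro i
    have h1 : ∀ h, (ω (τ i) - ω i) * f (τ i) h = 0 := by
      intro h
      have h2 := hω i (α h)
      have h3 : ∑ k, e.coeff k * f i (α h * k) = ∑ k, e.coeff k * f (τ i) (h * k) := by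
        refine (Fintype.sum_equiv α.toEquiv _ _ fun k => ?_).symm
        show _ = e.coeff (α k) * f i (α h * α k)
        rw [← map_mul, hτ, he, coeff_toResAlg, coeff_toResAlg, hα]
      rw [h3, hω (τ i) h, hτ] at h2
      rw [sub_mul, h2, sub_self]
    by_contra hne
    have h0 : ∀ h, f (τ i) h = 0 := fun h =>
      (mul_eq_zero.1 (h1 h)).resolve_left (sub_ne_zero.2 hne)
    have := congrFun (hfi (Pi.single (τ i) 1) fun g _ => by simp [Pi.single_apply, h0]) (τ i)
    simp at this
  let β' : Fin r → H → ℂ := fun i => if ω i = 1 then P (β i) else fun h => β i h - P (β i) h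
  have hβ'c : ∀ i, IsClassFunction H (β' i) := fun i => by
    by_cases h : ω i = 1
    · simp only [β', if_pos h]; exact hPc _ (hβc i)
    · simp only [β', if_neg h]
      intro g z
      show β i (z * g * z⁻¹) - P (β i) (z * g * z⁻¹) = _
      rw [hβc i g z, hPc _ (hβc i) g z]
  have hβ'α : ∀ i h, P (β' i) (α h) = if ω i = 1 then β' (τ i) h else 0 := by
    intro i h
    by_cases hi : ω i = 1
    · simp only [β', if_pos hi, if_pos ((hωτ i).trans hi)]
      rw [hPP _ (hβc i), hPa]
      exact congrFun (congrArg P (funext (hβa i))) h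
    · simp only [β', if_neg hi]
      rw [hPsub, hPP _ (hβc i), sub_self]
  -- the matrix of values
  let Nm : Matrix (Fin r) (Fin r) ℂ := Matrix.of fun a i => β' i (y a)
  have hPLR : ∀ i h, MemLocalRing M (P (β i) h) := fun i h =>
    LR.sum hM fun k _ => LR.mul hM (hLR k) (sec_LR hM _)
  have hres : ∀ i h, resid hM (P (β i) h) = ω i * f i h := fun i h => by
    rw [← hω i h, resid_sum hM _ fun k _ => LR.mul hM (hLR k) (sec_LR hM _)]
    refine Finset.sum_congr rfl fun k _ => ?_
    rw [resid_mul hM (hLR k) (sec_LR hM _), resid_sec, he, coeff_toResAlg]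
  have hNLR : ∀ a i, MemLocalRing M (Nm a i) := fun a i => by
    show MemLocalRing M (β' i (y a))
    by_cases h : ω i = 1
    · simp only [β', if_pos h]; exact hPLR i _
    · simp only [β', if_neg h]; exact LR.sub hM (sec_LR hM _) (hPLR i _)
  have hNres : ∀ a i, resid hM (Nm a i) = f i (y a) := fun a i => by
    show resid hM (β' i (y a)) = _
    by_cases h : ω i = 1
    · simp only [β', if_pos h]
      rw [hres, h, one_mul]
    · simp only [β', if_neg h]
      have h0 : ω i = 0 := (hω01 i).resolve_right h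
      rw [sub_eq_add_neg, resid_add hM (sec_LR hM _) (LR.neg (hPLR i _)), resid_sec,
        resid_eq_zero hM (LI.neg ((resid_eq_zero_iff hM (hPLR i _)).1 (by rw [hres, h0, zero_mul]))),
        add_zero]
  have hdet : Nm.det ≠ 0 := by
    intro h0
    let Y : Matrix (Fin r) (Fin r) (localSubring hM) := fun a i => ⟨Nm a i, hNLR a i⟩
    have hYd : Y.det = 0 := Subtype.ext
      ((RingHom.map_det (localSubring hM).subtype Y).trans h0)
    have hY0 : (Y.map (Ideal.Quotient.mk (localMaxIdeal hM))).det = 0 := by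
      rw [← RingHom.mapMatrix_apply, ← RingHom.map_det, hYd, map_zero]
    obtain ⟨v, hv, hmv⟩ := Matrix.exists_mulVec_eq_zero_iff.2 hY0
    refine hv (hfi v fun g hg => ?_)
    obtain ⟨c, hc⟩ := isConj_iff.1 (ConjClasses.mk_eq_mk_iff_isConj.1 (hidx ⟨g, hg⟩))
    have h1 := congrFun hmv (idx ⟨g, hg⟩)
    rw [Matrix.mulVec, dotProduct] at h1
    refine Eq.trans (Finset.sum_congr rfl fun i _ => ?_) h1
    rw [Matrix.map_apply, ← resid_mk]
    show v i * f i g = resid hM (Nm _ i) * v i
    rw [hNres, mul_comm]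
    refine congrArg (· * v i) ?_
    exact (congrArg (f i) hc).symm.trans (hfc i c _)
  -- the trace
  let A : Matrix (Fin r) (Fin r) ℂ := Matrix.of fun a b =>
    (Nat.card H : ℂ)⁻¹ * ((cnt b : ℂ) * blockKernel S (y b) (α (y a)))
  let Q : Matrix (Fin r) (Fin r) ℂ := Matrix.of fun i j => if ω j = 1 ∧ i = τ j then 1 else 0
  have hαreg : ∀ h, IsPRegular p h → ¬ p ∣ orderOf (α h) := fun h hh => by
    rwa [MulEquiv.orderOf_eq]
  have hAN : A * Nm = Nm * Q := by
    ext a j
    have h1 : (A * Nm) a j = P (β' j) (α (y a)) := by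
      rw [← hPb _ (hβ'c j), blockPart_eq_sum_regular hM hS _ (hαreg _ (hy a)),
        hsum (fun c => β' j c * blockKernel S c (α (y a))) (fun c g => by
          show β' j (g * c * g⁻¹) * _ = _
          rw [hβ'c j c g, blockKernel_conj]),
        Finset.mul_sum, Matrix.mul_apply]
      refine Finset.sum_congr rfl fun b _ => ?_
      simp only [A, Nm, Matrix.of_apply]
      ring
    rw [h1, hβ'α, Matrix.mul_apply]
    by_cases hj : ω j = 1
    · simp [Q, Nm, hj]
    · simp [Q, hj]
  have hu : IsUnit Nm.det := isUnit_iff_ne_zero.2 hdet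
  have hAQ : A.trace = Q.trace := by
    have : A = Nm * Q * Nm⁻¹ := by rw [← hAN, Matrix.mul_nonsing_inv_cancel_right _ _ hu]
    rw [this, Matrix.trace_mul_comm, Matrix.nonsing_inv_mul_cancel_left _ _ hu]
  refine ⟨(Finset.univ.filter fun i => ω i = 1 ∧ i = τ i).card, ?_⟩
  have hQ : Q.trace = ((Finset.univ.filter fun i => ω i = 1 ∧ i = τ i).card : ℂ) := by
    simp only [Matrix.trace, Matrix.diag_apply, Q, Matrix.of_apply, Finset.sum_boole]
  rw [← hQ, ← hAQ, hsum _ (isClassFunction_blockKernel_diag S α), Matrix.trace, Finset.mul_sum]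
  refine Finset.sum_congr rfl fun a _ => ?_
  simp only [A, Matrix.diag_apply, Matrix.of_apply]
  rw [mul_inv_cancel_left₀ CfsgLib.Char.card_ne_zero]

end CfsgLib.Blocks.RegularBasis
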