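import Cfsg.Agent.Lib.Blocks.BrauerHom
import Mathlib.Algebra.MonoidAlgebra.MapDomain

/-!
# The centre of the group algebra over the residue field

`toResAlg` reduces local integral functions to the group algebra over the residue field at `M`;
`redChar` does the same for central elements given by their central character values.
-/

set_option autoImplicit false

namespace CfsgLib.Blocks.ResidueAlgebra

open Cfsg
open scoped Classical

variable {p : ℕ} {M : Ideal AlgInt} (hM : IsPModular p M)

/-- The residue field at `M`. -/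
abbrev Residue : Type _ := localSubring hM ⧸ localMaxIdeal hM

/-- Reduction of local integers. -/
noncomputable def resid (z : ℂ) : Residue hM :=
  if h : MemLocalRing M z then Ideal.Quotient.mk (localMaxIdeal hM) ⟨z, h⟩ else 0

theorem resid_mk (x : localSubring hM) :
    resid hM (x : ℂ) = Ideal.Quotient.mk (localMaxIdeal hM) x := dif_pos x.2

theorem resid_zero : resid hM 0 = 0 := by
  simpa using resid_mk hM 0

theorem resid_one : resid hM 1 = 1 := by
  simpa using resid_mk hM 1

theorem resid_add {x y : ℂ} (hx : MemLocalRing M x) (hy : MemLocalRing M y) :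
    resid hM (x + y) = resid hM x + resid hM y := by
  have := resid_mk hM (⟨x, hx⟩ + ⟨y, hy⟩)
  rw [map_add, ← resid_mk, ← resid_mk] at this
  exact this

theorem resid_mul {x y : ℂ} (hx : MemLocalRing M x) (hy : MemLocalRing M y) :
    resid hM (x * y) = resid hM x * resid hM y := by
  have := resid_mk hM (⟨x, hx⟩ * ⟨y, hy⟩)
  rw [map_mul, ← resid_mk, ← resid_mk] at this
  exact this

theorem resid_sum {ι : Type*} (s : Finset ι) {f : ι → ℂ} (hf : ∀ i ∈ s, MemLocalRing M (f i)) :
    resid hM (∑ i ∈ s, f i) = ∑ i ∈ s, resid hM (f i) := by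
  induction s using Finset.induction_on with
  | empty => simpa using resid_zero hM
  | insert a s ha ih =>
    have hs := fun i hi => hf i (Finset.mem_insert_of_mem hi)
    rw [Finset.sum_insert ha, Finset.sum_insert ha,
      resid_add hM (hf a (Finset.mem_insert_self a s)) (LR.sum hM hs), ih hs]

theorem resid_eq_zero_iff {x : ℂ} (hx : MemLocalRing M x) :
    resid hM x = 0 ↔ MemLocalIdeal M x := by
  rw [resid, dif_pos hx, Ideal.Quotient.eq_zero_iff_mem]
  rfl

theorem resid_eq_zero {x : ℂ} (hx : MemLocalIdeal M x) : resid hM x = 0 :=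
  (resid_eq_zero_iff hM (LI.memLocalRing hx)).2 hx

/-- A lift of a residue. -/
noncomputable def sec (a : Residue hM) : ℂ :=
  if a = 0 then 0 else ((Function.surjInv Ideal.Quotient.mk_surjective a : localSubring hM) : ℂ)

theorem sec_LR (a : Residue hM) : MemLocalRing M (sec hM a) := by
  unfold sec; split
  · exact LR.zero hM
  · exact (Function.surjInv Ideal.Quotient.mk_surjective a : localSubring hM).2

theorem resid_sec (a : Residue hM) : resid hM (sec hM a) = a := by
  unfold sec; split
  · rename_i h; rw [h, resid_zero]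
  · rw [resid_mk, Function.surjInv_eq Ideal.Quotient.mk_surjective]

set_option linter.unusedSectionVars false

variable {H : Type*} [Group H] [Fintype H]

/-- Reduction of a function to the group algebra over the residue field. -/
noncomputable def toResAlg (f : H → ℂ) : MonoidAlgebra (Residue hM) H :=
  MonoidAlgebra.ofCoeff (Finsupp.equivFunOnFinite.symm fun h => resid hM (f h))

theorem coeff_toResAlg (f : H → ℂ) (h : H) : (toResAlg hM f).coeff h = resid hM (f h) := by
  simp [toResAlg]

theorem ext_coeff {R : Type*} [Semiring R] {x y : MonoidAlgebra R H}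
    (h : ∀ g, x.coeff g = y.coeff g) : x = y :=
  MonoidAlgebra.coeff_inj.1 (Finsupp.ext h)

theorem coeff_mul_sum {R : Type*} [Semiring R] (x y : MonoidAlgebra R H) (g : H) :
    (x * y).coeff g = ∑ a, x.coeff a * y.coeff (a⁻¹ * g) := by
  rw [MonoidAlgebra.coeff_mul_apply_left, Finsupp.sum_fintype]
  simp

theorem toResAlg_mul {f g : H → ℂ} (hf : ∀ x, MemLocalRing M (f x)) (hg : ∀ x, MemLocalRing M (g x)) :
    toResAlg hM (fun c => ∑ x, f x * g (x⁻¹ * c)) = toResAlg hM f * toResAlg hM g := by
  refine ext_coeff fun c => ?_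
  rw [coeff_mul_sum, coeff_toResAlg, resid_sum hM _ fun x _ => LR.mul hM (hf _) (hg _)]
  exact Finset.sum_congr rfl fun x _ => by rw [resid_mul hM (hf _) (hg _), coeff_toResAlg, coeff_toResAlg]

theorem toResAlg_eq_zero_iff {f : H → ℂ} (hf : ∀ x, MemLocalRing M (f x)) :
    toResAlg hM f = 0 ↔ ∀ x, MemLocalIdeal M (f x) := by
  constructor
  · intro h x
    rw [← resid_eq_zero_iff hM (hf x), ← coeff_toResAlg, h]
    simp
  · intro h
    refine ext_coeff fun g => ?_
    rw [coeff_toResAlg, resid_eq_zero hM (h g)]
    simp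

theorem toResAlg_congr {f g : H → ℂ} (hf : ∀ x, MemLocalRing M (f x))
    (h : ∀ x, MemLocalIdeal M (f x - g x)) : toResAlg hM f = toResAlg hM g := by
  refine ext_coeff fun x => ?_
  have hg : MemLocalRing M (g x) := by
    have := LR.sub hM (hf x) (LI.memLocalRing (h x))
    rwa [sub_sub_cancel] at this
  have := resid_eq_zero hM (h x)
  rw [coeff_toResAlg, coeff_toResAlg, sub_eq_add_neg, resid_add hM (hf x) (LR.neg hg)] at *
  have e : resid hM (g x) + resid hM (-g x) = 0 := by
    rw [← resid_add hM hg (LR.neg hg), add_neg_cancel, resid_zero]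
  exact add_right_cancel (this.trans e.symm)

/-- Reduction of the central element with central character values `F`. -/
noncomputable def redChar (F : IrrCharacter H → ℂ) : MonoidAlgebra (Residue hM) H :=
  toResAlg hM (fourierInv F)

variable {hM}

theorem redChar_mul {F F' : IrrCharacter H → ℂ} (hF : IsLocalOn M (⊤ : Subgroup H) F)
    (hF' : IsLocalOn M (⊤ : Subgroup H) F') :
    redChar hM (fun ψ => F ψ * F' ψ) = redChar hM F * redChar hM F' := by
  rw [redChar, redChar, redChar, ← toResAlg_mul hM (fun x => (hF x).1) fun x => (hF' x).1]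
  congr 1
  funext g
  exact (fourierInv_mul F F' g).symm

theorem redChar_one : redChar hM (fun _ : IrrCharacter H => (1 : ℂ)) = 1 := by
  refine ext_coeff fun g => ?_
  rw [redChar, coeff_toResAlg, fourierInv_one, MonoidAlgebra.one_def, MonoidAlgebra.coeff_single,
    Finsupp.single_apply]
  by_cases h : g = 1
  · simp [h, resid_one]
  · simp only [if_neg (Ne.symm h), if_neg h, resid_zero]

theorem redChar_pow {F : IrrCharacter H → ℂ} (hF : IsLocalOn M (⊤ : Subgroup H) F) (n : ℕ) :
    IsLocalOn M (⊤ : Subgroup H) (fun ψ => F ψ ^ n) ∧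
      redChar hM (fun ψ => F ψ ^ n) = redChar hM F ^ n := by
  induction n with
  | zero => simpa using ⟨IsLocalOn.one hM, redChar_one (hM := hM) (H := H)⟩
  | succ n ih =>
    simp only [pow_succ]
    exact ⟨IsLocalOn.mul hM ih.1 hF, by rw [redChar_mul ih.1 hF, ih.2]⟩

theorem redChar_omega {f : H → ℂ} (hf : IsClassFunction H f) :
    redChar hM (fun ψ : IrrCharacter H => omega (ψ : H → ℂ) f) = toResAlg hM f := by
  rw [redChar, fourierInv_omega hf]

theorem redChar_zero : redChar hM (fun _ : IrrCharacter H => (0 : ℂ)) = 0 := by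
  refine ext_coeff fun g => ?_
  rw [redChar, coeff_toResAlg]
  simp [fourierInv, resid_zero]

/-- A central element killed in the residue algebra has central character values in the local
ideal. -/
theorem LI_of_redChar_eq_zero {F : IrrCharacter H → ℂ} (hF : IsLocalOn M (⊤ : Subgroup H) F)
    (h : redChar hM F = 0) (ψ : IrrCharacter H) : MemLocalIdeal M (F ψ) := by
  rw [← omega_fourierInv ψ F]
  exact omega_LI hM ψ (fourierInv_isClassFunction F)
    ((toResAlg_eq_zero_iff hM fun x => (hF x).1).1 h)

theorem commute_toResAlg_of_classFunction {f : H → ℂ} (hf : IsClassFunction H f)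
    (x : MonoidAlgebra (Residue hM) H) : Commute (toResAlg hM f) x := by
  refine ext_coeff fun g => ?_
  rw [coeff_mul_sum, coeff_mul_sum]
  refine Fintype.sum_equiv ((Equiv.inv H).trans (Equiv.mulRight g)) _ _ fun a => ?_
  simp only [Equiv.trans_apply, Equiv.inv_apply, Equiv.coe_mulRight, coeff_toResAlg]
  rw [mul_comm]
  congr 2
  rw [← hf a (a⁻¹ * g)⁻¹]
  congr 1
  group

end CfsgLib.Blocks.ResidueAlgebra
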