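import Cfsg.Agent.Lib.Blocks.Local
import Cfsg.Agent.Lib.Blocks.Parts
import Cfsg.Agent.Lib.CharDeep.CentralTrick

/-!
# Characters of defect zero over a central `p`-subgroup
-/

set_option autoImplicit false

namespace CfsgLib.Blocks

open Cfsg
open scoped Classical ComplexConjugate

variable {G : Type*} [Group G] [Fintype G] {p : ℕ} {M : Ideal AlgInt}

theorem regInner_self_eq (χ : IrrCharacter G) :
    regInner p (χ : G → ℂ) (χ : G → ℂ)
      = (((pPartCard p G : ℝ) * (Nat.card G : ℝ)⁻¹ *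
          ∑ x : G with IsPRegular p x, Complex.normSq ((χ : G → ℂ) x) : ℝ) : ℂ) := by
  rw [regInner]
  push_cast
  congr 1
  exact Finset.sum_congr rfl fun x _ => by rw [← conj_irr, Complex.mul_conj]

theorem sum_normSq_irr (χ : IrrCharacter G) :
    ∑ x : G, Complex.normSq ((χ : G → ℂ) x) = (Nat.card G : ℝ) := by
  apply Complex.ofReal_injective
  push_cast
  have h := sum_mul_inv χ χ
  rw [if_pos rfl] at h
  rw [← h]
  exact Finset.sum_congr rfl fun x _ => by rw [← conj_irr, Complex.mul_conj]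

theorem defectGroup_and_vanish_of_central (hM : IsPModular p M) {D : Subgroup G}
    (hD : IsPGroup p D) (hDZ : D ≤ Subgroup.center G) (χ : IrrCharacter G)
    (hdeg : degVal p χ = D.index.factorization p) :
    IsDefectGroup p M (blockOf M (χ : G → ℂ)) D ∧
      ∀ g x : G, IsPPart p g x → x ∉ D → (χ : G → ℂ) g = 0 := by
  haveI := Fact.mk hM.1
  set R : Finset G := Finset.univ.filter fun x => IsPRegular p x
  set f : G → ℝ := fun x => Complex.normSq ((χ : G → ℂ) x)
  have hpp : ∀ z ∈ D, ∀ s ∈ R, IsPPart p (z * s) z := by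
    intro z hz s hs
    obtain ⟨k, hk⟩ := IsPGroup.iff_orderOf.1 hD ⟨z, hz⟩
    rw [Subgroup.orderOf_mk] at hk
    exact isPPart_mul (Subgroup.mem_center_iff.1 (hDZ hz) s).symm hk (Finset.mem_filter.1 hs).2
  set T : Finset G := ((Finset.univ.filter fun z => z ∈ D) ×ˢ R).image fun i => i.1 * i.2
  have hinj : Set.InjOn (fun i : G × G => i.1 * i.2)
      ↑((Finset.univ.filter fun z => z ∈ D) ×ˢ R) := by
    intro i hi j hj he
    simp only [Finset.coe_product, Set.mem_prod, Finset.mem_coe, Finset.mem_filter,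
      Finset.mem_univ, true_and] at hi hj he
    have h1 := isPPart_unique hM.1 (hpp _ hi.1 _ hi.2) (he ▸ hpp _ hj.1 _ hj.2)
    refine Prod.ext h1 ?_
    rw [← h1] at he
    exact mul_left_cancel he
  have hshift : ∀ z ∈ D, ∀ s, f (z * s) = f s := by
    intro z hz s
    obtain ⟨c, hc, -⟩ := CfsgLib.CharDeep.CentralTrick.exists_scalar_center χ.2 (hDZ hz)
    obtain ⟨c', hc', -⟩ :=
      CfsgLib.CharDeep.CentralTrick.exists_scalar_center χ.2 (hDZ (inv_mem hz))
    have hcc : c' * c = 1 := by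
      have h := hc' (1 * z)
      rw [hc 1, one_mul, mul_inv_cancel, ← mul_assoc] at h
      exact (mul_eq_right₀ (irr_one_ne_zero χ)).1 h.symm
    have e : ((f (z * s) : ℝ) : ℂ) = (f s : ℂ) := by
      simp only [f, ← Complex.mul_conj, conj_irr]
      rw [(Subgroup.mem_center_iff.1 (hDZ hz) s).symm, hc s, mul_inv_rev,
        ← Subgroup.mem_center_iff.1 (hDZ (inv_mem hz)) s⁻¹, hc']
      linear_combination ((χ : G → ℂ) s * (χ : G → ℂ) s⁻¹) * hcc
    exact_mod_cast e
  have hT : ∑ g ∈ T, f g = (Nat.card D : ℝ) * ∑ s ∈ R, f s := by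
    rw [Finset.sum_image hinj, Finset.sum_product,
      Finset.sum_congr rfl (fun z hz => Finset.sum_congr rfl fun s _ =>
        hshift z (Finset.mem_filter.1 hz).2 s), Finset.sum_const, nsmul_eq_mul,
      ← Fintype.card_subtype, Nat.card_eq_fintype_card]
  set N := regInt p χ χ
  set m := degVal p χ
  have hN : (N : ℝ) = (pPartCard p G : ℝ) * (Nat.card G : ℝ)⁻¹ * ∑ s ∈ R, f s := by
    have h := cast_regInt (p := p) hM.1 χ χ
    rw [regInner_self_eq] at h
    exact_mod_cast h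
  have hG : (0 : ℝ) < Nat.card G := Nat.cast_pos.2 Nat.card_pos
  have hq : pPartCard p G = Nat.card D * p ^ m := by
    obtain ⟨k, hk⟩ := IsPGroup.iff_card.1 hD
    rw [pPartCard, hk, ← pow_add, hdeg]
    congr 1
    rw [← Subgroup.card_mul_index D, hk, Nat.factorization_mul (pow_ne_zero _ hM.1.ne_zero)
      Subgroup.index_ne_zero_of_finite, Finsupp.add_apply, Nat.Prime.factorization_pow hM.1,
      Finsupp.single_eq_same]
  have hsum : ∑ g ∈ T, f g + ∑ g ∈ Tᶜ, f g = (Nat.card G : ℝ) := by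
    rw [Finset.sum_add_sum_compl]; exact sum_normSq_irr χ
  have hpos : 0 < (N : ℝ) := by
    rw [hN]
    refine mul_pos (mul_pos (Nat.cast_pos.2 (pow_pos hM.1.pos _)) (inv_pos.2 hG)) ?_
    refine Finset.sum_pos' (fun s _ => Complex.normSq_nonneg _) ⟨1, ?_, ?_⟩
    · exact Finset.mem_filter.2 ⟨Finset.mem_univ _, by simp [IsPRegular, hM.1.ne_one]⟩
    · exact Complex.normSq_pos.2 (irr_one_ne_zero χ)
  have hdvd := (regInt_mod hM χ χ).1
  have hge : (p : ℤ) ^ m ≤ N := Int.le_of_dvd (by exact_mod_cast hpos) hdvd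
  have hge' : (p : ℝ) ^ m ≤ (N : ℝ) := by exact_mod_cast hge
  -- compare with the whole sum
  have hcomp : (Nat.card D : ℝ) * (N : ℝ) * (Nat.card G : ℝ)
      + (Nat.card D : ℝ) * (p : ℝ) ^ m * ∑ g ∈ Tᶜ, f g
      = (Nat.card D : ℝ) * (p : ℝ) ^ m * (Nat.card G : ℝ) := by
    have hq' : (pPartCard p G : ℝ) = (Nat.card D : ℝ) * (p : ℝ) ^ m := by exact_mod_cast hq
    conv_rhs => rw [← hsum, hT]
    rw [hN, hq']
    field_simp
  have hD0 : (0 : ℝ) < Nat.card D := Nat.cast_pos.2 Nat.card_pos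
  have hrest0 : 0 ≤ ∑ g ∈ Tᶜ, f g := Finset.sum_nonneg fun g _ => Complex.normSq_nonneg _
  have hpm : (0 : ℝ) < (p : ℝ) ^ m := pow_pos (Nat.cast_pos.2 hM.1.pos) m
  have hrest : ∑ g ∈ Tᶜ, f g = 0 := by
    by_contra hne
    have h1 : 0 < ∑ g ∈ Tᶜ, f g := lt_of_le_of_ne hrest0 (Ne.symm hne)
    nlinarith [mul_le_mul_of_nonneg_left hge' (mul_nonneg hD0.le hG.le),
      mul_pos (mul_pos hD0 hpm) h1]
  have hNm : N = (p : ℤ) ^ m := by
    rw [hrest, mul_zero, add_zero] at hcomp
    have h1 := mul_right_cancel₀ hG.ne' hcomp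
    have h2 := mul_left_cancel₀ hD0.ne' h1
    exact_mod_cast h2
  refine ⟨?_, fun g x hx hxD => ?_⟩
  · set B := blockOf M (χ : G → ℂ)
    have hB : IsPBlock M B := isPBlock_blockOf χ
    have hχ : χ ∈ B := SameBlock_refl hM _
    have h0 : m = minDegVal p B := by
      by_contra hne
      have := regInt_dvd_of_pos hM hB hχ (lt_of_le_of_ne (minDegVal_le hχ) (Ne.symm hne)) hχ
      rw [show regInt p χ χ = (p : ℤ) ^ m from hNm] at this
      have h2 := Int.le_of_dvd (pow_pos (Int.natCast_pos.2 hM.1.pos) _) this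
      have h3 : (p : ℤ) ^ m < (p : ℤ) ^ (m + 1) :=
        pow_lt_pow_right₀ (by exact_mod_cast hM.1.one_lt) (Nat.lt_succ_self m)
      change (p : ℤ) ^ (m + 1) ≤ (p : ℤ) ^ m at h2
      omega
    haveI hn : D.Normal := ⟨fun n hn g => by
      rw [Subgroup.mem_center_iff.1 (hDZ hn) g, mul_inv_cancel_right]; exact hn⟩
    obtain ⟨E, hE⟩ := exists_isDefectGroup hM hB
    have hle : D ≤ E := le_defectGroup_of_normal hM hB hD hE
    have hED : D = E := by
      refine Subgroup.eq_of_le_of_card_ge hle (le_of_eq ?_)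
      have := blockDefect_add_min (p := p) (IsPBlock.nonempty hM hB)
      rw [← h0] at this
      rw [card_defectGroup hM hB hE]
      apply Nat.eq_of_mul_eq_mul_right (pow_pos hM.1.pos m)
      rw [← hq, pPartCard, ← pow_add, this]
    rwa [hED]
  · have hgT : g ∈ Tᶜ := by
      rw [Finset.mem_compl]
      intro hg
      obtain ⟨⟨z, s⟩, hzs, rfl⟩ := Finset.mem_image.1 hg
      simp only [Finset.mem_product, Finset.mem_filter, Finset.mem_univ, true_and] at hzs
      exact hxD (isPPart_unique hM.1 hx (hpp z hzs.1 s hzs.2) ▸ hzs.1)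
    have := (Finset.sum_eq_zero_iff_of_nonneg fun g _ => Complex.normSq_nonneg _).1 hrest g hgT
    exact Complex.normSq_eq_zero.1 this

end CfsgLib.Blocks
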