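import Cfsg.Prelude.Def_Blocks
import Mathlib.RingTheory.RootsOfUnity.Complex
import Mathlib.RingTheory.Ideal.Quotient.Operations
import Mathlib.Algebra.CharP.Lemmas
import Mathlib.Algebra.CharP.Quotient

/-!
# The local ring of the algebraic integers at a maximal ideal over `p`

Closure properties of `Cfsg.MemLocalRing` and `Cfsg.MemLocalIdeal`.
-/

namespace CfsgLib.Blocks

open Cfsg

variable {p : ℕ} {M : Ideal AlgInt}

theorem isPrime (hM : IsPModular p M) : M.IsPrime := hM.2.1.isPrime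

theorem one_notMem (hM : IsPModular p M) : (1 : AlgInt) ∉ M :=
  (Ideal.ne_top_iff_one M).1 (isPrime hM).ne_top

theorem coe_ne_zero_of_notMem {b : AlgInt} (hb : b ∉ M) : (b : ℂ) ≠ 0 := by
  intro h
  exact hb (by rw [show b = 0 from Subtype.ext h]; exact M.zero_mem)

namespace LR

theorem of_algInt (hM : IsPModular p M) (a : AlgInt) : MemLocalRing M (a : ℂ) :=
  ⟨a, 1, one_notMem hM, by simp⟩

theorem of_isIntegral (hM : IsPModular p M) {z : ℂ} (hz : IsIntegral ℤ z) : MemLocalRing M z :=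
  of_algInt hM ⟨z, hz⟩

theorem intCast (hM : IsPModular p M) (n : ℤ) : MemLocalRing M (n : ℂ) := by
  simpa using of_algInt hM (n : AlgInt)

theorem natCast (hM : IsPModular p M) (n : ℕ) : MemLocalRing M (n : ℂ) := by
  simpa using intCast hM (n : ℤ)

theorem zero (hM : IsPModular p M) : MemLocalRing M 0 := by simpa using natCast hM 0

theorem one (hM : IsPModular p M) : MemLocalRing M 1 := by simpa using natCast hM 1

theorem mul (hM : IsPModular p M) {x y : ℂ} (hx : MemLocalRing M x) (hy : MemLocalRing M y) :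
    MemLocalRing M (x * y) := by
  obtain ⟨a, b, hb, rfl⟩ := hx
  obtain ⟨c, d, hd, rfl⟩ := hy
  exact ⟨a * c, b * d, fun h => ((isPrime hM).mem_or_mem h).elim hb hd, by
    simp [div_mul_div_comm]⟩

theorem add (hM : IsPModular p M) {x y : ℂ} (hx : MemLocalRing M x) (hy : MemLocalRing M y) :
    MemLocalRing M (x + y) := by
  obtain ⟨a, b, hb, rfl⟩ := hx
  obtain ⟨c, d, hd, rfl⟩ := hy
  refine ⟨a * d + b * c, b * d, fun h => ((isPrime hM).mem_or_mem h).elim hb hd, ?_⟩
  rw [div_add_div _ _ (coe_ne_zero_of_notMem hb) (coe_ne_zero_of_notMem hd)]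
  simp

theorem neg {x : ℂ} (hx : MemLocalRing M x) : MemLocalRing M (-x) := by
  obtain ⟨a, b, hb, rfl⟩ := hx
  exact ⟨-a, b, hb, by simp [neg_div]⟩

theorem sub (hM : IsPModular p M) {x y : ℂ} (hx : MemLocalRing M x) (hy : MemLocalRing M y) :
    MemLocalRing M (x - y) := by
  rw [sub_eq_add_neg]; exact add hM hx (neg hy)

theorem sum (hM : IsPModular p M) {ι : Type*} {s : Finset ι} {f : ι → ℂ}
    (h : ∀ i ∈ s, MemLocalRing M (f i)) : MemLocalRing M (∑ i ∈ s, f i) :=
  Finset.sum_induction f (MemLocalRing M) (fun _ _ => add hM) (zero hM) h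

theorem prod (hM : IsPModular p M) {ι : Type*} {s : Finset ι} {f : ι → ℂ}
    (h : ∀ i ∈ s, MemLocalRing M (f i)) : MemLocalRing M (∏ i ∈ s, f i) :=
  Finset.prod_induction f (MemLocalRing M) (fun _ _ => mul hM) (one hM) h

theorem pow (hM : IsPModular p M) {x : ℂ} (hx : MemLocalRing M x) (n : ℕ) :
    MemLocalRing M (x ^ n) := by
  induction n with
  | zero => simpa using one hM
  | succ n ih => rw [pow_succ]; exact mul hM ih hx

end LR

namespace LI

theorem memLocalRing {x : ℂ} (hx : MemLocalIdeal M x) : MemLocalRing M x := by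
  obtain ⟨a, b, _, hb, h⟩ := hx
  exact ⟨a, b, hb, h⟩

theorem of_mem (hM : IsPModular p M) {a : AlgInt} (ha : a ∈ M) : MemLocalIdeal M (a : ℂ) :=
  ⟨a, 1, ha, one_notMem hM, by simp⟩

theorem zero (hM : IsPModular p M) : MemLocalIdeal M 0 := by
  simpa using of_mem hM M.zero_mem

theorem natCast_prime (hM : IsPModular p M) : MemLocalIdeal M (p : ℂ) := by
  simpa using of_mem hM hM.2.2

theorem mul_left (hM : IsPModular p M) {x y : ℂ} (hx : MemLocalRing M x)
    (hy : MemLocalIdeal M y) : MemLocalIdeal M (x * y) := by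
  obtain ⟨a, b, hb, rfl⟩ := hx
  obtain ⟨c, d, hc, hd, rfl⟩ := hy
  exact ⟨a * c, b * d, M.mul_mem_left a hc,
    fun h => ((isPrime hM).mem_or_mem h).elim hb hd, by simp [div_mul_div_comm]⟩

theorem mul_right (hM : IsPModular p M) {x y : ℂ} (hx : MemLocalIdeal M x)
    (hy : MemLocalRing M y) : MemLocalIdeal M (x * y) := by
  rw [mul_comm]; exact mul_left hM hy hx

theorem add (hM : IsPModular p M) {x y : ℂ} (hx : MemLocalIdeal M x) (hy : MemLocalIdeal M y) :
    MemLocalIdeal M (x + y) := by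
  obtain ⟨a, b, ha, hb, rfl⟩ := hx
  obtain ⟨c, d, hc, hd, rfl⟩ := hy
  refine ⟨a * d + b * c, b * d, M.add_mem (M.mul_mem_right d ha) (M.mul_mem_left b hc),
    fun h => ((isPrime hM).mem_or_mem h).elim hb hd, ?_⟩
  rw [div_add_div _ _ (coe_ne_zero_of_notMem hb) (coe_ne_zero_of_notMem hd)]
  simp

theorem neg {x : ℂ} (hx : MemLocalIdeal M x) : MemLocalIdeal M (-x) := by
  obtain ⟨a, b, ha, hb, rfl⟩ := hx
  exact ⟨-a, b, M.neg_mem ha, hb, by simp [neg_div]⟩

theorem sub (hM : IsPModular p M) {x y : ℂ} (hx : MemLocalIdeal M x) (hy : MemLocalIdeal M y) :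
    MemLocalIdeal M (x - y) := by
  rw [sub_eq_add_neg]; exact add hM hx (neg hy)

theorem sum (hM : IsPModular p M) {ι : Type*} {s : Finset ι} {f : ι → ℂ}
    (h : ∀ i ∈ s, MemLocalIdeal M (f i)) : MemLocalIdeal M (∑ i ∈ s, f i) :=
  Finset.sum_induction f (MemLocalIdeal M) (fun _ _ => add hM) (zero hM) h

theorem sub_comm {x y : ℂ} (h : MemLocalIdeal M (x - y)) : MemLocalIdeal M (y - x) := by
  simpa using neg h

theorem trans (hM : IsPModular p M) {x y z : ℂ} (h₁ : MemLocalIdeal M (x - y))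
    (h₂ : MemLocalIdeal M (y - z)) : MemLocalIdeal M (x - z) := by
  have h := add hM h₁ h₂
  rwa [sub_add_sub_cancel] at h

theorem not_one (hM : IsPModular p M) : ¬ MemLocalIdeal M 1 := by
  rintro ⟨a, b, ha, hb, h⟩
  have hab : a = b := Subtype.ext ((div_eq_one_iff_eq (coe_ne_zero_of_notMem hb)).1 h)
  exact hb (hab ▸ ha)

end LI

/-- The local ring at `M`, as a subring of `ℂ`. -/
def localSubring (hM : IsPModular p M) : Subring ℂ where
  carrier := {z | MemLocalRing M z}
  mul_mem' := LR.mul hM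
  one_mem' := LR.one hM
  add_mem' := LR.add hM
  zero_mem' := LR.zero hM
  neg_mem' := LR.neg

theorem mem_localSubring {hM : IsPModular p M} {z : ℂ} :
    z ∈ localSubring hM ↔ MemLocalRing M z := Iff.rfl

/-- The maximal ideal of the local ring at `M`. -/
def localMaxIdeal (hM : IsPModular p M) : Ideal (localSubring hM) where
  carrier := {z | MemLocalIdeal M (z : ℂ)}
  add_mem' := fun {a b} ha hb => by
    show MemLocalIdeal M ((a + b : localSubring hM) : ℂ)
    simpa using LI.add hM ha hb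
  zero_mem' := by
    show MemLocalIdeal M ((0 : localSubring hM) : ℂ)
    simpa using LI.zero hM
  smul_mem' := fun c x hx => by
    show MemLocalIdeal M ((c • x : localSubring hM) : ℂ)
    simpa [smul_eq_mul] using LI.mul_left hM c.2 hx

theorem mem_localMaxIdeal {hM : IsPModular p M} {z : localSubring hM} :
    z ∈ localMaxIdeal hM ↔ MemLocalIdeal M (z : ℂ) := Iff.rfl

/-- A local integer outside the local ideal is a unit of the local ring. -/
theorem LR.inv (hM : IsPModular p M) {z : ℂ} (hz : MemLocalRing M z) (hn : ¬ MemLocalIdeal M z) :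
    MemLocalRing M z⁻¹ := by
  obtain ⟨a, b, hb, rfl⟩ := hz
  have ha : a ∉ M := fun h => hn ⟨a, b, h, hb, rfl⟩
  exact ⟨b, a, ha, by rw [inv_div]⟩

theorem ne_zero_of_not_LI (hM : IsPModular p M) {z : ℂ} (hn : ¬ MemLocalIdeal M z) : z ≠ 0 :=
  fun h => hn (h ▸ LI.zero hM)

theorem LI.mem_or_mem (hM : IsPModular p M) {x y : ℂ} (hx : MemLocalRing M x)
    (hy : MemLocalRing M y) (h : MemLocalIdeal M (x * y)) :
    MemLocalIdeal M x ∨ MemLocalIdeal M y := by
  by_contra hne
  rw [not_or] at hne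
  have h2 := LI.mul_left hM (LR.inv hM hx hne.1) h
  rw [← mul_assoc, inv_mul_cancel₀ (ne_zero_of_not_LI hM hne.1), one_mul] at h2
  exact hne.2 h2

theorem not_LI_mul (hM : IsPModular p M) {x y : ℂ} (hx : MemLocalRing M x) (hy : MemLocalRing M y)
    (hx' : ¬ MemLocalIdeal M x) (hy' : ¬ MemLocalIdeal M y) : ¬ MemLocalIdeal M (x * y) :=
  fun h => (LI.mem_or_mem hM hx hy h).elim hx' hy'

theorem LI.of_pow (hM : IsPModular p M) {x : ℂ} (hx : MemLocalRing M x) {n : ℕ}
    (h : MemLocalIdeal M (x ^ n)) : MemLocalIdeal M x := by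
  induction n with
  | zero => exact absurd (by simpa using h) (LI.not_one hM)
  | succ n ih =>
    rw [pow_succ] at h
    rcases LI.mem_or_mem hM (LR.pow hM hx n) hx h with h1 | h1
    · exact ih h1
    · exact h1

theorem LI.natCast_iff (hM : IsPModular p M) (n : ℕ) : MemLocalIdeal M (n : ℂ) ↔ p ∣ n := by
  constructor
  · intro h
    by_contra hn
    have hc : Nat.Coprime n p := (Nat.Coprime.symm ((Nat.Prime.coprime_iff_not_dvd hM.1).2 hn))
    have hb := congrArg (fun z : ℤ => (z : ℂ)) (Nat.gcd_eq_gcd_ab n p)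
    simp only [hc.gcd_eq_one, Nat.cast_one, Int.cast_one, Int.cast_add, Int.cast_mul,
      Int.cast_natCast] at hb
    apply LI.not_one hM
    rw [hb]
    exact LI.add hM (LI.mul_right hM h (LR.intCast hM _))
      (LI.mul_right hM (LI.natCast_prime hM) (LR.intCast hM _))
  · rintro ⟨k, rfl⟩
    simpa using LI.mul_right hM (LI.natCast_prime hM) (LR.natCast hM k)

theorem LI.intCast_iff (hM : IsPModular p M) (n : ℤ) : MemLocalIdeal M (n : ℂ) ↔ (p : ℤ) ∣ n := by
  rw [Int.natCast_dvd, ← LI.natCast_iff hM]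
  rcases Int.natAbs_eq n with h | h
  · conv_lhs => rw [h]
    simp
  · conv_lhs => rw [h]
    simp only [Int.cast_neg, Int.cast_natCast]
    exact ⟨fun h => by simpa using LI.neg h, LI.neg⟩

/-- A `p`-power root of unity is congruent to `1`. -/
theorem LI.root_sub_one (hM : IsPModular p M) {w : ℂ} {k : ℕ} (hw : w ^ p ^ k = 1) :
    MemLocalIdeal M (w - 1) := by
  have hp : p ≠ 0 := hM.1.ne_zero
  have hi : IsIntegral ℤ w :=
    IsIntegral.of_pow (pow_pos (Nat.pos_of_ne_zero hp) k) (hw ▸ isIntegral_one)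
  haveI := hM.2.1
  haveI : Fact p.Prime := ⟨hM.1⟩
  set a : AlgInt := ⟨w, hi⟩
  have ha : a ^ p ^ k = 1 := Subtype.ext (by simpa [a] using hw)
  have hmem : a - 1 ∈ M := by
    rw [← Ideal.Quotient.eq_zero_iff_mem]
    have h0 : (p : AlgInt ⧸ M) = 0 := by
      rw [← map_natCast (Ideal.Quotient.mk M)]
      exact Ideal.Quotient.eq_zero_iff_mem.2 hM.2.2
    haveI : Nontrivial (AlgInt ⧸ M) := Ideal.Quotient.nontrivial_iff.2 (isPrime hM).ne_top
    haveI : IsDomain (AlgInt ⧸ M) := (Ideal.Quotient.isDomain_iff_prime M).2 (isPrime hM)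
    haveI : CharP (AlgInt ⧸ M) p :=
      (CharP.ringChar_of_prime_eq_zero hM.1 h0) ▸ ringChar.charP _
    have := sub_pow_char_pow (R := AlgInt ⧸ M) (p := p) (Ideal.Quotient.mk M a) 1 (n := k)
    rw [← map_pow, ha, map_one, one_pow, sub_self] at this
    rw [map_sub, map_one]
    exact pow_eq_zero_iff (pow_ne_zero k hp) |>.1 this
  simpa [a] using LI.of_mem hM hmem

end CfsgLib.Blocks
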