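import Cfsg.Agent.Lib.Blocks.Section
import Cfsg.Agent.Lib.BrouePuig.InertialNested

/-!
# Characters minus rank as a sum over singular sections
-/

set_option autoImplicit false
set_option maxHeartbeats 800000

namespace CfsgLib.Blocks

open Cfsg CfsgLib.BrauerPairs
open scoped Classical ComplexConjugate

variable {G : Type*} [Group G] [Fintype G] {p : ℕ} {M : Ideal AlgInt}

/-- `pPartCard_mul_blockRank` for sets of characters cut out locally (unions of blocks). -/
theorem pPartCard_mul_localRank (hM : IsPModular p M) {B : Set (IrrCharacter G)}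
    (hB : IsLocalOn M (⊤ : Subgroup G) (blockInd B)) :
    (pPartCard p G : ℂ) * (blockRank p B : ℂ)
      = ∑ χ : B, regInner p ((χ : IrrCharacter G) : G → ℂ) ((χ : IrrCharacter G) : G → ℂ) := by
  set q : ℂ := (pPartCard p G : ℂ) with hq
  have hq0 : q ≠ 0 := pPartCard_ne_zero hM.1
  let A : Matrix B B ℂ := Matrix.of fun i j => q⁻¹ * regInner p ((i : IrrCharacter G) : G → ℂ)
    ((j : IrrCharacter G) : G → ℂ)
  let L : (B → ℂ) →ₗ[ℂ] (G → ℂ) := Fintype.linearCombination ℂ fun i : B => ((i : IrrCharacter G) : G → ℂ)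
  let R : (B → ℂ) →ₗ[ℂ] (G → ℂ) := Fintype.linearCombination ℂ fun i : B =>
    pRegularPart p ((i : IrrCharacter G) : G → ℂ)
  have hsum : ∀ f : IrrCharacter G → ℂ,
      ∑ j : B, f (j : IrrCharacter G) = ∑ ψ : IrrCharacter G, blockInd B ψ * f ψ := by
    intro f
    refine ((Finset.sum_subtype B.toFinset (fun x => Set.mem_toFinset) f).symm.trans ?_)
    refine (Finset.sum_congr rfl fun ψ hψ => ?_).trans
      (Finset.sum_subset (Finset.subset_univ _) fun ψ _ hψ => ?_)
    · rw [blockInd_of_mem (Set.mem_toFinset.1 hψ), one_mul]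
    · rw [blockInd_of_notMem (by simpa using hψ), zero_mul]
  have hexp : ∀ (i : B) (y : G), ∑ j : B, A i j * ((j : IrrCharacter G) : G → ℂ) y
      = pRegularPart p ((i : IrrCharacter G) : G → ℂ) y := by
    intro i y
    have h := sum_regInner_mul hM hB (i : IrrCharacter G) y
    rw [blockInd_of_mem i.2, mul_one] at h
    simp only [A, Matrix.of_apply]
    rw [hsum fun ψ => q⁻¹ * regInner p ((i : IrrCharacter G) : G → ℂ) (ψ : G → ℂ) * (ψ : G → ℂ) y,
      show (∑ ψ : IrrCharacter G, blockInd B ψ *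
          (q⁻¹ * regInner p ((i : IrrCharacter G) : G → ℂ) (ψ : G → ℂ) * (ψ : G → ℂ) y))
        = q⁻¹ * ∑ ψ : IrrCharacter G, blockInd B ψ *
          regInner p ((i : IrrCharacter G) : G → ℂ) (ψ : G → ℂ) * (ψ : G → ℂ) y by
        rw [Finset.mul_sum]
        exact Finset.sum_congr rfl fun ψ _ => by ring,
      h, pRegularPart_apply]
    split
    · rw [inv_mul_cancel_left₀ hq0]
    · rw [mul_zero]
  have hsymm : ∀ i j, A i j = A j i := fun i j => by simp only [A, Matrix.of_apply, regInner_comm]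
  have hLA : L ∘ₗ A.toLin' = R := by
    refine LinearMap.ext fun c => funext fun y => ?_
    simp only [L, R, LinearMap.comp_apply, Fintype.linearCombination_apply, Finset.sum_apply,
      Pi.smul_apply, smul_eq_mul, Matrix.toLin'_apply, Matrix.mulVec, dotProduct, Finset.sum_mul]
    rw [Finset.sum_comm]
    refine Finset.sum_congr rfl fun i _ => ?_
    rw [← hexp i y, Finset.mul_sum]
    exact Finset.sum_congr rfl fun j _ => by rw [hsymm j i]; ring
  have hL : Function.Injective L := by
    have h : LinearIndependent ℂ fun i : B => ((i : IrrCharacter G) : G → ℂ) :=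
      (CfsgLib.Char.linearIndependent_irr (G := G)).comp _ Subtype.val_injective
    exact h.fintypeLinearCombination_injective
  have hidem : A * A = A := by
    ext i j
    have h := sum_regInner_sq hM hB (i : IrrCharacter G) (j : IrrCharacter G)
    rw [blockInd_of_mem i.2, mul_one] at h
    rw [Matrix.mul_apply]
    simp only [A, Matrix.of_apply]
    calc ∑ k : B, q⁻¹ * regInner p ((i : IrrCharacter G) : G → ℂ) ((k : IrrCharacter G) : G → ℂ)
          * (q⁻¹ * regInner p ((k : IrrCharacter G) : G → ℂ) ((j : IrrCharacter G) : G → ℂ))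
        = q⁻¹ * q⁻¹ * ∑ ψ : IrrCharacter G, blockInd B ψ *
            regInner p ((i : IrrCharacter G) : G → ℂ) (ψ : G → ℂ)
              * regInner p (ψ : G → ℂ) ((j : IrrCharacter G) : G → ℂ) := by
          rw [hsum fun ψ => q⁻¹ * regInner p ((i : IrrCharacter G) : G → ℂ) (ψ : G → ℂ)
            * (q⁻¹ * regInner p (ψ : G → ℂ) ((j : IrrCharacter G) : G → ℂ)), Finset.mul_sum]
          exact Finset.sum_congr rfl fun ψ _ => by ring
      _ = _ := by rw [h]; field_simp; simp [hq]
  have hrank : blockRank p B = Module.finrank ℂ (LinearMap.range A.toLin') := by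
    rw [blockRank]
    have h1 : Submodule.span ℂ ((fun χ : IrrCharacter G => pRegularPart p (χ : G → ℂ)) '' B)
        = LinearMap.range R := by
      rw [Fintype.range_linearCombination, Set.image_eq_range]
    rw [h1, ← hLA, LinearMap.range_comp]
    exact (Submodule.equivMapOfInjective L hL _).finrank_eq.symm
  have hproj : LinearMap.IsProj (LinearMap.range A.toLin') A.toLin' := by
    refine ⟨fun x => LinearMap.mem_range_self _ _, ?_⟩
    rintro _ ⟨x, rfl⟩
    rw [← LinearMap.comp_apply, ← Matrix.toLin'_mul, hidem]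
  have htr := hproj.trace
  rw [Matrix.trace_toLin'_eq] at htr
  rw [hrank, ← htr, Matrix.trace, Finset.mul_sum]
  refine Finset.sum_congr rfl fun i _ => ?_
  simp only [A, Matrix.diag_apply, Matrix.of_apply]
  rw [mul_inv_cancel_left₀ hq0]

/-- Characters minus rank: the kernel summed over singular elements. -/
theorem card_mul_card_sub_rank (hM : IsPModular p M) {S : Set (IrrCharacter G)}
    (hS : IsLocalOn M (⊤ : Subgroup G) (blockInd S)) :
    (Nat.card G : ℂ) * ((Nat.card S : ℂ) - (blockRank p S : ℂ))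
      = ∑ u : G with ¬ IsPRegular p u, blockKernel S u u := by
  have hq0 := pPartCard_ne_zero (G := G) hM.1
  have hsum : ∀ f : IrrCharacter G → ℂ,
      ∑ j : S, f (j : IrrCharacter G) = ∑ ψ : IrrCharacter G, blockInd S ψ * f ψ := by
    intro f
    refine ((Finset.sum_subtype S.toFinset (fun x => Set.mem_toFinset) f).symm.trans ?_)
    refine (Finset.sum_congr rfl fun ψ hψ => ?_).trans
      (Finset.sum_subset (Finset.subset_univ _) fun ψ _ hψ => ?_)
    · rw [blockInd_of_mem (Set.mem_toFinset.1 hψ), one_mul]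
    · rw [blockInd_of_notMem (by simpa using hψ), zero_mul]
  have hall : ∑ u : G, blockKernel S u u = (Nat.card G : ℂ) * (Nat.card S : ℂ) := by
    simp only [blockKernel]
    rw [Finset.sum_comm, show (Nat.card S : ℂ) = ∑ _j : S, (1 : ℂ) by
      simp [Nat.card_eq_fintype_card], hsum fun _ => (1 : ℂ), Finset.mul_sum]
    refine Finset.sum_congr rfl fun χ _ => ?_
    rw [← Finset.mul_sum, show ∑ u : G, (χ : G → ℂ) u⁻¹ * (χ : G → ℂ) u
      = ∑ u : G, (χ : G → ℂ) u * (χ : G → ℂ) u⁻¹ from
        Finset.sum_congr rfl fun u _ => mul_comm _ _, sum_mul_inv, if_pos rfl]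
    ring
  have hreg : ∑ u : G with IsPRegular p u, blockKernel S u u
      = (Nat.card G : ℂ) * (blockRank p S : ℂ) := by
    have h := pPartCard_mul_localRank hM hS
    rw [hsum fun χ => regInner p (χ : G → ℂ) (χ : G → ℂ)] at h
    have e : ∑ χ : IrrCharacter G, blockInd S χ * regInner p (χ : G → ℂ) (χ : G → ℂ)
        = (pPartCard p G : ℂ) * (Nat.card G : ℂ)⁻¹
          * ∑ u : G with IsPRegular p u, blockKernel S u u := by
      simp only [blockKernel, regInner, Finset.mul_sum]
      rw [Finset.sum_comm]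
      exact Finset.sum_congr rfl fun u _ => Finset.sum_congr rfl fun χ _ => by ring
    rw [e, mul_assoc] at h
    rw [mul_left_cancel₀ hq0 h, mul_inv_cancel_left₀ CfsgLib.Char.card_ne_zero]
  rw [mul_sub, ← hall, ← hreg,
    ← Finset.sum_filter_add_sum_filter_not Finset.univ (fun u : G => IsPRegular p u)]
  ring

omit [Fintype G] in
theorem isPPart_one_iff {u : G} (hp : p.Prime) : IsPPart p u 1 ↔ IsPRegular p u := by
  constructor
  · rintro ⟨y, hy, -, -, hr⟩
    rw [one_mul] at hy
    exact hy ▸ hr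
  · intro h
    exact ⟨u, one_mul u, Commute.one_left u, ⟨0, by simp⟩, h⟩

/-- Summing over singular elements by their `p`-parts. -/
theorem sum_singular (hp : p.Prime) (F : G → ℂ) :
    ∑ u : G with ¬ IsPRegular p u, F u
      = ∑ x : G with (∃ k : ℕ, orderOf x = p ^ k) ∧ x ≠ 1,
        ∑ y : (Subgroup.centralizer ({x} : Set G)) with IsPRegular p y, F (x * (y : G)) := by
  have inner : ∀ x ∈ Finset.univ.filter (fun x : G => (∃ k : ℕ, orderOf x = p ^ k) ∧ x ≠ 1),
      ∑ y : (Subgroup.centralizer ({x} : Set G)) with IsPRegular p y, F (x * (y : G))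
        = ∑ u : G with IsPPart p u x, F u := by
    intro x hx
    obtain ⟨-, ⟨k, hk⟩, -⟩ := Finset.mem_filter.1 hx
    refine Finset.sum_bij (fun s _ => x * (s : G)) ?_ ?_ ?_ fun s _ => rfl
    · intro s hs
      refine Finset.mem_filter.2 ⟨Finset.mem_univ _, isPPart_mul
        (Subgroup.mem_centralizer_singleton_iff.1 s.2).symm hk ?_⟩
      rw [Subgroup.orderOf_coe]; exact (Finset.mem_filter.1 hs).2
    · intro s _ s' _ h
      exact Subtype.ext (mul_left_cancel h)
    · intro u hu
      obtain ⟨y, he, hc, -, hy⟩ := (Finset.mem_filter.1 hu).2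
      refine ⟨⟨y, Subgroup.mem_centralizer_singleton_iff.2 hc.eq.symm⟩, ?_, he⟩
      refine Finset.mem_filter.2 ⟨Finset.mem_univ _, ?_⟩
      show ¬ p ∣ orderOf _
      rwa [← Subgroup.orderOf_coe]
  rw [Finset.sum_congr rfl inner]
  symm
  calc ∑ x : G with (∃ k : ℕ, orderOf x = p ^ k) ∧ x ≠ 1, ∑ u : G with IsPPart p u x, F u
      = ∑ x : G, ∑ u : G,
          if ((∃ k : ℕ, orderOf x = p ^ k) ∧ x ≠ 1) ∧ IsPPart p u x then F u else 0 := by
        rw [Finset.sum_filter]
        refine Finset.sum_congr rfl fun x _ => ?_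
        by_cases h : (∃ k : ℕ, orderOf x = p ^ k) ∧ x ≠ 1
        · rw [if_pos h, Finset.sum_filter]
          exact Finset.sum_congr rfl fun u _ => if_congr ⟨fun e => ⟨h, e⟩, fun e => e.2⟩ rfl rfl
        · rw [if_neg h, Finset.sum_eq_zero]
          exact fun u _ => if_neg fun e => h e.1
    _ = _ := by
        rw [Finset.sum_comm, Finset.sum_filter]
        refine Finset.sum_congr rfl fun u _ => ?_
        obtain ⟨z, y, hz, -, -, -, hk, -, -⟩ := exists_isPPart (G := G) hp u
        rw [Finset.sum_eq_single z]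
        · exact if_congr ⟨fun h hu => h.1.2 (isPPart_unique hp hz ((isPPart_one_iff hp).2 hu)),
            fun hu => ⟨⟨hk, fun e => hu ((isPPart_one_iff hp).1 (e ▸ hz))⟩, hz⟩⟩ rfl rfl
        · intro x _ hne
          exact if_neg fun h => hne (isPPart_unique hp h.2 hz)
        · exact fun h => absurd (Finset.mem_univ z) h

theorem blockOf_irrEquiv (hM : IsPModular p M) {K K' : Type*} [Group K] [Fintype K] [Group K']
    [Fintype K'] (φ : K ≃* K') (ξ : IrrCharacter K') :
    blockOf M ((irrEquiv φ ξ : IrrCharacter K) : K → ℂ)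
      = irrEquiv φ '' blockOf M (ξ : K' → ℂ) :=
  (IsPBlock.eq_blockOf hM (isPBlock_image φ (isPBlock_blockOf ξ))
    (Set.mem_image_of_mem _ (SameBlock_refl hM _))).symm

/-- Induction through an intermediate subgroup. -/
theorem isInducedBlock_trans_iff (hM : IsPModular p M) {L N : Subgroup G} (hle : L ≤ N)
    {β : Set (IrrCharacter L)} {f : Set (IrrCharacter N)} (h : IsInducedBlockIn M N L β f)
    (B : Set (IrrCharacter G)) :
    IsInducedBlock M N f B ↔ IsInducedBlock M L β B := by
  have key : ∀ ξ ∈ β, ∀ ψ ∈ f, ∀ g : G, MemLocalIdeal M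
      (inducedCentralChar L (ξ : L → ℂ) g - inducedCentralChar N (ψ : N → ℂ) g) := by
    intro ξ hξ ψ hψ g
    rw [inducedCentralChar_eq, inducedCentralChar_eq]
    exact BrouePuig.omega_incl_congr hM hle (ξ : L → ℂ) ψ
      (F := fun n : N => classInd g (n : G))
      (resFun_isClassFunction N (classInd_isClassFunction g))
      (fun x => by
        unfold classInd; split
        · exact LR.one hM
        · exact LR.zero hM) (h.2.2 ξ hξ ψ hψ)
  refine ⟨fun hf => ⟨h.1, hf.2.1, fun ξ hξ χ hχ g => ?_⟩,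
    fun hβ => ⟨h.2.1, hβ.2.1, fun ψ hψ χ hχ g => ?_⟩⟩
  · obtain ⟨ψ, hψ⟩ := IsPBlock.nonempty hM h.2.1
    exact LI.trans hM (key ξ hξ ψ hψ g) (hf.2.2 ψ hψ χ hχ g)
  · obtain ⟨ξ, hξ⟩ := IsPBlock.nonempty hM h.1
    exact LI.trans hM (LI.sub_comm (key ξ hξ ψ hψ g)) (hβ.2.2 ξ hξ χ hχ g)

theorem sectionSet_eq (hM : IsPModular p M) (N : Subgroup G) (B : Set (IrrCharacter G)) :
    {ψ : IrrCharacter N | ∃ β : Set (IrrCharacter N), ψ ∈ β ∧ IsInducedBlock M N β B}
      = sectionSet M N B := by
  ext ψ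
  refine ⟨fun ⟨β, hψ, hβ⟩ => ?_, fun h => ⟨_, SameBlock_refl hM _, h⟩⟩
  show IsInducedBlock M N (blockOf M (ψ : N → ℂ)) B
  rwa [← IsPBlock.eq_blockOf hM hβ.1 hψ]

/-- The regular kernel of the blocks of `L` inducing `B`. -/
noncomputable def regKernelSum (p : ℕ) (M : Ideal AlgInt) (B : Set (IrrCharacter G))
    (L : Subgroup G) : ℂ :=
  ∑ y : L with IsPRegular p y, blockKernel (sectionSet M L B) y y

/-- One section of the union of the blocks of `N` inducing `B`. -/
theorem section_term (hM : IsPModular p M) (B : Set (IrrCharacter G)) {N : Subgroup G} (z : N)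
    (hz : ∃ k : ℕ, orderOf z = p ^ k) :
    ∑ y : (Subgroup.centralizer ({z} : Set N)) with IsPRegular p y,
        blockKernel (sectionSet M N B) (z * (y : N)) (z * (y : N))
      = regKernelSum p M B (Subgroup.centralizer ({(z : G)} : Set G) ⊓ N) := by
  set L := Subgroup.centralizer ({(z : G)} : Set G) ⊓ N with hL
  set K := Subgroup.centralizer ({z} : Set N) with hK
  have hle : L ≤ N := inf_le_right
  have hiff : ∀ n : N, (n : G) ∈ L ↔ n ∈ K := fun n => by
    rw [hL, hK, Subgroup.mem_inf, Subgroup.mem_centralizer_singleton_iff,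
      Subgroup.mem_centralizer_singleton_iff, Subtype.ext_iff]
    exact ⟨fun h => h.1, fun h => ⟨h, n.2⟩⟩
  set φ := nestIso hle hiff
  have hind : ∀ ξ : IrrCharacter L,
      (∑ f ∈ blockFinset M N, (if IsInducedBlock M N f B then (1 : ℂ) else 0) *
          blockInd (sectionSet M K f) (irrEquiv φ ξ))
        = blockInd (sectionSet M L B) ξ := by
    intro ξ
    obtain ⟨f, hf⟩ := exists_isInducedBlock_centralizer_singleton (G := N) hM hz
      (isPBlock_blockOf (M := M) (irrEquiv φ ξ))
    rw [Finset.sum_eq_single f]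
    · have hf' : IsInducedBlockIn M N L (blockOf M (ξ : L → ℂ)) f := by
        refine (BrouePuig.isInducedBlockIn_iff hle hiff _ f (isPBlock_blockOf ξ)).1 ?_
        rw [← blockOf_irrEquiv hM]
        exact hf
      rw [blockInd_sectionSet, blockInd_sectionSet, if_pos hf, mul_one]
      exact if_congr (isInducedBlock_trans_iff hM hle hf' B) rfl rfl
    · intro f' _ hne
      rw [blockInd_sectionSet, if_neg fun h => hne (IsInducedBlock.unique hM h hf), mul_zero]
    · exact fun h => absurd (mem_blockFinset.2 hf.2.1) h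
  refine Finset.sum_equiv φ.toEquiv ?_ fun y hy => ?_
  · intro y
    rw [Finset.mem_filter, Finset.mem_filter]
    show _ ∧ ¬ p ∣ orderOf y ↔ _ ∧ ¬ p ∣ orderOf (φ y)
    rw [φ.orderOf_eq]
    simp
  have hy' : ¬ p ∣ orderOf y := (Finset.mem_filter.1 hy).2
  simp only [blockKernel, blockInd_sectionSet]
  rw [sum_eq_sum_blocks hM (fun f => if IsInducedBlock M N f B then (1 : ℂ) else 0)
    (fun ψ : IrrCharacter N => (ψ : N → ℂ) (z * (y : N))⁻¹ * (ψ : N → ℂ) (z * (y : N)))]
  rw [Finset.sum_congr rfl (g := fun f => (if IsInducedBlock M N f B then (1 : ℂ) else 0) *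
    blockKernel (sectionSet M K f) y y) fun f hf => by
      rw [← sum_block_section hM hK hz (mem_blockFinset.1 hf) hy' hy']
      exact congrArg _ (Finset.sum_congr rfl fun ψ _ => by ring)]
  simp only [blockKernel, Finset.mul_sum]
  rw [Finset.sum_comm]
  refine (Fintype.sum_equiv (irrEquiv φ) _ _ fun ξ => ?_).symm
  rw [← blockInd_sectionSet, ← hind ξ, Finset.sum_mul]
  refine Finset.sum_congr rfl fun f _ => ?_
  rw [irrEquiv_apply, irrEquiv_apply, map_inv]
  simp only [MulEquiv.toEquiv_eq_coe, EquivLike.coe_coe]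
  ring

theorem orderOf_coe_sub {N : Subgroup G} (z : N) :
    ((∃ k : ℕ, orderOf z = p ^ k) ∧ z ≠ 1) ↔ ((∃ k : ℕ, orderOf (z : G) = p ^ k) ∧ (z : G) ≠ 1) := by
  simp [Subgroup.orderOf_coe]

/-- `|N| (k - l)` of the blocks of `N` inducing `B`, by singular sections. -/
theorem card_mul_sub_eq_sum (hM : IsPModular p M) (B : Set (IrrCharacter G)) (N : Subgroup G) :
    (Nat.card N : ℂ) * ((Nat.card (sectionSet M N B) : ℂ) - (blockRank p (sectionSet M N B) : ℂ))
      = ∑ x : G with (∃ k : ℕ, orderOf x = p ^ k) ∧ x ≠ 1,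
          if x ∈ N then regKernelSum p M B (Subgroup.centralizer ({x} : Set G) ⊓ N) else 0 := by
  rw [card_mul_card_sub_rank hM (sectionSet_isLocalOn hM N B), sum_singular hM.1]
  refine (Finset.sum_congr rfl fun z hz => section_term hM B z ?_).trans ?_
  · simp only [Finset.mem_filter, Finset.mem_univ, true_and] at hz
    exact hz.1
  rw [← Finset.sum_filter]
  refine Finset.sum_bij (fun z _ => (z : G)) ?_ (fun _ _ _ _ h => Subtype.ext h) ?_ fun z _ => rfl
  · intro z hz
    simp only [Finset.mem_filter, Finset.mem_univ, true_and] at hz ⊢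
    exact ⟨(orderOf_coe_sub z).1 hz, z.2⟩
  · intro x hx
    simp only [Finset.mem_filter, Finset.mem_univ, true_and] at hx
    refine ⟨⟨x, hx.2⟩, ?_, rfl⟩
    simp only [Finset.mem_filter, Finset.mem_univ, true_and]
    exact (orderOf_coe_sub ⟨x, hx.2⟩).2 hx.1

/-- `|G| (k - l)` of a block, by singular sections. -/
theorem card_mul_sub_block (hM : IsPModular p M) {B : Set (IrrCharacter G)} (hB : IsPBlock M B) :
    (Nat.card G : ℂ) * ((Nat.card B : ℂ) - (blockRank p B : ℂ))
      = ∑ x : G with (∃ k : ℕ, orderOf x = p ^ k) ∧ x ≠ 1,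
          regKernelSum p M B (Subgroup.centralizer ({x} : Set G)) := by
  rw [card_mul_card_sub_rank hM (IsPBlock.isLocalOn hM hB), sum_singular hM.1]
  refine Finset.sum_congr rfl fun x hx => Finset.sum_congr rfl fun y hy => ?_
  rw [← sum_block_section hM rfl (Finset.mem_filter.1 hx).2.1 hB
    (Finset.mem_filter.1 hy).2 (Finset.mem_filter.1 hy).2, blockKernel]
  exact Finset.sum_congr rfl fun χ _ => by ring

end CfsgLib.Blocks
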