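import Cfsg.Agent.Lib.Blocks.LatticeBound
import Cfsg.Agent.Lib.Char.ClassSum
import Cfsg.Agent.Lib.Char.Orth
import Cfsg.Agent.Lib.Blocks.Basic

/-!
# Families of characters realised on a lattice

If the sum of a family of irreducible characters takes its values in an unramified coefficient ring
inside the complex numbers, then some positive combination of the family is the character of a
lattice without idempotent endomorphisms.  With `LatticeBound` this bounds the values of the family
on a subgroup of prime order.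
-/

set_option autoImplicit false

namespace CfsgLib.Blocks.CharLattice

open Cfsg CfsgLib.Blocks
open scoped Classical ComplexConjugate Cardinal

/-! ### The coefficient ring -/

/-- A finite field with all roots of unity of order `m`. -/
abbrev resField (p m : ℕ) [Fact p.Prime] : Type := GaloisField p m.totient

/-- The unramified coefficient ring. -/
abbrev coefRing (p m : ℕ) [Fact p.Prime] : Type := WittVector p (resField p m)

section Coef

variable (p : ℕ) [hp : Fact p.Prime] (m : ℕ)

theorem natCast_ne_zero' {n : ℕ} (hn : n ≠ 0) : (n : coefRing p m) ≠ 0 := by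
  obtain ⟨a, b, hb, rfl⟩ := Nat.exists_eq_pow_mul_and_not_dvd hn p hp.out.ne_one
  rw [Nat.cast_mul, Nat.cast_pow]
  refine mul_ne_zero (pow_ne_zero _ (WittVector.irreducible (p := p) (k := resField p m)).ne_zero) fun h => ?_
  have := congrArg WittVector.constantCoeff h
  rw [map_natCast, map_zero, CharP.cast_eq_zero_iff (resField p m) p] at this
  exact hb this

instance instCharZeroCoefRing : CharZero (coefRing p m) :=
  charZero_of_inj_zero fun n h => by_contra fun hn => natCast_ne_zero' p m hn h

instance instFiniteCoefQuot : Finite (coefRing p m ⧸ Ideal.span {(p : coefRing p m)}) :=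
  Finite.of_equiv _ WittVector.quotientPEquiv.symm.toEquiv

theorem not_isUnit_p : ¬ IsUnit (p : coefRing p m) :=
  (WittVector.irreducible (p := p) (k := resField p m)).not_isUnit

theorem isUnit_of_not_dvd (a : coefRing p m) (ha : ¬ (p : coefRing p m) ∣ a) : IsUnit a := by
  refine WittVector.isUnit_of_coeff_zero_ne_zero a fun h => ha ?_
  rw [← Ideal.mem_span_singleton, WittVector.mem_span_p_iff_coeff_zero_eq_zero]
  exact h

theorem exists_embedding (hm : ¬ p ∣ m) :
    ∃ ι : coefRing p m →+* ℂ, Function.Injective ι ∧ ∀ z : ℂ, z ^ m = 1 → z ∈ Set.range ι := by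
  have hm0 : m ≠ 0 := fun h => hm (h ▸ dvd_zero p)
  have hf : m.totient ≠ 0 := (Nat.totient_pos.2 (Nat.pos_of_ne_zero hm0)).ne'
  haveI := Fintype.ofFinite (resField p m)
  have hO : #(coefRing p m) = 𝔠 := by
    let e : coefRing p m ≃ (ℕ → resField p m) :=
      { toFun := fun x n => x.coeff n
        invFun := fun f => WittVector.mk p f
        left_inv := fun x => WittVector.ext fun n => rfl
        right_inv := fun f => rfl }
    rw [Cardinal.mk_congr e, Cardinal.mk_arrow, Cardinal.lift_id, Cardinal.lift_id, Cardinal.mk_nat,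
      Cardinal.mk_fintype]
    exact Cardinal.nat_power_aleph0 Fintype.one_lt_card
  have hK : #(FractionRing (coefRing p m)) = 𝔠 :=
    (IsFractionRing.cardinalMk (R := coefRing p m) _).trans hO
  haveI : CharZero (FractionRing (coefRing p m)) :=
    charZero_of_injective_algebraMap (IsFractionRing.injective (coefRing p m) _)
  have hA : #(AlgebraicClosure (FractionRing (coefRing p m))) = 𝔠 := by
    refine le_antisymm ?_ ?_
    · refine (Algebra.IsAlgebraic.cardinalMk_le_max (FractionRing (coefRing p m)) _).trans ?_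
      rw [hK]
      exact max_le le_rfl Cardinal.aleph0_le_continuum
    · rw [← hK]
      exact Cardinal.mk_le_of_injective (algebraMap (FractionRing (coefRing p m))
        (AlgebraicClosure (FractionRing (coefRing p m)))).injective
  haveI : CharZero (AlgebraicClosure (FractionRing (coefRing p m))) :=
    charZero_of_injective_algebraMap (algebraMap (FractionRing (coefRing p m)) _).injective
  obtain ⟨e⟩ := IsAlgClosed.ringEquiv_of_equiv_of_charZero (K := AlgebraicClosure (FractionRing (coefRing p m)))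
    (L := ℂ) (by rw [hA]; exact Cardinal.aleph0_lt_continuum)
    (Cardinal.eq.1 (hA.trans Cardinal.mk_complex.symm))
  refine ⟨(e.toRingHom.comp (algebraMap (FractionRing (coefRing p m)) _)).comp
    (algebraMap (coefRing p m) (FractionRing (coefRing p m))),
    e.injective.comp ((algebraMap (FractionRing (coefRing p m)) _).injective.comp
      (IsFractionRing.injective _ _)), ?_⟩
  set ι := (e.toRingHom.comp (algebraMap (FractionRing (coefRing p m))
    (AlgebraicClosure (FractionRing (coefRing p m))))).comp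
    (algebraMap (coefRing p m) (FractionRing (coefRing p m))) with hι
  have hιinj : Function.Injective ι := e.injective.comp ((algebraMap (FractionRing (coefRing p m)) _).injective.comp
      (IsFractionRing.injective _ _))
  obtain ⟨u, hu⟩ := IsCyclic.exists_ofOrder_eq_natCard (α := (resField p m)ˣ)
  have hd : m ∣ orderOf u := by
    rw [hu, Nat.card_units, GaloisField.card p m.totient hf, ← Nat.modEq_iff_dvd' (Nat.one_le_pow _ _ hp.out.pos)]
    exact (Nat.ModEq.pow_totient (hp.out.coprime_iff_not_dvd.2 hm)).symm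
  set w := u ^ (orderOf u / m) with hw
  have hwm : orderOf w = m := by
    rw [hw, orderOf_pow_orderOf_div (orderOf_pos u).ne' hd]
  have hT : Function.Injective (WittVector.teichmuller p : resField p m → coefRing p m) := fun a b h => by
    have := congrArg (fun x => WittVector.coeff x 0) h
    simpa using this
  have hζ : IsPrimitiveRoot (ι (WittVector.teichmuller p (w : resField p m))) m := by
    refine IsPrimitiveRoot.map_of_injective ?_ hιinj
    refine IsPrimitiveRoot.map_of_injective ?_ hT
    exact IsPrimitiveRoot.coe_units_iff.2 (IsPrimitiveRoot.iff_orderOf.2 hwm)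
  intro z hz
  haveI : NeZero m := ⟨hm0⟩
  obtain ⟨i, -, hi⟩ := hζ.eq_pow_of_pow_eq_one hz
  exact ⟨_, (map_pow ι _ i).trans hi⟩

end Coef

/-! ### Powers of a root of unity of prime order over the coefficient ring -/

section Indep

variable {O : Type*} [CommRing O] [IsDomain O] [IsPrincipalIdealRing O] [CharZero O]

theorem irreducible_cyclotomic_of_prime {p : ℕ} [hp : Fact p.Prime] (hnu : ¬ IsUnit (p : O))
    (hunit : ∀ a : O, ¬ (p : O) ∣ a → IsUnit a) : Irreducible (Polynomial.cyclotomic p O) := by
  have hp0 : (p : O) ≠ 0 := Nat.cast_ne_zero.2 hp.out.ne_zero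
  have hprime : (Ideal.span {(p : O)}).IsPrime := by
    refine ⟨fun h => hnu (Ideal.span_singleton_eq_top.1 h), fun {a b} hab => ?_⟩
    rw [Ideal.mem_span_singleton] at hab ⊢
    rw [Ideal.mem_span_singleton]
    by_contra h
    rw [not_or] at h
    exact hnu (isUnit_of_dvd_unit hab ((hunit a h.1).mul (hunit b h.2)))
  set F : Polynomial ℤ := (Polynomial.cyclotomic p ℤ).comp (Polynomial.X + 1) with hFdef
  have hF := cyclotomic_comp_X_add_one_isEisensteinAt p
  have hFm : F.Monic := by
    rw [hFdef, show (Polynomial.X + 1 : Polynomial ℤ) = Polynomial.X + Polynomial.C 1 by simp]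
    refine (Polynomial.cyclotomic.monic p ℤ).comp (Polynomial.monic_X_add_C 1) fun h => ?_
    rw [Polynomial.natDegree_X_add_C] at h
    exact zero_ne_one h.symm
  have hdeg : F.natDegree = p - 1 := by
    rw [hFdef, Polynomial.natDegree_comp, show (Polynomial.X + 1 : Polynomial ℤ) = Polynomial.X + Polynomial.C 1 by simp,
      Polynomial.natDegree_X_add_C, mul_one, Polynomial.natDegree_cyclotomic, Nat.totient_prime hp.out]
  set f := F.map (Int.castRingHom O) with hfdef
  have hfdeg : f.natDegree = p - 1 := by rw [hfdef, hFm.natDegree_map, hdeg]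
  have hf0 : F.coeff 0 = p := by
    rw [hFdef, Polynomial.coeff_zero_eq_eval_zero, Polynomial.eval_comp, Polynomial.cyclotomic_prime]
    simp [Polynomial.eval_finsetSum]
  have hfE : f.IsEisensteinAt (Ideal.span {(p : O)}) := by
    refine ⟨?_, fun {n} hn => ?_, ?_⟩
    · rw [hfdef, (hFm.map _).leadingCoeff, Ideal.mem_span_singleton]
      exact fun h => hnu (isUnit_of_dvd_one h)
    · rw [hfdeg, ← hdeg] at hn
      have := hF.mem hn
      rw [Ideal.submodule_span_eq, Ideal.mem_span_singleton] at this
      rw [hfdef, Polynomial.coeff_map, Ideal.mem_span_singleton]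
      obtain ⟨c, hc⟩ := this
      exact ⟨(c : O), by rw [hc]; simp⟩
    · rw [hfdef, Polynomial.coeff_map, hf0, Ideal.span_singleton_pow, Ideal.mem_span_singleton]
      intro h
      simp only [map_natCast, sq] at h
      exact hnu (isUnit_of_dvd_one ((mul_dvd_mul_iff_left hp0).1 (by rwa [mul_one])))
  have hirr : Irreducible f := hfE.irreducible hprime (hFm.map _).isPrimitive (by
    rw [hfdeg]; have := hp.out.two_le; omega)
  have e : f = (Polynomial.algEquivAevalXAddC (1 : O)) (Polynomial.cyclotomic p O) := by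
    rw [hfdef, hFdef, Polynomial.map_comp, Polynomial.map_cyclotomic, Polynomial.algEquivAevalXAddC_apply,
      Polynomial.comp_eq_aeval]
    simp
  rw [e] at hirr
  exact (MulEquiv.irreducible_iff _).1 hirr

/-- A relation among the powers of a primitive `p`-th root of unity has constant coefficients. -/
theorem coeff_eq_of_relation {p : ℕ} [hp : Fact p.Prime] (hnu : ¬ IsUnit (p : O))
    (hunit : ∀ a : O, ¬ (p : O) ∣ a → IsUnit a) (ι : O →+* ℂ) (hι : Function.Injective ι) {ζ : ℂ}
    (hζ : IsPrimitiveRoot ζ p) (a : ℕ → O) (h : ∑ k ∈ Finset.range p, ι (a k) * ζ ^ k = 0) :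
    ∀ k < p, a k = a (p - 1) := by
  letI := ι.toAlgebra
  have hinj : Function.Injective (algebraMap O ℂ) := hι
  haveI : Module.IsTorsionFree O ℂ := Module.isTorsionFree_iff_algebraMap_injective.2 hinj
  have hirr := irreducible_cyclotomic_of_prime (O := O) hnu hunit
  have hroot : Polynomial.aeval ζ (Polynomial.cyclotomic p O) = 0 := by
    rw [Polynomial.cyclotomic_prime]
    simp only [map_sum, map_pow, Polynomial.aeval_X]
    exact hζ.geom_sum_eq_zero hp.out.one_lt
  have hint : IsIntegral O ζ := ⟨_, Polynomial.cyclotomic.monic p O, hroot⟩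
  have hmin : minpoly O ζ = Polynomial.cyclotomic p O :=
    Polynomial.eq_of_monic_of_associated (minpoly.monic hint) (Polynomial.cyclotomic.monic p O)
      ((minpoly.irreducible hint).associated_of_dvd hirr (minpoly.isIntegrallyClosed_dvd hint hroot))
  set g : Polynomial O :=
    ∑ k ∈ Finset.range p, (Polynomial.C (a k) - Polynomial.C (a (p - 1))) * Polynomial.X ^ k with hg
  have hgc : ∀ n, g.coeff n = if n ∈ Finset.range p then a n - a (p - 1) else 0 := fun n => by
    rw [hg, Polynomial.finsetSum_coeff]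
    simp only [← map_sub, Polynomial.coeff_C_mul_X_pow]
    rw [Finset.sum_ite_eq]
  have hg0 : Polynomial.aeval ζ g = 0 := by
    simp only [hg, map_sum, map_mul, map_sub, map_pow, Polynomial.aeval_X, Polynomial.aeval_C, sub_mul,
      Finset.sum_sub_distrib, ← Finset.mul_sum, hζ.geom_sum_eq_zero hp.out.one_lt, mul_zero, sub_zero]
    exact h
  have hdvd : minpoly O ζ ∣ g := minpoly.isIntegrallyClosed_dvd hint hg0
  have hg' : g = 0 := by
    by_contra hne
    have h1 := Polynomial.natDegree_le_of_dvd hdvd hne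
    rw [hmin, Polynomial.natDegree_cyclotomic, Nat.totient_prime hp.out] at h1
    have h2 : g.natDegree < p - 1 := by
      have h3 : g.natDegree ≤ p - 1 := Polynomial.natDegree_le_iff_coeff_eq_zero.2 fun n hn => by
        rw [hgc, if_neg (by rw [Finset.mem_range]; omega)]
      refine lt_of_le_of_ne h3 fun e => Polynomial.leadingCoeff_ne_zero.2 hne ?_
      rw [Polynomial.leadingCoeff, e, hgc, if_pos (Finset.mem_range.2 (by have := hp.out.pos; omega)), sub_self]
    omega
  intro k hk
  have := hgc k
  rwa [hg', Polynomial.coeff_zero, if_pos (Finset.mem_range.2 hk), eq_comm, sub_eq_zero] at this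

end Indep

/-! ### The lattice -/

section Family

variable {O : Type*} [CommRing O] [IsDomain O] [IsPrincipalIdealRing O] [CharZero O]
  {G : Type*} [Group G] [Fintype G] {p : ℕ} [hp : Fact p.Prime]

variable (O) in
/-- Left translation of functions. -/
def translate : G →* Module.End O (G → O) where
  toFun g := LinearMap.funLeft O O fun u => g⁻¹ * u
  map_one' := LinearMap.ext fun f => funext fun u => by simp [LinearMap.funLeft]
  map_mul' a b := LinearMap.ext fun f => funext fun u => by simp [LinearMap.funLeft, mul_assoc]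

theorem translate_apply (g : G) (f : G → O) (u : G) : translate O g f u = f (g⁻¹ * u) := rfl

/-- A positive combination of the family is the character of a lattice without idempotent endomorphisms. -/
theorem family_lattice (ι : O →+* ℂ) (hι : Function.Injective ι)
    (hroots : ∀ g : G, ¬ p ∣ orderOf g → ∀ z : ℂ, z ^ orderOf g = 1 → z ∈ Set.range ι)
    (E : Finset (IrrCharacter G)) (hne : E.Nonempty)
    (hreg : ∀ η ∈ E, ∀ η' ∈ E, ∀ g : G, ¬ p ∣ orderOf g → (η : G → ℂ) g = (η' : G → ℂ) g)
    (hsing : ∀ g : G, p ∣ orderOf g → ∑ η ∈ E, (η : G → ℂ) g ∈ ι.range) :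
    ∃ k : IrrCharacter G → ℕ, 0 < ∑ η ∈ E, k η ∧
      (∀ g : G, ∑ η ∈ E, (k η : ℂ) * (η : G → ℂ) g ∈ Set.range ι) ∧
      ∃ (W : Submodule O (G → O)) (ρ : G →* Module.End O W),
        (∀ f : Module.End O W, (∀ g, Commute f (ρ g)) → f * f = f → f = 0 ∨ f = 1) ∧
        ∀ g : G, ι (LinearMap.trace O W (ρ g)) = ∑ η ∈ E, (k η : ℂ) * (η : G → ℂ) g := by
  obtain ⟨η₀, hη₀⟩ := hne
  set D := charDegree (η₀ : G → ℂ) with hD
  have hone : ∀ η ∈ E, (η : G → ℂ) 1 = (D : ℂ) := fun η hη => by
    rw [hreg η hη η₀ hη₀ 1 (by rw [orderOf_one]; exact hp.out.not_dvd_one), hD, irr_one_eq]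
  have hD0 : (D : ℂ) ≠ 0 := by
    rw [← hone η₀ hη₀]; exact Char.IsIrrCharacter.apply_one_ne_zero η₀.2
  have hval : ∀ g : G, (D : ℂ) * ∑ η ∈ E, (η : G → ℂ) g ∈ ι.range := fun g => by
    refine mul_mem (natCast_mem _ D) ?_
    by_cases hg : p ∣ orderOf g
    · exact hsing g hg
    · refine sum_mem fun η _ => ?_
      obtain ⟨n, ρ, -, hρ⟩ := η.2
      obtain ⟨μ, hμ, hsum⟩ := Char.exists_eigenvalues ρ g
      rw [← hρ, ← pow_one g, hsum 1]
      exact sum_mem fun i _ => by rw [pow_one]; exact hroots g hg _ (hμ i)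
  choose cc hcc using hval
  set c : G → O := fun u => cc u⁻¹ with hcdef
  have hc : ∀ u, ι (c u) = (D : ℂ) * ∑ η ∈ E, (η : G → ℂ) u⁻¹ := fun u => hcc u⁻¹
  -- the convolution idempotent
  have hconv : ∀ h u : G, ∑ g : G, c g * c (h⁻¹ * (g⁻¹ * u)) = (Nat.card G : O) * c (h⁻¹ * u) := by
    intro h u
    apply hι
    rw [map_sum, map_mul, map_natCast, hc, ← mul_assoc, Finset.mul_sum]
    simp only [map_mul, hc, Finset.mul_sum, Finset.sum_mul, mul_inv_rev, inv_inv]
    rw [Finset.sum_comm, Finset.sum_congr rfl fun η hη => ?_]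
    have key : ∀ η' ∈ E, ∑ g : G, (D : ℂ) * (η' : G → ℂ) g⁻¹ * ((D : ℂ) * (η : G → ℂ) (u⁻¹ * g * h))
        = if η = η' then (Nat.card G : ℂ) * (D : ℂ) * (η : G → ℂ) (u⁻¹ * h) else 0 := by
      intro η' hη'
      have e : ∀ g : G, (η : G → ℂ) (u⁻¹ * g * h) = (η : G → ℂ) (g * (h * u⁻¹)) := fun g => by
        rw [mul_assoc, Char.IsClassFunction.mul_comm (Char.IsIrrCharacter.isClassFunction η.2), mul_assoc]
      calc _ = (D : ℂ) * (D : ℂ) * ∑ g : G, (η' : G → ℂ) g * (η : G → ℂ) (g⁻¹ * (h * u⁻¹)) := by
            rw [Finset.mul_sum]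
            exact Fintype.sum_equiv (Equiv.inv G) _ _ fun g => by
              rw [e]; simp only [Equiv.inv_apply, inv_inv]; ring
        _ = _ := by
            rw [Char.IsIrrCharacter.sum_mul_apply η'.2 η.2, hone η' hη']
            by_cases he : η = η'
            · subst he
              rw [if_pos rfl, if_pos rfl,
                Char.IsClassFunction.mul_comm (Char.IsIrrCharacter.isClassFunction η.2)]
              field_simp
            · rw [if_neg fun h => he (Subtype.ext h).symm, if_neg he, mul_zero]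
    rw [Finset.sum_comm, Finset.sum_congr rfl key, Finset.sum_ite_eq, if_pos hη]
  let gen : G → (G → O) := fun h => translate O h c
  set L0 := Submodule.span O (Set.range gen) with hL0
  have hL0inv : ∀ g, ∀ f ∈ L0, translate O g f ∈ L0 := by
    intro g f hf
    have : L0 ≤ L0.comap (translate O g) := Submodule.span_le.2 (by
      rintro _ ⟨h, rfl⟩
      refine Submodule.subset_span ⟨g * h, ?_⟩
      show translate O (g * h) c = translate O g (translate O h c)
      rw [map_mul]; rfl)
    exact this hf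
  have hact : ∀ f ∈ L0, ∑ g : G, c g • translate O g f = (Nat.card G : O) • f := by
    intro f hf
    induction hf using Submodule.span_induction with
    | mem f hf =>
      obtain ⟨h, rfl⟩ := hf
      funext u
      simp only [Finset.sum_apply, Pi.smul_apply, smul_eq_mul, gen, translate_apply]
      exact hconv h u
    | zero => simp
    | add a b _ _ ha hb => simp only [map_add, smul_add, Finset.sum_add_distrib, ha, hb]
    | smul r a _ ha =>
      simp only [map_smul]
      rw [smul_comm, ← ha, Finset.smul_sum]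
      exact Finset.sum_congr rfl fun g _ => smul_comm _ _ _
  have hc1 : c 1 ≠ 0 := fun h => by
    have := hc 1
    rw [h, map_zero, inv_one, Finset.sum_congr rfl hone, Finset.sum_const, nsmul_eq_mul] at this
    exact mul_ne_zero hD0 (mul_ne_zero (Nat.cast_ne_zero.2 (Finset.card_pos.2 ⟨η₀, hη₀⟩).ne') hD0) this.symm
  have hL0ne : L0 ≠ ⊥ := by
    intro h
    have hm : c ∈ L0 := Submodule.subset_span ⟨1, by simp [gen]⟩
    rw [h, Submodule.mem_bot] at hm
    exact hc1 (congrFun hm 1)
  -- an invariant sublattice of least rank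
  have hex : ∃ r, ∃ W : Submodule O (G → O), W ≤ L0 ∧ W ≠ ⊥ ∧ (∀ g, ∀ f ∈ W, translate O g f ∈ W) ∧
      Module.finrank O W = r := ⟨_, L0, le_rfl, hL0ne, hL0inv, rfl⟩
  obtain ⟨W, hW0, hWne, hWinv, hWr⟩ := Nat.find_spec hex
  let ρ : G →* Module.End O W :=
    { toFun := fun g => (translate O g).restrict (hWinv g)
      map_one' := LinearMap.ext fun v => Subtype.ext (by show translate O 1 v.1 = v.1; rw [map_one]; rfl)
      map_mul' := fun a b => LinearMap.ext fun v => Subtype.ext (by
        show translate O (a * b) v.1 = _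
        rw [map_mul]; rfl) }
  have hρ : ∀ g (v : W), ((ρ g v : W) : G → O) = translate O g v := fun g v => rfl
  have hirr : ∀ f : Module.End O W, (∀ g, Commute f (ρ g)) → f * f = f → f = 0 ∨ f = 1 := by
    intro f hcomm hff
    by_cases hf : f = 0
    · exact Or.inl hf
    refine Or.inr ?_
    have hle : Module.finrank O W ≤ Module.finrank O ((LinearMap.range f).map W.subtype) := by
      rw [hWr]
      refine Nat.find_min' hex ⟨(LinearMap.range f).map W.subtype, (Submodule.map_subtype_le W _).trans hW0, ?_, ?_, rfl⟩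
      · intro h
        refine hf (LinearMap.range_eq_bot.1 ?_)
        exact Submodule.map_injective_of_injective W.injective_subtype (by rw [h, Submodule.map_bot])
      · rintro g _ ⟨v, ⟨w, rfl⟩, rfl⟩
        exact ⟨f (ρ g w), ⟨_, rfl⟩, by rw [Lattice.apply_comm_end (hcomm g)]; rfl⟩
    rw [← (Submodule.equivMapOfInjective _ W.injective_subtype (LinearMap.range f)).finrank_eq,
      ← (LinearMap.quotKerEquivRange f).finrank_eq] at hle
    have hsum := Submodule.finrank_quotient_add_finrank (LinearMap.ker f)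
    have hker : LinearMap.ker f = ⊥ := by
      refine Submodule.finrank_eq_zero.1 ?_
      omega
    refine LinearMap.ext fun v => ?_
    have : f (f v - v) = 0 := by rw [map_sub, ← Module.End.mul_apply, hff, sub_self]
    rw [← LinearMap.mem_ker, hker, Submodule.mem_bot, sub_eq_zero] at this
    exact this
  -- its character
  let bb := Module.Free.chooseBasis O W
  let R : Representation ℂ G (Module.Free.ChooseBasisIndex O W → ℂ) :=
    { toFun := fun g => Matrix.toLinAlgEquiv' ((LinearMap.toMatrixAlgEquiv bb (ρ g)).map ι)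
      map_one' := by simp
      map_mul' := fun a b => by
        rw [map_mul, map_mul]
        show Matrix.toLinAlgEquiv' (ι.mapMatrix (_ * _)) = _
        rw [map_mul, map_mul]
        rfl }
  set ψ : G → ℂ := fun g => ι (LinearMap.trace O W (ρ g)) with hψ
  have hRψ : R.character = ψ := by
    funext g
    show LinearMap.trace ℂ _ (Matrix.toLinAlgEquiv' ((LinearMap.toMatrixAlgEquiv bb (ρ g)).map ι)) = _
    show _ = ι (LinearMap.trace O W (ρ g))
    rw [LinearMap.trace_eq_matrix_trace O bb (ρ g),
      LinearMap.trace_eq_matrix_trace ℂ (Pi.basisFun ℂ _), LinearMap.toMatrix_eq_toMatrix']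
    simp only [Matrix.toLinAlgEquiv'_apply, Matrix.trace, Matrix.diag, map_sum]
    refine Finset.sum_congr rfl fun i _ => ?_
    simp [LinearMap.toMatrix'_apply, Matrix.mulVec, dotProduct, Pi.single_apply, LinearMap.toMatrixAlgEquiv_apply,
      LinearMap.toMatrix_apply]
  have hψchar : IsCharacter G ψ := hRψ ▸ Char.isCharacter_of_rep R
  choose k hk using fun χ : IrrCharacter G => (Char.isCharacter_iff.1 hψchar).2 χ χ.2
  have hexp : ∀ g, ψ g = ∑ χ : IrrCharacter G, (k χ : ℂ) * (χ : G → ℂ) g := fun g => by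
    conv_lhs => rw [Char.IsClassFunction.eq_sum_irr (Char.IsCharacter.isClassFunction hψchar)]
    simp only [Finset.sum_apply, Pi.smul_apply, smul_eq_mul, hk]
  have hψ1 : ψ 1 = (Module.finrank O W : ℂ) := by
    show ι (LinearMap.trace O W (ρ 1)) = _
    rw [map_one, Module.End.one_eq_id, LinearMap.trace_id, map_natCast]
  have hidW : ∑ g : G, c g • ρ g = (Nat.card G : O) • (1 : Module.End O W) := LinearMap.ext fun v => Subtype.ext (by
    simp only [LinearMap.sum_apply, LinearMap.smul_apply, Submodule.coe_sum, Submodule.coe_smul, hρ,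
      Module.End.one_apply]
    exact hact v (hW0 v.2))
  have htr : (Nat.card G : ℂ) * (D : ℂ) * ∑ η ∈ E, (k η : ℂ) = (Nat.card G : ℂ) * ψ 1 := by
    have h1 := congrArg (fun F => ι (LinearMap.trace O W F)) hidW
    simp only [map_sum, map_smul, smul_eq_mul, map_mul, map_natCast] at h1
    rw [Module.End.one_eq_id, LinearMap.trace_id, map_natCast, ← hψ1] at h1
    rw [← h1, Finset.mul_sum]
    calc ∑ η ∈ E, (Nat.card G : ℂ) * (D : ℂ) * (k η : ℂ)
        = ∑ η ∈ E, (D : ℂ) * ∑ g : G, (η : G → ℂ) g⁻¹ * ψ g := by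
          refine Finset.sum_congr rfl fun η _ => ?_
          rw [← hk η, Cfsg.classInner, mul_assoc, mul_left_comm (Nat.card G : ℂ), ← mul_assoc (Nat.card G : ℂ),
            mul_inv_cancel₀ Char.card_ne_zero, one_mul]
          congr 1
          exact Finset.sum_congr rfl fun g _ => by rw [Char.IsIrrCharacter.apply_inv η.2, mul_comm]
      _ = _ := by
          simp only [hc, Finset.mul_sum, Finset.sum_mul]
          rw [Finset.sum_comm]
          exact Finset.sum_congr rfl fun g _ => Finset.sum_congr rfl fun η _ => by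
            rw [hψ]; ring
  rw [mul_assoc] at htr
  have htr' := mul_left_cancel₀ Char.card_ne_zero htr
  rw [hexp 1] at htr'
  simp only [irr_one_eq] at htr'
  have hout : ∀ χ, χ ∉ E → k χ = 0 := by
    have e : D * ∑ η ∈ E, k η = ∑ χ : IrrCharacter G, k χ * charDegree (χ : G → ℂ) := by
      exact_mod_cast htr'
    have hdeg : ∑ η ∈ E, k η * charDegree (η : G → ℂ) = D * ∑ η ∈ E, k η := by
      rw [Finset.mul_sum]
      refine Finset.sum_congr rfl fun η hη => ?_
      have := hone η hη
      rw [irr_one_eq] at this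
      rw [show charDegree (η : G → ℂ) = D by exact_mod_cast this, mul_comm]
    rw [← Finset.sum_add_sum_compl E, hdeg] at e
    intro χ hχ
    have h0 : ∑ χ ∈ Eᶜ, k χ * charDegree (χ : G → ℂ) = 0 := by omega
    exact (mul_eq_zero.1 (Finset.sum_eq_zero_iff.1 h0 χ (Finset.mem_compl.2 hχ))).resolve_right
      (charDegree_pos χ).ne'
  have hψE : ∀ g, ψ g = ∑ η ∈ E, (k η : ℂ) * (η : G → ℂ) g := fun g => by
    rw [hexp g]
    exact (Finset.sum_subset (Finset.subset_univ E) fun χ _ hχ => by rw [hout χ hχ, Nat.cast_zero, zero_mul]).symm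
  have hpos : 0 < ∑ η ∈ E, k η := by
    by_contra h
    have h0 : ∑ η ∈ E, k η = 0 := by omega
    have := hψE 1
    rw [hψ1, Finset.sum_congr rfl fun η hη => by rw [hone η hη], ← Finset.sum_mul,
      show (∑ η ∈ E, (k η : ℂ)) = ((∑ η ∈ E, k η : ℕ) : ℂ) by push_cast; rfl, h0, Nat.cast_zero, zero_mul] at this
    exact hWne (Submodule.finrank_eq_zero.1 (by exact_mod_cast this))
  exact ⟨k, hpos, fun g => ⟨_, hψE g⟩, W, ρ, hirr, hψE⟩

/-- A positive combination of the family is the character of a lattice, which bounds its trace sum. -/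
theorem family_bound [Finite (O ⧸ Ideal.span {(p : O)})] [IsAdicComplete (Ideal.span {(p : O)}) O]
    (hnu : ¬ IsUnit (p : O)) (hunit : ∀ a : O, ¬ (p : O) ∣ a → IsUnit a) (ι : O →+* ℂ)
    (hι : Function.Injective ι)
    (hroots : ∀ g : G, ¬ p ∣ orderOf g → ∀ z : ℂ, z ^ orderOf g = 1 → z ∈ Set.range ι)
    {x : G} (hx : orderOf x = p) (hp2 : ¬ p ^ 2 ∣ Nat.card G)
    (K0 : Subgroup G) (hKc : ∀ y ∈ K0, Commute y x)
    (hKn : ∀ n ∈ Subgroup.normalizer ((Subgroup.zpowers x : Subgroup G) : Set G), ∀ y ∈ K0, n * y * n⁻¹ ∈ K0)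
    (hK : ¬ p ∣ Nat.card K0) (hC : ∀ c, Commute c x → ∃ i : ℕ, ∃ y ∈ K0, c = x ^ i * y)
    (E : Finset (IrrCharacter G)) (hne : E.Nonempty)
    (hreg : ∀ η ∈ E, ∀ η' ∈ E, ∀ g : G, ¬ p ∣ orderOf g → (η : G → ℂ) g = (η' : G → ℂ) g)
    (hsing : ∀ g : G, p ∣ orderOf g → ∃ A : ℤ, ∑ η ∈ E, (η : G → ℂ) g = A)
    (B : ℤ) (hB : ∀ η ∈ E, ∀ y ∈ K0, ∑ i ∈ Finset.Ico 1 p, (η : G → ℂ) (x ^ i * y) = B) :
    ∃ k : IrrCharacter G → ℕ, 0 < ∑ η ∈ E, k η ∧
      (∀ g : G, ∑ η ∈ E, (k η : ℂ) * (η : G → ℂ) g ∈ Set.range ι) ∧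
      ((∑ η ∈ E, k η : ℕ) : ℤ) * |B| ≤ (p : ℤ) - 1 := by
  obtain ⟨k, hpos, hrange, W, ρ, hirr, hψE⟩ := family_lattice ι hι hroots E hne hreg fun g hg => by
    obtain ⟨A, hA⟩ := hsing g hg
    rw [hA]
    exact intCast_mem _ A
  refine ⟨k, hpos, hrange, ?_⟩
  set ψ : G → ℂ := fun g => ι (LinearMap.trace O W (ρ g)) with hψ
  replace hψE : ∀ g, ψ g = ∑ η ∈ E, (k η : ℂ) * (η : G → ℂ) g := hψE
  set S : O := ((((∑ η ∈ E, k η : ℕ) : ℤ) * B : ℤ) : O) with hS
  have hsum : ∀ y ∈ K0, ∑ i ∈ Finset.Ico 1 p, LinearMap.trace O W (ρ (x ^ i * y)) = S := by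
    intro y hy
    apply hι
    rw [map_sum, hS, map_intCast]
    calc ∑ i ∈ Finset.Ico 1 p, ψ (x ^ i * y)
        = ∑ η ∈ E, (k η : ℂ) * ∑ i ∈ Finset.Ico 1 p, (η : G → ℂ) (x ^ i * y) := by
          simp only [hψE, Finset.mul_sum]
          rw [Finset.sum_comm]
      _ = _ := by
          rw [Finset.sum_congr rfl fun η hη => by rw [hB η hη y hy], ← Finset.sum_mul]
          push_cast; rfl
  have hb := Lattice.trace_sum_bound ρ hnu hunit hx hp2 K0 hKc hKn hK hC hirr S hsum
  have hpz : ((p - 1 : ℕ) : ℤ) = (p : ℤ) - 1 := by have := hp.out.one_le; omega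
  rw [hS, ← Int.cast_natCast (R := O) (p - 1), ← Int.cast_neg, ← Int.cast_zero (R := O)] at hb
  have hp1 : (0 : ℤ) ≤ (p : ℤ) - 1 := by have := hp.out.one_le; omega
  rw [← Nat.abs_cast (R := ℤ) (∑ η ∈ E, k η), ← abs_mul]
  rcases hb with h | h | h <;> rw [Int.cast_injective h]
  · simpa using hp1
  · rw [hpz, abs_of_nonneg hp1]
  · rw [hpz, abs_neg, abs_of_nonneg hp1]

end Family

end CfsgLib.Blocks.CharLattice
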