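import Cfsg.Agent.Lib.Blocks.PrincipalPrimeDegree
import Cfsg.Agent.Lib.CharDeep.Glauberman.CoprimeDegree
import Cfsg.Agent.Lib.CharDeep.Glauberman.Subgroups
import Cfsg.Agent.Lib.Coprime.Action
import Cfsg.Agent.Lib.Coprime.Sylow
import Cfsg.Agent.Lib.Coprime.Abelian
import Cfsg.Agent.Lib.Char.Quotient

/-!
# Commuting Sylow subgroups from degrees in the principal blocks (Navarro-Wolf)
-/

set_option autoImplicit false
set_option linter.style.haveILetI false
set_option linter.unusedSectionVars false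

open Subgroup
open scoped ComplexConjugate commutatorElement

universe u

namespace CfsgLib.Blocks.CommutingSylows

open Cfsg CfsgLib.Blocks

variable {G : Type u} [Group G] [Finite G]

/-- The degree condition between the two primes. -/
def Cross (p q : ℕ) (M : Ideal AlgInt) (G : Type u) [Group G] : Prop :=
  ∀ χ : IrrCharacter G, χ ∈ principalBlock M G →
    ¬ p ∣ charDegree (χ : G → ℂ) → ¬ q ∣ charDegree (χ : G → ℂ)

/-- The degree condition on all the irreducible characters. -/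
def AllCross (q p : ℕ) (G : Type u) [Group G] : Prop :=
  ∀ χ : IrrCharacter G, ¬ q ∣ charDegree (χ : G → ℂ) → ¬ p ∣ charDegree (χ : G → ℂ)

/-- Two Sylow subgroups commute elementwise. -/
def Commuting (p q : ℕ) (G : Type u) [Group G] : Prop :=
  ∃ (P : Sylow p G) (Q : Sylow q G), ∀ x ∈ (P : Subgroup G), ∀ y ∈ (Q : Subgroup G), x * y = y * x

theorem Commuting.symm {p q : ℕ} (h : Commuting p q G) : Commuting q p G := by
  obtain ⟨P, Q, h⟩ := h
  exact ⟨Q, P, fun x hx y hy => (h y hy x hx).symm⟩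

theorem charDegree_inflate [Fintype G] (N : Subgroup G) [N.Normal] (ψ : IrrCharacter (G ⧸ N)) :
    charDegree (inflate N ψ : G → ℂ) = charDegree (ψ : G ⧸ N → ℂ) := by
  rw [charDegree, charDegree, inflate_apply, map_one]

theorem AllCross.quotient {p q : ℕ} (h : AllCross q p G) (N : Subgroup G) [N.Normal] :
    AllCross q p (G ⧸ N) := fun χ hχ => by
  haveI : Fintype G := Fintype.ofFinite _
  rw [← charDegree_inflate N χ] at hχ ⊢
  exact h _ hχ

theorem Cross.quotient {p q : ℕ} [Fact p.Prime] {M : Ideal AlgInt} (hM : IsPModular p M)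
    (h : Cross p q M G) (N : Subgroup G) [N.Normal] : Cross p q M (G ⧸ N) := by
  haveI : Fintype G := Fintype.ofFinite _
  haveI : Fintype (G ⧸ N) := Fintype.ofFinite _
  intro χ hχ hd
  rw [← charDegree_inflate N χ] at hd ⊢
  exact h _ (sameBlock_inflate hM (χ := trivChar _) hχ) hd

/-- In a `p`-solvable group a `q`-subgroup centralising a Sylow `p`-subgroup is in `O_{p'}`. -/
theorem le_pPrimeCore_of_commute {p q : ℕ} [Fact p.Prime] [Fact q.Prime] (hpq : p ≠ q)
    (hps : IsPSolvable p G) (P : Sylow p G) {Q : Subgroup G} (hQ : IsPGroup q Q)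
    (hc : ∀ x ∈ (P : Subgroup G), ∀ y ∈ Q, x * y = y * x) : Q ≤ pPrimeCore p G := by
  set O := pPrimeCore p G with hO
  set π := QuotientGroup.mk' O
  have hC := CfsgLib.Fusion.PSolvable.centralizer_pCore_le
    (CfsgLib.Fusion.PSolvable.psolvable_quotient hps O)
    (CfsgLib.Components.pPrimeCore_quotient_eq_bot (G := G) (p := p))
  intro y hy
  have h1 : π y ∈ centralizer (pCore p (G ⧸ O) : Set (G ⧸ O)) := mem_centralizer_iff.2 fun z hz => by
    have hz' := CfsgLib.Solvable.Cores.pCore_le_sylow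
      (P.mapSurjective (QuotientGroup.mk'_surjective O)) hz
    rw [Sylow.coe_mapSurjective] at hz'
    obtain ⟨x, hx, rfl⟩ := mem_map.1 hz'
    rw [← map_mul, ← map_mul, hc x hx y hy]
  obtain ⟨k, hk⟩ := (CfsgLib.Solvable.Cores.isPGroup_pCore (G := G ⧸ O) p) ⟨π y, hC h1⟩
  obtain ⟨m, hm⟩ := hQ ⟨y, hy⟩
  have hd1 : orderOf (π y) ∣ p ^ k := orderOf_dvd_of_pow_eq_one (congrArg Subtype.val hk)
  have hd2 : orderOf (π y) ∣ q ^ m :=
    (orderOf_map_dvd _ _).trans (orderOf_dvd_of_pow_eq_one (congrArg Subtype.val hm))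
  exact (QuotientGroup.eq_one_iff _).1 (orderOf_eq_one_iff.1 (Nat.eq_one_of_dvd_coprimes
    (((Nat.coprime_primes (Fact.out : p.Prime) (Fact.out : q.Prime)).2 hpq).pow k m) hd1 hd2))

/-- Commuting Sylow subgroups give the degree condition. -/
theorem cross_of_commuting {p q : ℕ} [Fact p.Prime] [Fact q.Prime] (hpq : p ≠ q) {M : Ideal AlgInt}
    (hM : IsPModular p M) (hps : IsPSolvable p G) (h : Commuting p q G) : Cross p q M G := by
  haveI : Fintype G := Fintype.ofFinite _
  obtain ⟨P, Q, hc⟩ := h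
  intro χ hχ _ hd
  set O := pPrimeCore p G
  have hker : O ≤ irrKer χ :=
    le_irrKer_of_sameBlock hM inferInstance
      (((Fact.out : p.Prime).coprime_iff_not_dvd).1
        (CfsgLib.Solvable.Cores.coprime_card_pPrimeCore (G := G) p).symm)
      (χ := trivChar G) hχ fun x _ => mem_irrKer.2 rfl
  obtain ⟨ψ, hψ, he⟩ := CfsgLib.Char.IsIrrCharacter.exists_deflate χ.2 O
    fun n hn => mem_irrKer.1 (hker hn)
  have hdeg : charDegree (χ : G → ℂ) = charDegree ψ := by
    rw [charDegree, charDegree, he, Function.comp_apply, map_one]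
  haveI : Fintype (G ⧸ O) := Fintype.ofFinite _
  have h1 := hd.trans ((hdeg ▸ charDegree_dvd ⟨ψ, hψ⟩ :
    charDegree (χ : G → ℂ) ∣ Nat.card (G ⧸ O)))
  exact Q.not_dvd_index (h1.trans (index_eq_card O ▸
    index_dvd_of_le (le_pPrimeCore_of_commute hpq hps P Q.isPGroup' hc)))

/-- A subgroup meeting all the conjugacy classes is everything. -/
theorem eq_top_of_meets {D : Type*} [Group D] [Finite D] (E : Subgroup D)
    (h : ∀ d : D, ∃ e ∈ E, IsConj e d) : E = ⊤ := by
  classical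
  haveI : Fintype D := Fintype.ofFinite _
  haveI : ∀ d : D, Fintype (MulAction.fixedBy (D ⧸ E) d) := fun _ => Fintype.ofFinite _
  haveI : Fintype (Quotient (MulAction.orbitRel D (D ⧸ E))) := Fintype.ofFinite _
  have hb := MulAction.sum_card_fixedBy_eq_card_orbits_mul_card_group D (D ⧸ E)
  haveI : Subsingleton (Quotient (MulAction.orbitRel D (D ⧸ E))) :=
    MulAction.pretransitive_iff_subsingleton_quotient D (D ⧸ E) |>.1 inferInstance
  have h1 : Fintype.card (Quotient (MulAction.orbitRel D (D ⧸ E))) ≤ 1 :=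
    Fintype.card_le_one_iff_subsingleton.2 inferInstance
  have hpos : ∀ d : D, 1 ≤ Fintype.card (MulAction.fixedBy (D ⧸ E) d) := fun d => by
    obtain ⟨e, he, hed⟩ := h d
    obtain ⟨w, rfl⟩ := isConj_iff.1 hed
    refine Fintype.card_pos_iff.2 ⟨⟨(w : D ⧸ E), ?_⟩⟩
    rw [MulAction.mem_fixedBy]
    refine QuotientGroup.eq.2 ?_
    simpa [mul_assoc] using inv_mem he
  have hsum : ∑ d : D, Fintype.card (MulAction.fixedBy (D ⧸ E) d) ≤ ∑ _d : D, 1 := by
    rw [hb]
    refine (Nat.mul_le_mul_right _ h1).trans ?_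
    simp
  have hone := (Finset.sum_eq_sum_iff_of_le fun d (_ : d ∈ Finset.univ) => hpos d).1
    (le_antisymm (Finset.sum_le_sum fun d _ => hpos d) hsum) 1 (Finset.mem_univ _)
  have hcard : Nat.card (D ⧸ E) = 1 := by
    rw [hone, Fintype.card_eq_nat_card]
    exact Nat.card_congr ⟨fun x => ⟨x, one_smul D x⟩, fun x => x.1, fun _ => rfl, fun _ => rfl⟩
  exact index_eq_one.1 hcard

/-- If `x` fixes all the `Q`-invariant characters of a group `L` of order prime to `Q` and to `x`,
then `x` centralises `C_L(Q)`. -/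
theorem centralize_fixed {q p : ℕ} [Fact q.Prime] [Fact p.Prime] (Q L : Subgroup G) [L.Normal]
    (x : G) (hQ : IsPGroup q Q) (hx : IsPGroup p (zpowers x)) (hqL : ¬ q ∣ Nat.card L)
    (hpL : ¬ p ∣ Nat.card L) (hxQ : ∀ y ∈ Q, x * y = y * x)
    (hfix : ∀ θ : IrrCharacter L, (∀ y ∈ Q, Char.conjG (θ : L → ℂ) y = θ) →
      Char.conjG (θ : L → ℂ) x = θ) :
    ∀ l ∈ L, (∀ y ∈ Q, y * l = l * y) → x * l = l * x := by
  classical
  haveI : Fintype L := Fintype.ofFinite _
  set T := zpowers x with hT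
  let φQ : Q →* MulAut L := (MulAut.conjNormal (G := G) (H := L)).comp Q.subtype
  let m : Q × T →* G := MonoidHom.noncommCoprod Q.subtype T.subtype (fun y t => by
    obtain ⟨i, hi⟩ := mem_zpowers_iff.1 t.2
    have h1 : Commute (y : G) x := (hxQ y y.2).symm
    show Commute (y : G) (t : G)
    rw [← hi]
    exact h1.zpow_right i)
  let φS : Q × T →* MulAut L := (MulAut.conjNormal (G := G) (H := L)).comp m
  haveI : Group.IsNilpotent Q := hQ.isNilpotent
  haveI : Group.IsNilpotent T := hx.isNilpotent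
  obtain ⟨a, ha⟩ := IsPGroup.iff_card.1 hQ
  obtain ⟨b, hb⟩ := IsPGroup.iff_card.1 hx
  have hcQ : (Nat.card L).Coprime (Nat.card Q) := by
    rw [ha]
    exact (((Fact.out : q.Prime).coprime_iff_not_dvd.2 hqL).pow_left a).symm
  have hcS : (Nat.card L).Coprime (Nat.card (Q × T)) := by
    rw [Nat.card_prod]
    refine hcQ.mul_right ?_
    rw [hb]
    exact (((Fact.out : p.Prime).coprime_iff_not_dvd.2 hpL).pow_left b).symm
  have hsub : ∀ y : Q, φS (y, 1) = φQ y := fun y => by
    show MulAut.conjNormal (m (y, 1)) = MulAut.conjNormal (y : G)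
    congr 1
    simp [m]
  have hInv : ∀ χ : IrrCharacter L, CharDeep.Glauberman.Inv φS (χ : L → ℂ) ↔
      CharDeep.Glauberman.Inv φQ (χ : L → ℂ) := by
    intro χ
    refine ⟨fun h y g => ?_, fun h s g => ?_⟩
    · rw [← hsub y]
      exact h _ g
    · have hy : ∀ y ∈ Q, Char.conjG (χ : L → ℂ) y = χ := fun y hy => by
        funext n
        rw [Char.conjG_eq_comp, Function.comp_apply]
        exact h ⟨y, hy⟩ n
      have hxs : x ∈ Char.stab (χ : L → ℂ) := hfix χ hy
      have hm : m s ∈ Char.stab (χ : L → ℂ) := by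
        have e : m s = (s.1 : G) * (s.2 : G) := by simp [m]
        rw [e]
        exact mul_mem (hy _ s.1.2) (zpowers_le.2 hxs s.2.2)
      have := congrFun (Char.mem_stab.1 hm) g
      rw [Char.conjG_eq_comp, Function.comp_apply] at this
      exact this
  have hcl : ∀ K : ConjClasses L, CharDeep.Glauberman.InvClass φS K ↔
      CharDeep.Glauberman.InvClass φQ K := by
    have himp : ∀ K : ConjClasses L, CharDeep.Glauberman.InvClass φS K →
        CharDeep.Glauberman.InvClass φQ K := fun K h y g hg => by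
      rw [← hsub y]
      exact h _ g hg
    have hcard : Nat.card {K : ConjClasses L // CharDeep.Glauberman.InvClass φS K} =
        Nat.card {K : ConjClasses L // CharDeep.Glauberman.InvClass φQ K} := by
      rw [← CharDeep.Glauberman.card_inv φS hcS, ← CharDeep.Glauberman.card_inv φQ hcQ]
      exact Nat.card_congr (Equiv.subtypeEquivRight hInv)
    intro K
    refine ⟨himp K, fun hK => ?_⟩
    let f : {K : ConjClasses L // CharDeep.Glauberman.InvClass φS K} →
        {K : ConjClasses L // CharDeep.Glauberman.InvClass φQ K} := fun K => ⟨K.1, himp _ K.2⟩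
    have hf : Function.Injective f := fun K K' e => Subtype.ext (congrArg Subtype.val e :)
    obtain ⟨K', hK'⟩ := ((Nat.bijective_iff_injective_and_card f).2 ⟨hf, hcard⟩).2 ⟨K, hK⟩
    rw [show K = K'.1 from (congrArg Subtype.val hK').symm]
    exact K'.2
  -- fixed points of `Q`
  let D := CharDeep.Glauberman.fixSub φQ
  haveI : Fintype D := Fintype.ofFinite _
  have hD : ∀ g : L, g ∈ D ↔ ∀ y ∈ Q, y * (g : G) = (g : G) * y := by
    intro g
    rw [CharDeep.Glauberman.mem_fixSub]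
    refine ⟨fun h y hy => ?_, fun h y => Subtype.ext ?_⟩
    · have := congrArg Subtype.val (h ⟨y, hy⟩)
      simp only [φQ, MonoidHom.comp_apply, Subgroup.coe_subtype, MulAut.conjNormal_apply] at this
      exact mul_inv_eq_iff_eq_mul.1 this
    · simp only [φQ, MonoidHom.comp_apply, Subgroup.coe_subtype, MulAut.conjNormal_apply]
      exact mul_inv_eq_iff_eq_mul.2 (h y y.2)
  let φT : T →* MulAut L := (MulAut.conjNormal (G := G) (H := L)).comp T.subtype
  have hinvD : ∀ t, ∀ g ∈ D, φT t g ∈ D := by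
    intro t g hg
    rw [hD] at hg ⊢
    intro y hy
    obtain ⟨i, hi⟩ := mem_zpowers_iff.1 t.2
    have h1 : Commute y (t : G) := by
      rw [← hi]
      exact Commute.zpow_right (show Commute y x from (hxQ y hy).symm) i
    have h2 : Commute y (g : G) := hg y hy
    have h3 : Commute y ((t : G) * g * (t : G)⁻¹) := (h1.mul_right h2).mul_right h1.inv_right
    simp only [φT, MonoidHom.comp_apply, Subgroup.coe_subtype, MulAut.conjNormal_apply]
    exact h3.eq
  let ψ := CharDeep.Glauberman.resAut φT D hinvD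
  have hDp : ¬ p ∣ Nat.card D := fun h => hpL (h.trans (card_subgroup_dvd_card D))
  have hsetT : CharDeep.Glauberman.Setup p ψ (CharDeep.Glauberman.fixSub ψ).subtype :=
    { prime := Fact.out
      pgroup := hx
      inj := Subtype.val_injective
      range_iff := fun g => ⟨fun h => ⟨⟨g, h⟩, rfl⟩, by rintro ⟨c, rfl⟩; exact c.2⟩
      not_dvd := hDp }
  have hsetQ : CharDeep.Glauberman.Setup q φQ D.subtype :=
    { prime := Fact.out
      pgroup := hQ
      inj := Subtype.val_injective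
      range_iff := fun g => ⟨fun h => ⟨⟨g, h⟩, rfl⟩, by rintro ⟨c, rfl⟩; exact c.2⟩
      not_dvd := hqL }
  haveI : Fintype (CharDeep.Glauberman.fixSub ψ) := Fintype.ofFinite _
  have htop : CharDeep.Glauberman.fixSub ψ = ⊤ := by
    refine eq_top_of_meets _ fun d => ?_
    have hd : CharDeep.Glauberman.InvClass φQ (ConjClasses.mk (d : L)) := by
      rw [CharDeep.Glauberman.invClass_mk]
      exact fun y => by rw [d.2 y]
    rw [← hcl, CharDeep.Glauberman.invClass_mk] at hd
    obtain ⟨c, hc⟩ := hsetT.exists_of_fixed_class (g := d) fun t => by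
      refine hsetQ.isConj_of_isConj ?_
      have := hd (1, t)
      have e : φS (1, t) = φT t := by
        show MulAut.conjNormal (m (1, t)) = MulAut.conjNormal (t : G)
        congr 1
        simp [m]
      rw [e] at this
      exact this
    exact ⟨c, c.2, hc⟩
  intro l hl hlQ
  have hlD : (⟨l, hl⟩ : L) ∈ D := (hD _).2 hlQ
  have h1 : (⟨⟨l, hl⟩, hlD⟩ : D) ∈ CharDeep.Glauberman.fixSub ψ := htop ▸ mem_top _
  have h2 := congrArg (fun z : D => ((z : L) : G)) (h1 ⟨x, mem_zpowers x⟩)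
  simp only [ψ, CharDeep.Glauberman.resAut_apply, φT, MonoidHom.comp_apply, Subgroup.coe_subtype,
    MulAut.conjNormal_apply] at h2
  exact mul_inv_eq_iff_eq_mul.1 h2

/-- A subgroup invariant under `Q` that holds some Sylow subgroup of `R` holds `P`. -/
theorem sylow_le {q p : ℕ} [Fact q.Prime] [Fact p.Prime] (R : Subgroup G) [R.Normal] (Q : Subgroup G)
    (hQ : IsPGroup q Q) (hqR : ¬ q ∣ Nat.card R) (P : Sylow p G) (hPR : (P : Subgroup G) ≤ R)
    (hPQ : ∀ x ∈ (P : Subgroup G), ∀ y ∈ Q, x * y = y * x)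
    (S : Subgroup G) (hQS : Q ≤ normalizer (S : Set G)) (hS : ¬ p ∣ S.index) :
    ∃ c ∈ R, (∀ y ∈ Q, c * y = y * c) ∧
      (P : Subgroup G).map (MulAut.conj c).toMonoidHom ≤ S := by
  classical
  haveI : Group.IsNilpotent Q := hQ.isNilpotent
  obtain ⟨k, hk⟩ := IsPGroup.iff_card.1 hQ
  have hcR : (Nat.card Q).Coprime (Nat.card R) := by
    rw [hk]
    exact ((Fact.out : q.Prime).coprime_iff_not_dvd.2 hqR).pow_left k
  have hQR : Q ≤ normalizer (R : Set G) := fun x _ => by rw [normalizer_eq_top R]; exact mem_top x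
  have hsol : Group.IsSolvable Q := inferInstance
  have hQS' : Q ≤ normalizer ((S ⊓ R : Subgroup G) : Set G) := by
    refine le_normalizer_iff.2 fun y hy s hs => ⟨le_normalizer_iff.1 hQS y hy s hs.1, ?_⟩
    exact Subgroup.Normal.conj_mem inferInstance s hs.2 y
  obtain ⟨P₁, hP₁⟩ := Coprime.exists_invariant_sylow hQS'
    (hcR.coprime_dvd_right (card_dvd_of_le inf_le_right)) (Or.inl hsol) p
  set A := (P₁ : Subgroup ↥(S ⊓ R : Subgroup G)).map (S ⊓ R : Subgroup G).subtype with hA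
  have hAS : A ≤ S ⊓ R := map_subtype_le _
  have hAp : IsPGroup p A := P₁.isPGroup'.map _
  have hAR : ¬ p ∣ (A.subgroupOf R).index := by
    have h1 : A.relIndex (S ⊓ R) * (S ⊓ R).relIndex R = A.relIndex R :=
      relIndex_mul_relIndex _ _ _ hAS inf_le_right
    rw [← relIndex, ← h1]
    refine (Fact.out : p.Prime).not_dvd_mul ?_ ?_
    · rw [hA, relIndex, ← comap_subtype, comap_map_eq_self_of_injective (subtype_injective _)]
      exact P₁.not_dvd_index
    · intro h
      have h2 : ((S ⊓ R).relIndex R) * R.index = (S ⊓ R).relIndex S * S.index := by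
        rw [relIndex_mul_index inf_le_right, relIndex_mul_index inf_le_left]
      have h3 : ¬ p ∣ R.index := fun hd => P.not_dvd_index (hd.trans (index_dvd_of_le hPR))
      have h4 : ¬ p ∣ (S ⊓ R).relIndex S := fun hd => h3 (hd.trans (by
        rw [inf_relIndex_left]
        exact relIndex_dvd_index_of_normal R S))
      exact (Fact.out : p.Prime).not_dvd_mul h4 hS (h2 ▸ h.mul_right _)
  have hPidx : ¬ p ∣ ((P : Subgroup G).subgroupOf R).index :=
    fun h => P.not_dvd_index (h.trans (by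
      rw [← relIndex]
      exact ⟨R.index, (relIndex_mul_index hPR).symm⟩))
  let PR : Sylow p R := (P.isPGroup'.comap_subtype (K := R)).toSylow hPidx
  let AR : Sylow p R := (hAp.comap_subtype (K := R)).toSylow hAR
  have ePR : (PR : Subgroup R).map R.subtype = P := map_subgroupOf_eq_of_le hPR
  have eAR : (AR : Subgroup R).map R.subtype = A := map_subgroupOf_eq_of_le (hAS.trans inf_le_right)
  obtain ⟨c, hc, hcP⟩ := Coprime.exists_centralizer_conj_sylow (A := Q) hQR hcR (Or.inl hsol) PR AR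
    (by
      rw [ePR]
      exact le_normalizer_iff.2 fun y hy s hs => by rwa [← hPQ s hs y hy, mul_inv_cancel_right])
    (by rw [eAR]; exact hP₁)
  refine ⟨c, c.2, fun y hy => (mem_centralizer_iff.1 hc y hy).symm, ?_⟩
  have h2 := congrArg (fun T : Sylow p R => (T : Subgroup R).map R.subtype) hcP
  simp only [Coprime.map_smul_sylow, ePR, eAR] at h2
  exact h2 ▸ hAS.trans inf_le_left

/-- A character of `q'`-degree over a character of a subgroup of `q'`-index. -/
theorem exists_over_subgroup {q : ℕ} [Fact q.Prime] [Fintype G] (H : Subgroup G) (hH : ¬ q ∣ H.index)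
    [Fintype H] {χ : H → ℂ} (hχ : IsIrrCharacter H χ) {d : ℕ} (hd : χ 1 = d) (hqd : ¬ q ∣ d) :
    ∃ ξ : IrrCharacter G, ¬ q ∣ charDegree (ξ : G → ℂ) ∧
      Cfsg.classInner ((ξ : G → ℂ) ∘ H.subtype) χ ≠ 0 := by
  have hind := CfsgLib.Char.IsCharacter.indFun H (CfsgLib.Char.IsIrrCharacter.isCharacter hχ)
  obtain ⟨ξ, f, hξ, hin, hf, hpf⟩ := CfsgLib.Char.LinearOverNormal.exists_constituent_not_dvd hind
    (k := H.index * d) (by rw [CfsgLib.Char.indFun_one, hd, Nat.cast_mul])
    ((Fact.out : q.Prime).not_dvd_mul hH hqd)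
  refine ⟨⟨ξ, hξ⟩, by
    show ¬ q ∣ charDegree ξ
    rwa [charDegree, hf, Complex.natCast_re, Nat.floor_natCast], ?_⟩
  rw [CfsgLib.Char.classInner_indFun H _ (CfsgLib.Char.IsIrrCharacter.isClassFunction hξ),
    ← CfsgLib.Char.classInner_conj_symm] at hin
  exact (map_ne_zero _).1 hin

/-- The stabiliser of a character under a character of `p'`-degree has `p'`-index. -/
theorem not_dvd_stab_index {p : ℕ} [Fintype G] (N : Subgroup G) [N.Normal] [Fintype N]
    (ξ : IrrCharacter G) {θ : N → ℂ} (hθ : IsIrrCharacter N θ)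
    (h : Cfsg.classInner ((ξ : G → ℂ) ∘ N.subtype) θ ≠ 0) (hξ : ¬ p ∣ charDegree (ξ : G → ℂ)) :
    ¬ p ∣ (CfsgLib.Char.stab (G := G) θ).index := by
  obtain ⟨d, hd0, hd⟩ := CfsgLib.Char.IsIrrCharacter.apply_one_eq ξ.2
  obtain ⟨k, hk0, hk⟩ := CfsgLib.Char.IsIrrCharacter.apply_one_eq hθ
  have hdvd := CfsgLib.Char.LinearOverNormal.index_stab_mul_dvd ξ.2 hθ h hd hk
  have hdeg : charDegree (ξ : G → ℂ) = d := by rw [charDegree, hd, Complex.natCast_re, Nat.floor_natCast]
  exact fun hp => hξ (hdeg ▸ hp.trans ((dvd_mul_right _ _).trans hdvd))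

/-- If every character of degree prime to `q` has degree prime to `p`, the centralizer of `Q` in a
normal `q'`-subgroup normalises a Sylow `p`-subgroup centralised by `Q`. -/
theorem normalize_of_allCross {q p : ℕ} [Fact q.Prime] [Fact p.Prime] : ∀ (n : ℕ) {G : Type u} [Group G]
    [Finite G], Nat.card G ≤ n → IsPSolvable p G → AllCross q p G → ∀ (R : Subgroup G), R.Normal →
    ¬ q ∣ Nat.card R → ∀ (Q : Sylow q G) (P : Sylow p G), (P : Subgroup G) ≤ R →
    (∀ x ∈ (P : Subgroup G), ∀ y ∈ (Q : Subgroup G), x * y = y * x) →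
    ∀ c ∈ R, (∀ y ∈ (Q : Subgroup G), c * y = y * c) →
      (P : Subgroup G).map (MulAut.conj c).toMonoidHom = P := by
  intro n
  induction n with
  | zero => intro G _ _ hn; exact absurd hn (not_le.2 Nat.card_pos)
  | succ n ih =>
  intro G _ _ hn hps hA R hR hqR Q P hPR hPQ c hc hcQ
  classical
  haveI : Fintype G := Fintype.ofFinite _
  by_cases hR0 : R = ⊥
  · have hc1 : c = 1 := mem_bot.1 (hR0 ▸ hc)
    rw [hc1, map_one]
    exact map_id _
  obtain ⟨L, hLn, hLR, hL0, hLd⟩ := CfsgLib.Fusion.PSolvable.exists_minimal_dichotomy hps (K := R) hR0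
  haveI := hLn
  set π := QuotientGroup.mk' L with hπ
  have hsur := QuotientGroup.mk'_surjective L
  have hlt : Nat.card (G ⧸ L) < Nat.card G := by
    rw [card_eq_card_quotient_mul_card_subgroup L]
    exact lt_mul_of_one_lt_right Nat.card_pos (one_lt_card_iff_ne_bot L |>.2 hL0)
  have hbar : ((P.mapSurjective hsur : Sylow p (G ⧸ L)) : Subgroup (G ⧸ L)).map
      (MulAut.conj (π c)).toMonoidHom = (P.mapSurjective hsur : Sylow p (G ⧸ L)) := by
    refine ih (by omega) (CfsgLib.Fusion.PSolvable.psolvable_quotient hps L) (hA.quotient L) (R.map π)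
      (hR.map π hsur) (fun h => hqR (h.trans (card_map_dvd _ _))) (Q.mapSurjective hsur)
      (P.mapSurjective hsur) ?_ ?_ (π c) (mem_map_of_mem _ hc) ?_
    · rw [Sylow.coe_mapSurjective]
      exact map_mono hPR
    · rw [Sylow.coe_mapSurjective, Sylow.coe_mapSurjective]
      rintro _ ⟨x, hx, rfl⟩ _ ⟨y, hy, rfl⟩
      rw [← map_mul, ← map_mul, hPQ x hx y hy]
    · rw [Sylow.coe_mapSurjective]
      rintro _ ⟨y, hy, rfl⟩
      rw [← map_mul, ← map_mul, hcQ y hy]
  -- so `c` normalises `P L`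
  have hcom : ((P : Subgroup G) ⊔ L).map (MulAut.conj c).toMonoidHom ≤ (P : Subgroup G) ⊔ L := by
    rintro _ ⟨z, hz, rfl⟩
    have hk : ∀ w : G, w ∈ (P : Subgroup G) ⊔ L ↔ π w ∈ (P : Subgroup G).map π := fun w => by
      rw [← mem_comap, comap_map_eq, QuotientGroup.ker_mk']
    replace hz := (hk z).1 hz
    rw [hk]
    rw [Sylow.coe_mapSurjective] at hbar
    rw [← hbar]
    exact ⟨π z, hz, by simp⟩
  refine eq_of_le_of_card_ge ?_ (le_of_eq (card_map_of_injective (MulAut.conj c).injective).symm)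
  rcases hLd with hLp | hLp
  · -- `L` is a `p`-subgroup
    have hLP : L ≤ P := le_trans (CfsgLib.Solvable.Cores.le_pCore hLp) (CfsgLib.Solvable.Cores.pCore_le_sylow P)
    rw [sup_eq_left.2 hLP] at hcom
    exact hcom
  have hpL : ¬ p ∣ Nat.card L := (Fact.out : p.Prime).coprime_iff_not_dvd.1 hLp.symm
  have hqL : ¬ q ∣ Nat.card L := fun h => hqR (h.trans (card_dvd_of_le hLR))
  haveI : Fintype L := Fintype.ofFinite _
  have hfixP : ∀ x ∈ (P : Subgroup G), ∀ θ : IrrCharacter L,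
      (∀ y ∈ (Q : Subgroup G), Char.conjG (θ : L → ℂ) y = θ) → Char.conjG (θ : L → ℂ) x = θ := by
    intro x hx θ hθ
    set S := CfsgLib.Char.stab (G := G) (θ : L → ℂ) with hS
    have hLS : L ≤ S := CfsgLib.Char.le_stab (CfsgLib.Char.IsIrrCharacter.isClassFunction θ.2)
    -- extend to `L Q`
    set H := L ⊔ (Q : Subgroup G) with hH
    haveI : Fintype H := Fintype.ofFinite _
    haveI : (L.subgroupOf H).Normal := inferInstance
    have hHidx : ¬ q ∣ H.index := fun h => Q.not_dvd_index (h.trans (index_dvd_of_le le_sup_right))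
    have hcardH : Nat.card H = Nat.card L * Nat.card (Q : Subgroup G) :=
      Coprime.card_sup_of_le_normalizer (fun x _ => by rw [normalizer_eq_top L]; exact mem_top x) (by
        obtain ⟨k, hk⟩ := IsPGroup.iff_card.1 Q.isPGroup'
        exact disjoint_iff.2 (inf_eq_bot_of_coprime (hk ▸
          (((Fact.out : q.Prime).coprime_iff_not_dvd.2 hqL).pow_left k).symm)))
    let e : ↥(L.subgroupOf H) ≃* L := subgroupOfEquivOfLe le_sup_left
    have hθ' : IsIrrCharacter ↥(L.subgroupOf H) ((θ : L → ℂ) ∘ e) :=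
      CfsgLib.Char.IsIrrCharacter.comp_surjective θ.2 e.toMonoidHom e.surjective
    have hcopH : (Nat.card ↥(L.subgroupOf H)).Coprime (L.subgroupOf H).index := by
      obtain ⟨k, hk⟩ := IsPGroup.iff_card.1 Q.isPGroup'
      rw [Nat.card_congr e.toEquiv]
      have h1 := (L.subgroupOf H).card_mul_index
      rw [Nat.card_congr e.toEquiv, hcardH] at h1
      rw [mul_left_cancel₀ Nat.card_pos.ne' h1, hk]
      exact (((Fact.out : q.Prime).coprime_iff_not_dvd.2 hqL).pow_left k).symm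
    have hHS : H ≤ S := sup_le hLS fun y hy => hθ y hy
    obtain ⟨χ, hχ⟩ := CharDeep.Glauberman.exists_irr_extension hcopH ⟨_, hθ'⟩ fun g m => by
      have := congrFun (CfsgLib.Char.mem_stab.1 (hHS g.2)) (e m)
      rw [CfsgLib.Char.conjG_apply] at this
      refine Eq.trans ?_ this
      exact congrArg (θ : L → ℂ) (Subtype.ext rfl)
    obtain ⟨d, hd0, hd⟩ := CfsgLib.Char.IsIrrCharacter.apply_one_eq θ.2
    have hχ1 : (χ : H → ℂ) 1 = d := by
      have := hχ 1
      rw [OneMemClass.coe_one] at this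
      rw [this, ← hd]
      exact congrArg (θ : L → ℂ) (Subtype.ext rfl)
    have hqd : ¬ q ∣ d := fun h => hqL (h.trans (by
      have := charDegree_dvd θ
      rwa [charDegree, hd, Complex.natCast_re, Nat.floor_natCast] at this))
    obtain ⟨ξ, hξd, hξ⟩ := exists_over_subgroup H hHidx χ.2 hχ1 hqd
    have hover : Cfsg.classInner ((ξ : G → ℂ) ∘ L.subtype) (θ : L → ℂ) ≠ 0 := by
      have hres : (χ : H → ℂ) ∘ (inclusion (le_sup_left : L ≤ H)) = (θ : L → ℂ) := funext fun m => by
        have := hχ (e.symm m)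
        rw [Function.comp_apply, show (θ : L → ℂ) m = (θ : L → ℂ) (e (e.symm m)) by rw [e.apply_symm_apply]]
        exact this
      have h1 := CharDeep.Clifford.classInner_ne_zero_trans
        (CfsgLib.Char.IsCharacter.comp (CfsgLib.Char.IsIrrCharacter.isCharacter ξ.2) H.subtype) χ.2 hξ
        (inclusion (le_sup_left : L ≤ H)) (CfsgLib.Char.IsIrrCharacter.isCharacter θ.2)
        (by rw [hres, CfsgLib.Char.classInner_irr_self θ.2]; exact one_ne_zero)
      exact h1
    have hidx : ¬ p ∣ S.index := not_dvd_stab_index L ξ θ.2 hover (hA ξ hξd)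
    obtain ⟨c', hc', hc'Q, hc'S⟩ := sylow_le R (Q : Subgroup G) Q.isPGroup' hqR P hPR hPQ S
      (le_trans (fun y hy => hθ y hy) le_normalizer) hidx
    -- `c'` normalises `P L` as well
    have hbar' : ((P.mapSurjective hsur : Sylow p (G ⧸ L)) : Subgroup (G ⧸ L)).map
        (MulAut.conj (π c')).toMonoidHom = (P.mapSurjective hsur : Sylow p (G ⧸ L)) := by
      refine ih (by omega) (CfsgLib.Fusion.PSolvable.psolvable_quotient hps L) (hA.quotient L) (R.map π)
        (hR.map π hsur) (fun h => hqR (h.trans (card_map_dvd _ _))) (Q.mapSurjective hsur)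
        (P.mapSurjective hsur) ?_ ?_ (π c') (mem_map_of_mem _ hc') ?_
      · rw [Sylow.coe_mapSurjective]
        exact map_mono hPR
      · rw [Sylow.coe_mapSurjective, Sylow.coe_mapSurjective]
        rintro _ ⟨x, hx, rfl⟩ _ ⟨y, hy, rfl⟩
        rw [← map_mul, ← map_mul, hPQ x hx y hy]
      · rw [Sylow.coe_mapSurjective]
        rintro _ ⟨y, hy, rfl⟩
        rw [← map_mul, ← map_mul, hc'Q y hy]
    rw [Sylow.coe_mapSurjective] at hbar'
    have hx' : π x ∈ ((P : Subgroup G).map π).map (MulAut.conj (π c')).toMonoidHom := by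
      rw [hbar']; exact mem_map_of_mem _ hx
    obtain ⟨_, ⟨z, hz, rfl⟩, he⟩ := hx'
    have hzS : c' * z * c'⁻¹ ∈ S := hc'S ⟨z, hz, by simp⟩
    have hl : (c' * z * c'⁻¹)⁻¹ * x ∈ L := by
      rw [← QuotientGroup.eq]
      simpa [π] using he
    have := mul_mem hzS (hLS hl)
    rwa [mul_inv_cancel_left] at this
  -- `P` centralises `C_L(Q)`
  rintro _ ⟨z, hz, rfl⟩
  have hw := hcom ⟨z, mem_sup_left hz, rfl⟩
  set w := (MulAut.conj c).toMonoidHom z with hwdef
  obtain ⟨x, hx, l, hl, hxl⟩ := mem_sup_of_normal_right.1 hw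
  have hwQ : ∀ y ∈ (Q : Subgroup G), Commute y w := fun y hy => by
    have h1 : Commute y c := (hcQ y hy).symm
    have h2 : Commute y z := (hPQ z hz y hy).symm
    have h3 := (h1.mul_right h2).mul_right h1.inv_right
    simpa [w] using h3
  have hlQ : ∀ y ∈ (Q : Subgroup G), y * l = l * y := fun y hy => by
    have h1 : Commute y x := (hPQ x hx y hy).symm
    have h2 := h1.inv_right.mul_right (hwQ y hy)
    rw [← hxl, inv_mul_cancel_left] at h2
    exact h2.eq
  have hxp : IsPGroup p (zpowers x) := P.isPGroup'.to_le (zpowers_le.2 hx)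
  have hcm : Commute x l := centralize_fixed (Q : Subgroup G) L x Q.isPGroup' hxp hqL hpL
    (hPQ x hx) (hfixP x hx) l hl hlQ
  obtain ⟨a, ha⟩ := P.isPGroup' ⟨z, hz⟩
  obtain ⟨b, hb⟩ := P.isPGroup' ⟨x, hx⟩
  have ha' : w ^ p ^ (a + b) = 1 := by
    rw [hwdef, ← map_pow, pow_add, pow_mul, show z ^ p ^ a = 1 from congrArg Subtype.val ha, one_pow,
      map_one]
  have hb' : x ^ p ^ (a + b) = 1 := by
    rw [add_comm a b, pow_add, pow_mul, show x ^ p ^ b = 1 from congrArg Subtype.val hb, one_pow]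
  have hl' : l ^ p ^ (a + b) = 1 := by
    rw [← hxl, hcm.mul_pow, hb', one_mul] at ha'
    exact ha'
  have hl1 : l = 1 := orderOf_eq_one_iff.1 (Nat.eq_one_of_dvd_coprimes
    (hLp.pow_right (a + b)) (Subgroup.orderOf_dvd_natCard L hl) (orderOf_dvd_of_pow_eq_one hl'))
  rw [← hxl, hl1, mul_one]
  exact hx

/-- The step with a minimal normal `q`-subgroup. -/
theorem commuting_of_step {q p : ℕ} [Fact q.Prime] [Fact p.Prime] (hpq : p ≠ q) {M : Ideal AlgInt}
    (hM : IsPModular q M) (hps : IsPSolvable p G) (hqs : IsPSolvable q G) (hX : Cross q p M G)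
    (N : Subgroup G) [N.Normal] (hN : IsPGroup q N) [IsMulCommutative N]
    (ih : ∀ (L : Subgroup G) [L.Normal], L ≠ ⊥ → Commuting p q (G ⧸ L)) (hN0 : N ≠ ⊥) :
    Commuting p q G := by
  classical
  haveI : Fintype G := Fintype.ofFinite _
  haveI : Fintype N := Fintype.ofFinite _
  have hsur := QuotientGroup.mk'_surjective N
  set π := QuotientGroup.mk' N with hπ
  obtain ⟨Pb, Qb, hb⟩ := ih N hN0
  obtain ⟨P, rfl⟩ := Sylow.mapSurjective_surjective hsur p Pb
  obtain ⟨Q, rfl⟩ := Sylow.mapSurjective_surjective hsur q Qb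
  rw [Sylow.coe_mapSurjective, Sylow.coe_mapSurjective] at hb
  have hNQ : N ≤ Q :=
    le_trans (CfsgLib.Solvable.Cores.le_pCore hN) (CfsgLib.Solvable.Cores.pCore_le_sylow Q)
  have hmod : ∀ x ∈ (P : Subgroup G), ∀ y ∈ (Q : Subgroup G), ⁅x, y⁆ ∈ N := fun x hx y hy => by
    rw [← QuotientGroup.eq_one_iff]
    show π ⁅x, y⁆ = 1
    rw [map_commutatorElement, commutatorElement_eq_one_iff_mul_comm]
    exact hb _ (mem_map_of_mem _ hx) _ (mem_map_of_mem _ hy)
  obtain ⟨a, ha⟩ := IsPGroup.iff_card.1 P.isPGroup'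
  have hcopP : ∀ {K : Subgroup G}, IsPGroup q K →
      (Nat.card (P : Subgroup G)).Coprime (Nat.card K) := fun {K} hK => by
    obtain ⟨b, hb'⟩ := IsPGroup.iff_card.1 hK
    rw [ha, hb']
    exact ((Nat.coprime_primes (Fact.out : p.Prime) (Fact.out : q.Prime)).2 hpq).pow a b
  refine ⟨P, Q, ?_⟩
  suffices hPN : ∀ x ∈ (P : Subgroup G), ∀ n ∈ N, x * n = n * x by
    intro x hx y hy
    have h1 : (P : Subgroup G) ≤ centralizer (N : Set G) := fun z hz =>
      mem_centralizer_iff.2 fun n hn => (hPN z hz n hn).symm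
    exact (mem_centralizer_iff.1 (Coprime.le_centralizer_of_stabilizes (hcopP hN) h1 hmod hx) y hy).symm
  by_cases hO : pPrimeCore q G ≠ ⊥
  · -- a normal `q'`-subgroup separates `P` from `N`
    set O := pPrimeCore q G with hOdef
    obtain ⟨P', Q', hc⟩ := ih O hO
    obtain ⟨P'', rfl⟩ := Sylow.mapSurjective_surjective (QuotientGroup.mk'_surjective O) p P'
    obtain ⟨Q'', rfl⟩ := Sylow.mapSurjective_surjective (QuotientGroup.mk'_surjective O) q Q'
    rw [Sylow.coe_mapSurjective, Sylow.coe_mapSurjective] at hc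
    have hNQ'' : N ≤ Q'' :=
      le_trans (CfsgLib.Solvable.Cores.le_pCore hN) (CfsgLib.Solvable.Cores.pCore_le_sylow Q'')
    have hdis : N ⊓ O = ⊥ := by
      obtain ⟨b, hb'⟩ := IsPGroup.iff_card.1 hN
      exact inf_eq_bot_of_coprime (hb' ▸
        (CfsgLib.Solvable.Cores.coprime_card_pPrimeCore (G := G) q).symm.pow_left b)
    have hP'' : ∀ x ∈ (P'' : Subgroup G), ∀ n ∈ N, x * n = n * x := fun x hx n hn => by
      rw [← commutatorElement_eq_one_iff_mul_comm, ← mem_bot, ← hdis]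
      refine ⟨?_, ?_⟩
      · exact Subgroup.commutator_le_right ⊤ N (commutator_mem_commutator (mem_top x) hn)
      · show ⁅x, n⁆ ∈ O
        rw [← QuotientGroup.eq_one_iff]
        show (QuotientGroup.mk' O) ⁅x, n⁆ = 1
        rw [map_commutatorElement, commutatorElement_eq_one_iff_mul_comm]
        exact hc _ (mem_map_of_mem _ hx) _ (mem_map_of_mem _ (hNQ'' hn))
    intro x hx n hn
    obtain ⟨g, hg⟩ := MulAction.exists_smul_eq G P'' P
    rw [← hg, Sylow.coe_subgroup_smul] at hx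
    obtain ⟨z, hz, rfl⟩ := hx
    have hn' : g⁻¹ * n * g ∈ N := Subgroup.Normal.conj_mem' inferInstance n hn g
    have h1 := hP'' z hz _ hn'
    simp only [MulDistribMulAction.toMonoidEnd_apply, MulDistribMulAction.toMonoidHom_apply,
      MulAut.smul_def, MulAut.conj_apply]
    calc g * z * g⁻¹ * n = g * (z * (g⁻¹ * n * g)) * g⁻¹ := by group
      _ = g * ((g⁻¹ * n * g) * z) * g⁻¹ := by rw [h1]
      _ = n * (g * z * g⁻¹) := by group
  push Not at hO
  have hall : AllCross q p G := fun χ hχ => hX χ (mem_principalBlock_of_constrained hM (pCore q G)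
    (CfsgLib.Solvable.Cores.isPGroup_pCore q) (CfsgLib.Fusion.PSolvable.centralizer_pCore_le hqs hO) χ) hχ
  -- the image of `P` lies in the normal `q'`-part of `G/N`
  set R := pPrimeCore q (G ⧸ N) with hR
  set Pb := P.mapSurjective hsur with hPb
  set Qb := Q.mapSurjective hsur with hQb
  have hbP : (Pb : Subgroup (G ⧸ N)) = (P : Subgroup G).map π := Sylow.coe_mapSurjective hsur P
  have hbQ : (Qb : Subgroup (G ⧸ N)) = (Q : Subgroup G).map π := Sylow.coe_mapSurjective hsur Q
  have hPR : (Pb : Subgroup (G ⧸ N)) ≤ R := le_pPrimeCore_of_commute (Ne.symm hpq)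
    (CfsgLib.Fusion.PSolvable.psolvable_quotient hqs N) Qb Pb.isPGroup'
    (fun y hy x hx => (hb x (hbP ▸ hx) y (hbQ ▸ hy)).symm)
  have hqR : ¬ q ∣ Nat.card R := (Fact.out : q.Prime).coprime_iff_not_dvd.1
    (CfsgLib.Solvable.Cores.coprime_card_pPrimeCore (G := G ⧸ N) q).symm
  have hPQb : ∀ x ∈ (Pb : Subgroup (G ⧸ N)), ∀ y ∈ (Qb : Subgroup (G ⧸ N)), x * y = y * x :=
    fun x hx y hy => hb x (hbP ▸ hx) y (hbQ ▸ hy)
  have hnorm := normalize_of_allCross (Nat.card (G ⧸ N)) le_rfl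
    (CfsgLib.Fusion.PSolvable.psolvable_quotient hps N) (hall.quotient N) R inferInstance hqR Qb Pb hPR hPQb
  -- `U = [Q, P]`
  haveI : Group.IsNilpotent (P : Subgroup G) := P.isPGroup'.isNilpotent
  haveI : Group.IsNilpotent (Q : Subgroup G) := Q.isPGroup'.isNilpotent
  have hPn : (P : Subgroup G) ≤ normalizer ((Q : Subgroup G) : Set G) := le_normalizer_iff.2
    fun x hx y hy => by
      have h1 := mul_mem (hNQ (hmod x hx y hy)) hy
      simpa [commutatorElement_def] using h1
  set U := ⁅(Q : Subgroup G), (P : Subgroup G)⁆ with hU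
  have hUN : U ≤ N := commutator_le.2 fun y hy x hx =>
    Coprime.commutatorElement_mem_iff.1 (hmod x hx y hy)
  set C := (Q : Subgroup G) ⊓ centralizer ((P : Subgroup G) : Set G) with hCdef
  have hQUC : U ⊔ C = (Q : Subgroup G) :=
    Coprime.commutator_sup_centralizer hPn (hcopP Q.isPGroup') (Or.inl inferInstance)
  have hUU : ⁅U, (P : Subgroup G)⁆ = U :=
    Coprime.commutator_commutator_self hPn (hcopP Q.isPGroup') (Or.inl inferInstance)
  have hPN' : (P : Subgroup G) ≤ normalizer (N : Set G) := fun x _ => by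
    rw [normalizer_eq_top N]; exact mem_top x
  have hzero := Coprime.centralizer_inf_commutator_eq_bot (A := (P : Subgroup G)) hPN' (hcopP hN)
  have hUN' : U ≤ ⁅N, (P : Subgroup G)⁆ := hUU ▸ commutator_mono hUN le_rfl
  have hUC : U ⊓ C = ⊥ := eq_bot_iff.2 fun u hu =>
    hzero ▸ mem_inf.2 ⟨mem_inf.2 ⟨hUN hu.1, hu.2.2⟩, hUN' hu.1⟩
  suffices hU0 : U = ⊥ by
    intro x hx n hn
    have h1 : ⁅n, x⁆ ∈ U := commutator_mem_commutator (hNQ hn) hx
    rw [hU0, mem_bot, commutatorElement_eq_one_iff_mul_comm] at h1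
    exact h1.symm
  by_contra hU0
  -- a linear character of `Q` trivial on `C` and not on `U`
  haveI : Fintype (Q : Subgroup G) := Fintype.ofFinite _
  have hUQ : U ≤ Q := hUN.trans hNQ
  have hQU : (Q : Subgroup G) ≤ normalizer (U : Set G) := normalizer_commutator_ge_left _ _
  have hgen : ∀ y ∈ (Q : Subgroup G), ∃ u ∈ U, ∃ c ∈ C, u * c = y := fun y hy =>
    (Coprime.mem_sup_of_le_normalizer (inf_le_left.trans hQU)).1 (hQUC.symm ▸ hy)
  set V := ⁅U, (Q : Subgroup G)⁆ with hV
  have hVU : V ≤ U := le_normalizer_iff_commutator_le_left.1 hQU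
  have hQV : (Q : Subgroup G) ≤ normalizer (V : Set G) := normalizer_commutator_ge_right _ _
  have hCV : C ≤ normalizer (V : Set G) := inf_le_left.trans hQV
  have hVlt : V < U := Coprime.commutator_lt_of_isPGroup Q.isPGroup' (hN.to_le hUN) hQU hU0
  set W := V ⊔ C with hW
  have hWQ : W ≤ Q := sup_le (hVU.trans hUQ) inf_le_left
  have hWmem : ∀ y ∈ (Q : Subgroup G), ∀ w ∈ W, y * w * y⁻¹ ∈ W := by
    intro y hy w hw
    obtain ⟨v, hv, c, hc, rfl⟩ := (Coprime.mem_sup_of_le_normalizer hCV).1 hw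
    obtain ⟨u, hu, c₀, hc₀, rfl⟩ := hgen y hy
    have h1 : (u * c₀) * v * (u * c₀)⁻¹ ∈ V := le_normalizer_iff.1 hQV _ hy v hv
    have h2 : c₀ * c * c₀⁻¹ ∈ C := mul_mem (mul_mem hc₀ hc) (inv_mem hc₀)
    have h3 : ⁅u, c₀ * c * c₀⁻¹⁆ ∈ V := commutator_mem_commutator hu h2.1
    have e : u * c₀ * (v * c) * (u * c₀)⁻¹ =
        ((u * c₀) * v * (u * c₀)⁻¹) * (⁅u, c₀ * c * c₀⁻¹⁆ * (c₀ * c * c₀⁻¹)) := by
      simp only [commutatorElement_def]; group
    rw [e]
    exact mul_mem (mem_sup_left h1) (mul_mem (mem_sup_left h3) (mem_sup_right h2))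
  haveI hWn : (W.subgroupOf Q).Normal :=
    (normal_subgroupOf_iff_le_normalizer hWQ).2 (le_normalizer_iff.2 hWmem)
  obtain ⟨u₀, hu₀, hu₀W⟩ : ∃ u ∈ U, u ∉ W := by
    by_contra hcon
    push Not at hcon
    refine hVlt.not_ge fun u hu => ?_
    obtain ⟨v, hv, c, hc, rfl⟩ := (Coprime.mem_sup_of_le_normalizer hCV).1 (hcon u hu)
    have hc1 : c ∈ U := by simpa using mul_mem (inv_mem (hVU hv)) hu
    have hc0 : c ∈ U ⊓ C := ⟨hc1, hc⟩
    rw [hUC, mem_bot] at hc0
    rw [hc0, mul_one]; exact hv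
  have hcomm : ∀ a b : (Q : Subgroup G) ⧸ W.subgroupOf Q, a * b = b * a := by
    have hk : ∀ a : (Q : Subgroup G) ⧸ W.subgroupOf Q,
        ∃ (u : G) (hu : u ∈ U), ((⟨u, hUQ hu⟩ : (Q : Subgroup G)) : (Q : Subgroup G) ⧸ W.subgroupOf Q) = a := by
      intro a
      obtain ⟨y, rfl⟩ := QuotientGroup.mk_surjective a
      obtain ⟨u, hu, c, hc, e⟩ := hgen y y.2
      refine ⟨u, hu, QuotientGroup.eq.2 ?_⟩
      rw [mem_subgroupOf]
      show u⁻¹ * (y : G) ∈ W
      rw [← e, inv_mul_cancel_left]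
      exact mem_sup_right hc
    intro a b
    obtain ⟨u, hu, rfl⟩ := hk a
    obtain ⟨v, hv, rfl⟩ := hk b
    rw [← QuotientGroup.mk_mul, ← QuotientGroup.mk_mul]
    congr 1
    exact Subtype.ext (congrArg Subtype.val (mul_comm' (⟨u, hUN hu⟩ : N) ⟨v, hUN hv⟩) :)
  letI : CommGroup ((Q : Subgroup G) ⧸ W.subgroupOf Q) :=
    { (inferInstance : Group ((Q : Subgroup G) ⧸ W.subgroupOf Q)) with mul_comm := hcomm }
  have hne : ((⟨u₀, hUQ hu₀⟩ : (Q : Subgroup G)) : (Q : Subgroup G) ⧸ W.subgroupOf Q) ≠ 1 := fun e =>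
    hu₀W (mem_subgroupOf.1 ((QuotientGroup.eq_one_iff _).1 e))
  obtain ⟨l₀, hl₀⟩ := CommGroup.exists_apply_ne_one_of_hasEnoughRootsOfUnity
    ((Q : Subgroup G) ⧸ W.subgroupOf Q) ℂ hne
  let l : (Q : Subgroup G) →* ℂˣ := l₀.comp (QuotientGroup.mk' _)
  let μ : N →* ℂˣ := l.comp (inclusion hNQ)
  have hl := CfsgLib.Char.isIrrCharacter_hom l
  have hμ := CfsgLib.Char.isIrrCharacter_hom μ
  obtain ⟨ξ, hξd, hξ⟩ := exists_over_subgroup (q := q) (Q : Subgroup G) Q.not_dvd_index hl (d := 1)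
    (by simp) (Fact.out : q.Prime).not_dvd_one
  have hover : Cfsg.classInner ((ξ : G → ℂ) ∘ N.subtype) (fun n => (μ n : ℂ)) ≠ 0 :=
    CharDeep.Clifford.classInner_ne_zero_trans
      (CfsgLib.Char.IsCharacter.comp (CfsgLib.Char.IsIrrCharacter.isCharacter ξ.2) (Q : Subgroup G).subtype)
      hl hξ (inclusion hNQ) (CfsgLib.Char.IsIrrCharacter.isCharacter hμ)
      (by
        show Cfsg.classInner (fun n => (μ n : ℂ)) (fun n => (μ n : ℂ)) ≠ 0
        rw [CfsgLib.Char.classInner_irr_self hμ]; exact one_ne_zero)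
  set S := CfsgLib.Char.stab (G := G) (fun n : N => (μ n : ℂ)) with hS
  have hidx : ¬ p ∣ S.index := not_dvd_stab_index N ξ hμ hover (hall ξ hξd)
  have hQS : (Q : Subgroup G) ≤ S := fun y hy => by
    rw [hS, CfsgLib.Char.mem_stab]
    funext n
    rw [CfsgLib.Char.conjG_apply]
    show (l (inclusion hNQ _) : ℂ) = (l (inclusion hNQ n) : ℂ)
    congr 1
    have e : inclusion hNQ (⟨y * n * y⁻¹, Subgroup.Normal.conj_mem inferInstance _ n.2 y⟩ : N) =
        (⟨y, hy⟩ : (Q : Subgroup G)) * inclusion hNQ n * (⟨y, hy⟩ : (Q : Subgroup G))⁻¹ := rfl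
    rw [e, map_mul, map_mul, map_inv, mul_comm (l _), mul_inv_cancel_right]
  have hNS : N ≤ S := CfsgLib.Char.le_stab (CfsgLib.Char.IsIrrCharacter.isClassFunction hμ)
  obtain ⟨c, hcR, hcQ, hcS⟩ := sylow_le R (Qb : Subgroup (G ⧸ N)) Qb.isPGroup' hqR Pb hPR hPQb (S.map π)
    (hbQ ▸ (map_mono hQS).trans le_normalizer)
    (fun h => hidx (h.trans (index_map_dvd _ hsur)))
  rw [hnorm c hcR hcQ, hbP] at hcS
  have hPS : (P : Subgroup G) ≤ S := fun x hx => by
    have h1 := mem_comap.2 (hcS (mem_map_of_mem _ hx))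
    rwa [comap_map_eq, QuotientGroup.ker_mk', sup_eq_left.2 hNS] at h1
  have hkill : ⁅N, (P : Subgroup G)⁆ ≤ μ.ker.map N.subtype := commutator_le.2 fun n hn x hx => by
    have hm : x * n⁻¹ * x⁻¹ ∈ N := Subgroup.Normal.conj_mem inferInstance _ (inv_mem hn) x
    have hμe : μ ⟨x * n⁻¹ * x⁻¹, hm⟩ = μ (⟨n, hn⟩⁻¹) := by
      have := congrFun (CfsgLib.Char.mem_stab.1 (hPS hx)) (⟨n, hn⟩⁻¹)
      rw [CfsgLib.Char.conjG_apply] at this
      exact Units.ext this
    refine ⟨⟨n, hn⟩ * ⟨x * n⁻¹ * x⁻¹, hm⟩, ?_, by simp [commutatorElement_def, mul_assoc]⟩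
    show μ _ = 1
    rw [map_mul, hμe, map_inv, mul_inv_cancel]
  obtain ⟨n, hn, he⟩ := hkill (hUN' hu₀)
  refine hl₀ ?_
  have : μ n = 1 := hn
  rw [show ((⟨u₀, hUQ hu₀⟩ : (Q : Subgroup G))) = inclusion hNQ n from Subtype.ext he.symm]
  exact this

/-- The degree conditions give commuting Sylow subgroups. -/
theorem exists_commuting {p q : ℕ} [Fact p.Prime] [Fact q.Prime] (hpq : p ≠ q) {Mp Mq : Ideal AlgInt}
    (hMp : IsPModular p Mp) (hMq : IsPModular q Mq) : ∀ (n : ℕ) {G : Type u} [Group G] [Finite G],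
    Nat.card G ≤ n → IsPSolvable p G → IsPSolvable q G → Cross p q Mp G → Cross q p Mq G →
    Commuting p q G := by
  intro n
  induction n with
  | zero => intro G _ _ hn; exact absurd hn (not_le.2 Nat.card_pos)
  | succ n ihn =>
  intro G _ _ hn hps hqs hX hY
  classical
  have ih : ∀ (L : Subgroup G) [L.Normal], L ≠ ⊥ → Commuting p q (G ⧸ L) := fun L _ hL => by
    refine ihn ?_ (CfsgLib.Fusion.PSolvable.psolvable_quotient hps L)
      (CfsgLib.Fusion.PSolvable.psolvable_quotient hqs L) (hX.quotient hMp L) (hY.quotient hMq L)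
    have : Nat.card (G ⧸ L) < Nat.card G := by
      rw [card_eq_card_quotient_mul_card_subgroup L]
      exact lt_mul_of_one_lt_right Nat.card_pos (one_lt_card_iff_ne_bot L |>.2 hL)
    omega
  rcases subsingleton_or_nontrivial G with hG | hG
  · exact ⟨default, default, fun x _ y _ => Subsingleton.elim _ _⟩
  obtain ⟨N, ⟨hNn, hN0⟩, hNmin⟩ := Set.Finite.exists_minimal
    (s := {K : Subgroup G | K.Normal ∧ K ≠ ⊥}) (Set.toFinite _) ⟨⊤, inferInstance, top_ne_bot⟩
  haveI := hNn
  have hmin : ∀ K : Subgroup G, K.Normal → K ≤ N → K = ⊥ ∨ K = N := fun K hK hKN =>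
    or_iff_not_imp_left.2 fun h => le_antisymm hKN (hNmin ⟨hK, h⟩ hKN)
  have hab : ∀ {r : ℕ} [Fact r.Prime], IsPGroup r N → IsMulCommutative N := fun {r} _ hr => by
    haveI := hr.isNilpotent
    have hlt : ⁅N, N⁆ < N := Coprime.commutator_self_lt inferInstance hN0
    have : ⁅N, N⁆ = ⊥ := (hmin _ inferInstance hlt.le).resolve_right hlt.ne
    exact le_centralizer_iff_isMulCommutative.1 ((commutator_eq_bot_iff_le_centralizer).1 this)
  rcases CfsgLib.Fusion.PSolvable.minimal_normal_dichotomy hqs N hmin with hNq | hNq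
  · haveI := hab hNq
    exact commuting_of_step hpq hMq hps hqs hY N hNq ih hN0
  rcases CfsgLib.Fusion.PSolvable.minimal_normal_dichotomy hps N hmin with hNp | hNp
  · haveI := hab hNp
    exact (commuting_of_step (Ne.symm hpq) hMp hqs hps hX N hNp
      (fun L _ hL => (ih L hL).symm) hN0).symm
  -- `N` is prime to both
  have hsur := QuotientGroup.mk'_surjective N
  set π := QuotientGroup.mk' N with hπ
  obtain ⟨Pb, Qb, hb⟩ := ih N hN0
  obtain ⟨P, rfl⟩ := Sylow.mapSurjective_surjective hsur p Pb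
  obtain ⟨Q, rfl⟩ := Sylow.mapSurjective_surjective hsur q Qb
  rw [Sylow.coe_mapSurjective, Sylow.coe_mapSurjective] at hb
  set K := N ⊔ (Q : Subgroup G) with hK
  haveI : Group.IsNilpotent (P : Subgroup G) := P.isPGroup'.isNilpotent
  obtain ⟨a, ha⟩ := IsPGroup.iff_card.1 P.isPGroup'
  obtain ⟨b, hb'⟩ := IsPGroup.iff_card.1 Q.isPGroup'
  have hcardK : Nat.card K = Nat.card N * Nat.card (Q : Subgroup G) :=
    Coprime.card_sup_of_le_normalizer (fun x _ => by rw [normalizer_eq_top N]; exact mem_top x)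
      (disjoint_iff.2 (inf_eq_bot_of_coprime (hb' ▸ hNq.pow_right b)))
  have hKmem : ∀ z ∈ K, π z ∈ (Q : Subgroup G).map π := fun z hz => by
    rw [← mem_comap, comap_map_eq, QuotientGroup.ker_mk', sup_comm]
    exact hz
  have hcm : ∀ x ∈ (P : Subgroup G), ∀ z ∈ K, ⁅x, z⁆ ∈ N := fun x hx z hz => by
    rw [← QuotientGroup.eq_one_iff]
    show π ⁅x, z⁆ = 1
    rw [map_commutatorElement, commutatorElement_eq_one_iff_mul_comm]
    exact hb _ (mem_map_of_mem _ hx) _ (hKmem z hz)
  have hPK : (P : Subgroup G) ≤ normalizer (K : Set G) := le_normalizer_iff.2 fun x hx z hz => by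
    have := mul_mem (mem_sup_left (T := (Q : Subgroup G)) (hcm x hx z hz)) hz
    simpa [commutatorElement_def] using this
  have hcop : (Nat.card (P : Subgroup G)).Coprime (Nat.card K) := by
    rw [hcardK, ha, hb']
    exact (hNp.symm.pow_left a).mul_right
      (((Nat.coprime_primes (Fact.out : p.Prime) (Fact.out : q.Prime)).2 hpq).pow a b)
  obtain ⟨Q₁, hQ₁⟩ := Coprime.exists_invariant_sylow hPK hcop (Or.inl inferInstance) q
  set A := (Q₁ : Subgroup K).map K.subtype with hA
  have hAp : IsPGroup q A := Q₁.isPGroup'.map _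
  have hAK : A ≤ K := map_subtype_le _
  have hAidx : ¬ q ∣ A.index := by
    rw [← relIndex_mul_index hAK]
    refine (Fact.out : q.Prime).not_dvd_mul ?_ (fun h => Q.not_dvd_index
      (h.trans (index_dvd_of_le le_sup_right)))
    rw [hA, relIndex, ← comap_subtype, comap_map_eq_self_of_injective (subtype_injective _)]
    exact Q₁.not_dvd_index
  refine ⟨P, hAp.toSylow hAidx, fun x hx y hy => ?_⟩
  have hy' : y ∈ A := hy
  rw [← commutatorElement_eq_one_iff_mul_comm, ← mem_bot,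
    ← show N ⊓ A = ⊥ by
      obtain ⟨c, hc⟩ := IsPGroup.iff_card.1 hAp
      exact inf_eq_bot_of_coprime (hc ▸ hNq.pow_right c)]
  refine ⟨hcm x hx y (hAK hy'), ?_⟩
  show ⁅x, y⁆ ∈ A
  rw [commutatorElement_def]
  exact mul_mem (le_normalizer_iff.1 hQ₁ x hx y hy') (inv_mem hy')

theorem main {p q : ℕ} [Fact p.Prime] [Fact q.Prime] (hpq : p ≠ q) {Mp Mq : Ideal AlgInt}
    (hMp : IsPModular p Mp) (hMq : IsPModular q Mq) (hps : IsPSolvable p G) (hqs : IsPSolvable q G) :
    (Cross p q Mp G ∧ Cross q p Mq G) ↔ Commuting p q G :=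
  ⟨fun h => exists_commuting hpq hMp hMq _ le_rfl hps hqs h.1 h.2,
    fun h => ⟨cross_of_commuting hpq hMp hps h, cross_of_commuting (Ne.symm hpq) hMq hqs h.symm⟩⟩

end CfsgLib.Blocks.CommutingSylows
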