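import Cfsg.Agent.Lib.Blocks.CoverDefect

/-!
# A covering block lies over every character of the covered block

If no character of `B'` lies over `θ ∈ b`, every homogeneous component of the idempotent of `B'`
is nilpotent modulo the idempotent of `b`, hence so is the idempotent itself.
-/

set_option autoImplicit false
set_option linter.unusedSectionVars false

namespace CfsgLib.Blocks.CoverAll

open Cfsg CfsgLib.Blocks CfsgLib.Blocks.FongReynolds CfsgLib.Blocks.ResidueAlgebra
  CfsgLib.Blocks.CoverDefect
open scoped Classical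

/-- Convolution. -/
noncomputable def conv {H : Type*} [Group H] [Fintype H] (f g : H → ℂ) : H → ℂ :=
  fun c => ∑ x, f x * g (x⁻¹ * c)

theorem conv_assoc {H : Type*} [Group H] [Fintype H] (f g h : H → ℂ) :
    conv (conv f g) h = conv f (conv g h) := by
  funext c
  simp only [conv, Finset.sum_mul, Finset.mul_sum]
  rw [Finset.sum_comm]
  refine Finset.sum_congr rfl fun x _ => ?_
  refine Fintype.sum_equiv (Equiv.mulLeft x⁻¹) _ _ fun y => ?_
  simp [mul_assoc]

/-- Convolution powers. -/
noncomputable def cpow {H : Type*} [Group H] [Fintype H] (f : H → ℂ) : ℕ → H → ℂ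
  | 0 => fun x => if x = 1 then 1 else 0
  | n + 1 => conv (cpow f n) f

variable {G : Type*} [Group G] [Fintype G] {p : ℕ} {M : Ideal AlgInt}
  {N : Subgroup G} [N.Normal] [Fintype N] {T : Subgroup G} [Fintype T] (hNT : N ≤ T)
  {b : Set (IrrCharacter N)}
  (hM : IsPModular p M) (hb : IsPBlock M b) (hT : ∀ g : G, g ∈ T ↔ ∀ θ ∈ b, conjIrr g θ ∈ b)

include hM in
theorem cpow_spec {f : T → ℂ} (hR : ∀ t, MemLocalRing M (f t)) (n : ℕ) :
    (∀ t, MemLocalRing M (cpow f n t)) ∧ toResAlg hM (cpow f n) = toResAlg hM f ^ n := by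
  induction n with
  | zero =>
    refine ⟨fun t => ?_, ext_coeff fun t => ?_⟩
    · simp only [cpow]; split
      · exact LR.one hM
      · exact LR.zero hM
    · simp only [coeff_toResAlg, cpow, pow_zero, MonoidAlgebra.one_def, MonoidAlgebra.coeff_single,
        Finsupp.single_apply]
      by_cases h : t = 1
      · simp [h, resid_one]
      · rw [if_neg h, if_neg (Ne.symm h), resid_zero]
  | succ n ih =>
    refine ⟨fun t => LR.sum hM fun x _ => LR.mul hM (ih.1 x) (hR _), ?_⟩
    rw [pow_succ, ← ih.2, ← toResAlg_mul hM ih.1 hR]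
    rfl

include hNT in
/-- Supported on a coset and invariant under `N`. -/
theorem cpow_homog {f : T → ℂ} {q : G ⧸ N} (hq : ∀ t, f t ≠ 0 → ((t : G) : G ⧸ N) = q)
    (hinv : ∀ (n : N) (t : T),
      f (Subgroup.inclusion hNT n * t * (Subgroup.inclusion hNT n)⁻¹) = f t) (k : ℕ) :
    (∀ t, cpow f k t ≠ 0 → ((t : G) : G ⧸ N) = q ^ k) ∧ ∀ (n : N) (t : T),
      cpow f k (Subgroup.inclusion hNT n * t * (Subgroup.inclusion hNT n)⁻¹) = cpow f k t := by
  induction k with
  | zero =>
    refine ⟨fun t ht => ?_, fun n t => ?_⟩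
    · have : t = 1 := by
        by_contra h
        exact ht (if_neg h)
      simp [this]
    · simp only [cpow]; split_ifs with h1 h2 h2 <;> simp_all [conj_eq_one_iff]
  | succ k ih =>
    refine ⟨fun t ht => ?_, fun n t => ?_⟩
    · obtain ⟨x, -, hx⟩ := Finset.exists_ne_zero_of_sum_ne_zero ht
      have h1 := ih.1 x (left_ne_zero_of_mul hx)
      have h2 := hq _ (right_ne_zero_of_mul hx)
      rw [pow_succ, ← h1, ← h2, ← QuotientGroup.mk_mul]
      simp
    · set u := Subgroup.inclusion hNT n
      refine (Fintype.sum_equiv (MulAut.conj u).toEquiv _ _ fun x => ?_).symm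
      show _ = cpow f k (u * x * u⁻¹) * f ((u * x * u⁻¹)⁻¹ * (u * t * u⁻¹))
      rw [ih.2 n x, show (u * x * u⁻¹)⁻¹ * (u * t * u⁻¹) = u * (x⁻¹ * t) * u⁻¹ by group, hinv n]

theorem redChar_sub {H : Type*} [Group H] [Fintype H] {F F' : IrrCharacter H → ℂ}
    (hF : IsLocalOn M (⊤ : Subgroup H) F) (hF' : IsLocalOn M (⊤ : Subgroup H) F') :
    redChar hM (fun ψ => F ψ - F' ψ) = redChar hM F - redChar hM F' := by
  rw [eq_sub_iff_add_eq]
  refine ext_coeff fun g => ?_
  rw [MonoidAlgebra.coeff_add, Finsupp.add_apply]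
  simp only [redChar, coeff_toResAlg]
  have e : fourierInv (fun ψ => F ψ - F' ψ) g = fourierInv F g - fourierInv F' g := by
    simp only [fourierInv, sub_mul, Finset.sum_sub_distrib, mul_sub]
  rw [e, ← resid_add hM (LR.sub hM (hF g).1 (hF' g).1) (hF' g).1, sub_add_cancel]

include hM hb hT in
/-- An element of `Z(k N)` with unit central character at `b` is invertible modulo `b`. -/
theorem exists_inverse {F : IrrCharacter N → ℂ} (hF : IsLocalOn M (⊤ : Subgroup N) F)
    {φ₀ : IrrCharacter N} (hφ₀ : φ₀ ∈ b) (h : ¬ MemLocalIdeal M (F φ₀))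
    (hcong : ∀ φ ∈ b, MemLocalIdeal M (F φ - F φ₀)) :
    ∃ z : MonoidAlgebra (Residue hM) T,
      z * (inclAlg hNT hM (redChar hM F) * toResAlg hM (idem (T := T) b))
        = toResAlg hM (idem (T := T) b) := by
  set c := F φ₀
  have hc : MemLocalRing M c⁻¹ := LR.inv hM (hF.LR_value hM φ₀) h
  have hcF : IsLocalOn M (⊤ : Subgroup N) fun ψ => c⁻¹ * F ψ := IsLocalOn.const_mul hM hc hF
  set W : IrrCharacter N → ℂ := fun ψ => 1 - c⁻¹ * F ψ
  have hW : IsLocalOn M (⊤ : Subgroup N) W := IsLocalOn.sub hM (IsLocalOn.one hM) hcF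
  set u := inclAlg hNT hM (redChar hM W) with hu
  set y := inclAlg hNT hM (redChar hM F)
  set d := inclAlg hNT hM (redChar hM fun _ : IrrCharacter N => c⁻¹)
  have hkill : Kill hNT hM b u := ⟨W, hW, rfl, fun φ hφ => by
    have h1 := LI.mul_left hM hc (hcong φ hφ)
    rw [mul_sub, inv_mul_cancel₀ (ne_zero_of_not_LI hM h)] at h1
    have := LI.neg h1
    rwa [neg_sub] at this⟩
  set r := (Finset.univ.filter fun φ : IrrCharacter N => φ ∈ b).card
  have hzero : u ^ r * toResAlg hM (idem (T := T) b) = 0 := by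
    rw [← List.prod_replicate]
    exact prod_mul_idem_eq_zero hNT hM hb List.length_replicate fun x hx =>
      (List.eq_of_mem_replicate hx) ▸ hkill
  have hdy : d * y = 1 - u := by
    rw [hu, show redChar hM W = redChar hM (fun _ : IrrCharacter N => (1 : ℂ))
        - redChar hM (fun ψ => c⁻¹ * F ψ) from redChar_sub hM (IsLocalOn.one hM) hcF, redChar_one,
      map_sub, map_one, sub_sub_cancel, redChar_mul (IsLocalOn.const hM hc) hF, map_mul]
  refine ⟨(∑ i ∈ Finset.range r, u ^ i) * d, ?_⟩
  rw [mul_assoc, ← mul_assoc d, hdy, ← mul_assoc, geom_sum_mul_neg, sub_mul, one_mul, hzero,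
    sub_zero]

include hM hb hT in
/-- Some character of a covering block of `T` lies over each `θ ∈ b`. -/
theorem exists_over_mem {B' : Set (IrrCharacter T)} (hB' : IsPBlock M B') {ψ₀ : IrrCharacter T}
    (hψB : ψ₀ ∈ B') (hψ₀ : Covers hNT ψ₀ b) {θ : IrrCharacter N} (hθ : θ ∈ b) :
    ∃ ψ ∈ B', classInner (res hNT (ψ : T → ℂ)) (θ : N → ℂ) ≠ 0 := by
  by_contra hcon
  push Not at hcon
  set O : Set (IrrCharacter N) := {φ | ∃ t ∈ T, φ = conjIrr t θ} with hO
  have hθO : θ ∈ O := ⟨1, one_mem T, (conjIrr_one θ).symm⟩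
  have hOinv : ∀ t ∈ T, preim O t = O := by
    intro t ht
    ext φ
    constructor
    · rintro ⟨a, ha, he⟩
      refine ⟨a * t⁻¹, mul_mem ha (inv_mem ht), ?_⟩
      have := congrArg (conjIrr t⁻¹) he
      rwa [conjIrr_mul, conjIrr_mul, mul_inv_cancel, conjIrr_one] at this
    · rintro ⟨a, ha, rfl⟩
      exact ⟨a * t, mul_mem ha ht, by rw [conjIrr_mul]⟩
  set E : T → ℂ := fun t => if h : (t : G) ∈ N then blockCoeff O ⟨(t : G), h⟩ else 0 with hE
  have hEc : IsClassFunction T E := by
    intro x y
    simp only [hE]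
    by_cases hx : (x : G) ∈ N
    · rw [dif_pos hx, dif_pos (show ((y * x * y⁻¹ : T) : G) ∈ N from
        Subgroup.Normal.conj_mem inferInstance _ hx _)]
      have e := blockCoeff_conjNormal O (y : G) ⟨(x : G), hx⟩
      rw [hOinv _ (inv_mem y.2)] at e
      rw [← e]
      exact congrArg (blockCoeff O) (Subtype.ext (by simp))
    · rw [dif_neg hx, dif_neg fun h' => hx (by
        simpa [mul_assoc] using Subgroup.Normal.conj_mem (inferInstance : N.Normal) _ h' (y : G)⁻¹)]
  set f : T → ℂ := fun t => blockCoeff B' t with hf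
  have hfc : IsClassFunction T f := blockCoeff_isClassFunction B'
  have hfR : ∀ t, MemLocalRing M (f t) := blockCoeff_LR hM hB'
  have hfE : conv f E = fun _ => 0 := by
    funext c
    have h1 : conv f E c = ∑ x, fourierInv (blockInd B') x *
        fourierInv (fun χ : IrrCharacter T => omega (χ : T → ℂ) E) (x⁻¹ * c) := by
      rw [fourierInv_omega hEc]
      exact Finset.sum_congr rfl fun x _ => by simp only [hf, blockCoeff_eq_fourierInv]
    rw [h1, fourierInv_mul, show (fun χ : IrrCharacter T =>
        blockInd B' χ * omega (χ : T → ℂ) E) = fun _ => 0 from funext fun χ => ?_]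
    · simp [fourierInv]
    · by_cases hχ : χ ∈ B'
      · rw [show omega (χ : T → ℂ) E = _ from omega_idem hNT χ O, Finset.sum_eq_zero fun φ _ => ?_,
          zero_div, mul_zero]
        by_cases hφ : φ ∈ O
        · obtain ⟨t, ht, rfl⟩ := hφ
          rw [show classInner (res hNT (χ : T → ℂ)) (conjIrr t θ : N → ℂ) = _ from
            classInner_res_conj hNT (CfsgLib.Char.IsIrrCharacter.isClassFunction χ.2) ht
              (θ : N → ℂ), hcon χ hχ, zero_mul]
        · rw [blockInd_of_notMem hφ, mul_zero, mul_zero]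
      · rw [blockInd_of_notMem hχ, zero_mul]
  set a : G ⧸ N → T → ℂ := fun q t => if ((t : G) : G ⧸ N) = q then f t else 0 with ha
  have haR : ∀ q t, MemLocalRing M (a q t) := fun q t => by
    simp only [ha]; split
    · exact hfR t
    · exact LR.zero hM
  have hainv : ∀ q (n : N) (t : T),
      a q (Subgroup.inclusion hNT n * t * (Subgroup.inclusion hNT n)⁻¹) = a q t := fun q n t => by
    simp only [ha]
    refine if_congr ?_ (hfc _ _) rfl
    rw [Subgroup.coe_mul, Subgroup.coe_mul, Subgroup.coe_inv, Subgroup.coe_inclusion,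
      QuotientGroup.mk_mul, QuotientGroup.mk_mul, QuotientGroup.mk_inv,
      (QuotientGroup.eq_one_iff _).2 n.2]
    simp
  have haq : ∀ q t, a q t ≠ 0 → ((t : G) : G ⧸ N) = q := fun q t h => by
    by_contra hne
    exact h (if_neg hne)
  have haE : ∀ q, conv (a q) E = fun _ => 0 := by
    intro q
    funext c
    by_cases hc : ((c : G) : G ⧸ N) = q
    · rw [← congrFun hfE c]
      refine Finset.sum_congr rfl fun x _ => ?_
      by_cases hx : ((x : G) : G ⧸ N) = q
      · simp only [ha, if_pos hx]
      · have : ((x⁻¹ * c : T) : G) ∉ N := fun h => hx (by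
          rw [← hc]
          exact QuotientGroup.eq.2 (by simpa using h))
        simp only [hE, dif_neg this, mul_zero]
    · refine Finset.sum_eq_zero fun x _ => ?_
      by_cases hx : ((x : G) : G ⧸ N) = q
      · have : ((x⁻¹ * c : T) : G) ∉ N := fun h => hc (by
          rw [← hx]
          exact (QuotientGroup.eq.2 (by simpa using h)).symm)
        simp only [hE, dif_neg this, mul_zero]
      · simp only [ha, if_neg hx, zero_mul]
  set e := toResAlg hM (idem (T := T) b) with he
  set r := (Finset.univ.filter fun φ : IrrCharacter N => φ ∈ b).card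
  set o := Nat.card (G ⧸ N)
  -- every component is nilpotent modulo `e`
  have hnil : ∀ q, ∃ k, toResAlg hM (a q) ^ k * e = 0 := by
    intro q
    refine ⟨o * r, ?_⟩
    obtain ⟨hY, hYe⟩ := cpow_spec hM (haR q) o
    obtain ⟨hYq, hYinv⟩ := cpow_homog hNT (haq q) (hainv q) o
    set Y := cpow (a q) o
    have hY0 : ∀ t : T, (t : G) ∉ N → Y t = 0 := fun t ht => by
      by_contra h
      refine ht ((QuotientGroup.eq_one_iff _).1 ?_)
      rw [hYq t h, pow_card_eq_one']
    set YN : N → ℂ := fun n => Y (Subgroup.inclusion hNT n)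
    have hYN : IsClassFunction N YN := fun x y => by
      show Y (Subgroup.inclusion hNT (y * x * y⁻¹)) = _
      rw [map_mul (Subgroup.inclusion hNT), map_mul (Subgroup.inclusion hNT),
        map_inv (Subgroup.inclusion hNT)]
      exact hYinv y _
    have hYE : conv Y E = fun _ => 0 := by
      show conv (cpow (a q) o) E = _
      have ho : o = (o - 1) + 1 := by have : 0 < o := Nat.card_pos; omega
      rw [ho]
      show conv (conv (cpow (a q) (o - 1)) (a q)) E = _
      rw [conv_assoc, haE q]
      funext c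
      simp [conv]
    have hθY : omega (θ : N → ℂ) YN = 0 := by
      have h1 : ∀ m : N, ∑ n : N, YN n * blockCoeff O (n⁻¹ * m) = 0 := fun m => by
        rw [← congrFun hYE (Subgroup.inclusion hNT m)]
        refine Finset.sum_bij_ne_zero (fun n _ _ => Subgroup.inclusion hNT n)
          (fun _ _ _ => Finset.mem_univ _)
          (fun _ _ _ _ _ _ h => Subgroup.inclusion_injective hNT h) ?_ ?_
        · intro t _ ht
          have htN : (t : G) ∈ N := by
            by_contra h
            exact ht (by rw [hY0 t h, zero_mul])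
          refine ⟨⟨t, htN⟩, Finset.mem_univ _, ?_, rfl⟩
          intro h
          refine ht ?_
          rw [hE]
          simp only []
          rw [dif_pos (show ((t⁻¹ * Subgroup.inclusion hNT m : T) : G) ∈ N from
            mul_mem (inv_mem htN) m.2)]
          exact h
        · intro n _ _
          simp only [hE]
          rw [dif_pos (show (((Subgroup.inclusion hNT n)⁻¹ * Subgroup.inclusion hNT m : T) : G) ∈ N
            from mul_mem (inv_mem n.2) m.2)]
          rfl
      have h2 : (fun m => ∑ n : N, YN n * blockCoeff O (n⁻¹ * m))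
          = fourierInv fun ψ : IrrCharacter N => omega (ψ : N → ℂ) YN * blockInd O ψ := by
        funext m
        rw [← fourierInv_mul, fourierInv_omega hYN]
        exact Finset.sum_congr rfl fun n _ => by rw [blockCoeff_eq_fourierInv]
      have h3 := omega_fourierInv θ fun ψ : IrrCharacter N =>
        omega (ψ : N → ℂ) YN * blockInd O ψ
      rw [← h2, funext h1, blockInd_of_mem hθO, mul_one] at h3
      rw [← h3]
      simp [omega]
    have hkill : Kill hNT hM b (toResAlg hM Y) :=
      ⟨_, isLocalOn_omega hM hYN (fun n => hY _) fun n hn => absurd (Subgroup.mem_top n) hn,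
        by rw [redChar_omega hYN]; exact toResAlg_eq_inclAlg hNT hM hY0, fun φ hφ => by
          have h := Blocks.omega_congr hM (IsPBlock.sameBlock hM hb hφ hθ) hYN fun n => hY _
          rwa [hθY, sub_zero] at h⟩
    rw [pow_mul, ← hYe, ← List.prod_replicate]
    exact prod_mul_idem_eq_zero hNT hM hb List.length_replicate fun x hx =>
      (List.eq_of_mem_replicate hx) ▸ hkill
  have hec : ∀ x, Commute e x :=
    commute_toResAlg_of_classFunction (idem_isClassFunction hM hb hT)
  have he0 : e ≠ 0 := by
    intro h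
    refine LI.not_one hM (omega_LI_of_pow hNT hM hb hT hψ₀
      (f := fun t : T => if t = 1 then (1 : ℂ) else 0) (fun x y => by simp [conj_eq_one_iff])
      (fun t => by split <;> [exact LR.one hM; exact LR.zero hM]) (L := 0)
      (by rw [← he, h, mul_zero]) |> fun h1 => ?_)
    rwa [show omega (ψ₀ : T → ℂ) (fun t : T => if t = 1 then (1 : ℂ) else 0) = 1 by
      simp [omega, irr_one_ne_zero]] at h1
  let I : G ⧸ N → MonoidAlgebra (Residue hM) T → Prop := fun δ x =>
    Homog hNT hM δ x ∧ ∃ k, x ^ k * e = 0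
  have hI : ∀ q, I q (toResAlg hM (a q)) := fun q => ⟨⟨fun n t => by
    rw [coeff_toResAlg, coeff_toResAlg, hainv], fun t ht => haq q t fun h => by
      rw [coeff_toResAlg, h, resid_zero] at ht
      exact ht rfl⟩, hnil q⟩
  have hsum : ∑ q, toResAlg hM (a q) = toResAlg hM f := by
    refine ext_coeff fun t => ?_
    rw [MonoidAlgebra.coeff_sum, Finsupp.finsetSum_apply]
    simp only [ha, coeff_toResAlg]
    rw [Finset.sum_eq_single ((t : G) : G ⧸ N)]
    · rw [if_pos rfl]
    · intro q _ hq
      rw [if_neg (Ne.symm hq), resid_zero]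
    · simp
  have hseg : ∀ δ ε x y, Homog hNT hM δ x → I ε y → δ * ε = 1 → Kill hNT hM b (x * y) := by
    intro δ ε x y hx hy h1
    have hxy := homog_mul hNT hM hx hy.1
    rw [h1] at hxy
    set g : T → ℂ := fun t => sec hM ((x * y).coeff t)
    have h0 : ∀ t : T, (t : G) ∉ N → g t = 0 := fun t ht => by
      refine if_pos ?_
      by_contra h
      exact ht ((QuotientGroup.eq_one_iff _).1 (hxy.2 t h))
    set gN : N → ℂ := fun n => g (Subgroup.inclusion hNT n)
    have hgN : IsClassFunction N gN := fun a c => by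
      show sec hM _ = sec hM _
      rw [map_mul (Subgroup.inclusion hNT), map_mul (Subgroup.inclusion hNT),
        map_inv (Subgroup.inclusion hNT), hxy.1]
    have hF : IsLocalOn M (⊤ : Subgroup N) fun φ : IrrCharacter N => omega (φ : N → ℂ) gN :=
      isLocalOn_omega hM hgN (fun n => sec_LR hM _) fun n hn => absurd (Subgroup.mem_top n) hn
    have hxe : x * y = inclAlg hNT hM (redChar hM fun φ : IrrCharacter N => omega (φ : N → ℂ) gN) := by
      rw [redChar_omega hgN, ← toResAlg_eq_inclAlg hNT hM h0]
      exact ext_coeff fun t => by rw [coeff_toResAlg, resid_sec]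
    refine ⟨_, hF, hxe, fun φ hφ => ?_⟩
    by_contra hne
    obtain ⟨z, hz⟩ := exists_inverse hNT hM hb hT hF hφ hne fun φ' hφ' =>
      Blocks.omega_congr hM (IsPBlock.sameBlock hM hb hφ' hφ) hgN fun n => sec_LR hM _
    rw [← hxe] at hz
    obtain ⟨k, hk⟩ := hy.2
    have hstep : ∀ m, (z * x) ^ m * (y ^ m * e) = e := by
      intro m
      induction m with
      | zero => simp
      | succ m ih =>
        calc (z * x) ^ (m + 1) * (y ^ (m + 1) * e)
            = (z * x) ^ m * ((z * (x * y * (y ^ m * e)))) := by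
              rw [pow_succ, pow_succ' y]; simp only [mul_assoc]
          _ = (z * x) ^ m * ((z * (x * y * e)) * y ^ m) := by
              rw [← (hec (y ^ m)).eq]; simp only [mul_assoc]
          _ = e := by rw [hz, (hec (y ^ m)).eq]; exact ih
    exact he0 (by rw [← hstep k, hk, mul_zero])
  obtain ⟨L, hL⟩ := CfsgLib.CharDeep.GradedNilpotent.exists_pow_mul_eq_zero
    (A := Homog hNT hM) (I := I) (S := Kill hNT hM b) (homog_one hNT hM)
    (fun δ ε x y hx hy => homog_mul hNT hM hx hy.1) hseg hec
    (fun w hl hw => prod_mul_idem_eq_zero hNT hM hb hl hw) (fun q => toResAlg hM (a q)) hI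
  rw [hsum] at hL
  have h := omega_LI_of_pow hNT hM hb hT hψ₀ hfc hfR hL
  rw [hf, omega_blockCoeff, blockInd_of_mem hψB] at h
  exact LI.not_one hM h

end CfsgLib.Blocks.CoverAll
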