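import Cfsg.Agent.Lib.Blocks.CoverAll

/-!
# Covering of blocks: members, orbits, the criterion by central characters
-/

set_option autoImplicit false
set_option linter.unusedSectionVars false

namespace CfsgLib.Blocks.CoverBasics

open Cfsg CfsgLib.Blocks CfsgLib.Blocks.FongReynolds CfsgLib.Blocks.CoverDefect
  CfsgLib.CharDeep.Clifford
open scoped Classical

variable {G : Type*} [Group G] [Fintype G] {p : ℕ} {M : Ideal AlgInt}
  {N : Subgroup G} [N.Normal] [Fintype N] {b : Set (IrrCharacter N)} {B : Set (IrrCharacter G)}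

theorem exists_over_mem (hM : IsPModular p M) (hB : IsPBlock M B) (hb : IsPBlock M b)
    (hcov : ∃ χ ∈ B, ∃ θ ∈ b, classInner (fun n : N => (χ : G → ℂ) n) (θ : N → ℂ) ≠ 0)
    {θ : IrrCharacter N} (hθ : θ ∈ b) :
    ∃ χ ∈ B, classInner (fun n : N => (χ : G → ℂ) n) (θ : N → ℂ) ≠ 0 := by
  let _ : Fintype (stabilizer hM hb) := Fintype.ofFinite _
  have hT := mem_stabilizer hM hb
  have hNT := le_stabilizer hM hb
  obtain ⟨B', hB', ⟨ψ₀, hψB, hψ₀⟩, hind⟩ := exists_inducing hNT hM hb hT hB hcov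
  obtain ⟨ψ, hψ, hne⟩ := CoverAll.exists_over_mem hNT hM hb hT hB' hψB hψ₀ hθ
  obtain ⟨B₂, hind₂, -, -, hiff⟩ := exists_induced hNT hM hb hT hB' ⟨ψ₀, hψB, hψ₀⟩
  obtain rfl := IsInducedBlock.unique hM hind₂ hind
  have hc : Covers hNT ψ b := ⟨θ, hθ, hne⟩
  have he : ((ind hNT hM hb hT hc : IrrCharacter G) : G → ℂ)
      = indFun (stabilizer hM hb) (ψ : stabilizer hM hb → ℂ) := rfl
  have h := classInner_indFun_res hNT hM hb hT hc hθ
  rw [← h, ← he] at hne
  exact ⟨ind hNT hM hb hT hc, (hiff _).2 ⟨ψ, hψ, he⟩, hne⟩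

theorem inducedCentralChar_eq' (ξ : N → ℂ) (g : G) :
    inducedCentralChar N ξ g = omega ξ fun n : N => classInd g (n : G) := by
  rw [inducedCentralChar_eq]
  congr!

theorem omega_res_eq_sum' (ξ : N → ℂ) {f : G → ℂ} (hf : IsClassFunction G f) :
    omega ξ (fun n : N => f n)
      = ∑ C : ConjClasses G, f C.out * inducedCentralChar N ξ C.out := by
  rw [← omega_res_eq_sum N ξ hf]
  congr!

theorem exists_over_of_sameBlock' (hM : IsPModular p M) (hb : IsPBlock M b)
    {χ χ' : IrrCharacter G} {θ : IrrCharacter N} (hθ : θ ∈ b)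
    (h : classInner (fun n : N => (χ : G → ℂ) n) (θ : N → ℂ) ≠ 0)
    (hs : SameBlock M (χ : G → ℂ) (χ' : G → ℂ)) :
    ∃ θ' ∈ b, classInner (fun n : N => (χ' : G → ℂ) n) (θ' : N → ℂ) ≠ 0 := by
  let _ : Fintype (stabilizer hM hb) := Fintype.ofFinite _
  exact FongReynolds.exists_over_of_sameBlock hM hb (mem_stabilizer hM hb) hθ h hs

/-- Covering read off from central characters on `N`. -/
theorem covers_iff (hM : IsPModular p M) (hB : IsPBlock M B) (hb : IsPBlock M b) :
    (∃ χ ∈ B, ∃ θ ∈ b, classInner (fun n : N => (χ : G → ℂ) n) (θ : N → ℂ) ≠ 0) ↔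
      ∀ χ ∈ B, ∀ θ ∈ b, ∀ n : N,
        MemLocalIdeal M (centralChar (χ : G → ℂ) (n : G) - inducedCentralChar N (θ : N → ℂ) (n : G)) := by
  have hext : ∀ n : N, classInd (n : G)
      = fun x => if hx : x ∈ N then classInd (n : G) ((⟨x, hx⟩ : N) : G) else 0 := fun n => by
    funext x
    by_cases hx : x ∈ N
    · rw [dif_pos hx]
    · rw [dif_neg hx, classInd, if_neg]
      intro hc
      obtain ⟨c, rfl⟩ := isConj_iff.1 hc
      exact hx (Subgroup.Normal.conj_mem inferInstance _ n.2 c)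
  constructor
  · intro hcov χ hχ θ hθ n
    obtain ⟨χ', hχ', h⟩ := exists_over_mem hM hB hb hcov hθ
    have hinv : ∀ (c : G) (m : N),
        classInd (n : G) ((MulAut.conjNormal c m : N) : G) = classInd (n : G) (m : G) := fun c m => by
      rw [MulAut.conjNormal_apply]; exact classInd_isClassFunction (n : G) (m : G) c
    rw [inducedCentralChar_eq', ← omega_eq_of_over (f := fun m : N => classInd (n : G) (m : G)) h hinv,
      ← omega_extend (f := fun m : N => classInd (n : G) (m : G)), ← hext, omega_classInd]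
    exact IsPBlock.sameBlock hM hB hχ hχ' _
  · intro h
    obtain ⟨χ, hχ⟩ := IsPBlock.nonempty hM hB
    obtain ⟨θ, hθ⟩ := IsPBlock.nonempty hM hb
    set O : Set (IrrCharacter N) := {φ | ∃ g : G, conjIrr g φ ∈ b} with hO
    have hsat : ∀ φ ∈ O, ∀ φ' : IrrCharacter N, SameBlock M (φ : N → ℂ) (φ' : N → ℂ) → φ' ∈ O := by
      rintro φ ⟨g, hg⟩ φ' hs'
      exact ⟨g, (IsPBlock.mem_iff hM hb hg).2 (conjIrr_sameBlock g hs')⟩
    have hloc : IsLocalOn M (⊤ : Subgroup N) (blockInd O) :=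
      IsLocalOn.blockInd_of_separated hM fun φ hφ φ' hφ' => by
        by_contra hall
        push Not at hall
        exact hφ' (hsat φ hφ φ' fun n => hall n (Subgroup.mem_top n))
    set f : N → ℂ := fun n => blockCoeff O n
    have hf : ∀ (g : G) (n : N), f (MulAut.conjNormal g n) = f n := fun g n => by
      show blockCoeff O _ = blockCoeff O n
      rw [blockCoeff_conjNormal]
      congr 1
      ext φ
      show (∃ a, conjIrr a (conjIrr g⁻¹ φ) ∈ b) ↔ ∃ a, conjIrr a φ ∈ b
      simp only [conjIrr_mul]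
      exact ⟨fun ⟨a, ha⟩ => ⟨_, ha⟩, fun ⟨a, ha⟩ => ⟨g * a, by rwa [inv_mul_cancel_left]⟩⟩
    set F : G → ℂ := fun x => if hx : x ∈ N then f ⟨x, hx⟩ else 0 with hF
    have hFcl : IsClassFunction G F := by
      intro x y
      simp only [F]
      by_cases hx : x ∈ N
      · rw [dif_pos hx, dif_pos (Subgroup.Normal.conj_mem inferInstance x hx y)]
        exact (congrArg f (Subtype.ext (MulAut.conjNormal_apply y ⟨x, hx⟩).symm)).trans (hf y ⟨x, hx⟩)
      · rw [dif_neg hx, dif_neg fun h' => hx (by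
          simpa [mul_assoc] using Subgroup.Normal.conj_mem (inferInstance : N.Normal) _ h' y⁻¹)]
    have hcong : MemLocalIdeal M (omega (χ : G → ℂ) F - omega (θ : N → ℂ) fun n : N => F n) := by
      rw [omega_res_eq_sum' _ hFcl, omega_eq_sum_centralChar χ hFcl, ← Finset.sum_sub_distrib]
      refine LI.sum hM fun C _ => ?_
      rw [← mul_sub]
      by_cases hC : C.out ∈ N
      · refine LI.mul_left hM ?_ (h χ hχ θ hθ ⟨_, hC⟩)
        simp only [hF, dif_pos hC]
        show MemLocalRing M (blockCoeff O _)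
        rw [blockCoeff_eq_fourierInv]
        exact (hloc _).1
      · simp only [hF, dif_neg hC, zero_mul]
        exact LI.zero hM
    rw [show (fun n : N => F n) = f from funext fun n => dif_pos n.2, omega_blockCoeff,
      blockInd_of_mem (show θ ∈ O from ⟨1, by rwa [conjIrr_one]⟩)] at hcong
    obtain ⟨θ', hθ'⟩ := CfsgLib.Blocks.exists_over (N := N) χ
    rw [hF, omega_extend, omega_eq_of_over hθ' hf, omega_blockCoeff] at hcong
    have hm : θ' ∈ O := by
      by_contra hm
      rw [blockInd_of_notMem hm, zero_sub] at hcong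
      exact LI.not_one hM (by simpa using LI.neg hcong)
    obtain ⟨g, hg⟩ := hm
    refine ⟨χ, hχ, conjIrr g θ', hg, ?_⟩
    show classInner _ (conjFun N g θ') ≠ 0
    rwa [classInner_restrict_conjFun N g (CfsgLib.Char.IsIrrCharacter.isClassFunction χ.2)]

/-- With `p`-power index one block covers each block of `N`. -/
theorem existsUnique_cover (hM : IsPModular p M) (hidx : ∃ k : ℕ, N.index = p ^ k)
    (hb : IsPBlock M b) :
    ∃! B : Set (IrrCharacter G), IsPBlock M B ∧
      ∃ χ ∈ B, ∃ θ ∈ b, classInner (fun n : N => (χ : G → ℂ) n) (θ : N → ℂ) ≠ 0 := by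
  obtain ⟨θ, hθ⟩ := IsPBlock.nonempty hM hb
  obtain ⟨χ, hχ⟩ : ∃ χ : IrrCharacter G, classInner (fun n : N => (χ : G → ℂ) n) (θ : N → ℂ) ≠ 0 := by
    by_contra hcon
    push Not at hcon
    have hI := CfsgLib.Char.IsCharacter.indFun N (CfsgLib.Char.isCharacter_irr θ)
    have h0 : ∀ χ : IrrCharacter G, classInner (indFun N (θ : N → ℂ)) (χ : G → ℂ) = 0 := fun χ => by
      rw [CfsgLib.Char.classInner_indFun N _ (CfsgLib.Char.IsIrrCharacter.isClassFunction χ.2),
        CfsgLib.Char.IsCharacter.classInner_comm (CfsgLib.Char.isCharacter_irr θ)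
          (CfsgLib.Char.IsCharacter.restrict (CfsgLib.Char.isCharacter_irr χ) N)]
      exact hcon χ
    have h1 := congrFun (CfsgLib.Char.IsClassFunction.eq_sum_irr
      (CfsgLib.Char.IsCharacter.isClassFunction hI)) 1
    simp only [h0, zero_smul, Finset.sum_const_zero, Pi.zero_apply, CfsgLib.Char.indFun_one] at h1
    rcases mul_eq_zero.1 h1 with h2 | h2
    · exact Nat.cast_ne_zero.2 Subgroup.index_ne_zero_of_finite h2
    · exact irr_one_ne_zero θ h2
  refine ⟨blockOf M (χ : G → ℂ), ⟨isPBlock_blockOf χ, χ, SameBlock_refl hM _, θ, hθ, hχ⟩, ?_⟩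
  rintro B ⟨hB, hcov⟩
  obtain ⟨χ', hχ', h'⟩ := exists_over_mem hM hB hb hcov hθ
  exact IsPBlock.eq_of_mem hM hB (isPBlock_blockOf χ) hχ' (sameBlock_of_over hM hidx hχ h')

end CfsgLib.Blocks.CoverBasics
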