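import Cfsg.Agent.Lib.Blocks.FongReynolds
import Cfsg.Agent.Lib.Blocks.ResidueAlgebra
import Cfsg.Agent.Lib.Blocks.DefectGroup
import Cfsg.Agent.Lib.CharDeep.GradedNilpotent

/-!
# Defect groups of blocks covering a block of a normal subgroup

Inside the stabilizer `T` of a block `b` of `N`: a class function vanishing modulo `M` on the
centralizer of a defect group `Q` of `b` has central character values in the local ideal at every
character covering `b`.  Hence a defect group of a covering block meets `N` in a defect group of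
`b`, and the largest defect of a covering block is that of `b` plus the exponent of `p` in
`[T : N]`.
-/

set_option autoImplicit false
set_option linter.unusedSectionVars false

namespace CfsgLib.Blocks.CoverDefect

open Cfsg CfsgLib.Blocks CfsgLib.Blocks.FongReynolds CfsgLib.Blocks.ResidueAlgebra
open scoped Classical

variable {G : Type*} [Group G] [Fintype G] {p : ℕ} {M : Ideal AlgInt}
  {N : Subgroup G} [N.Normal] [Fintype N] {T : Subgroup G} [Fintype T] (hNT : N ≤ T)
  {b : Set (IrrCharacter N)}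
  (hM : IsPModular p M) (hb : IsPBlock M b) (hT : ∀ g : G, g ∈ T ↔ ∀ θ ∈ b, conjIrr g θ ∈ b)

/-- The map of residue group algebras given by `N ≤ T`. -/
noncomputable abbrev inclAlg : MonoidAlgebra (Residue hM) N →+* MonoidAlgebra (Residue hM) T :=
  MonoidAlgebra.mapDomainRingHom (Residue hM) (Subgroup.inclusion hNT)

theorem coeff_inclAlg_apply (x : MonoidAlgebra (Residue hM) N) (n : N) :
    (inclAlg hNT hM x).coeff (Subgroup.inclusion hNT n) = x.coeff n :=
  Finsupp.mapDomain_apply (Subgroup.inclusion_injective hNT) x.coeff n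

theorem coeff_inclAlg_of_notMem (x : MonoidAlgebra (Residue hM) N) {t : T} (ht : (t : G) ∉ N) :
    (inclAlg hNT hM x).coeff t = 0 :=
  Finsupp.mapDomain_of_notMem_range _ _ fun ⟨n, hn⟩ => ht (hn ▸ n.2)

theorem toResAlg_eq_inclAlg {f : T → ℂ} (h0 : ∀ t : T, (t : G) ∉ N → f t = 0) :
    toResAlg hM f = inclAlg hNT hM (toResAlg hM fun n : N => f (Subgroup.inclusion hNT n)) := by
  refine ext_coeff fun t => ?_
  by_cases ht : (t : G) ∈ N
  · rw [show t = Subgroup.inclusion hNT ⟨(t : G), ht⟩ from rfl, coeff_inclAlg_apply, coeff_toResAlg,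
      coeff_toResAlg]
  · rw [coeff_inclAlg_of_notMem hNT hM _ ht, coeff_toResAlg, h0 t ht, resid_zero]

/-- The idempotent of `b` extended by zero to `T`. -/
noncomputable def idem (b : Set (IrrCharacter N)) : T → ℂ :=
  fun t => if h : (t : G) ∈ N then blockCoeff b ⟨(t : G), h⟩ else 0

theorem inclAlg_blockInd :
    inclAlg hNT hM (redChar hM (blockInd b)) = toResAlg hM (idem (T := T) b) := by
  rw [toResAlg_eq_inclAlg hNT hM (f := idem (T := T) b) fun t ht => dif_neg ht]
  refine congrArg (inclAlg hNT hM) ?_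
  rw [redChar]
  refine congrArg (toResAlg hM) (funext fun n => ?_)
  rw [← blockCoeff_eq_fourierInv]
  rw [idem, dif_pos (show ((Subgroup.inclusion hNT n : T) : G) ∈ N from n.2)]
  rfl

/-- Reductions of central elements of `N` killed by the central characters of `b`. -/
def Kill (b : Set (IrrCharacter N)) (x : MonoidAlgebra (Residue hM) T) : Prop :=
  ∃ F : IrrCharacter N → ℂ, IsLocalOn M (⊤ : Subgroup N) F ∧
    x = inclAlg hNT hM (redChar hM F) ∧ ∀ φ ∈ b, MemLocalIdeal M (F φ)

theorem redChar_sub_const {F : IrrCharacter N → ℂ} (hF : IsLocalOn M (⊤ : Subgroup N) F) {c : ℂ}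
    (hc : MemLocalIdeal M c) :
    redChar hM (fun ψ : IrrCharacter N => F ψ - c) = redChar hM F := by
  refine (toResAlg_congr hM (fun x => (hF x).1) fun x => ?_).symm
  have h := IsLocalZero.const_mul hM hc
    (IsLocalOn.one (C := (⊤ : Subgroup N)) (G := N) hM) x
  have e : fourierInv F x - fourierInv (fun ψ : IrrCharacter N => F ψ - c) x
      = fourierInv (fun _ : IrrCharacter N => c * 1) x := by
    simp only [fourierInv, mul_one, sub_mul, Finset.sum_sub_distrib, mul_sub, sub_sub_cancel]
  rw [e]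
  exact h

theorem exists_prod_eq : ∀ (w : List (MonoidAlgebra (Residue hM) T)) (s : Finset (IrrCharacter N)),
    (∀ φ ∈ s, φ ∈ b) → w.length = s.card → (∀ x ∈ w, Kill hNT hM b x) →
    ∃ F : IrrCharacter N → ℂ, IsLocalOn M (⊤ : Subgroup N) F ∧
      w.prod = inclAlg hNT hM (redChar hM F) ∧ ∀ φ ∈ s, F φ = 0 := by
  intro w
  induction w with
  | nil =>
    intro s _ hl _
    refine ⟨fun _ => 1, IsLocalOn.one hM, by rw [redChar_one, map_one, List.prod_nil],
      fun φ hφ => ?_⟩
    rw [List.length_nil, eq_comm, Finset.card_eq_zero] at hl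
    simp [hl] at hφ
  | cons x w ih =>
    intro s hs hl hw
    obtain ⟨φ, hφ⟩ := Finset.card_pos.1 (by rw [← hl]; simp : 0 < s.card)
    obtain ⟨F, hF, hwF, hF0⟩ := ih (s.erase φ) (fun ψ hψ => hs ψ (Finset.mem_of_mem_erase hψ))
      (by rw [Finset.card_erase_of_mem hφ, ← hl]; simp)
      (fun y hy => hw y (List.mem_cons_of_mem x hy))
    obtain ⟨A, hA, hxA, hA0⟩ := hw x List.mem_cons_self
    have hA' : IsLocalOn M (⊤ : Subgroup N) fun ψ => A ψ - A φ :=
      IsLocalOn.sub hM hA (IsLocalOn.const hM (hA.LR_value hM φ))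
    refine ⟨fun ψ => (A ψ - A φ) * F ψ, IsLocalOn.mul hM hA' hF, ?_, fun ψ hψ => ?_⟩
    · rw [List.prod_cons, hxA, hwF, ← map_mul, redChar_mul hA' hF,
        redChar_sub_const hM hA (hA0 φ (hs φ hφ))]
    · by_cases h : ψ = φ
      · simp [h]
      · simp [hF0 ψ (Finset.mem_erase.2 ⟨h, hψ⟩)]

include hM hb in
theorem prod_mul_idem_eq_zero {w : List (MonoidAlgebra (Residue hM) T)}
    (hl : w.length = (Finset.univ.filter fun φ : IrrCharacter N => φ ∈ b).card)
    (hw : ∀ x ∈ w, Kill hNT hM b x) : w.prod * toResAlg hM (idem (T := T) b) = 0 := by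
  obtain ⟨F, hF, he, h0⟩ := exists_prod_eq hNT hM w _ (fun φ hφ => (Finset.mem_filter.1 hφ).2) hl hw
  rw [he, ← inclAlg_blockInd hNT hM, ← map_mul, ← redChar_mul hF (IsPBlock.isLocalOn hM hb)]
  have : (fun ψ => F ψ * blockInd b ψ) = fun _ => (0 : ℂ) := funext fun ψ => by
    by_cases h : ψ ∈ b
    · rw [h0 ψ (Finset.mem_filter.2 ⟨Finset.mem_univ _, h⟩), zero_mul]
    · rw [blockInd_of_notMem h, mul_zero]
  rw [this, redChar_zero, map_zero]

include hM hb hT in
/-- An element killing the idempotent after a power has central character values in the ideal. -/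
theorem omega_LI_of_pow {ψ : IrrCharacter T} (hψ : Covers hNT ψ b) {f : T → ℂ}
    (hf : IsClassFunction T f) (hR : ∀ t, MemLocalRing M (f t)) {L : ℕ}
    (h : toResAlg hM f ^ L * toResAlg hM (idem (T := T) b) = 0) :
    MemLocalIdeal M (omega (ψ : T → ℂ) f) := by
  have hE : IsClassFunction T (idem (T := T) b) := idem_isClassFunction hM hb hT
  have hW : IsLocalOn M (⊤ : Subgroup T) fun χ : IrrCharacter T => omega (χ : T → ℂ) f :=
    isLocalOn_omega hM hf hR fun t ht => absurd (Subgroup.mem_top t) ht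
  have hWE : IsLocalOn M (⊤ : Subgroup T)
      fun χ : IrrCharacter T => omega (χ : T → ℂ) (idem (T := T) b) :=
    isLocalOn_omega hM hE (idem_LR hM hb) fun t ht => absurd (Subgroup.mem_top t) ht
  obtain ⟨hl, hpow⟩ := redChar_pow (hM := hM) hW L
  have h0 : redChar hM (fun χ : IrrCharacter T =>
      omega (χ : T → ℂ) f ^ L * omega (χ : T → ℂ) (idem (T := T) b)) = 0 := by
    rw [redChar_mul hl hWE, hpow, redChar_omega hf, redChar_omega hE]
    exact h
  have h1 := LI_of_redChar_eq_zero (IsLocalOn.mul hM hl hWE) h0 ψ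
  rw [show omega (ψ : T → ℂ) (idem (T := T) b) = 1 from omega_idem_eq_one hNT hM hb hT hψ,
    mul_one] at h1
  exact LI.of_pow hM (omega_LR hM ψ hf hR) h1

include hM hb hT in
/-- A class function on `N` killed by `b` is killed by the characters covering `b`. -/
theorem omega_LI_of_supported {ψ : IrrCharacter T} (hψ : Covers hNT ψ b) {f : T → ℂ}
    (hf : IsClassFunction T f) (hR : ∀ t, MemLocalRing M (f t))
    (h0 : ∀ t : T, (t : G) ∉ N → f t = 0)
    (hk : ∀ φ ∈ b, MemLocalIdeal M
      (omega (φ : N → ℂ) fun n : N => f (Subgroup.inclusion hNT n))) :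
    MemLocalIdeal M (omega (ψ : T → ℂ) f) := by
  set fN : N → ℂ := fun n => f (Subgroup.inclusion hNT n)
  have hfN : IsClassFunction N fN := fun x y => by
    show f (Subgroup.inclusion hNT (y * x * y⁻¹)) = _
    rw [map_mul (Subgroup.inclusion hNT), map_mul (Subgroup.inclusion hNT),
      map_inv (Subgroup.inclusion hNT)]
    exact hf _ _
  have hK : Kill hNT hM b (toResAlg hM f) :=
    ⟨_, isLocalOn_omega hM hfN (fun n => hR _) fun n hn => absurd (Subgroup.mem_top n) hn,
      by rw [redChar_omega hfN]; exact toResAlg_eq_inclAlg hNT hM h0, hk⟩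
  refine omega_LI_of_pow hNT hM hb hT hψ hf hR
    (L := (Finset.univ.filter fun φ : IrrCharacter N => φ ∈ b).card) ?_
  rw [← List.prod_replicate]
  exact prod_mul_idem_eq_zero hNT hM hb List.length_replicate fun x hx =>
    (List.eq_of_mem_replicate hx) ▸ hK

/-! ### The grading by `G ⧸ N` -/

/-- Invariant under `N` and supported on one coset. -/
def Homog (δ : G ⧸ N) (x : MonoidAlgebra (Residue hM) T) : Prop :=
  (∀ (n : N) (t : T), x.coeff (Subgroup.inclusion hNT n * t * (Subgroup.inclusion hNT n)⁻¹)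
    = x.coeff t) ∧ ∀ t : T, x.coeff t ≠ 0 → ((t : G) : G ⧸ N) = δ

/-- Homogeneous and vanishing on the centralizer of `Q`. -/
def HomogKer (Q : Subgroup N) (δ : G ⧸ N) (x : MonoidAlgebra (Residue hM) T) : Prop :=
  Homog hNT hM δ x ∧
    ∀ t ∈ Subgroup.centralizer ((Q.map (Subgroup.inclusion hNT) : Subgroup T) : Set T),
      x.coeff t = 0

theorem homog_one : Homog hNT hM (1 : G ⧸ N) (1 : MonoidAlgebra (Residue hM) T) := by
  refine ⟨fun n t => ?_, fun t ht => ?_⟩
  · simp only [MonoidAlgebra.one_def, MonoidAlgebra.coeff_single, Finsupp.single_apply]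
    exact if_congr (by rw [eq_comm, conj_eq_one_iff, eq_comm]) rfl rfl
  · simp only [MonoidAlgebra.one_def, MonoidAlgebra.coeff_single, Finsupp.single_apply] at ht
    have : (1 : T) = t := by
      by_contra h
      exact ht (if_neg h)
    rw [← this]
    simp

theorem homog_mul {δ ε : G ⧸ N} {x y : MonoidAlgebra (Residue hM) T} (hx : Homog hNT hM δ x)
    (hy : Homog hNT hM ε y) : Homog hNT hM (δ * ε) (x * y) := by
  refine ⟨fun n t => ?_, fun t ht => ?_⟩
  · rw [coeff_mul_sum, coeff_mul_sum]
    set u := Subgroup.inclusion hNT n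
    refine (Fintype.sum_equiv (MulAut.conj u).toEquiv _ _ fun a => ?_).symm
    show _ = x.coeff (u * a * u⁻¹) * y.coeff ((u * a * u⁻¹)⁻¹ * (u * t * u⁻¹))
    rw [hx.1 n a, show (u * a * u⁻¹)⁻¹ * (u * t * u⁻¹) = u * (a⁻¹ * t) * u⁻¹ by group, hy.1 n]
  · rw [coeff_mul_sum] at ht
    obtain ⟨a, -, ha⟩ := Finset.exists_ne_zero_of_sum_ne_zero ht
    have h1 := hx.2 a (left_ne_zero_of_mul ha)
    have h2 := hy.2 (a⁻¹ * t) (right_ne_zero_of_mul ha)
    rw [← h1, ← h2, ← QuotientGroup.mk_mul]
    simp

theorem homogKer_mul {Q : Subgroup N} (hQp : IsPGroup p Q) {δ ε : G ⧸ N}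
    {x y : MonoidAlgebra (Residue hM) T} (hx : Homog hNT hM δ x) (hy : HomogKer hNT hM Q ε y) :
    HomogKer hNT hM Q (δ * ε) (x * y) := by
  refine ⟨homog_mul hNT hM hx hy.1, fun c hc => ?_⟩
  set fx : T → ℂ := fun t => sec hM (x.coeff t)
  set fy : T → ℂ := fun t => sec hM (y.coeff t)
  have hinv : ∀ z : MonoidAlgebra (Residue hM) T, ∀ δ', Homog hNT hM δ' z →
      ∀ u ∈ Q.map (Subgroup.inclusion hNT), ∀ t,
        sec hM (z.coeff (u * t * u⁻¹)) = sec hM (z.coeff t) := by
    rintro z δ' hz _ ⟨n, -, rfl⟩ t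
    rw [hz.1 n t]
  have h := conv_congr_centralizer hM (hQp.map (Subgroup.inclusion hNT)) (f := fx) (g := fy)
    (fun t => sec_LR hM _) (fun t => sec_LR hM _) (hinv x δ hx) (hinv y ε hy.1) hc
  have h0 : ∀ t ∈ Finset.univ.filter (fun t : T =>
      t ∈ Subgroup.centralizer ((Q.map (Subgroup.inclusion hNT) : Subgroup T) : Set T)),
      fx t * fy (t⁻¹ * c) = 0 := fun t ht => by
    have hm := mul_mem (inv_mem (Finset.mem_filter.1 ht).2) hc
    simp only [fy, hy.2 _ hm, sec, if_pos, mul_zero]
  rw [Finset.sum_eq_zero h0, sub_zero] at h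
  rw [coeff_mul_sum, ← resid_eq_zero hM h,
    resid_sum hM _ fun t _ => LR.mul hM (sec_LR hM _) (sec_LR hM _)]
  refine Finset.sum_congr rfl fun t _ => ?_
  rw [resid_mul hM (sec_LR hM _) (sec_LR hM _), resid_sec, resid_sec]

include hM hb in
theorem kill_of_homogKer {Q : Subgroup N} (hQ : IsDefectGroup p M b Q)
    {x : MonoidAlgebra (Residue hM) T} (hx : HomogKer hNT hM Q (1 : G ⧸ N) x) :
    Kill hNT hM b x := by
  set f : T → ℂ := fun t => sec hM (x.coeff t)
  have h0 : ∀ t : T, (t : G) ∉ N → f t = 0 := fun t ht => by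
    refine if_pos ?_
    by_contra h
    exact ht ((QuotientGroup.eq_one_iff _).1 (hx.1.2 t h))
  set fN : N → ℂ := fun n => f (Subgroup.inclusion hNT n)
  have hfN : IsClassFunction N fN := fun a c => by
    show sec hM _ = sec hM _
    rw [map_mul (Subgroup.inclusion hNT), map_mul (Subgroup.inclusion hNT),
      map_inv (Subgroup.inclusion hNT), hx.1.1]
  have hxe : x = toResAlg hM f := ext_coeff fun t => by rw [coeff_toResAlg, resid_sec]
  refine ⟨_, isLocalOn_omega hM hfN (fun n => sec_LR hM _) fun n hn =>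
    absurd (Subgroup.mem_top n) hn, ?_, fun φ hφ => ?_⟩
  · rw [redChar_omega hfN, hxe]
    exact toResAlg_eq_inclAlg hNT hM h0
  · rw [omega_eq_sum_centralChar φ hfN]
    refine LI.sum hM fun C _ => ?_
    by_cases hC : MemLocalIdeal M (centralChar (φ : N → ℂ) C.out)
    · exact LI.mul_left hM (sec_LR hM _) hC
    obtain ⟨h', hconj, hh'⟩ := exists_conj_centralizes_defectGroup hM hb hQ hφ hC
    obtain ⟨c, rfl⟩ := isConj_iff.1 hconj
    rw [← hfN C.out c,
      show fN (c * C.out * c⁻¹) = 0 from if_pos (hx.2 _ (Subgroup.mem_centralizer_iff.2 ?_)),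
      zero_mul]
    · exact LI.zero hM
    · rintro _ ⟨q, hq, rfl⟩
      rw [← map_mul, ← map_mul, Subgroup.mem_centralizer_iff.1 hh' q hq]

include hM hb hT in
/-- A class function vanishing modulo `M` on the centralizer of a defect group of `b` is killed by
every character covering `b`. -/
theorem omega_LI_of_centralizer {Q : Subgroup N} (hQ : IsDefectGroup p M b Q)
    {ψ : IrrCharacter T} (hψ : Covers hNT ψ b) {f : T → ℂ}
    (hf : IsClassFunction T f) (hR : ∀ t, MemLocalRing M (f t))
    (hk : ∀ t ∈ Subgroup.centralizer ((Q.map (Subgroup.inclusion hNT) : Subgroup T) : Set T),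
      MemLocalIdeal M (f t)) :
    MemLocalIdeal M (omega (ψ : T → ℂ) f) := by
  have hQp := isPGroup_defectGroup hQ
  set a : G ⧸ N → MonoidAlgebra (Residue hM) T := fun q =>
    toResAlg hM fun t : T => if ((t : G) : G ⧸ N) = q then f t else 0
  have ha : ∀ q, HomogKer hNT hM Q q (a q) := by
    refine fun q => ⟨⟨fun n t => ?_, fun t ht => ?_⟩, fun t ht => ?_⟩
    · simp only [a, coeff_toResAlg]
      congr 1
      refine if_congr ?_ (hf _ _) rfl
      rw [Subgroup.coe_mul, Subgroup.coe_mul, Subgroup.coe_inv, Subgroup.coe_inclusion,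
        QuotientGroup.mk_mul, QuotientGroup.mk_mul, QuotientGroup.mk_inv,
        (QuotientGroup.eq_one_iff _).2 n.2]
      simp
    · simp only [a, coeff_toResAlg] at ht
      by_contra h
      exact ht (by rw [if_neg h, resid_zero])
    · simp only [a, coeff_toResAlg]
      split
      · exact resid_eq_zero hM (hk t ht)
      · exact resid_zero hM
  have hsum : ∑ q, a q = toResAlg hM f := by
    refine ext_coeff fun t => ?_
    rw [MonoidAlgebra.coeff_sum, Finsupp.finsetSum_apply]
    simp only [a, coeff_toResAlg]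
    rw [Finset.sum_eq_single ((t : G) : G ⧸ N)]
    · rw [if_pos rfl]
    · intro q _ hq
      rw [if_neg (Ne.symm hq), resid_zero]
    · simp
  obtain ⟨L, hL⟩ := CfsgLib.CharDeep.GradedNilpotent.exists_pow_mul_eq_zero
    (A := Homog hNT hM) (I := HomogKer hNT hM Q) (S := Kill hNT hM b) (homog_one hNT hM)
    (fun δ ε x y hx hy => homog_mul hNT hM hx hy.1)
    (fun δ ε x y hx hy h1 => kill_of_homogKer hNT hM hb hQ (h1 ▸ homogKer_mul hNT hM hQp hx hy))
    (e := toResAlg hM (idem (T := T) b))
    (commute_toResAlg_of_classFunction (idem_isClassFunction hM hb hT))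
    (fun w hl hw => prod_mul_idem_eq_zero hNT hM hb hl hw) a ha
  rw [hsum] at hL
  exact omega_LI_of_pow hNT hM hb hT hψ hf hR hL

/-! ### Consequences -/

include hM hb hT in
/-- A defect group of `b` lies in a defect group of each covering block. -/
theorem exists_defectGroup_ge {Q : Subgroup N} (hQ : IsDefectGroup p M b Q)
    {B' : Set (IrrCharacter T)} (hB' : IsPBlock M B') {ψ : IrrCharacter T} (hψB : ψ ∈ B')
    (hψ : Covers hNT ψ b) :
    ∃ D : Subgroup T, IsDefectGroup p M B' D ∧ Q.map (Subgroup.inclusion hNT) ≤ D := by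
  by_contra hcon
  refine LI.not_one hM ?_
  have h := omega_LI_of_centralizer hNT hM hb hT hQ hψ (blockCoeff_isClassFunction B')
    (blockCoeff_LR hM hB') fun t ht => by
      by_contra hne
      exact hcon (exists_isDefectGroup_ge hM hB'
        ((isPGroup_defectGroup hQ).map (Subgroup.inclusion hNT)) ht hne)
  rwa [omega_blockCoeff, blockInd_of_mem hψB] at h

theorem omega_sub_ite {H : Type*} [Group H] [Fintype H] [DecidableEq H] (χ : IrrCharacter H)
    (u : H → ℂ) (c : ℂ) :
    omega (χ : H → ℂ) (fun t => u t - if t = 1 then c else 0) = omega (χ : H → ℂ) u - c := by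
  simp only [omega, sub_mul, Finset.sum_sub_distrib, sub_div, ite_mul, zero_mul,
    Finset.sum_ite_eq', Finset.mem_univ, if_true, mul_div_assoc, div_self (irr_one_ne_zero χ),
    mul_one]

include hM hb hT in
theorem isDefectClass_conjNormal {y : N} (hy : IsDefectClass M b y) {t : G} (ht : t ∈ T) :
    IsDefectClass M b (MulAut.conjNormal t y) := by
  have e : blockCoeff b (MulAut.conjNormal t y) = blockCoeff b y := by
    rw [blockCoeff_conjNormal, preim_of_mem hM hb hT (inv_mem ht)]
  refine ⟨e ▸ hy.1, e ▸ hy.2.1, fun φ hφ => ?_⟩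
  rw [← centralChar_conjFun]
  exact hy.2.2 (conjIrr t φ) ((hT t).1 ht φ hφ)

set_option maxHeartbeats 1000000 in
include hM hb hT in
/-- A class of `T` inside `N` splitting into a number prime to `p` of defect classes of `b`, at
which every covering character has unit central character. -/
theorem exists_class {ψ₀ : IrrCharacter T} (hψ₀ : Covers hNT ψ₀ b) :
    ∃ y : N, IsDefectClass M b y ∧
      centExp p (Subgroup.inclusion hNT y) + (Nat.card N).factorization p
        = blockDefect p b + (Nat.card T).factorization p ∧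
      ¬ MemLocalIdeal M (idem (T := T) b (Subgroup.inclusion hNT y)) ∧
      ∀ ψ : IrrCharacter T, Covers hNT ψ b →
        ¬ MemLocalIdeal M (centralChar (ψ : T → ℂ) (Subgroup.inclusion hNT y)) := by
  obtain ⟨φ₀, hφ₀⟩ := IsPBlock.nonempty hM hb
  have hE : IsClassFunction T (idem (T := T) b) := idem_isClassFunction hM hb hT
  obtain ⟨C, hC1, hC2⟩ : ∃ C : ConjClasses T, ¬ MemLocalIdeal M (idem (T := T) b C.out) ∧
      ¬ MemLocalIdeal M (centralChar (ψ₀ : T → ℂ) C.out) := by
    by_contra hcon
    push Not at hcon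
    refine LI.not_one hM ?_
    rw [← show omega (ψ₀ : T → ℂ) (idem (T := T) b) = 1 from omega_idem_eq_one hNT hM hb hT hψ₀,
      omega_eq_sum_centralChar ψ₀ hE]
    refine LI.sum hM fun C _ => ?_
    by_cases h : MemLocalIdeal M (idem (T := T) b C.out)
    · exact LI.mul_right hM h (centralChar_LR hM ψ₀ _)
    · exact LI.mul_left hM (idem_LR hM hb _) (hcon C h)
  have hCN : (C.out : G) ∈ N := by
    by_contra h
    exact hC1 (by rw [idem, dif_neg h]; exact LI.zero hM)
  set y : N := ⟨(C.out : G), hCN⟩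
  have hy : Subgroup.inclusion hNT y = C.out := rfl
  set f : T → ℂ := classInd (Subgroup.inclusion hNT y) with hf
  set F : N → ℂ := fun n => f (Subgroup.inclusion hNT n) with hF
  have hFc : IsClassFunction N F := fun a c => by
    show f _ = f _
    rw [map_mul (Subgroup.inclusion hNT), map_mul (Subgroup.inclusion hNT),
      map_inv (Subgroup.inclusion hNT)]
    exact classInd_isClassFunction _ _ _
  set S := Finset.univ.filter fun K : ConjClasses N =>
    IsConj (Subgroup.inclusion hNT y) (Subgroup.inclusion hNT K.out) with hS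
  have hmem : ∀ K ∈ S, ∃ t ∈ T, K.out = MulAut.conjNormal t y := fun K hK => by
    obtain ⟨t, ht⟩ := isConj_iff.1 (Finset.mem_filter.1 hK).2
    exact ⟨t, t.2, Subtype.ext (by rw [MulAut.conjNormal_apply]; exact congrArg Subtype.val ht.symm)⟩
  have hexp : ∀ φ : IrrCharacter N,
      omega (φ : N → ℂ) F = ∑ K ∈ S, centralChar (φ : N → ℂ) K.out := by
    intro φ
    rw [omega_eq_sum_centralChar φ hFc, hS, Finset.sum_filter]
    refine Finset.sum_congr (Finset.ext fun _ => by simp) fun K _ => ?_
    simp only [hF, hf, classInd]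
    split <;> simp
  set c : ℂ := (S.card : ℂ) * centralChar (φ₀ : N → ℂ) y with hc
  have hcR : MemLocalRing M c := LR.mul hM (LR.natCast hM _) (centralChar_LR hM _ _)
  have hcong : ∀ φ ∈ b, MemLocalIdeal M (omega (φ : N → ℂ) F - c) := by
    intro φ hφ
    rw [hexp, hc, ← nsmul_eq_mul, ← Finset.sum_const, ← Finset.sum_sub_distrib]
    refine LI.sum hM fun K hK => ?_
    obtain ⟨t, ht, he⟩ := hmem K hK
    rw [he, ← centralChar_conjFun]
    exact IsPBlock.sameBlock hM hb ((hT t).1 ht φ hφ) hφ₀ y
  have hval : ∀ ψ : IrrCharacter T, Covers hNT ψ b →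
      MemLocalIdeal M (centralChar (ψ : T → ℂ) (Subgroup.inclusion hNT y) - c) := by
    intro ψ hψ
    set g : T → ℂ := fun t => f t - if t = 1 then c else 0 with hg
    have hgc : IsClassFunction T g := fun a u => by
      simp only [hg, hf, classInd_isClassFunction (Subgroup.inclusion hNT y) a u, conj_eq_one_iff]
    have hgR : ∀ t, MemLocalRing M (g t) := fun t => LR.sub hM (classInd_LR hM _ _) (by
      split
      · exact hcR
      · exact LR.zero hM)
    have h := omega_LI_of_supported hNT hM hb hT hψ hgc hgR (fun t ht => by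
      have h1 : f t = 0 := by
        refine if_neg fun hconj => ht ?_
        obtain ⟨u, rfl⟩ := isConj_iff.1 hconj
        exact Subgroup.Normal.conj_mem inferInstance _ y.2 _
      have h2 : t ≠ 1 := fun h => ht (by rw [h]; exact one_mem N)
      simp [hg, h1, h2]) fun φ hφ => by
      have e2 : (fun n : N => g (Subgroup.inclusion hNT n))
          = fun n => F n - if n = 1 then c else 0 := funext fun n => by
        simp only [hg, hF, map_eq_one_iff _ (Subgroup.inclusion_injective hNT)]
      rw [e2, omega_sub_ite]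
      exact hcong φ hφ
    rwa [hg, omega_sub_ite, hf, omega_classInd] at h
  have hcne : ¬ MemLocalIdeal M c := fun h => hC2 (by
    have := LI.add hM (hval ψ₀ hψ₀) h
    rwa [sub_add_cancel] at this)
  have hm : ¬ p ∣ S.card := fun h => hcne
    (LI.mul_right hM ((LI.natCast_iff hM _).2 h) (centralChar_LR hM _ _))
  have hyb : IsDefectClass M b y := by
    refine ⟨blockCoeff_LR hM hb y, ?_, fun φ hφ hI => ?_⟩
    · have e : idem (T := T) b (Subgroup.inclusion hNT y) = blockCoeff b y := dif_pos y.2
      rw [← e, hy]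
      exact hC1
    · refine hcne (LI.mul_left hM (LR.natCast hM _) ?_)
      have := LI.sub hM hI (IsPBlock.sameBlock hM hb hφ hφ₀ y)
      rwa [sub_sub_cancel] at this
  refine ⟨y, hyb, ?_, hC1, fun ψ hψ hI => hcne ?_⟩
  · have htriv : ∀ {H : Type _} [Group H] [Fintype H] (x : H),
        centralChar (trivChar H : H → ℂ) x = ((Subgroup.centralizer ({x} : Set H)).index : ℂ) := by
      intro H _ _ x
      simp [centralChar, trivChar]
    have h1 : omega (trivChar N : N → ℂ) F
        = (S.card : ℂ) * ((Subgroup.centralizer ({y} : Set N)).index : ℂ) := by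
      rw [hexp, ← nsmul_eq_mul, ← Finset.sum_const]
      refine Finset.sum_congr rfl fun K hK => ?_
      obtain ⟨t, -, he⟩ := hmem K hK
      rw [he, ← centralChar_conjFun, ← htriv]
      congr 1
    have h2 : omega (trivChar N : N → ℂ) F = omega (trivChar T : T → ℂ) f := by
      simp only [omega, trivChar, mul_one, div_one]
      refine Finset.sum_bij_ne_zero (fun n _ _ => Subgroup.inclusion hNT n)
        (fun _ _ _ => Finset.mem_univ _)
        (fun _ _ _ _ _ _ h => Subgroup.inclusion_injective hNT h) ?_ fun n _ _ => rfl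
      intro t _ ht
      obtain ⟨u, hu⟩ := isConj_iff.1 (show IsConj (Subgroup.inclusion hNT y) t from
        by_contra fun h => ht (if_neg h))
      have htN : (t : G) ∈ N := hu ▸ Subgroup.Normal.conj_mem inferInstance _ y.2 _
      exact ⟨⟨t, htN⟩, Finset.mem_univ _, ht, rfl⟩
    rw [h1, hf, omega_classInd, htriv, ← Nat.cast_mul] at h2
    have h3 := congrArg (fun k => Nat.factorization k p) (Nat.cast_injective h2)
    rw [Nat.factorization_mul (fun h => hm (by rw [h]; exact dvd_zero p)) Subgroup.index_ne_zero_of_finite,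
      Finsupp.add_apply, Nat.factorization_eq_zero_of_not_dvd hm, zero_add] at h3
    have h4 := index_factorization_add (p := p) y
    have h5 := index_factorization_add (p := p) (Subgroup.inclusion hNT y)
    have h6 := centExp_eq_of_isDefectClass hM hb hyb
    omega
  · have := LI.sub hM hI (hval ψ hψ)
    rwa [sub_sub_cancel] at this

include hM hb hT in
/-- A defect group of a covering block meets `N` in a defect group of `b`. -/
theorem isDefectGroup_comap {B' : Set (IrrCharacter T)} (hB' : IsPBlock M B')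
    {ψ : IrrCharacter T} (hψB : ψ ∈ B') (hψ : Covers hNT ψ b) {D : Subgroup T}
    (hD : IsDefectGroup p M B' D) :
    IsDefectGroup p M b (D.comap (Subgroup.inclusion hNT)) := by
  have := Fact.mk hM.1
  obtain ⟨y, hy, -, -, hu⟩ := exists_class hNT hM hb hT hψ
  obtain ⟨h', hconj, hh'⟩ := exists_conj_centralizes_defectGroup hM hB' hD hψB (hu ψ hψ)
  obtain ⟨t, ht⟩ := isConj_iff.1 hconj
  set y' : N := MulAut.conjNormal (t : G) y
  have hy' : Subgroup.inclusion hNT y' = h' := by
    rw [← ht]
    exact Subtype.ext (MulAut.conjNormal_apply _ _)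
  have hyd : IsDefectClass M b y' := isDefectClass_conjNormal hM hb hT hy t.2
  set E := D.comap (Subgroup.inclusion hNT)
  have hEC : E ≤ Subgroup.centralizer ({y'} : Set N) := fun n hn =>
    Subgroup.mem_centralizer_singleton_iff.2 (Subgroup.inclusion_injective hNT (by
      rw [map_mul, map_mul, hy']
      exact Subgroup.mem_centralizer_iff.1 hh' _ hn))
  have hEp : IsPGroup p E := IsPGroup.comap_of_injective (isPGroup_defectGroup hD) _
    (Subgroup.inclusion_injective hNT)
  obtain ⟨Q, hQ⟩ := exists_isDefectGroup hM hb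
  obtain ⟨D₀, hD₀, hle⟩ := exists_defectGroup_ge hNT hM hb hT hQ hB' hψB hψ
  obtain ⟨z, rfl⟩ := exists_conj_eq_defectGroup hM hB' hD₀ hD
  have hQE : Q.map (MulAut.conjNormal (z : G) : MulAut N).toMonoidHom ≤ E := by
    rintro _ ⟨q, hq, rfl⟩
    exact ⟨_, hle ⟨q, hq, rfl⟩, Subtype.ext (MulAut.conjNormal_apply (z : G) q).symm⟩
  have hcard : Nat.card E = p ^ centExp p y' := by
    obtain ⟨e, he⟩ := IsPGroup.iff_card.1 hEp
    have h1 : e ≤ centExp p y' := (hM.1.pow_dvd_iff_le_factorization Nat.card_pos.ne').1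
      (he ▸ Subgroup.card_dvd_of_le hEC)
    have h2 := Subgroup.card_le_of_le hQE
    rw [Subgroup.card_map_of_injective (MulEquiv.injective _), card_defectGroup hM hb hQ, he] at h2
    have h3 := centExp_eq_of_isDefectClass hM hb hyd
    have h4 := (Nat.pow_le_pow_iff_right hM.1.one_lt).1 h2
    rw [he, show e = centExp p y' by omega]
  set C := Subgroup.centralizer ({y'} : Set N)
  refine ⟨y', hyd, Sylow.ofCard (E.subgroupOf C) ?_, ?_⟩
  · rw [Nat.card_congr (Subgroup.subgroupOfEquivOfLe hEC).toEquiv, hcard]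
    rfl
  · rw [Sylow.coe_ofCard, Subgroup.map_subgroupOf_eq_of_le hEC]

include hM hb hT in
/-- A covering block has defect at most `d(b) + v([T : N])`. -/
theorem blockDefect_add_le {B' : Set (IrrCharacter T)} (hB' : IsPBlock M B')
    {ψ : IrrCharacter T} (hψB : ψ ∈ B') (hψ : Covers hNT ψ b) :
    blockDefect p B' + (Nat.card N).factorization p
      ≤ blockDefect p b + (Nat.card T).factorization p := by
  obtain ⟨y, -, hy, -, hu⟩ := exists_class hNT hM hb hT hψ
  rw [← hy]
  exact Nat.add_le_add_right (blockDefect_le_centExp hM hB' hψB (hu ψ hψ)) _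

include hM hb hT in
/-- Some covering block has defect `d(b) + v([T : N])`. -/
theorem exists_maximal {ψ₀ : IrrCharacter T} (hψ₀ : Covers hNT ψ₀ b) :
    ∃ B' : Set (IrrCharacter T), IsPBlock M B' ∧ (∀ ψ ∈ B', Covers hNT ψ b) ∧
      blockDefect p B' + (Nat.card N).factorization p
        = blockDefect p b + (Nat.card T).factorization p := by
  obtain ⟨y, -, hy, hE, hu⟩ := exists_class hNT hM hb hT hψ₀
  set S := Finset.univ.filter fun ψ : IrrCharacter T => Covers hNT ψ b with hS
  obtain ⟨ψ, hψ, hne⟩ : ∃ ψ ∈ S, ¬ MemLocalIdeal M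
      (blockCoeff (blockOf M (ψ : T → ℂ)) (Subgroup.inclusion hNT y)) := by
    by_contra hcon
    push Not at hcon
    refine hE ?_
    have e1 : ∀ ψ : IrrCharacter T, omega (ψ : T → ℂ) (idem (T := T) b)
        = ∑ B ∈ S.image fun φ : IrrCharacter T => blockOf M (φ : T → ℂ), blockInd B ψ := by
      intro ψ
      by_cases hψ : Covers hNT ψ b
      · rw [show omega (ψ : T → ℂ) (idem (T := T) b) = 1 from omega_idem_eq_one hNT hM hb hT hψ,
          Finset.sum_eq_single (blockOf M (ψ : T → ℂ))]
        · exact (blockInd_of_mem (SameBlock_refl hM _ : ψ ∈ blockOf M (ψ : T → ℂ))).symm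
        · intro B hB hB2
          refine blockInd_of_notMem fun h => hB2 ?_
          obtain ⟨φ, -, rfl⟩ := Finset.mem_image.1 hB
          exact blockOf_eq_of_sameBlock hM h
        · intro h
          exact absurd (Finset.mem_image.2 ⟨ψ, by simp [hS, hψ], rfl⟩) h
      · rw [show omega (ψ : T → ℂ) (idem (T := T) b) = _ from omega_idem hNT ψ b,
          Finset.sum_eq_zero fun φ _ => ?_, zero_div, Finset.sum_eq_zero]
        · intro B hB
          refine blockInd_of_notMem fun h => hψ ?_
          obtain ⟨φ, hφ, rfl⟩ := Finset.mem_image.1 hB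
          exact covers_of_sameBlock hNT hM hb hT (Finset.mem_filter.1 hφ).2 h
        · by_cases hφ : φ ∈ b
          · rw [show classInner (res hNT (ψ : T → ℂ)) (φ : N → ℂ) = 0 from
              by_contra fun hc => hψ ⟨φ, hφ, hc⟩, zero_mul]
          · rw [blockInd_of_notMem hφ, mul_zero, mul_zero]
    rw [← congrFun (fourierInv_omega (f := idem (T := T) b) (idem_isClassFunction hM hb hT))
      (Subgroup.inclusion hNT y)]
    simp only [fourierInv, e1, Finset.sum_mul]
    rw [Finset.sum_comm, Finset.mul_sum]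
    refine LI.sum hM fun B hB => ?_
    obtain ⟨φ, hφ, rfl⟩ := Finset.mem_image.1 hB
    have := hcon φ hφ
    rwa [blockCoeff_eq_fourierInv] at this
  have hψc := (Finset.mem_filter.1 hψ).2
  have hB := isPBlock_blockOf (M := M) ψ
  have hall : ∀ χ ∈ blockOf M (ψ : T → ℂ), Covers hNT χ b := fun χ hχ =>
    covers_of_sameBlock hNT hM hb hT hψc hχ
  refine ⟨_, hB, hall, ?_⟩
  rw [← hy, ← centExp_eq_of_isDefectClass hM hB
    ⟨blockCoeff_LR hM hB _, hne, fun χ hχ => hu χ (hall χ hχ)⟩]

/-! ### The stabilizer -/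

/-- The stabilizer of the block `b`. -/
noncomputable def stabilizer (hM : IsPModular p M) (hb : IsPBlock M b) : Subgroup G where
  carrier := {g | ∀ θ ∈ b, conjIrr g θ ∈ b}
  one_mem' := fun θ hθ => by rwa [conjIrr_one]
  mul_mem' := fun {g h} hg hh θ hθ => by
    rw [← conjIrr_mul]
    exact hh _ (hg θ hθ)
  inv_mem' := fun {g} hg θ hθ => by
    obtain ⟨φ, hφ⟩ := IsPBlock.nonempty hM hb
    have e : preim b g = b :=
      IsPBlock.eq_of_mem hM (isPBlock_preim hM hb g) hb (χ := φ) (hg φ hφ) hφ
    rw [← e]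
    show conjIrr g (conjIrr g⁻¹ θ) ∈ b
    rwa [conjIrr_mul, inv_mul_cancel, conjIrr_one]

theorem mem_stabilizer (g : G) :
    g ∈ stabilizer hM hb ↔ ∀ θ ∈ b, conjIrr g θ ∈ b := Iff.rfl

theorem le_stabilizer : N ≤ stabilizer hM hb := by
  intro n hn θ hθ
  have : conjIrr n θ = θ := Subtype.ext (funext fun m => by
    show (θ : N → ℂ) (MulAut.conjNormal n m) = _
    rw [← CfsgLib.Char.IsIrrCharacter.isClassFunction θ.2 m ⟨n, hn⟩]
    exact congrArg _ (Subtype.ext (MulAut.conjNormal_apply n m)))
  rwa [this]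

end CfsgLib.Blocks.CoverDefect
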