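import Cfsg.Agent.Lib.Blocks.TIAbelianExceptional

/-!
# Coherence of a family of generalized characters along an equivalence relation
-/

set_option autoImplicit false

namespace CfsgLib.Blocks.CyclicDecomp

open Cfsg CfsgLib.Blocks
open scoped Classical

variable {G : Type*} [Group G] [Fintype G]

/-- A family of degree zero, constant on the classes of `R`, with inner products `e` or `e + 1`. -/
theorem coherent {κ : Type*} (k₀ : κ) {R : κ → κ → Prop} (hR : Equivalence R)
    (c : κ → IrrCharacter G → ℤ) (e : ℤ) (he : 0 ≤ e)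
    (hip : ∀ k l, ∑ χ, c k χ * c l χ = e + if R k l then 1 else 0)
    (hdeg : ∀ k, ∑ χ, (c k χ : ℂ) * (χ : G → ℂ) 1 = 0) :
    ∃ (ζ : κ → IrrCharacter G) (δ : ℤ) (g : IrrCharacter G → ℤ),
      (δ = 1 ∨ δ = -1) ∧ (∀ k l, ζ k = ζ l ↔ R k l) ∧
      (∀ k χ, c k χ = g χ - δ * if χ = ζ k then 1 else 0) ∧ (∀ k, g (ζ k) = g (ζ k₀)) ∧
      ∀ k, ∃ l, c l (ζ k) ≠ 0 := by
  have hrel : ∀ k l, R k l → c k = c l := by
    intro k l h
    have h0 : ∑ χ, (c k χ - c l χ) * (c k χ - c l χ) = 0 := by
      simp only [sub_mul, mul_sub, Finset.sum_sub_distrib, hip]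
      rw [if_pos (hR.refl k), if_pos h, if_pos (hR.symm h), if_pos (hR.refl l)]
      ring
    funext χ
    exact sub_eq_zero.1 (mul_self_eq_zero.1
      ((Finset.sum_eq_zero_iff_of_nonneg fun χ _ => mul_self_nonneg _).1 h0 χ (Finset.mem_univ _)))
  by_cases hE : ∀ k, R k₀ k
  · obtain ⟨η, hη⟩ : ∃ η, c k₀ η ≠ 0 := by
      by_contra h
      push Not at h
      have h1 := hip k₀ k₀
      rw [if_pos (hR.refl k₀)] at h1
      simp only [h, mul_zero, Finset.sum_const_zero] at h1
      omega
    refine ⟨fun _ => η, 1, fun χ => c k₀ χ + if χ = η then 1 else 0, Or.inl rfl,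
      fun k l => iff_of_true rfl (hR.trans (hR.symm (hE k)) (hE l)), fun k χ => ?_, fun k => rfl,
      fun k => ⟨k₀, hη⟩⟩
    rw [← hrel k₀ k (hE k)]
    ring
  · push Not at hE
    obtain ⟨k₁, hk₁⟩ := hE
    let K := {k : κ // ¬ R k₀ k}
    have he' : ∀ i : K, ∃ u v : IrrCharacter G, u ≠ v ∧
        ∀ χ, c k₀ χ - c i.1 χ = (if χ = u then 1 else 0) - (if χ = v then 1 else 0) := by
      intro i
      refine TIAbelian.pair_of_norm_two _ ?_ ?_
      · simp only [sub_mul, mul_sub, Finset.sum_sub_distrib, hip]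
        rw [if_pos (hR.refl k₀), if_pos (hR.refl i.1), if_neg i.2,
          if_neg fun h => i.2 (hR.symm h)]
        ring
      · simp only [Int.cast_sub, sub_mul, Finset.sum_sub_distrib, hdeg, sub_self]
    choose u v huv hev using he'
    have hR' : ∀ i j : K, R i.1 j.1 → u i = u j ∧ v i = v j := by
      intro i j hij
      have hfun : ∀ χ, ((if χ = u i then (1 : ℤ) else 0) - (if χ = v i then 1 else 0))
          = (if χ = u j then 1 else 0) - (if χ = v j then 1 else 0) := fun χ => by
        rw [← hev, ← hev, hrel _ _ hij]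
      refine ⟨?_, ?_⟩
      · have := hfun (u i)
        by_contra hne
        rw [if_pos rfl, if_neg (huv i), if_neg hne] at this
        split_ifs at this <;> omega
      · have := hfun (v i)
        by_contra hne
        rw [if_pos rfl, if_neg (huv i).symm, if_neg hne] at this
        split_ifs at this <;> omega
    have hn' : ∀ i j : K, ¬ R i.1 j.1 → (u i = u j ∧ v i ≠ v j) ∨ (v i = v j ∧ u i ≠ u j) := by
      intro i j hij
      have hsum : ∑ χ, (c k₀ χ - c i.1 χ) * (c k₀ χ - c j.1 χ) = 1 := by
        simp only [sub_mul, mul_sub, Finset.sum_sub_distrib, hip]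
        rw [if_pos (hR.refl k₀), if_neg j.2, if_neg fun h => i.2 (hR.symm h), if_neg hij]
        ring
      simp only [hev, sub_mul, mul_sub, Finset.sum_sub_distrib, ite_mul, one_mul, zero_mul, Finset.sum_ite_eq',
        Finset.mem_univ, if_true] at hsum
      by_cases e1 : u i = u j <;> by_cases e2 : v i = v j
      · have h1 : u i ≠ v j := fun h => huv i (h.trans e2.symm)
        have h3 : v i ≠ u j := fun h => huv i (e1.trans h.symm)
        rw [if_pos e1, if_pos e2, if_neg h1, if_neg h3] at hsum
        omega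
      · exact Or.inl ⟨e1, e2⟩
      · exact Or.inr ⟨e2, e1⟩
      · rw [if_neg e1, if_neg e2] at hsum
        split_ifs at hsum <;> omega
    obtain ⟨δ, η₀, sel, hδ, hsel, hsel0⟩ : ∃ (δ : ℤ) (η₀ : IrrCharacter G) (sel : K → IrrCharacter G),
        (δ = 1 ∨ δ = -1) ∧
          (∀ i χ, c i.1 χ = c k₀ χ - δ * ((if χ = sel i then 1 else 0) - (if χ = η₀ then 1 else 0))) ∧
          ∀ i, sel i ≠ η₀ := by
      rcases TIAbelian.star u v (fun i j : K => R i.1 j.1) huv hR' hn' ⟨k₁, hk₁⟩ with hcom | hcom
      · exact ⟨-1, u ⟨k₁, hk₁⟩, v, Or.inr rfl, fun i χ => by have := hev i χ; rw [hcom i] at this; linarith,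
          fun i h => huv i (by rw [hcom i, h])⟩
      · exact ⟨1, v ⟨k₁, hk₁⟩, u, Or.inl rfl, fun i χ => by have := hev i χ; rw [hcom i] at this; linarith,
          fun i h => huv i (by rw [hcom i, h])⟩
    let ζ : κ → IrrCharacter G := fun k => if hk : R k₀ k then η₀ else sel ⟨k, hk⟩
    let g : IrrCharacter G → ℤ := fun χ => c k₀ χ + δ * if χ = η₀ then 1 else 0
    have hδ0 : δ ≠ 0 := by rcases hδ with h | h <;> rw [h] <;> norm_num
    have hζ : ∀ k χ, c k χ = g χ - δ * if χ = ζ k then 1 else 0 := by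
      intro k χ
      by_cases hk : R k₀ k
      · simp only [g, ζ, dif_pos hk, ← hrel k₀ k hk]
        ring
      · simp only [g, ζ, dif_neg hk]
        rw [hsel ⟨k, hk⟩ χ]
        ring
    have hg : ∀ k, g (ζ k) = g η₀ := by
      intro k
      by_cases hk : R k₀ k
      · simp only [ζ, dif_pos hk]
      · simp only [g, ζ, dif_neg hk, if_neg (hsel0 _), mul_zero, add_zero]
        have h1 := hip k₀ k
        rw [if_neg hk, add_zero] at h1
        simp only [hsel ⟨k, hk⟩, mul_sub, Finset.sum_sub_distrib, mul_ite, mul_one, mul_zero, Finset.sum_ite_eq',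
          Finset.mem_univ, if_true, hip, if_pos (hR.refl k₀)] at h1
        rcases hδ with h | h <;> subst h <;> simp only [if_true] <;> linarith
    refine ⟨ζ, δ, g, hδ, fun k l => ⟨fun h => ?_, fun h => ?_⟩, hζ, fun k => (hg k).trans (hg k₀).symm,
      fun k => ?_⟩
    · by_contra hkl
      have h1 : c k = c l := funext fun χ => by rw [hζ, hζ, h]
      have h2 := hip k l
      rw [← h1, hip, if_pos (hR.refl k), if_neg hkl] at h2
      omega
    · by_contra hne
      have h1 := hζ k (ζ k)
      rw [hrel k l h, hζ, if_pos rfl, if_neg hne] at h1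
      exact hδ0 (by linarith)
    · by_contra hno
      push Not at hno
      obtain ⟨l, hl⟩ : ∃ l, ¬ R k l := by
        by_contra hall
        push Not at hall
        exact hk₁ (hR.trans (hR.symm (hall k₀)) (hall k₁))
      have h1 := hno k
      have h2 := hno l
      rw [hζ, if_pos rfl] at h1
      rw [hζ, if_neg] at h2
      · exact hδ0 (by linarith)
      · intro h
        refine hl ?_
        by_contra hkl
        have h3 : c k = c l := funext fun χ => by rw [hζ, hζ, h]
        have h4 := hip k l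
        rw [← h3, hip, if_pos (hR.refl k), if_neg hkl] at h4
        omega

end CfsgLib.Blocks.CyclicDecomp
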