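import Cfsg.Agent.Lib.Blocks.RankOneFrame
import Cfsg.Agent.Lib.Blocks.DefectGroup
import Mathlib.Algebra.Module.PID
import Mathlib.Algebra.Polynomial.Module.AEval
import Mathlib.RingTheory.PrincipalIdealDomain

/-!
# Cyclic defect groups: the corner has one generator

Every module of a block is a direct summand of a module induced from the defect group, and a
cyclic `p`-group has finitely many modules of each dimension. So the local corner of a block with
one Brauer character and cyclic defect group has finitely many two-dimensional modules, and its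
radical is principal.
-/

set_option autoImplicit false
set_option linter.unusedSectionVars false
set_option maxHeartbeats 1000000
set_option synthInstance.maxHeartbeats 200000

namespace CfsgLib.Blocks.CyclicCorner

open Cfsg CfsgLib.Blocks.ResidueAlgebra CfsgLib.Blocks.TwoCharacters
open scoped Classical

/-! ### Nilpotent endomorphisms fall into finitely many classes -/

section Nilpotent

open Polynomial

variable {k V : Type*} [Field k] [AddCommGroup V] [Module k V] [FiniteDimensional k V]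

theorem exists_invariant {K : ℕ} {N : Module.End k V} (hN : N ^ K = 0) :
    ∃ (d : Fin (Module.finrank k V + 1)) (f : Fin (d : ℕ) → Fin (K + 1)),
      Nonempty (Module.AEval' N ≃ₗ[k[X]] ∀ i, k[X] ⧸ (k[X] ∙ (X : k[X]) ^ (f i : ℕ))) := by
  have hX : ∀ x : Module.AEval' N, (X : k[X]) ^ K • x = 0 := fun x => by
    obtain ⟨v, rfl⟩ := (Module.AEval'.of N).surjective x
    rw [← Module.AEval.of_aeval_smul, map_pow, aeval_X, hN, zero_smul, map_zero]
  have htor : Module.IsTorsion' (Module.AEval' N) (Submonoid.powers (X : k[X])) := fun {x} =>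
    ⟨⟨X ^ K, K, rfl⟩, hX x⟩
  haveI : Module.Finite k[X] (Module.AEval' N) := inferInstance
  obtain ⟨d, e, ⟨φ⟩⟩ := Module.torsion_by_prime_power_decomposition Polynomial.irreducible_X htor
  let ψ := φ.trans (DirectSum.linearEquivFunOnFintype k[X] (Fin d) _)
  have hle : ∀ i, e i ≤ K := fun i => by
    let z : ∀ j, k[X] ⧸ (k[X] ∙ (X : k[X]) ^ e j) := Pi.single i (Submodule.Quotient.mk 1)
    have h1 : (X : k[X]) ^ K • z = 0 := by
      rw [← ψ.apply_symm_apply z, ← map_smul, hX, map_zero]
    have h2 : (X : k[X]) ^ K • z i = 0 := congrFun h1 i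
    rw [show z i = Submodule.Quotient.mk 1 from Pi.single_eq_same _ _, ← Submodule.Quotient.mk_smul,
      smul_eq_mul, mul_one, Submodule.Quotient.mk_eq_zero, Submodule.mem_span_singleton] at h2
    obtain ⟨c, hc⟩ := h2
    exact (pow_dvd_pow_iff X_ne_zero Polynomial.not_isUnit_X).1 ⟨c, by rw [← hc, smul_eq_mul, mul_comm]⟩
  -- the nonzero summands
  let S := {i : Fin d // e i ≠ 0}
  let ρ : (∀ j, k[X] ⧸ (k[X] ∙ (X : k[X]) ^ e j)) →ₗ[k[X]] ∀ j : S, k[X] ⧸ (k[X] ∙ (X : k[X]) ^ e j.1) :=
    LinearMap.pi fun j => LinearMap.proj j.1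
  have hρ : Function.Bijective ρ := by
    refine ⟨fun a b h => funext fun i => ?_, fun g => ⟨fun i => if h : e i ≠ 0 then g ⟨i, h⟩ else 0,
      funext fun j => dif_pos j.2⟩⟩
    by_cases hi : e i ≠ 0
    · exact congrFun h ⟨i, hi⟩
    · push Not at hi
      haveI : Subsingleton (k[X] ⧸ (k[X] ∙ (X : k[X]) ^ e i)) :=
        Submodule.Quotient.subsingleton_iff.2 (by rw [hi, pow_zero]; exact Ideal.span_singleton_one)
      exact Subsingleton.elim _ _
  let χ := ψ.trans (LinearEquiv.ofBijective ρ hρ)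
  have hcard : Fintype.card S ≤ Module.finrank k V := by
    have hli : LinearIndependent k fun j : S => χ.symm (Pi.single j (Submodule.Quotient.mk 1)) := by
      rw [Fintype.linearIndependent_iff]
      intro c hc j
      have h1 := congrArg (fun x => (χ x) j) hc
      simp only [map_sum, LinearMap.map_smul_of_tower, map_zero, Pi.zero_apply,
        Finset.sum_apply, LinearEquiv.apply_symm_apply] at h1
      rw [Finset.sum_eq_single j (fun l _ hl => by
        rw [← algebraMap_smul k[X] (c l), map_smul, LinearEquiv.apply_symm_apply, Pi.smul_apply,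
          Pi.single_eq_of_ne (Ne.symm hl), smul_zero]) (by simp)] at h1
      rw [← algebraMap_smul k[X] (c j), map_smul, LinearEquiv.apply_symm_apply, Pi.smul_apply,
        Pi.single_eq_same, ← Submodule.Quotient.mk_smul, smul_eq_mul, mul_one,
        Submodule.Quotient.mk_eq_zero, Submodule.mem_span_singleton] at h1
      obtain ⟨q, hq⟩ := h1
      have h2 := congrArg (fun f : k[X] => f.coeff 0) hq
      simpa [Polynomial.mul_coeff_zero, j.2, Ne.symm j.2] using h2.symm
    exact hli.fintype_card_le_finrank.trans (Module.AEval'.of N).finrank_eq.ge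
  let σ := Fintype.equivFin S
  let θ := LinearEquiv.piCongrLeft' k[X] (fun j : S => k[X] ⧸ (k[X] ∙ (X : k[X]) ^ e j.1)) σ
  exact ⟨⟨Fintype.card S, Nat.lt_succ_of_le hcard⟩,
    fun i => ⟨e (σ.symm i).1, Nat.lt_succ_of_le (hle _)⟩, ⟨χ.trans θ⟩⟩

theorem exists_classes (K : ℕ) : ∃ (ι : Type) (_ : Finite ι) (f : Module.End k V → ι),
    ∀ N N' : Module.End k V, N ^ K = 0 → N' ^ K = 0 → f N = f N' →
      ∃ T : V ≃ₗ[k] V, ∀ v, T (N v) = N' (T v) := by
  refine ⟨Option ((d : Fin (Module.finrank k V + 1)) × (Fin (d : ℕ) → Fin (K + 1))), inferInstance,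
    fun N => if h : N ^ K = 0 then some ⟨(exists_invariant h).choose, (exists_invariant h).choose_spec.choose⟩
      else none, fun N N' hN hN' heq => ?_⟩
  simp only [dif_pos hN, dif_pos hN'] at heq
  have key : ∀ (a b : (d : Fin (Module.finrank k V + 1)) × (Fin (d : ℕ) → Fin (K + 1))), a = b →
      Nonempty (Module.AEval' N ≃ₗ[k[X]] ∀ i, k[X] ⧸ (k[X] ∙ (X : k[X]) ^ (a.2 i : ℕ))) →
      Nonempty (Module.AEval' N' ≃ₗ[k[X]] ∀ i, k[X] ⧸ (k[X] ∙ (X : k[X]) ^ (b.2 i : ℕ))) →
      Nonempty (Module.AEval' N ≃ₗ[k[X]] Module.AEval' N') := by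
    rintro a _ rfl ⟨φ⟩ ⟨φ'⟩
    exact ⟨φ.trans φ'.symm⟩
  obtain ⟨Φ⟩ := key _ _ (Option.some.inj heq) (exists_invariant hN).choose_spec.choose_spec
    (exists_invariant hN').choose_spec.choose_spec
  refine ⟨((Module.AEval'.of N).trans (Φ.restrictScalars k)).trans (Module.AEval'.of N').symm, fun v => ?_⟩
  apply (Module.AEval'.of N').injective
  simp only [LinearEquiv.trans_apply, LinearEquiv.restrictScalars_apply, LinearEquiv.apply_symm_apply]
  have h1 : Module.AEval'.of N (N v) = (X : k[X]) • Module.AEval'.of N v :=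
    (Module.AEval'.X_smul_of N v).symm
  rw [h1, map_smul]
  conv_lhs => rw [← (Module.AEval'.of N').apply_symm_apply (Φ (Module.AEval'.of N v)),
    Module.AEval'.X_smul_of]

end Nilpotent

/-! ### The block idempotent is a relative trace from the defect group -/

variable {G : Type*} [Group G] [Fintype G] {p : ℕ} {M : Ideal AlgInt}

/-- Sum of conjugates over the cosets of `D`. -/
theorem sum_conj_class (hM : IsPModular p M) (D : Subgroup G) (g : G)
    (hgD : D ≤ Subgroup.centralizer ({g} : Set G)) :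
    ∑ q : G ⧸ D, MonoidAlgebra.single (q.out * g * q.out⁻¹) (1 : Residue hM)
      = ((Nat.card (Subgroup.centralizer ({g} : Set G)) / Nat.card D : ℕ) : Residue hM)
          • toResAlg hM (classInd g) := by
  refine ext_coeff fun h => ?_
  rw [MonoidAlgebra.coeff_sum, Finsupp.finsetSum_apply, MonoidAlgebra.coeff_smul, Finsupp.smul_apply,
    coeff_toResAlg]
  simp only [MonoidAlgebra.coeff_single, Finsupp.single_apply]
  rw [Finset.sum_boole, smul_eq_mul]
  by_cases hh : IsConj g h
  · simp only [classInd, if_pos hh, resid_one, mul_one]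
    congr 1
    obtain ⟨u, hu⟩ := isConj_iff.1 hh
    set C := Subgroup.centralizer ({g} : Set G)
    set Fib := Finset.univ.filter fun q : G ⧸ D => q.out * g * q.out⁻¹ = h with hFib
    let Ψ : {q // q ∈ Fib} × D ≃ C :=
      { toFun := fun x => ⟨u⁻¹ * (x.1.1.out * (x.2 : G)), Subgroup.mem_centralizer_singleton_iff.2 (by
          have h1 : x.1.1.out * g * x.1.1.out⁻¹ = h := (Finset.mem_filter.1 x.1.2).2
          have h2 : (x.2 : G) * g = g * (x.2 : G) :=
            Subgroup.mem_centralizer_singleton_iff.1 (hgD x.2.2)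
          have h3 : x.1.1.out * g = h * x.1.1.out := mul_inv_eq_iff_eq_mul.1 h1
          have h4 : u⁻¹ * h = g * u⁻¹ := by rw [← hu]; group
          rw [mul_assoc, mul_assoc, h2, ← mul_assoc x.1.1.out g, h3, ← mul_assoc, ← mul_assoc, h4]
          simp only [mul_assoc])⟩
        invFun := fun c => (⟨((u * c : G) : G ⧸ D), Finset.mem_filter.2 ⟨Finset.mem_univ _, by
            obtain ⟨d, hd⟩ := QuotientGroup.mk_out_eq_mul D (u * c : G)
            have h2 : (d : G) * g = g * (d : G) :=
              Subgroup.mem_centralizer_singleton_iff.1 (hgD d.2)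
            have h3 : (c : G) * g = g * c := Subgroup.mem_centralizer_singleton_iff.1 c.2
            rw [hd, ← hu, mul_inv_eq_iff_eq_mul]
            simp only [mul_assoc]
            rw [h2, ← mul_assoc (c : G) g, h3]
            simp [mul_assoc]⟩⟩,
          ⟨((u * c : G) : G ⧸ D).out⁻¹ * (u * c), QuotientGroup.eq.1
            (QuotientGroup.out_eq' ((u * c : G) : G ⧸ D))⟩)
        left_inv := by
          rintro ⟨⟨q, hq⟩, d⟩
          have hq' : ((u * (u⁻¹ * (q.out * (d : G))) : G) : G ⧸ D) = q := by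
            rw [mul_inv_cancel_left, QuotientGroup.mk_mul_of_mem _ d.2, QuotientGroup.out_eq']
          refine Prod.ext (Subtype.ext hq') (Subtype.ext ?_)
          show ((u * (u⁻¹ * (q.out * (d : G))) : G) : G ⧸ D).out⁻¹ * (u * (u⁻¹ * (q.out * (d : G)))) = d
          rw [hq', mul_inv_cancel_left, inv_mul_cancel_left]
        right_inv := fun c => Subtype.ext (by simp [mul_assoc]) }
    have hcard := Nat.card_congr Ψ
    rw [Nat.card_prod, Nat.card_eq_fintype_card (α := {q // q ∈ Fib}), Fintype.card_coe] at hcard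
    rw [← hcard, Nat.mul_div_cancel _ Nat.card_pos]
  · simp only [classInd, if_neg hh, resid_zero, mul_zero]
    rw [
      Finset.filter_false_of_mem fun q _ he => hh (isConj_iff.2 ⟨q.out, he⟩), Finset.card_empty,
      Nat.cast_zero]

/-- `e` is a relative trace from the defect group. -/
theorem exists_trace (hM : IsPModular p M) {B : Set (IrrCharacter G)} (hB : IsPBlock M B)
    (F : RankOneFrame.Frame hM B) {D : Subgroup G} (hD : IsDefectGroup p M B D) :
    ∃ a : MonoidAlgebra (Residue hM) G, (∀ d ∈ D, Commute (MonoidAlgebra.single d 1) a) ∧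
      ∑ q : G ⧸ D, MonoidAlgebra.single q.out 1 * a * MonoidAlgebra.single q.out⁻¹ 1 = idem hM B := by
  haveI := Fact.mk hM.1
  haveI := charP_residue hM
  let k := Residue hM
  haveI : Module.Finite k (MonoidAlgebra k G) := Module.Finite.equiv (coord hM (G := G)).symm
  obtain ⟨g, hg, S, hDS⟩ := hD
  let C := Subgroup.centralizer ({g} : Set G)
  have hgD : D ≤ C := hDS.trans_le (Subgroup.map_subtype_le _)
  have hidx : ¬ p ∣ Nat.card C / Nat.card D := by
    have h1 : Nat.card D = Nat.card (S : Subgroup C) := by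
      rw [hDS]; exact Subgroup.card_map_of_injective C.subtype_injective
    have h2 := Subgroup.card_mul_index (S : Subgroup C)
    rw [h1, ← h2, Nat.mul_div_cancel_left _ Nat.card_pos]
    exact S.not_dvd_index
  have hidx' : ((Nat.card C / Nat.card D : ℕ) : k) ≠ 0 := fun h =>
    hidx ((CharP.cast_eq_zero_iff k p _).1 h)
  set e := idem hM B with hedef
  set z := e * toResAlg hM (classInd g) with hzdef
  have hec := idem_commute hM (B := B)
  have hee : e * e = e := idem_mul_self hM hB
  have hKc : ∀ x, Commute (toResAlg hM (classInd g)) x := fun x =>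
    commute_toResAlg_of_classFunction (classInd_isClassFunction g) x
  have hzc : ∀ x, Commute z x := fun x => Commute.mul_left (show Commute e x from hec x) (hKc x)
  -- `z` is not nilpotent
  have hnn : ¬ IsNilpotent z := by
    rintro ⟨n, hn⟩
    obtain ⟨χ, hχ⟩ := IsPBlock.nonempty hM hB
    let Fz : IrrCharacter G → ℂ := fun ψ => blockInd B ψ * omega (ψ : G → ℂ) (classInd g)
    have hl1 : IsLocalOn M (⊤ : Subgroup G) (blockInd B) := (IsPBlock.isLocalOn hM hB).top_of
    have hl2 : IsLocalOn M (⊤ : Subgroup G) (fun ψ : IrrCharacter G => omega (ψ : G → ℂ) (classInd g)) :=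
      isLocalOn_omega hM (classInd_isClassFunction g) (fun x => classInd_LR hM g x)
        (fun x hx => absurd (Subgroup.mem_top x) hx)
    have hred : redChar hM Fz = z := by
      show redChar hM (fun ψ => blockInd B ψ * omega (ψ : G → ℂ) (classInd g)) = _
      rw [redChar_mul hl1 hl2, redChar_omega (classInd_isClassFunction g), hzdef, hedef, idem, redChar]
      congr 2
      funext x
      exact (blockCoeff_eq_fourierInv B x).symm
    obtain ⟨hloc, hpow⟩ := redChar_pow (hM := hM) (IsLocalOn.mul hM hl1 hl2) n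
    have h0 := LI_of_redChar_eq_zero hloc (hpow.trans (by rw [hred, hn])) χ
    have h1 := LI.of_pow hM (LR.mul hM (by rw [blockInd_of_mem hχ]; exact LR.one hM)
      (omega_LR hM χ (classInd_isClassFunction g) fun x => classInd_LR hM g x)) h0
    rw [blockInd_of_mem hχ, one_mul, omega_classInd] at h1
    exact hg.2.2 χ hχ h1
  -- so it is invertible in the block algebra
  obtain ⟨τ, hloc⟩ := F.loc
  set E := F.E
  set R := RankOneCorner.corner k E
  have hzR : z * E ∈ R := (RankOneCorner.mem_corner F.idemE).2 (by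
    rw [← mul_assoc E z, ← (hzc E).eq, mul_assoc z E E, F.idemE.eq, mul_assoc, F.idemE.eq])
  obtain ⟨c, hc⟩ := hloc.split _ hzR
  obtain ⟨N, hN⟩ := hloc.nil
  have hnilI : ∀ x ∈ F.I, IsNilpotent x := fun x hx =>
    ⟨N, (Submodule.mem_bot k).1 (hN ▸ Submodule.pow_mem_pow _ hx N)⟩
  have hze : z * e = z := by rw [(hzc e).eq, hzdef, ← mul_assoc, hee]
  have hQe : ∀ l, z * (F.P l * F.Q l) = F.P l * (z * E) * F.Q l := fun l => by
    rw [← mul_assoc, (hzc (F.P l)).eq, mul_assoc (F.P l), mul_assoc (F.P l), mul_assoc z E, F.hEQ]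
  have hc0 : c ≠ 0 := by
    intro h0
    rw [h0, zero_smul, sub_zero] at hc
    obtain ⟨j, hj⟩ := hnilI _ hc
    refine hnn ⟨j + 1, ?_⟩
    have h1 : ∀ i, (z * E) ^ (i + 1) = z ^ (i + 1) * E := fun i => by
      rw [((hzc E)).mul_pow, F.idemE.pow_succ_eq]
    have h2 : z ^ (j + 1) * E = 0 := by rw [← h1, pow_succ, hj, zero_mul]
    have h3 : z ^ (j + 1) * e = z ^ (j + 1) := by rw [pow_succ, mul_assoc, hze]
    rw [← h3, hedef, ← F.hsum, Finset.mul_sum]
    refine Finset.sum_eq_zero fun l _ => ?_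
    calc z ^ (j + 1) * (F.P l * F.Q l) = F.P l * (z ^ (j + 1) * E) * F.Q l := by
          rw [← mul_assoc, ((hzc (F.P l)).pow_left _).eq, mul_assoc (F.P l), mul_assoc (F.P l),
            mul_assoc _ E, F.hEQ]
      _ = 0 := by rw [h2, mul_zero, zero_mul]
  set y := c⁻¹ • (z * E - c • E) with hy
  obtain ⟨v, hv⟩ := (hnilI y (Submodule.smul_mem _ _ hc)).isUnit_one_add
  have hzE : z * E = c • (E * v) := by
    have hEy : E * y = y := hloc.left _ (hloc.le (Submodule.smul_mem _ _ hc))
    rw [hv, mul_add, mul_one, hEy, hy, smul_add, smul_smul, mul_inv_cancel₀ hc0, one_smul,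
      add_sub_cancel]
  set b := ∑ l, F.P l * ((c⁻¹ • (↑v⁻¹ : MonoidAlgebra k G)) * E) * F.Q l with hb
  have hzb : z * b = e := by
    rw [hb, Finset.mul_sum, hedef, ← F.hsum]
    refine Finset.sum_congr rfl fun l _ => ?_
    have hEE : z * E * (c⁻¹ • (↑v⁻¹ : MonoidAlgebra k G)) = E := by
      rw [hzE, smul_mul_assoc, mul_smul_comm, smul_smul, mul_inv_cancel₀ hc0, one_smul, mul_assoc,
        Units.mul_inv, mul_one]
    have hPE := F.hPE l
    calc z * (F.P l * ((c⁻¹ • (↑v⁻¹ : MonoidAlgebra k G)) * E) * F.Q l)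
        = z * ((F.P l * E) * ((c⁻¹ • (↑v⁻¹ : MonoidAlgebra k G)) * E) * F.Q l) := by rw [hPE]
      _ = F.P l * (z * E * (c⁻¹ • (↑v⁻¹ : MonoidAlgebra k G))) * E * F.Q l := by
          simp only [← mul_assoc]
          rw [(hzc (F.P l)).eq]
      _ = _ := by rw [hEE, mul_assoc (F.P l) E E, F.idemE.eq, hPE]
  -- the inverse is central
  have h1e : e * (1 - e) = 0 := by rw [mul_sub, mul_one, hee, sub_self]
  have hz1e : z * (1 - e) = 0 := by rw [mul_sub, mul_one, hze, sub_self]
  have hc1 : ∀ x, Commute (1 - e) x := fun x => (Commute.one_left x).sub_left (hec x)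
  have f1 : z * (b * e) = e := by rw [← mul_assoc, hzb, hee]
  have f2 : (1 - e) * (b * e) = 0 := by rw [(hc1 _).eq, mul_assoc, h1e, mul_zero]
  have f3 : (1 - e) * (1 - e) = 1 - e := by rw [sub_mul, one_mul, h1e, sub_zero]
  let zu : (MonoidAlgebra k G)ˣ :=
    { val := z + (1 - e)
      inv := b * e + (1 - e)
      val_inv := by rw [add_mul, mul_add, mul_add, f1, f2, f3, hz1e]; abel
      inv_val := by
        rw [add_mul, mul_add, mul_add, ← (hzc (b * e)).eq, ← (hc1 (b * e)).eq, (hc1 z).eq, f1, f2, f3, hz1e]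
        abel }
  obtain ⟨w, hw⟩ : ∃ w, w = ((zu⁻¹ : (MonoidAlgebra k G)ˣ) : MonoidAlgebra k G) := ⟨_, rfl⟩
  have hzu : ∀ x, Commute w x := fun x => by
    have h1 : Commute ((zu : (MonoidAlgebra k G)ˣ) : MonoidAlgebra k G) x := (hzc x).add_left (hc1 x)
    rw [hw]
    exact Commute.units_inv_left (u := zu) (a := x) h1
  refine ⟨((Nat.card C / Nat.card D : ℕ) : k)⁻¹ •
    (e * w * MonoidAlgebra.single g (1 : k)), fun d hd => ?_, ?_⟩
  · refine Commute.smul_right ?_ _
    refine Commute.mul_right (Commute.mul_right (hec _).symm (hzu _).symm) ?_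
    show _ * _ = _ * _
    rw [MonoidAlgebra.single_mul_single, MonoidAlgebra.single_mul_single,
      Subgroup.mem_centralizer_singleton_iff.1 (hgD hd)]
  · have hterm : ∀ q : G ⧸ D, MonoidAlgebra.single q.out (1 : k) *
        (((Nat.card C / Nat.card D : ℕ) : k)⁻¹ • (e * w * MonoidAlgebra.single g (1 : k))) *
          MonoidAlgebra.single q.out⁻¹ (1 : k)
        = ((Nat.card C / Nat.card D : ℕ) : k)⁻¹ •
          (e * w * MonoidAlgebra.single (q.out * g * q.out⁻¹) (1 : k)) := fun q => by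
      have hc : Commute (MonoidAlgebra.single q.out (1 : k)) (e * w) :=
        (Commute.mul_right (hec _).symm (hzu _).symm)
      rw [mul_smul_comm, smul_mul_assoc]
      refine congrArg (fun t : MonoidAlgebra k G => ((Nat.card C / Nat.card D : ℕ) : k)⁻¹ • t) ?_
      rw [← mul_assoc, hc.eq]
      simp only [mul_assoc, MonoidAlgebra.single_mul_single, mul_one]
    rw [Finset.sum_congr rfl fun q _ => hterm q, ← Finset.smul_sum, ← Finset.mul_sum,
      sum_conj_class hM D g hgD, mul_smul_comm, smul_smul, inv_mul_cancel₀ hidx', one_smul,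
      mul_assoc, (hzu _).eq, ← mul_assoc, ← hzdef, ← hzb]
    rw [hw]
    show z * (b * e + (1 - e)) = z * b
    rw [mul_add, hz1e, add_zero, ← mul_assoc, hzb, hee]

/-! ### Two-dimensional modules of the corner -/

/-- With a cyclic defect group the radical of the corner has one generator. -/
theorem exists_gen (hM : IsPModular p M) {B : Set (IrrCharacter G)} (hB : IsPBlock M B)
    {D : Subgroup G} (hD : IsDefectGroup p M B D) (hcyc : IsCyclic D)
    (F : RankOneFrame.Frame hM B) : ∃ x ∈ F.I, F.I ≤ Submodule.span (Residue hM) {x} ⊔ F.I ^ 2 := by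
  haveI := Fact.mk hM.1
  haveI := charP_residue hM
  haveI := isAlgClosed_residue hM
  let k := Residue hM
  haveI : Module.Finite k (MonoidAlgebra k G) := Module.Finite.equiv (coord hM (G := G)).symm
  obtain ⟨a, haD, hatr⟩ := exists_trace hM hB F hD
  obtain ⟨τ, hloc⟩ := F.loc
  set E := F.E
  set I := F.I
  set R := RankOneCorner.corner k E with hR
  set e := idem hM B
  have hec := idem_commute hM (B := B)
  have hI2 : I ^ 2 ≤ I := hloc.pow_succ_le 1
  by_contra hne
  have hgen : ∀ x ∈ I, ¬ I ≤ Submodule.span k {x} ⊔ I ^ 2 := fun x hx h => hne ⟨x, hx, h⟩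
  obtain ⟨x, hxI, hx2⟩ := SetLike.not_le_iff_exists.1 (fun h : I ≤ I ^ 2 =>
    hgen 0 (zero_mem _) (h.trans le_sup_right))
  obtain ⟨y, hyI, hy2⟩ := SetLike.not_le_iff_exists.1 (hgen x hxI)
  have hdual : ∀ (W : Submodule k (MonoidAlgebra k G)) (v : MonoidAlgebra k G), v ∉ W →
      ∃ f : MonoidAlgebra k G →ₗ[k] k, f v = 1 ∧ ∀ w ∈ W, f w = 0 := fun W v hv => by
    obtain ⟨f, hf, hW⟩ := W.exists_dual_map_eq_bot_of_notMem hv inferInstance
    refine ⟨(f v)⁻¹ • f, by rw [LinearMap.smul_apply, smul_eq_mul, inv_mul_cancel₀ hf], fun w hw => ?_⟩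
    have : f w ∈ W.map f := ⟨w, hw, rfl⟩
    rw [hW, Submodule.mem_bot] at this
    simp [this]
  have hEI := F.notMem
  obtain ⟨γ, hγE, hγI⟩ := hdual I E hEI
  have hsplitE : ∀ {c : k} {z : MonoidAlgebra k G}, z ∈ I → c • E + z ∈ I → c = 0 := fun {c z} hz h => by
    by_contra hc
    refine hEI ?_
    have := Submodule.smul_mem _ c⁻¹ (sub_mem h hz)
    rwa [add_sub_cancel_right, smul_smul, inv_mul_cancel₀ hc, one_smul] at this
  obtain ⟨β, hβy, hβ⟩ := hdual (Submodule.span k {E} ⊔ (Submodule.span k {x} ⊔ I ^ 2)) y fun h => by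
    obtain ⟨u, hu, w, hw, hyw⟩ := Submodule.mem_sup.1 h
    obtain ⟨c, rfl⟩ := Submodule.mem_span_singleton.1 hu
    have hwI : w ∈ I := (sup_le ((Submodule.span_singleton_le_iff_mem _ _).2 hxI) hI2) hw
    obtain rfl := hsplitE hwI (hyw ▸ hyI)
    exact hy2 (by rw [← hyw, zero_smul, zero_add]; exact hw)
  obtain ⟨α, hαx, hα⟩ := hdual (Submodule.span k {E} ⊔ (Submodule.span k {y} ⊔ I ^ 2)) x fun h => by
    obtain ⟨u, hu, w, hw, hxw⟩ := Submodule.mem_sup.1 h
    obtain ⟨c, rfl⟩ := Submodule.mem_span_singleton.1 hu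
    have hwI : w ∈ I := (sup_le ((Submodule.span_singleton_le_iff_mem _ _).2 hyI) hI2) hw
    obtain rfl := hsplitE hwI (hxw ▸ hxI)
    rw [zero_smul, zero_add] at hxw
    subst hxw
    obtain ⟨u₁, hu₁, u₂, hu₂, huw⟩ := Submodule.mem_sup.1 hw
    obtain ⟨c, rfl⟩ := Submodule.mem_span_singleton.1 hu₁
    rcases eq_or_ne c 0 with rfl | hc
    · exact hx2 (by rw [← huw, zero_smul, zero_add]; exact hu₂)
    · refine hy2 ?_
      rw [show y = c⁻¹ • w + -(c⁻¹ • u₂) by
        rw [← huw, smul_add, smul_smul, inv_mul_cancel₀ hc, one_smul, add_neg_cancel_right]]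
      exact Submodule.add_mem_sup (Submodule.smul_mem _ _ (Submodule.mem_span_singleton_self _))
        (neg_mem (Submodule.smul_mem _ _ hu₂))
  have hβE : β E = 0 := hβ E (Submodule.mem_sup_left (Submodule.mem_span_singleton_self E))
  have hαE : α E = 0 := hα E (Submodule.mem_sup_left (Submodule.mem_span_singleton_self E))
  have hαy : α y = 0 := hα y (Submodule.mem_sup_right (Submodule.mem_sup_left (Submodule.mem_span_singleton_self y)))
  have hβx : β x = 0 := hβ x (Submodule.mem_sup_right (Submodule.mem_sup_left (Submodule.mem_span_singleton_self x)))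
  -- two-dimensional modules of the corner
  let φ : k → MonoidAlgebra k G →ₗ[k] Matrix (Fin 2) (Fin 2) k := fun l =>
    { toFun := fun r => !![γ r, α r + l * β r; 0, γ r]
      map_add' := fun r s => by
        ext i j; fin_cases i <;> fin_cases j <;> simp [mul_add] <;> ring
      map_smul' := fun c r => by
        ext i j; fin_cases i <;> fin_cases j <;> simp <;> ring }
  have hmulφ : ∀ l, ∀ r ∈ R, ∀ s ∈ R, φ l (r * s) = φ l r * φ l s := by
    intro l r hr s hs
    obtain ⟨c, hc⟩ := hloc.split r hr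
    obtain ⟨d, hd⟩ := hloc.split s hs
    set u := r - c • E with hu
    set w := s - d • E with hw
    have hru : r = c • E + u := by rw [hu]; abel
    have hsw : s = d • E + w := by rw [hw]; abel
    have h1 : r * s = (c * d) • E + c • w + d • u + u * w := by
      conv_lhs => rw [hru, hsw]
      simp only [add_mul, mul_add, smul_mul_assoc, mul_smul_comm, hloc.left w (hloc.le hd),
        hloc.right u (hloc.le hc), hloc.left E hloc.memE, smul_add, smul_smul, mul_comm d c]
      abel
    have huw : u * w ∈ I ^ 2 := by rw [pow_two]; exact Submodule.mul_mem_mul hc hd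
    have hα2 : α (u * w) = 0 := hα _ (Submodule.mem_sup_right (Submodule.mem_sup_right huw))
    have hβ2 : β (u * w) = 0 := hβ _ (Submodule.mem_sup_right (Submodule.mem_sup_right huw))
    have hγ2 : γ (u * w) = 0 := hγI _ (hI2 huw)
    show !![γ (r * s), α (r * s) + l * β (r * s); 0, γ (r * s)]
      = !![γ r, α r + l * β r; 0, γ r] * !![γ s, α s + l * β s; 0, γ s]
    rw [h1, hru, hsw]
    simp only [map_add, map_smul, smul_eq_mul, hγE, hαE, hβE, hα2, hβ2, hγ2, hγI u hc, hγI w hd]
    ext i j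
    fin_cases i <;> fin_cases j <;> simp [Matrix.mul_apply, Fin.sum_univ_two] <;> ring
  have hφE : ∀ l, φ l E = 1 := fun l => by
    show !![γ E, α E + l * β E; 0, γ E] = 1
    rw [hγE, hαE, hβE]
    ext i j; fin_cases i <;> fin_cases j <;> simp
  -- the modules of the block
  have hcorn : ∀ (l j : Fin F.m) (b : MonoidAlgebra k G), F.Q l * b * F.P j ∈ R := fun l j b =>
    (RankOneCorner.mem_corner F.idemE).2 (by
      simp only [← mul_assoc, F.hEQ]
      rw [mul_assoc _ (F.P j), F.hPE])
  let ρ : k → MonoidAlgebra k G →ₐ[k] Matrix (Fin F.m × Fin 2) (Fin F.m × Fin 2) k := fun l =>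
    AlgHom.ofLinearMap
      { toFun := fun b => Matrix.of fun u v => φ l (F.Q u.1 * b * F.P v.1) u.2 v.2
        map_add' := fun b b' => by ext u v; simp [mul_add, add_mul]
        map_smul' := fun c b => by ext u v; simp }
      (by
        ext ⟨u, u'⟩ ⟨v, v'⟩
        show φ l (F.Q u * 1 * F.P v) u' v' = _
        rw [mul_one, F.hQP, Matrix.one_apply]
        split_ifs with h1 h2 h2
        · rw [hφE, Matrix.one_apply, if_pos (Prod.mk.injEq .. ▸ h2).2]
        · rw [hφE, Matrix.one_apply, if_neg fun h3 => h2 (Prod.ext h1 h3)]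
        · exact absurd (Prod.mk.injEq .. ▸ h2).1 h1
        · simp)
      (by
        intro b b'
        ext ⟨u, u'⟩ ⟨v, v'⟩
        show φ l (F.Q u * (b * b') * F.P v) u' v' = _
        have h1 : F.Q u * (b * b') * F.P v
            = ∑ w, (F.Q u * b * F.P w) * (F.Q w * b' * F.P v) := by
          have h2 : ∑ w, (F.Q u * b * F.P w) * (F.Q w * b' * F.P v) = F.Q u * b * e * b' * F.P v := by
            rw [show e = ∑ w, F.P w * F.Q w from F.hsum.symm, Finset.mul_sum, Finset.sum_mul,
              Finset.sum_mul]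
            exact Finset.sum_congr rfl fun w _ => by simp only [mul_assoc]
          rw [h2, mul_assoc (F.Q u * b) e b', show e * b' = b' * e from hec b']
          simp only [mul_assoc]
          rw [show e * F.P v = F.P v from F.heP v]
        rw [h1, map_sum, Matrix.sum_apply, Matrix.mul_apply, Fintype.sum_prod_type]
        refine Finset.sum_congr rfl fun w _ => ?_
        rw [hmulφ l _ (hcorn _ _ _) _ (hcorn _ _ _), Matrix.mul_apply]
        rfl)
  have hρ : ∀ l b u v, ρ l b u v = φ l (F.Q u.1 * b * F.P v.1) u.2 v.2 := fun l b u v => rfl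
  have hρe : ∀ l, ρ l e = 1 := fun l => by
    rw [← map_one (ρ l)]
    ext u v
    rw [hρ, hρ, mul_one, mul_assoc, F.heP]
  -- similarity classes at a generator
  obtain ⟨⟨d₀, hd₀⟩, hgenD⟩ := hcyc.exists_generator
  obtain ⟨aD, haD'⟩ := (isPGroup_defectGroup hD).exists_card_eq
  let N : k → Module.End k (Fin F.m × Fin 2 → k) := fun l =>
    Matrix.toLinAlgEquiv' (ρ l (MonoidAlgebra.single d₀ 1) - 1)
  have hNnil : ∀ l, N l ^ p ^ aD = 0 := fun l => by
    haveI : Nonempty (Fin F.m × Fin 2) := ⟨(⟨0, F.pos⟩, 0)⟩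
    haveI : CharP (Matrix (Fin F.m × Fin 2) (Fin F.m × Fin 2) k) p :=
      charP_of_injective_algebraMap
        (algebraMap k (Matrix (Fin F.m × Fin 2) (Fin F.m × Fin 2) k)).injective p
    have h1 : d₀ ^ p ^ aD = 1 := by
      rw [← haD']
      exact congrArg Subtype.val (pow_card_eq_one' (x := (⟨d₀, hd₀⟩ : D)))
    show Matrix.toLinAlgEquiv' _ ^ _ = 0
    rw [← map_pow, sub_pow_char_pow_of_commute p _ (Commute.one_right _), one_pow, ← map_pow,
      MonoidAlgebra.single_pow, one_pow, h1, ← MonoidAlgebra.one_def, map_one, sub_self, map_zero]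
  obtain ⟨ι, hι, f, hf⟩ := exists_classes (k := k) (V := Fin F.m × Fin 2 → k) (p ^ aD)
  haveI := hι
  obtain ⟨cl, hcl⟩ := Finite.exists_infinite_fiber (fun l : k => f (N l))
  set L := (fun l : k => f (N l)) ⁻¹' {cl}
  obtain ⟨l₀, hl₀⟩ : ∃ l, l ∈ L := ⟨_, (Classical.arbitrary L).2⟩
  have hsim : ∀ l : L, ∃ T : (Fin F.m × Fin 2 → k) ≃ₗ[k] (Fin F.m × Fin 2 → k),
      ∀ v, T (N l v) = N l₀ (T v) := fun l =>
    hf _ _ (hNnil _) (hNnil _) ((show f (N l) = cl from l.2).trans (show f (N l₀) = cl from hl₀).symm)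
  have hmat : ∀ l : L, ∃ X Y : Matrix (Fin F.m × Fin 2) (Fin F.m × Fin 2) k, Y * X = 1 ∧
      X * (ρ l (MonoidAlgebra.single d₀ 1) - 1) = (ρ l₀ (MonoidAlgebra.single d₀ 1) - 1) * X := by
    intro l
    obtain ⟨T, hT⟩ := hsim l
    refine ⟨Matrix.toLinAlgEquiv'.symm T.toLinearMap, Matrix.toLinAlgEquiv'.symm T.symm.toLinearMap,
      Matrix.toLinAlgEquiv'.injective ?_, Matrix.toLinAlgEquiv'.injective ?_⟩
    · rw [map_mul, map_one, AlgEquiv.apply_symm_apply, AlgEquiv.apply_symm_apply]
      exact LinearMap.ext fun v => T.symm_apply_apply v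
    · rw [map_mul, map_mul, AlgEquiv.apply_symm_apply]
      exact LinearMap.ext fun v => hT v
  -- transport to matrices commuting with the generator
  choose Tm Ti hTi hT1 using hmat
  have hTm : ∀ l, Tm l * Ti l = 1 := fun l => mul_eq_one_comm.1 (hTi l)
  have hTd : ∀ l : L, ∀ d ∈ D, Tm l * ρ l (MonoidAlgebra.single d 1)
      = ρ l₀ (MonoidAlgebra.single d 1) * Tm l := by
    intro l d hd
    have h0 : Tm l * ρ l (MonoidAlgebra.single d₀ 1) = ρ l₀ (MonoidAlgebra.single d₀ 1) * Tm l := by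
      have h1 := hT1 l
      rw [mul_sub, sub_mul, mul_one, one_mul] at h1
      exact sub_left_inj.1 h1
    obtain ⟨j, hj⟩ : ∃ j : ℕ, d₀ ^ j = d := by
      obtain ⟨i, hi⟩ := (hgenD ⟨d, hd⟩)
      obtain ⟨j, hj⟩ := (isOfFinOrder_of_finite (⟨d₀, hd₀⟩ : D)).mem_powers_iff_mem_zpowers.2 ⟨i, hi⟩
      exact ⟨j, congrArg Subtype.val hj⟩
    subst hj
    rw [show MonoidAlgebra.single (d₀ ^ j) (1 : k) = MonoidAlgebra.single d₀ 1 ^ j by
      rw [MonoidAlgebra.single_pow, one_pow], map_pow, map_pow]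
    exact (SemiconjBy.pow_right h0 j).eq
  -- the intertwiners
  let S : L → L → Matrix (Fin F.m × Fin 2) (Fin F.m × Fin 2) k := fun m l => Ti m * Tm l * ρ l a
  let Ψ : L → L → Matrix (Fin F.m × Fin 2) (Fin F.m × Fin 2) k := fun m l =>
    ∑ q : G ⧸ D, ρ m (MonoidAlgebra.single q.out 1) * S m l * ρ l (MonoidAlgebra.single q.out⁻¹ 1)
  have hSd : ∀ m l : L, ∀ d ∈ D, ρ m (MonoidAlgebra.single d 1) * S m l
      = S m l * ρ l (MonoidAlgebra.single d 1) := by
    intro m l d hd
    have h1 : ρ m (MonoidAlgebra.single d 1) * Ti m = Ti m * ρ l₀ (MonoidAlgebra.single d 1) :=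
      calc ρ m (MonoidAlgebra.single d 1) * Ti m
          = Ti m * (Tm m * ρ m (MonoidAlgebra.single d 1)) * Ti m := by
            rw [← mul_assoc, hTi, one_mul]
        _ = _ := by rw [hTd m d hd, mul_assoc, mul_assoc, hTm, mul_one]
    show _ * (Ti m * Tm l * ρ l a) = Ti m * Tm l * ρ l a * _
    rw [mul_assoc (Ti m * Tm l), ← map_mul, ← (haD d hd).eq, map_mul, ← mul_assoc (Ti m * Tm l),
      mul_assoc (Ti m) (Tm l) (ρ l (MonoidAlgebra.single d 1)), hTd l d hd, ← mul_assoc (Ti m),
      ← h1]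
    simp only [mul_assoc]
  have hcoset : ∀ m l : L, ∀ t : G, ∀ d ∈ D,
      ρ m (MonoidAlgebra.single (t * d) 1) * S m l * ρ l (MonoidAlgebra.single (t * d)⁻¹ 1)
        = ρ m (MonoidAlgebra.single t 1) * S m l * ρ l (MonoidAlgebra.single t⁻¹ 1) := by
    intro m l t d hd
    rw [show MonoidAlgebra.single (t * d) (1 : k) = MonoidAlgebra.single t 1 * MonoidAlgebra.single d 1
        by simp,
      show MonoidAlgebra.single (t * d)⁻¹ (1 : k)
        = MonoidAlgebra.single d⁻¹ 1 * MonoidAlgebra.single t⁻¹ 1 by simp [mul_inv_rev],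
      map_mul, map_mul, mul_assoc (ρ m (MonoidAlgebra.single t 1)), hSd m l d hd,
      ← mul_assoc (ρ m (MonoidAlgebra.single t 1)), mul_assoc _ (ρ l (MonoidAlgebra.single d 1)),
      ← mul_assoc (ρ l (MonoidAlgebra.single d 1)), ← map_mul, MonoidAlgebra.single_mul_single,
      mul_inv_cancel, mul_one, ← MonoidAlgebra.one_def, map_one, one_mul]
  have hΨg : ∀ m l : L, ∀ g : G,
      ρ m (MonoidAlgebra.single g 1) * Ψ m l = Ψ m l * ρ l (MonoidAlgebra.single g 1) := by
    intro m l g
    show _ * ∑ q, _ = (∑ q, _) * _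
    rw [Finset.mul_sum, Finset.sum_mul]
    refine Fintype.sum_equiv (MulAction.toPerm g) _ _ fun q => ?_
    rw [MulAction.toPerm_apply]
    have h1 : ((g * q.out : G) : G ⧸ D) = g • q := by
      conv_rhs => rw [← QuotientGroup.out_eq' q]
      rfl
    obtain ⟨d, hd⟩ := QuotientGroup.mk_out_eq_mul D (g * q.out)
    rw [h1] at hd
    rw [hd, hcoset m l _ _ d.2, mul_inv_rev]
    have e1 : ρ l (MonoidAlgebra.single g⁻¹ 1) * ρ l (MonoidAlgebra.single g 1) = 1 := by
      rw [← map_mul, MonoidAlgebra.single_mul_single, inv_mul_cancel, mul_one, ← MonoidAlgebra.one_def,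
        map_one]
    rw [show MonoidAlgebra.single (g * q.out) (1 : k) = MonoidAlgebra.single g 1 * MonoidAlgebra.single q.out 1
        by simp,
      show MonoidAlgebra.single (q.out⁻¹ * g⁻¹) (1 : k)
        = MonoidAlgebra.single q.out⁻¹ 1 * MonoidAlgebra.single g⁻¹ 1 by simp,
      map_mul, map_mul]
    simp only [mul_assoc]
    rw [e1, mul_one]
  have hΨA : ∀ m l : L, ∀ b, ρ m b * Ψ m l = Ψ m l * ρ l b := by
    intro m l b
    rw [← sum_single_eq hM b, map_sum, map_sum, Finset.sum_mul, Finset.mul_sum]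
    refine Finset.sum_congr rfl fun g _ => ?_
    rw [show MonoidAlgebra.single g (b.coeff g) = b.coeff g • MonoidAlgebra.single g (1 : k) by simp,
      map_smul, map_smul, smul_mul_assoc, mul_smul_comm, hΨg]
  have hΨll : ∀ l : L, Ψ l l = 1 := fun l => by
    show ∑ q, _ = _
    rw [← hρe l, ← hatr, map_sum]
    refine Finset.sum_congr rfl fun q _ => ?_
    show _ * (Ti l * Tm l * ρ l a) * _ = _
    rw [hTi, one_mul, map_mul, map_mul]
  -- elements separating the modules
  haveI : NeZero F.m := ⟨F.pos.ne'⟩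
  let emb : MonoidAlgebra k G → MonoidAlgebra k G := fun r => F.P 0 * r * F.Q 0
  have hemb : ∀ l, ∀ r ∈ R, ∀ u v, ρ l (emb r) u v
      = if u.1 = 0 ∧ v.1 = 0 then φ l r u.2 v.2 else 0 := fun l r hr u v => by
    rw [hρ]
    have h1 : F.Q u.1 * (F.P 0 * r * F.Q 0) * F.P v.1
        = (if u.1 = 0 then E else 0) * r * (if 0 = v.1 then E else 0) := by
      rw [← F.hQP u.1 0, ← F.hQP 0 v.1]; simp only [mul_assoc]
    show φ l (F.Q u.1 * (F.P 0 * r * F.Q 0) * F.P v.1) u.2 v.2 = _
    rw [h1]
    by_cases hu : u.1 = 0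
    · by_cases hv : v.1 = 0
      · simp only [hu, hv, if_true, and_self, hloc.left r hr, hloc.right r hr]
      · simp [hu, hv, Ne.symm hv]
    · simp [hu]
  have hxy : ∀ l, ρ l (emb y) = l • ρ l (emb x) := fun l => by
    ext u v
    rw [Matrix.smul_apply, hemb l y (hloc.le hyI), hemb l x (hloc.le hxI), smul_ite, smul_zero]
    congr 1
    show !![γ y, α y + l * β y; 0, γ y] u.2 v.2 = l • !![γ x, α x + l * β x; 0, γ x] u.2 v.2
    rw [hγI y hyI, hγI x hxI, hαy, hβy, hαx, hβx]
    generalize u.2 = i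
    generalize v.2 = j
    fin_cases i <;> fin_cases j <;> simp
  have hzero : ∀ m l : L, m ≠ l → Ψ m l * ρ l (emb x) = 0 := fun m l hne => by
    have h1 := hΨA m l (emb y)
    rw [hxy, hxy, smul_mul_assoc, mul_smul_comm, hΨA m l (emb x), ← sub_eq_zero, ← sub_smul,
      smul_eq_zero, sub_eq_zero] at h1
    exact h1.resolve_left fun h => hne (Subtype.ext h)
  -- a fixed space separates infinitely many of them
  let v₀ : Fin F.m × Fin 2 → k := Pi.single (0, 1) 1
  let w : L → (G ⧸ D → (Fin F.m × Fin 2 → k)) := fun l q =>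
    (Tm l * ρ l (a * MonoidAlgebra.single q.out⁻¹ 1) * ρ l (emb x)).mulVec v₀
  let π : L → (G ⧸ D → (Fin F.m × Fin 2 → k)) →ₗ[k] (Fin F.m × Fin 2 → k) := fun m =>
    ∑ q : G ⧸ D, (ρ m (MonoidAlgebra.single q.out 1) * Ti m).mulVecLin ∘ₗ LinearMap.proj q
  have hπw : ∀ m l : L, π m (w l) = (Ψ m l * ρ l (emb x)).mulVec v₀ := fun m l => by
    simp only [π, w, LinearMap.sum_apply, LinearMap.comp_apply, LinearMap.proj_apply,
      Matrix.mulVecLin_apply, Matrix.mulVec_mulVec]
    simp only [Ψ, S]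
    rw [Finset.sum_mul, Matrix.sum_mulVec]
    refine Finset.sum_congr rfl fun q _ => ?_
    rw [Matrix.mulVec_mulVec]
    congr 1
    rw [map_mul]
    simp only [mul_assoc]
  have hne0 : ∀ l : L, (ρ l (emb x)).mulVec v₀ ≠ 0 := fun l h => by
    have h1 := congrFun h (0, 0)
    rw [Matrix.mulVec_single_one, Matrix.col_apply, hemb l x (hloc.le hxI), if_pos ⟨rfl, rfl⟩] at h1
    change (!![γ x, α x + l * β x; 0, γ x] : Matrix (Fin 2) (Fin 2) k) 0 1 = 0 at h1
    simp [hαx, hβx] at h1
  have hli : LinearIndependent k w := by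
    rw [linearIndependent_iff']
    intro s c hc m hm
    have h1 := congrArg (π m) hc
    rw [map_sum, map_zero, Finset.sum_eq_single m] at h1
    · rw [map_smul, hπw, hΨll, one_mul] at h1
      exact (smul_eq_zero.1 h1).resolve_right (hne0 m)
    · intro l _ hl
      rw [map_smul, hπw, hzero m l (Ne.symm hl), Matrix.zero_mulVec, smul_zero]
    · exact fun h => absurd hm h
  haveI := hli.finite
  exact not_finite L

/-- With a cyclic defect group the corner is commutative. -/
theorem comSub_eq_bot (hM : IsPModular p M) {B : Set (IrrCharacter G)} (hB : IsPBlock M B)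
    {D : Subgroup G} (hD : IsDefectGroup p M B D) (hcyc : IsCyclic D)
    (F : RankOneFrame.Frame hM B) :
    SymLocalCorner.comSub (RankOneCorner.corner (Residue hM) F.E) = ⊥ := by
  haveI := Fact.mk hM.1
  obtain ⟨x, hx, hgen⟩ := exists_gen hM hB hD hcyc F
  obtain ⟨τ, hloc⟩ := F.loc
  exact hloc.comSub_eq_bot_of_gen hx hgen

end CfsgLib.Blocks.CyclicCorner
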