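import Cfsg.Agent.Lib.Blocks.CyclicDecomp
import Cfsg.Agent.Lib.Blocks.CyclicCoherence

/-!
# The members of a block with cyclic defect group
-/

set_option autoImplicit false
set_option linter.unusedSectionVars false
set_option maxHeartbeats 1000000

namespace CfsgLib.Blocks.CyclicDecomp

open Cfsg CfsgLib.Blocks CfsgLib.BrauerPairs CfsgLib.BrouePuig
open scoped Classical ComplexConjugate

universe u

variable {G : Type u} [Group G] [Fintype G] {p : ℕ} [Fact p.Prime] {M : Ideal AlgInt}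
  {B : Set (IrrCharacter G)} {P : Subgroup G}
  {c : Set (IrrCharacter (Subgroup.centralizer (P : Set G)))}

/-- The arithmetic of the coefficients: `e + 2 δ d - m d ^ 2` as a bound from below. -/
theorem arith {e G₂ d m δ : ℤ} (hδ : δ = 1 ∨ δ = -1) (hm : 1 ≤ m) (hm1 : m = 1 → d ≠ δ)
    (heq : G₂ + m * d ^ 2 - 2 * δ * d = e) (hle : e ≤ G₂) :
    G₂ = e ∧ (m * d - δ = 1 ∨ m * d - δ = -1) := by
  have h1 : m * d ^ 2 ≤ 2 * δ * d := by linarith
  rcases hδ with rfl | rfl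
  · have h2 : 0 ≤ d := by nlinarith
    have h3 : d ≤ 2 := by nlinarith
    interval_cases d
    · exact ⟨by linarith, Or.inr (by linarith)⟩
    · have h4 : m = 2 := by
        have : m ≠ 1 := fun h => hm1 h rfl
        omega
      subst h4
      exact ⟨by linarith, Or.inl (by norm_num)⟩
    · have h4 : m = 1 := by omega
      subst h4
      exact ⟨by linarith, Or.inl (by norm_num)⟩
  · have h2 : d ≤ 0 := by nlinarith
    have h3 : -2 ≤ d := by nlinarith
    interval_cases d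
    · have h4 : m = 1 := by omega
      subst h4
      exact ⟨by linarith, Or.inr (by norm_num)⟩
    · have h4 : m = 2 := by
        have : m ≠ 1 := fun h => hm1 h rfl
        omega
      subst h4
      exact ⟨by linarith, Or.inr (by norm_num)⟩
    · exact ⟨by linarith, Or.inl (by linarith)⟩

/-- Equal powers of `p` in two integers congruent modulo a larger power. -/
theorem factorization_eq_of_dvd_sub {x y : ℕ} (hx : x ≠ 0) (hy : y ≠ 0) {N : ℕ}
    (hN : x.factorization p < N) {u v : ℤ} (hu : ¬ (p : ℤ) ∣ u) (hv : ¬ (p : ℤ) ∣ v)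
    (h : (p : ℤ) ^ N ∣ u * x - v * y) : y.factorization p = x.factorization p := by
  have hp : p.Prime := Fact.out
  set v₀ := x.factorization p
  have key : ∀ (k : ℕ) (w : ℤ) (z : ℕ), z ≠ 0 → ¬ (p : ℤ) ∣ w →
      ((p : ℤ) ^ k ∣ w * z ↔ k ≤ z.factorization p) := by
    intro k w z hz hw
    have hc : IsCoprime ((p : ℤ) ^ k) w :=
      ((Nat.prime_iff_prime_int.1 hp).coprime_iff_not_dvd.2 hw).pow_left
    rw [show ((p : ℤ) ^ k ∣ w * z) ↔ (p : ℤ) ^ k ∣ (z : ℤ) from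
      ⟨hc.dvd_of_dvd_mul_left, fun h => h.mul_left w⟩]
    rw [← Nat.cast_pow, Int.natCast_dvd_natCast, hp.pow_dvd_iff_le_factorization hz]
  have h1 : (p : ℤ) ^ v₀ ∣ v * y := by
    have e1 := (key v₀ u x hx hu).2 le_rfl
    have e2 := (pow_dvd_pow (p : ℤ) hN.le).trans h
    have := dvd_sub e1 e2
    simpa using this
  have h2 : ¬ (p : ℤ) ^ (v₀ + 1) ∣ v * y := fun h3 => by
    have e2 := (pow_dvd_pow (p : ℤ) (Nat.succ_le_of_lt hN)).trans h
    have := dvd_add e2 h3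
    rw [sub_add_cancel] at this
    exact absurd ((key _ u x hx hu).1 this) (Nat.not_succ_le_self v₀)
  rw [key _ v y hy hv] at h1 h2
  omega

/-- The coherence of the induced differences in a block with a cyclic maximal pair. -/
structure Coh {S : Setup p M B P c} (L : S.Lab) where
  ζ : {ψ : IrrCharacter S.K // ψ ∈ S.f ∧ ψ ≠ L.ψ₀} → IrrCharacter G
  g : IrrCharacter G → ℤ
  δ : ℤ
  d : ℤ
  hδ : δ = 1 ∨ δ = -1
  rel : ∀ k l, ζ k = ζ l ↔ L.Rel k.1 l.1
  coef : ∀ k χ, (S.mult χ k.1 : ℤ) - S.mult χ L.ψ₀ = g χ - δ * if χ = ζ k then 1 else 0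
  mem : ∀ k, ζ k ∈ B
  g_ζ : ∀ k, g (ζ k) = d
  sign : ∀ χ ∈ B \ Set.range ζ, g χ = 1 ∨ g χ = -1
  card_diff : Nat.card ↥(B \ Set.range ζ) = S.ie
  fib : ∀ k, (Finset.univ.filter fun l => ζ l = ζ k).card = S.ie
  card_range : (Set.range ζ).toFinset.card * S.ie + 1 = Nat.card P
  sq : ((Set.range ζ).toFinset.card : ℤ) * d ^ 2 = 2 * δ * d

/-- The coherence and the numerical data, for a choice of labels. -/
theorem main_lab (S : Setup p M B P c) (L : S.Lab) {a : ℕ} (hcard : Nat.card P = p ^ a) :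
    let e := (Subgroup.centralizer (P : Set G)).relIndex (pairStab P c)
    Nonempty (Coh L) ∧
    blockRank p B = e ∧ e ∣ p - 1 ∧ (∀ χ ∈ B, blockHeight p B (χ : G → ℂ) = 0) ∧
      ∃ X Y : Set (IrrCharacter G), B = X ∪ Y ∧ Disjoint X Y ∧ Nat.card X = e ∧
        Nat.card Y = (p ^ a - 1) / e ∧
        (∀ ψ ∈ Y, ∀ ψ' ∈ Y, ∀ g : G, ¬ p ∣ orderOf g → (ψ : G → ℂ) g = (ψ' : G → ℂ) g) ∧
        ∃ (δ : IrrCharacter G → ℤ) (δ₀ : ℤ), (∀ χ ∈ X, δ χ = 1 ∨ δ χ = -1) ∧ (δ₀ = 1 ∨ δ₀ = -1) ∧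
          (∀ ψ ∈ Y, ∀ g : G, ¬ p ∣ orderOf g →
            (δ₀ : ℂ) * (ψ : G → ℂ) g + ∑ᶠ χ ∈ X, (δ χ : ℂ) * (χ : G → ℂ) g = 0) ∧
          (∀ χ ∈ X, ∀ χ' ∈ X, δ χ * (charDegree (χ : G → ℂ) : ℤ)
            ≡ δ χ' * (charDegree (χ' : G → ℂ) : ℤ) [ZMOD (p : ℤ) ^ a]) ∧
          (∀ ψ ∈ Y, ∀ χ ∈ X, (charDegree (ψ : G → ℂ) : ℤ)
            ≡ -((e : ℤ) * δ₀ * δ χ * (charDegree (χ : G → ℂ) : ℤ)) [ZMOD (p : ℤ) ^ a]) := by
  intro e
  have hp : p.Prime := Fact.out
  have hM := S.hM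
  have hmax := S.hmax
  have hcyc := S.hcyc
  have hP1 := S.P_ne_bot
  have hie : S.ie = e := rfl
  have hB : IsPBlock M B := hmax.1.2.1
  have hle : e ≤ blockRank p B := CyclicRank.relIndex_le_blockRank hM hmax hcyc hP1
  have hNn : ((Subgroup.centralizer (P : Set G)).subgroupOf (pairStab P c)).Normal :=
    Subgroup.normal_subgroupOf_iff_le_normalizer (centralizer_le_pairStab c) |>.2
      ((pairStab_le_normalizer c).trans (normalizer_le_normalizer_centralizer P))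
  have hdiv : e ∣ p - 1 := (cyclic_inertial hM hmax hcyc hP1 rfl).2
  have hcount : Nat.card B * e + 1 = blockRank p B * e + p ^ a := by
    have h := card_block_free hM hmax S.hab S.hfree
    rwa [hcard] at h
  clear_value e
  have he0 : 0 < e := hie ▸ S.ie_pos
  have ha0 : a ≠ 0 := fun h => hP1 (Subgroup.eq_bot_of_card_eq P (by rw [hcard, h, pow_zero]))
  have hpa : 2 ≤ p ^ a := le_trans hp.two_le (Nat.le_self_pow ha0 p)
  -- the index family
  let κ := {ψ : IrrCharacter S.K // ψ ∈ S.f ∧ ψ ≠ L.ψ₀}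
  have hcκ : Fintype.card κ + 1 = p ^ a := by
    have h1 : Nat.card S.f = p ^ a := by
      rw [← Nat.card_congr L.Φ, ← hcard,
        ← Nat.card_congr (Subgroup.subgroupOfEquivOfLe S.hPK).toEquiv]
      rw [Char.card_irrCharacter]
      exact Nat.card_congr (Equiv.ofBijective ConjClasses.mk
        ⟨fun x y h => by
          obtain ⟨g, hg⟩ := isConj_iff.1 (ConjClasses.mk_eq_mk_iff_isConj.1 h)
          rw [← hg, S.comm_P' g x, mul_inv_cancel_right], ConjClasses.mk_surjective⟩).symm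
    rw [Nat.card_eq_fintype_card, ← Set.toFinset_card,
      ← Finset.card_erase_add_one (Set.mem_toFinset.2 L.hψ₀)] at h1
    rw [← h1, Fintype.card_subtype]
    congr 1
    congr 1
    ext ψ
    simp [and_comm]
  obtain ⟨k₀⟩ : Nonempty κ := Fintype.card_pos_iff.1 (by omega)
  -- coefficients
  set cc : κ → IrrCharacter G → ℤ := fun k χ => (S.mult χ k.1 : ℤ) - S.mult χ L.ψ₀ with hcc
  have hcoef : ∀ (k : κ) (χ : IrrCharacter G), classInner (Cfsg.indFun S.K (L.dif k.1)) (χ : G → ℂ) = (cc k χ : ℂ) := by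
    intro k χ
    rw [Char.classInner_indFun _ _ (Char.IsIrrCharacter.isClassFunction χ.2),
      show L.dif k.1 = (k.1 : S.K → ℂ) - (L.ψ₀ : S.K → ℂ) from rfl, Char.classInner_sub_left,
      ← Char.classInner_conj_symm, ← Char.classInner_conj_symm (fun h : S.K => (χ : G → ℂ) h)]
    show conj (resMult χ k.1) - conj (resMult χ L.ψ₀) = _
    rw [← S.coe_mult, ← S.coe_mult, map_natCast, map_natCast, hcc]
    push_cast
    rfl
  have hind : ∀ (k : κ) (g : G),
      Cfsg.indFun S.K (L.dif k.1) g = ∑ χ : IrrCharacter G, (cc k χ : ℂ) * (χ : G → ℂ) g := by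
    intro k g
    have h := congrFun (Char.IsClassFunction.eq_sum_irr
      (Char.indFun_isClassFunction S.K (L.dif k.1))) g
    rw [Finset.sum_apply] at h
    rw [h]
    exact Finset.sum_congr rfl fun χ _ => by rw [Pi.smul_apply, smul_eq_mul, hcoef]
  let R : κ → κ → Prop := fun k l => L.Rel k.1 l.1
  have hR : Equivalence R :=
    ⟨fun k => L.rel_equiv.refl _, fun h => L.rel_equiv.symm h, fun h h' => L.rel_equiv.trans h h'⟩
  have hip : ∀ k l : κ, ∑ χ, cc k χ * cc l χ = (e : ℤ) + if R k l then 1 else 0 := by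
    intro k l
    have h := L.classInner_ind k.2.1 k.2.2 l.2.1 l.2.2
    rw [show Cfsg.indFun S.K (L.dif l.1) = ∑ χ : IrrCharacter G, (cc l χ : ℂ) • (χ : G → ℂ) from
      funext fun g => by
        rw [hind, Finset.sum_apply]
        exact Finset.sum_congr rfl fun χ _ => (smul_eq_mul _ _).symm,
      Char.classInner_sum_right] at h
    simp only [Char.classInner_smul_right, map_intCast, hcoef] at h
    apply Int.cast_injective (α := ℂ)
    push_cast
    rw [← hie]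
    refine Eq.trans ?_ h
    exact Finset.sum_congr rfl fun χ _ => mul_comm _ _
  have hdeg : ∀ k : κ, ∑ χ, (cc k χ : ℂ) * (χ : G → ℂ) 1 = 0 := fun k => by
    rw [← hind, Char.indFun_one, L.dif_regular k.2.1 (by rw [orderOf_one]; exact hp.not_dvd_one),
      mul_zero]
  obtain ⟨ζ, δ, g, hδ, hζR, hζ, hgd, hhit⟩ :=
    coherent k₀ hR cc e (Int.natCast_nonneg e) hip hdeg
  -- outside the block
  have hout : ∀ χ ∉ B, ∀ k, cc k χ = 0 := fun χ hχ k => by
    show (S.mult χ k.1 : ℤ) - S.mult χ L.ψ₀ = 0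
    rw [L.mult_const (fun w hw => L.D_eq_zero_of_notMem hχ hw) k.2.1, sub_self]
  have hcardB : 2 ≤ Nat.card B := by
    by_contra hlt
    push Not at hlt
    have h1 : Nat.card B * e ≤ blockRank p B * e :=
      Nat.mul_le_mul_right e ((show Nat.card B ≤ e by omega).trans hle)
    omega
  have hin : ∀ χ ∈ B, ∃ k, cc k χ ≠ 0 := by
    intro χ hχ
    by_contra hno
    push Not at hno
    obtain ⟨χ', hχ', hne⟩ : ∃ χ' ∈ B, χ ≠ χ' := by
      by_contra hall
      push Not at hall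
      have : B ⊆ {χ} := fun x hx => (hall x hx).symm
      have h1 := Nat.card_mono (Set.finite_singleton χ) this
      rw [show Nat.card ({χ} : Set (IrrCharacter G)) = 1 from by simp] at h1
      omega
    obtain ⟨g₁, hg₁, hne₁⟩ := SectionCentral.exists_singular_ne_zero hM hB hχ hχ' hne
    refine hne₁ ?_
    have h := L.sum_singular (fun φ => if φ = χ then 1 else 0) (fun φ hφ => if_neg (show ¬ φ = χ from fun h => hφ (h ▸ hχ)))
      (fun ψ hψ => by
        simp only [ite_mul, one_mul, zero_mul, Finset.sum_ite_eq', Finset.mem_univ, if_true]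
        by_cases h0 : ψ = L.ψ₀
        · rw [h0]
        · have h1 := hno ⟨ψ, hψ, h0⟩
          simp only [hcc, sub_eq_zero, Nat.cast_inj] at h1
          rw [h1]) hg₁
    simpa using h
  -- the two parts
  set Y : Set (IrrCharacter G) := Set.range ζ with hY
  set X : Set (IrrCharacter G) := B \ Y with hX
  have hYB : Y ⊆ B := by
    rintro _ ⟨k, rfl⟩
    by_contra hn
    obtain ⟨l, hl⟩ := hhit k
    exact hl (hout _ hn l)
  have hBXY : B = X ∪ Y := (Set.sdiff_union_of_subset hYB).symm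
  have hdisj : Disjoint X Y := Set.disjoint_sdiff_left
  have hgc : ∀ χ, χ ∉ Y → ∀ k, cc k χ = g χ := fun χ hχ k => by
    rw [hζ, if_neg fun h => hχ ⟨k, h.symm⟩, mul_zero, sub_zero]
  have hgout : ∀ χ, χ ∉ B → g χ = 0 := fun χ hχ => by
    rw [← hgc χ (fun h => hχ (hYB h)) k₀, hout χ hχ]
  have hgX : ∀ χ ∈ X, g χ ≠ 0 := fun χ hχ h0 => by
    obtain ⟨k, hk⟩ := hin χ hχ.1
    exact hk (by rw [hgc χ hχ.2, h0])
  set Xf : Finset (IrrCharacter G) := X.toFinset with hXf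
  set Yf : Finset (IrrCharacter G) := Y.toFinset with hYf
  have hYimg : Yf = Finset.univ.image ζ := by ext; simp [hYf, hY]
  -- the size of `Y`
  have hfib : ∀ k : κ, (Finset.univ.filter fun l => ζ l = ζ k).card = e := by
    intro k
    have h1 : (Finset.univ.filter fun l => ζ l = ζ k).card * Nat.card S.K
        = Nat.card {y : S.H // (y : G) ∈ S.St} := by
      have hsig : Nat.card {y : S.H // (y : G) ∈ S.St}
          = ∑ l : κ, Nat.card {y : S.H // (y : G) ∈ S.St ∧ S.tw y k.1 = l.1} := by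
        rw [← Nat.card_sigma]
        refine Nat.card_congr
          { toFun := fun y => ⟨⟨S.tw y.1 k.1, (S.tw_mem_iff k.2.1).2 y.2,
              fun h => k.2.2 (L.tw_eq_base y.2 h)⟩, y.1, y.2, rfl⟩
            invFun := fun q => ⟨q.2.1, q.2.2.1⟩
            left_inv := fun y => rfl
            right_inv := fun q => ?_ }
        obtain ⟨⟨l, hl⟩, y, hy, hyl⟩ := q
        simp only at hyl
        subst hyl
        rfl
      rw [hsig]
      simp only [fun l : κ => L.card_trans (ψ := l.1) (φ := k.1) l.2.1 l.2.2]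
      rw [← Finset.sum_filter, Finset.sum_const, smul_eq_mul]
      congr 2
      exact Finset.filter_congr fun l _ => hζR l k
    rw [L.card_St, hie] at h1
    exact Nat.eq_of_mul_eq_mul_right Nat.card_pos h1
  have hme : Yf.card * e + 1 = p ^ a := by
    rw [← hcκ, ← Finset.card_univ (α := κ), Finset.card_eq_sum_card_fiberwise (f := ζ) (t := Yf)
      (fun k _ => by simp [hYf, hY]), Finset.sum_const_nat (m := e) fun η hη => ?_]
    rw [hYimg, Finset.mem_image] at hη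
    obtain ⟨k, -, rfl⟩ := hη
    exact hfib k
  set m : ℕ := Yf.card with hm
  have hm1 : 1 ≤ m := Nat.one_le_iff_ne_zero.2 fun h => by rw [h, zero_mul] at hme; omega
  have hk : Nat.card B = blockRank p B + m := by
    refine Nat.eq_of_mul_eq_mul_right he0 ?_
    rw [add_mul]
    omega
  have hcX : Xf.card + m = Nat.card B := by
    rw [Nat.card_eq_fintype_card, ← Set.toFinset_card, hm, ← Finset.card_union_of_disjoint
      (by rw [hXf, hYf, Set.disjoint_toFinset]; exact hdisj)]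
    congr 1
    rw [hXf, hYf, ← Set.toFinset_union]
    simp [← hBXY]
  -- the signs
  set d : ℤ := g (ζ k₀) with hd
  have hgY : ∀ η ∈ Yf, g η = d := fun η hη => by
    rw [hYimg, Finset.mem_image] at hη
    obtain ⟨k, -, rfl⟩ := hη
    exact hgd k
  have hsplit : ∀ F : IrrCharacter G → ℂ, (∀ χ, χ ∉ B → F χ = 0) →
      ∑ χ, F χ = ∑ χ ∈ Xf, F χ + ∑ χ ∈ Yf, F χ := by
    intro F hF
    rw [← Finset.sum_union (by rw [hXf, hYf, Set.disjoint_toFinset]; exact hdisj)]
    refine (Finset.sum_subset (Finset.subset_univ _) fun χ _ hχ => hF χ fun h => hχ ?_).symm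
    rw [hBXY] at h
    simpa [hXf, hYf] using h
  have hnorm : (∑ χ ∈ Xf, g χ * g χ) + (m : ℤ) * d ^ 2 - 2 * δ * d = e := by
    have h1 := hip k₀ k₀
    rw [if_pos (hR.refl k₀)] at h1
    have h2 := hsplit (fun χ => ((cc k₀ χ * cc k₀ χ : ℤ) : ℂ))
      fun χ hχ => by rw [hout χ hχ, mul_zero, Int.cast_zero]
    rw [← Int.cast_sum, ← Int.cast_sum, ← Int.cast_sum, h1, ← Int.cast_add, Int.cast_inj] at h2
    rw [Finset.sum_congr rfl (g := fun χ => g χ * g χ) fun χ hχ => by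
        rw [hgc χ (Set.mem_toFinset.1 hχ).2 k₀],
      Finset.sum_congr rfl (s₁ := Yf) (g := fun χ => d * d + if χ = ζ k₀ then 1 - 2 * δ * d else 0)
        fun χ hχ => by
          rw [hζ, hgY χ hχ]
          split_ifs <;> rcases hδ with rfl | rfl <;> ring,
      Finset.sum_add_distrib, Finset.sum_const, nsmul_eq_mul, ← hm, Finset.sum_ite_eq',
      if_pos (by simp [hYf, hY])] at h2
    linarith
  have hXl : (e : ℤ) ≤ ∑ χ ∈ Xf, g χ * g χ := by
    calc (e : ℤ) ≤ (Xf.card : ℤ) := by exact_mod_cast (show e ≤ Xf.card by omega)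
      _ = ∑ χ ∈ Xf, (1 : ℤ) := by simp
      _ ≤ _ := Finset.sum_le_sum fun χ hχ => by
          have := hgX χ (Set.mem_toFinset.1 hχ)
          nlinarith [Int.one_le_abs this, sq_abs (g χ), abs_nonneg (g χ)]
  have hm1' : (m : ℤ) = 1 → d ≠ δ := by
    intro h1 hdδ
    obtain ⟨l, hl⟩ := hhit k₀
    refine hl ?_
    have hall : ζ l = ζ k₀ := Finset.card_le_one.1 (by omega : Yf.card ≤ 1) _ (by simp [hYf, hY]) _
      (by simp [hYf, hY])
    rw [hζ, if_pos hall.symm, ← hd, hdδ]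
    ring
  obtain ⟨hG2, hA⟩ := arith (δ := δ) (d := d) hδ (by exact_mod_cast hm1) hm1' hnorm hXl
  set A : ℤ := m * d - δ with hAdef
  have hle1 : ∀ χ ∈ Xf, (1 : ℤ) ≤ g χ * g χ := fun χ hχ => by
    have := hgX χ (Set.mem_toFinset.1 hχ)
    nlinarith [Int.one_le_abs this, sq_abs (g χ), abs_nonneg (g χ)]
  have hcXe : Xf.card = e ∧ ∀ χ ∈ Xf, g χ * g χ = 1 := by
    have h1 : (Xf.card : ℤ) ≤ ∑ χ ∈ Xf, g χ * g χ := by
      have := Finset.sum_le_sum hle1
      simpa using this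
    have h2 : Xf.card = e := by omega
    refine ⟨h2, fun χ hχ => le_antisymm ?_ (hle1 χ hχ)⟩
    by_contra hlt
    push Not at hlt
    have := Finset.sum_lt_sum hle1 ⟨χ, hχ, hlt⟩
    simp only [Finset.sum_const, nsmul_eq_mul, mul_one] at this
    omega
  obtain ⟨hcXe, hg1⟩ := hcXe
  have hrank : blockRank p B = e := by omega
  have hsign : ∀ χ ∈ X, g χ = 1 ∨ g χ = -1 := fun χ hχ =>
    Int.eq_one_or_neg_one_of_mul_eq_one (hg1 χ (Set.mem_toFinset.2 hχ))
  -- regular elements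
  have hsreg : ∀ k : κ, ∀ s : G, ¬ p ∣ orderOf s → ∑ χ, (cc k χ : ℂ) * (χ : G → ℂ) s = 0 := by
    intro k s hs
    rw [← hind, Char.indFun_def, Finset.sum_eq_zero fun x _ => ?_, mul_zero]
    rw [extendByZero_eq]
    by_cases h : x⁻¹ * s * x ∈ S.K
    · rw [ext0_mem _ h]
      refine L.dif_regular k.2.1 ?_
      rw [Subgroup.orderOf_mk]
      have : orderOf (MulAut.conj x⁻¹ s) = orderOf s := MulEquiv.orderOf_eq _ _
      simp only [MulAut.conj_apply, inv_inv] at this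
      rwa [this]
    · rw [ext0, dif_neg h]
  have hδ0 : (δ : ℂ) ≠ 0 := by rcases hδ with h | h <;> rw [h] <;> norm_num
  have hgsum : ∀ k : κ, ∀ s : G, ¬ p ∣ orderOf s →
      ∑ χ, (g χ : ℂ) * (χ : G → ℂ) s = (δ : ℂ) * (ζ k : G → ℂ) s := by
    intro k s hs
    have h := hsreg k s hs
    simp only [hζ, Int.cast_sub, Int.cast_mul, sub_mul, Finset.sum_sub_distrib, Int.cast_ite,
      Int.cast_one, Int.cast_zero, mul_ite, ite_mul, mul_one, mul_zero, zero_mul, Finset.sum_ite_eq',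
      Finset.mem_univ, if_true, sub_eq_zero] at h
    exact h
  have hagree : ∀ ψ ∈ Y, ∀ ψ' ∈ Y, ∀ s : G, ¬ p ∣ orderOf s →
      (ψ : G → ℂ) s = (ψ' : G → ℂ) s := by
    rintro _ ⟨k, rfl⟩ _ ⟨l, rfl⟩ s hs
    exact mul_left_cancel₀ hδ0 ((hgsum k s hs).symm.trans (hgsum l s hs))
  have hrel : ∀ ψ ∈ Y, ∀ s : G, ¬ p ∣ orderOf s →
      (A : ℂ) * (ψ : G → ℂ) s + ∑ᶠ χ ∈ X, (g χ : ℂ) * (χ : G → ℂ) s = 0 := by
    rintro _ ⟨k, rfl⟩ s hs
    have h := hgsum k s hs
    rw [hsplit _ (fun χ hχ => by rw [hgout χ hχ, Int.cast_zero, zero_mul]),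
      Finset.sum_congr rfl (s₁ := Yf) fun η hη => by
        rw [hgY η hη, hagree η (Set.mem_toFinset.1 hη) _ ⟨k, rfl⟩ s hs],
      Finset.sum_const, nsmul_eq_mul, ← hm] at h
    rw [finsum_mem_eq_toFinset_sum, ← hXf, hAdef]
    push_cast
    linear_combination h
  -- congruences
  have hN : (p : ℤ) ^ a ∣ (pPartCard p G : ℤ) := by
    rw [pPartCard, Nat.cast_pow]
    refine pow_dvd_pow _ ((hp.pow_dvd_iff_le_factorization Nat.card_pos.ne').1 ?_)
    exact hcard ▸ Subgroup.card_subgroup_dvd_card P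
  have hgen : ∀ v : IrrCharacter G → ℤ, (∀ χ ∉ B, v χ = 0) → (∀ k, ∑ χ, v χ * cc k χ = 0) →
      (pPartCard p G : ℤ) ∣ ∑ χ, v χ * (charDegree (χ : G → ℂ) : ℤ) := by
    intro v hv hvc
    have hθ : IsGeneralizedCharacter G (fun x => ∑ χ, (v χ : ℂ) * (χ : G → ℂ) x) :=
      isGeneralizedCharacter_intSum v
    obtain ⟨n, hn⟩ := pPartCard_dvd_of_vanish hp hθ fun x hx =>
      L.sum_singular (fun χ => (v χ : ℂ)) (fun χ hχ => by rw [hv χ hχ, Int.cast_zero]) (fun ψ hψ => by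
        by_cases h0 : ψ = L.ψ₀
        · rw [h0]
        · have h1 := hvc ⟨ψ, hψ, h0⟩
          simp only [hcc, mul_sub, Finset.sum_sub_distrib, sub_eq_zero] at h1
          exact_mod_cast h1) hx
    refine ⟨n, ?_⟩
    apply Int.cast_injective (α := ℂ)
    push_cast
    rw [← hn]
    exact Finset.sum_congr rfl fun χ _ => by rw [irr_one_eq]
  have horth : ∀ (v : IrrCharacter G → ℤ), (∀ χ ∉ B, v χ = 0) → ∀ u : ℤ, (∀ η ∈ Yf, v η = u) →
      ∀ k : κ, ∑ χ, v χ * cc k χ = ∑ χ ∈ Xf, v χ * g χ + u * A := by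
    intro v hv u hu k
    have h2 := hsplit (fun χ => ((v χ * cc k χ : ℤ) : ℂ))
      fun χ hχ => by rw [hv χ hχ, zero_mul, Int.cast_zero]
    rw [← Int.cast_sum, ← Int.cast_sum, ← Int.cast_sum, ← Int.cast_add, Int.cast_inj] at h2
    rw [h2, Finset.sum_congr rfl (g := fun χ => v χ * g χ) fun χ hχ => by
        rw [hgc χ (Set.mem_toFinset.1 hχ).2 k],
      Finset.sum_congr rfl (s₁ := Yf) (g := fun χ => u * d + if χ = ζ k then -(u * δ) else 0)
        fun χ hχ => by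
          rw [hζ, hgY χ hχ, hu χ hχ]
          split_ifs <;> ring,
      Finset.sum_add_distrib, Finset.sum_const, nsmul_eq_mul, ← hm, Finset.sum_ite_eq',
      if_pos (by simp [hYf, hY]), hAdef]
    ring
  have hcongX : ∀ χ ∈ X, ∀ χ' ∈ X, (pPartCard p G : ℤ) ∣
      g χ * (charDegree (χ : G → ℂ) : ℤ) - g χ' * (charDegree (χ' : G → ℂ) : ℤ) := by
    intro χ hχ χ' hχ'
    let v : IrrCharacter G → ℤ := fun φ =>
      (if φ = χ then g χ else 0) - if φ = χ' then g χ' else 0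
    have hv : ∀ φ ∉ B, v φ = 0 := fun φ hφ => by
      simp [v, show φ ≠ χ from fun h => hφ (h ▸ hχ.1), show φ ≠ χ' from fun h => hφ (h ▸ hχ'.1)]
    have h := hgen v hv fun k => by
      rw [horth v hv 0 (fun η hη => by
        have hn : η ∈ Y := Set.mem_toFinset.1 hη
        simp [v, show η ≠ χ from fun h => hχ.2 (h ▸ hn), show η ≠ χ' from fun h => hχ'.2 (h ▸ hn)]) k]
      simp only [v, sub_mul, ite_mul, zero_mul, Finset.sum_sub_distrib, Finset.sum_ite_eq',
        hXf, Set.mem_toFinset, if_pos hχ, if_pos hχ', add_zero]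
      rw [hg1 χ (Set.mem_toFinset.2 hχ), hg1 χ' (Set.mem_toFinset.2 hχ'), sub_self]
    simpa only [v, sub_mul, ite_mul, zero_mul, Finset.sum_sub_distrib, Finset.sum_ite_eq',
      Finset.mem_univ, if_true] using h
  have hcongY : ∀ ψ ∈ Y, ∀ χ ∈ X, (pPartCard p G : ℤ) ∣
      A * g χ * (charDegree (χ : G → ℂ) : ℤ) - (m : ℤ) * (charDegree (ψ : G → ℂ) : ℤ) := by
    intro ψ hψ χ hχ
    let v : IrrCharacter G → ℤ := fun φ =>
      (if φ = χ then A * g χ else 0) - if φ ∈ Yf then 1 else 0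
    have hv : ∀ φ ∉ B, v φ = 0 := fun φ hφ => by
      simp [v, hYf, show φ ≠ χ from fun h => hφ (h ▸ hχ.1), show φ ∉ Y from fun h => hφ (hYB h)]
    have h := hgen v hv fun k => by
      rw [horth v hv (-1) (fun η hη => by
        simp [v, hη, show η ≠ χ from fun h => hχ.2 (h ▸ Set.mem_toFinset.1 hη)]) k]
      simp only [v, sub_mul, ite_mul, zero_mul, one_mul, Finset.sum_sub_distrib, Finset.sum_ite_eq',
        hXf, Set.mem_toFinset, if_pos hχ]
      rw [Finset.sum_eq_zero fun φ hφ => if_neg fun h => (Set.mem_toFinset.1 hφ).2 (Set.mem_toFinset.1 h),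
        mul_assoc, hg1 χ (Set.mem_toFinset.2 hχ)]
      ring
    have h1 : ∑ φ ∈ Yf, (charDegree (φ : G → ℂ) : ℤ) = m * (charDegree (ψ : G → ℂ) : ℤ) := by
      rw [Finset.sum_congr rfl fun φ hφ => ?_, Finset.sum_const, nsmul_eq_mul, hm]
      have h2 := hagree φ (Set.mem_toFinset.1 hφ) ψ hψ 1 (by rw [orderOf_one]; exact hp.not_dvd_one)
      rw [irr_one_eq, irr_one_eq] at h2
      exact_mod_cast h2
    simpa only [v, sub_mul, ite_mul, zero_mul, one_mul, Finset.sum_sub_distrib, Finset.sum_ite_eq',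
      Finset.mem_univ, if_true, ← Finset.sum_filter, Finset.filter_univ_mem, h1] using h
  refine ⟨⟨{
      ζ := ζ, g := g, δ := δ, d := d, hδ := hδ, rel := hζR, coef := hζ
      mem := fun k => hYB ⟨k, rfl⟩
      g_ζ := hgd
      sign := hsign
      card_diff := ?_
      fib := fun k => (hfib k).trans hie.symm
      card_range := ?_
      sq := ?_ }⟩, hrank, hdiv, ?_, X, Y, hBXY, hdisj, ?_, ?_, hagree, g, A, hsign, hA, hrel, ?_, ?_⟩
  · rw [hie, Nat.card_eq_fintype_card, ← Set.toFinset_card, ← hcXe]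
  · rw [hie, hcard]; exact hme
  · linarith [hnorm, hG2]
  · -- heights
    have hdef : blockDefect p B = a := Nat.pow_right_injective hp.two_le
      ((card_defectGroup hM hB (isDefectGroup_of_isMaximal hM hmax)).symm.trans hcard)
    obtain ⟨χ₀, hχ₀, h0⟩ := exists_degVal_eq_min (p := p) ⟨ζ k₀, hYB ⟨k₀, rfl⟩⟩
    have hlt : degVal p χ₀ < (Nat.card G).factorization p := by
      have := blockDefect_add_min (p := p) ⟨χ₀, hχ₀⟩
      omega
    have hu : ∀ χ ∈ X, ¬ (p : ℤ) ∣ g χ := fun χ hχ hd => by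
      have h1 : (p : ℤ) ∣ 1 := hg1 χ (Set.mem_toFinset.2 hχ) ▸ hd.mul_right _
      have h2 := Int.eq_one_of_dvd_one (by positivity) h1
      exact hp.ne_one (by exact_mod_cast h2)
    have hpm : ¬ (p : ℤ) ∣ (m : ℤ) := fun hd => by
      have h1 : p ∣ m * e := (Int.natCast_dvd_natCast.1 hd).mul_right e
      have h2 : p ∣ p ^ a := dvd_pow_self p ha0
      rw [← hme] at h2
      exact hp.not_dvd_one ((Nat.dvd_add_right h1).1 h2)
    have hAu : ∀ χ ∈ X, ¬ (p : ℤ) ∣ A * g χ := fun χ hχ hd => by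
      rcases hA with h | h <;> rw [h] at hd <;> simp at hd <;> exact hu χ hχ hd
    have hval : ∀ x y : IrrCharacter G, degVal p x < (Nat.card G).factorization p → ∀ u v : ℤ,
        ¬ (p : ℤ) ∣ u → ¬ (p : ℤ) ∣ v →
        (pPartCard p G : ℤ) ∣ u * (charDegree (x : G → ℂ) : ℤ) - v * (charDegree (y : G → ℂ) : ℤ) →
        degVal p y = degVal p x := by
      intro x y hx u v hu hv hd
      rw [pPartCard, Nat.cast_pow] at hd
      exact factorization_eq_of_dvd_sub (charDegree_pos x).ne' (charDegree_pos y).ne' hx hu hv hd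
    have hsame : ∀ η ∈ Y, ∀ η' ∈ Y, degVal p η = degVal p η' := fun η hη η' hη' => by
      have h2 := hagree η hη η' hη' 1 (by rw [orderOf_one]; exact hp.not_dvd_one)
      rw [irr_one_eq, irr_one_eq] at h2
      show (charDegree (η : G → ℂ)).factorization p = _
      rw [show charDegree (η : G → ℂ) = charDegree (η' : G → ℂ) by exact_mod_cast h2]
      rfl
    intro χ hχ
    rw [blockHeight_eq_zero_iff hχ, ← h0]
    rw [hBXY] at hχ hχ₀
    rcases hχ₀ with hX0 | hY0 <;> rcases hχ with hXc | hYc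
    · exact hval χ₀ χ hlt _ _ (hu _ hX0) (hu _ hXc) (hcongX _ hX0 _ hXc)
    · exact hval χ₀ χ hlt _ _ (hAu _ hX0) hpm (hcongY _ hYc _ hX0)
    · refine hval χ₀ χ hlt _ _ hpm (hAu _ hXc) ?_
      rw [← dvd_neg, neg_sub]
      exact hcongY _ hY0 _ hXc
    · exact hsame _ hYc _ hY0
  · rw [Nat.card_eq_fintype_card, ← Set.toFinset_card, ← hXf, hcXe]
  · rw [Nat.card_eq_fintype_card, ← Set.toFinset_card, ← hYf, ← hm, ← hme, Nat.add_sub_cancel,
      Nat.mul_div_cancel _ he0]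
  · exact fun χ hχ χ' hχ' => Int.modEq_iff_dvd.2 (hN.trans (hcongX χ' hχ' χ hχ))
  · intro ψ hψ χ hχ
    refine Int.modEq_iff_dvd.2 ?_
    have h1 := (hN.trans (hcongY ψ hψ χ hχ)).mul_left (e : ℤ)
    have h2 : ((m : ℤ) * e + 1) = (p : ℤ) ^ a := by exact_mod_cast hme
    have h3 : -((e : ℤ) * A * g χ * (charDegree (χ : G → ℂ) : ℤ)) - (charDegree (ψ : G → ℂ) : ℤ)
        = -((e : ℤ) * (A * g χ * (charDegree (χ : G → ℂ) : ℤ) - (m : ℤ) * (charDegree (ψ : G → ℂ) : ℤ)))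
          - (p : ℤ) ^ a * (charDegree (ψ : G → ℂ) : ℤ) := by
      rw [← h2]; ring
    rw [h3]
    exact dvd_sub h1.neg_right (dvd_mul_right _ _)

/-- The numerical data of a block with a cyclic maximal pair. -/
theorem main (hM : IsPModular p M) (hmax : IsMaximalBrauerPair p M B P c) (hcyc : IsCyclic P)
    (hP1 : P ≠ ⊥) {a : ℕ} (hcard : Nat.card P = p ^ a) :
    let e := (Subgroup.centralizer (P : Set G)).relIndex (pairStab P c)
    blockRank p B = e ∧ e ∣ p - 1 ∧ (∀ χ ∈ B, blockHeight p B (χ : G → ℂ) = 0) ∧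
      ∃ X Y : Set (IrrCharacter G), B = X ∪ Y ∧ Disjoint X Y ∧ Nat.card X = e ∧
        Nat.card Y = (p ^ a - 1) / e ∧
        (∀ ψ ∈ Y, ∀ ψ' ∈ Y, ∀ g : G, ¬ p ∣ orderOf g → (ψ : G → ℂ) g = (ψ' : G → ℂ) g) ∧
        ∃ (δ : IrrCharacter G → ℤ) (δ₀ : ℤ), (∀ χ ∈ X, δ χ = 1 ∨ δ χ = -1) ∧ (δ₀ = 1 ∨ δ₀ = -1) ∧
          (∀ ψ ∈ Y, ∀ g : G, ¬ p ∣ orderOf g →
            (δ₀ : ℂ) * (ψ : G → ℂ) g + ∑ᶠ χ ∈ X, (δ χ : ℂ) * (χ : G → ℂ) g = 0) ∧
          (∀ χ ∈ X, ∀ χ' ∈ X, δ χ * (charDegree (χ : G → ℂ) : ℤ)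
            ≡ δ χ' * (charDegree (χ' : G → ℂ) : ℤ) [ZMOD (p : ℤ) ^ a]) ∧
          (∀ ψ ∈ Y, ∀ χ ∈ X, (charDegree (ψ : G → ℂ) : ℤ)
            ≡ -((e : ℤ) * δ₀ * δ χ * (charDegree (χ : G → ℂ) : ℤ)) [ZMOD (p : ℤ) ^ a]) := by
  obtain ⟨S⟩ := exists_setup hM hmax hcyc hP1
  obtain ⟨L⟩ := S.exists_lab
  exact (main_lab S L hcard).2

end CfsgLib.Blocks.CyclicDecomp
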