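import Cfsg.Agent.Lib.Blocks.CyclicLocal
import Cfsg.Agent.Lib.Blocks.ContribBound
import Cfsg.Agent.Lib.Char.Induced
import Cfsg.Agent.Lib.Char.Orth
import Cfsg.Agent.S4636

/-!
# Induced differences and contributions for a cyclic maximal pair
-/

set_option autoImplicit false
set_option linter.unusedSectionVars false
set_option maxHeartbeats 1000000

namespace CfsgLib.Blocks.CyclicDecomp

open Cfsg CfsgLib.Blocks CfsgLib.BrauerPairs CfsgLib.BrouePuig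
open scoped Classical ComplexConjugate Pointwise

universe u

variable {G : Type u} [Group G] [Fintype G] {p : ℕ} [Fact p.Prime] {M : Ideal AlgInt}
  {B : Set (IrrCharacter G)} {P : Subgroup G}
  {c : Set (IrrCharacter (Subgroup.centralizer (P : Set G)))}

/-- The `p`-part inside a subgroup. -/
theorem coe_pPart (hp : p.Prime) (K : Subgroup G) (k : K) :
    pPart p (k : G) = ((pPart p k : K) : G) := by
  obtain ⟨y, hxy, hc, ⟨j, hj⟩, hy⟩ := pPart_spec hp k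
  exact pPart_eq hp ⟨y, by rw [← Subgroup.coe_mul, hxy], congrArg Subtype.val hc.eq,
    ⟨j, by rwa [Subgroup.orderOf_coe]⟩, by rwa [Subgroup.orderOf_coe]⟩

/-- A coefficient family whose combination is supported at the identity is constant. -/
theorem coef_const {A : Type*} [Group A] [Fintype A] (hA : ∀ a b : A, a * b = b * a)
    (n : IrrCharacter A → ℂ) (h : ∀ v : A, v ≠ 1 → ∑ ζ, n ζ * (ζ : A → ℂ) v = 0)
    (ζ ζ' : IrrCharacter A) : n ζ = n ζ' := by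
  set F : A → ℂ := fun v => ∑ ζ, n ζ * (ζ : A → ℂ) v
  have key : ∀ ζ : IrrCharacter A, n ζ = (Nat.card A : ℂ)⁻¹ * F 1 := fun ζ => by
    have h1 : classInner F (ζ : A → ℂ) = n ζ := by
      rw [show F = ∑ η : IrrCharacter A, n η • (η : A → ℂ) from funext fun v => by
        simp [F, Finset.sum_apply], Char.classInner_sum_left]
      simp only [Char.classInner_smul_left, Char.classInner_irrCharacter, mul_ite, mul_one,
        mul_zero, Finset.sum_ite_eq', Finset.mem_univ, if_true]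
    rw [← h1, Cfsg.classInner, Finset.sum_eq_single 1 (fun v _ hv => by
      rw [show F v = 0 from h v hv, zero_mul]) (by simp),
      Char.apply_one_eq_one_of_comm hA ζ.2, map_one, mul_one]
  rw [key ζ, key ζ']

theorem extendByZero_eq (K : Subgroup G) (f : K → ℂ) (g : G) :
    Cfsg.extendByZero K f g = ext0 K f g := by
  by_cases h : g ∈ K
  · rw [ext0_mem f h, Char.extendByZero_apply_mem K f h]
  · rw [Char.extendByZero_apply_notMem K f h, ext0, dif_neg h]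

/-- The irreducible characters of an abelian group sum to zero off the identity. -/
theorem sum_irr_comm {A : Type*} [Group A] [Fintype A] (hA : ∀ a b : A, a * b = b * a) {v : A}
    (hv : v ≠ 1) : ∑ ζ : IrrCharacter A, (ζ : A → ℂ) v = 0 := by
  have h := Char.sum_irr_mul_conj v 1
  rw [if_neg fun h => hv (isConj_one_left.1 h)] at h
  rw [← h]
  exact Finset.sum_congr rfl fun ζ _ => by
    rw [Char.apply_one_eq_one_of_comm hA ζ.2, map_one, mul_one]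

namespace Setup

variable (S : Setup p M B P c)

/-- The multiplicity in the restriction. -/
noncomputable def mult (χ : IrrCharacter G) (ψ : IrrCharacter S.K) : ℕ :=
  (resMult_nat χ ψ).choose

theorem coe_mult (χ : IrrCharacter G) (ψ : IrrCharacter S.K) :
    (S.mult χ ψ : ℂ) = resMult χ ψ :=
  (resMult_nat χ ψ).choose_spec.symm

theorem res_eq_sum (χ : IrrCharacter G) (k : S.K) :
    (χ : G → ℂ) k = ∑ ψ : IrrCharacter S.K, (S.mult χ ψ : ℂ) * (ψ : S.K → ℂ) k := by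
  have h := congrFun (Char.IsClassFunction.eq_sum_irr
    (ψ := fun k : S.K => (χ : G → ℂ) k) (fun a b => by
      simpa using Char.IsIrrCharacter.isClassFunction χ.2 (a : G) (b : G))) k
  rw [Finset.sum_apply] at h
  refine h.trans (Finset.sum_congr rfl fun ψ _ => ?_)
  rw [Pi.smul_apply, smul_eq_mul, coe_mult]
  rfl

/-- The subgroup acting on the block of the centralizer. -/
abbrev St : Subgroup G := pairStab (Subgroup.zpowers (S.z : G)) S.f

theorem St_le : S.St ≤ S.H := pairStab_le_normalizer _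

theorem K_le_H : S.K ≤ S.H := centralizer_le_normalizer _

theorem K_le_St : S.K ≤ S.St := centralizer_le_pairStab _

/-- The labels of the members. -/
structure Lab where
  σ : P → G → ℂ
  Φ : IrrCharacter (P.subgroupOf S.K) ≃ S.f
  hreg : ∀ ζ ζ' (x : S.K), ¬ p ∣ orderOf x →
    ((Φ ζ : IrrCharacter S.K) : S.K → ℂ) x = ((Φ ζ' : IrrCharacter S.K) : S.K → ℂ) x
  hsup : ∀ ζ ζ' (x : S.K),
    ((Φ ζ : IrrCharacter S.K) : S.K → ℂ) x ≠ ((Φ ζ' : IrrCharacter S.K) : S.K → ℂ) x →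
      ∃ (k : S.K) (w : P), w ≠ 1 ∧ ((k * pPart p x * k⁻¹ : S.K) : G) = w
  hsec : ∀ ζ : IrrCharacter (P.subgroupOf S.K), ∀ w : P, w ≠ 1 → ∀ x : cenZ (w : G),
    ¬ p ∣ orderOf x → S.sec (ext0 S.K ((Φ ζ : IrrCharacter S.K) : S.K → ℂ)) w x
      = (ζ : P.subgroupOf S.K → ℂ) (S.inK w) * σ w x
  hout : ∀ ψ ∉ S.f, ∀ w : P, w ≠ 1 → ∀ x : cenZ (w : G), ¬ p ∣ orderOf x →
    S.sec (ext0 S.K (ψ : S.K → ℂ)) w x = 0
  hσ : ∀ w : P, w ≠ 1 → ∃ x : cenZ (w : G), ¬ p ∣ orderOf x ∧ σ w x ≠ 0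
  ψ₀ : IrrCharacter S.K
  hψ₀ : ψ₀ ∈ S.f
  hfix : ∀ t : S.H, (t : G) ∈ pairStab P c → S.tw t ψ₀ = ψ₀
  hfree : ∀ ψ ∈ S.f, ψ ≠ ψ₀ → ∀ t : S.H, (t : G) ∈ pairStab P c → S.tw t ψ = ψ →
    (t : G) ∈ Subgroup.centralizer (P : Set G)

theorem exists_lab : Nonempty S.Lab := by
  obtain ⟨σ, Φ, h1, h2, h3, h4, h5⟩ := S.exists_members
  obtain ⟨ψ₀, hψ₀, hfix, hfree⟩ := S.exists_base
  exact ⟨⟨σ, Φ, h1, h2, h3, h4, h5, ψ₀, hψ₀, hfix, hfree⟩⟩

theorem comm_P' (a b : P.subgroupOf S.K) : a * b = b * a :=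
  Subtype.ext (S.hab' a a.2 b b.2)

/-- The inertial index. -/
noncomputable def ie (_S : Setup p M B P c) : ℕ :=
  (Subgroup.centralizer (P : Set G)).relIndex (pairStab P c)

theorem ie_pos : 0 < S.ie :=
  Nat.pos_of_ne_zero (by rw [ie, Subgroup.relIndex]; exact Subgroup.index_ne_zero_of_finite)

namespace Lab

variable {S} (L : S.Lab)

/-- The coefficient of the contributions of a character. -/
noncomputable def D (χ : IrrCharacter G) (w : P) : ℂ :=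
  ∑ ζ : IrrCharacter (P.subgroupOf S.K),
    (S.mult χ (L.Φ ζ) : ℂ) * (ζ : P.subgroupOf S.K → ℂ) (S.inK w)

theorem secPart_eq (χ : IrrCharacter G) {w : P} (hw : w ≠ 1) {x : cenZ (w : G)}
    (hx : ¬ p ∣ orderOf x) :
    secPart (w : G) (cenZ (w : G)) (S.belB w) χ x = L.D χ w * L.σ w x := by
  rw [S.secPart_eq_sec, S.sec_res hw _ x.2]
  have he : (ext0 S.K fun k : S.K => (χ : G → ℂ) k)
      = fun g => ∑ ψ : IrrCharacter S.K, (S.mult χ ψ : ℂ) * ext0 S.K (ψ : S.K → ℂ) g := by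
    funext g
    by_cases hg : g ∈ S.K
    · simp only [ext0_mem _ hg]
      exact S.res_eq_sum χ ⟨g, hg⟩
    · simp [ext0, hg]
  rw [he, S.sec_sum, D, Finset.sum_mul]
  rw [← Finset.sum_subset (Finset.subset_univ (Finset.univ.filter fun ψ => ψ ∈ S.f))
    fun ψ _ hψ => by
      rw [L.hout ψ (fun h => hψ (Finset.mem_filter.2 ⟨Finset.mem_univ _, h⟩)) w hw x hx, mul_zero]]
  rw [Finset.sum_subtype (p := fun ψ => ψ ∈ S.f) _ (by simp)
    fun ψ => (S.mult χ ψ : ℂ) * S.sec (ext0 S.K (ψ : S.K → ℂ)) w x]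
  refine (Fintype.sum_equiv L.Φ _ _ fun ζ => ?_).symm
  rw [L.hsec ζ w hw x hx, mul_assoc]

theorem D_eq_zero_of_notMem {χ : IrrCharacter G} (hχ : χ ∉ B) {w : P} (hw : w ≠ 1) :
    L.D χ w = 0 := by
  obtain ⟨x, hx, hne⟩ := L.hσ w hw
  have hel := isElemOf_of_below S.hM S.hmax (bel_below S.hM S.hmax.1.1 w)
  have h : secPart (w : G) (cenZ (w : G)) (S.belB w) χ x = 0 :=
    secPart_eq_zero_of_notMem S.hM (cenZ_eq _) (mem_elems.1 (IsElemOf.mem S.hM.1 hel)).1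
      ((isBrauerPairOf_iff_induced S.hM hel.1.1 hel.1.2).1 hel) hχ hx
  rw [L.secPart_eq χ hw hx] at h
  exact (mul_eq_zero.1 h).resolve_right hne

theorem mult_const {χ : IrrCharacter G} (h : ∀ w : P, w ≠ 1 → L.D χ w = 0) {ψ : IrrCharacter S.K}
    (hψ : ψ ∈ S.f) : S.mult χ ψ = S.mult χ L.ψ₀ := by
  have h1 := coef_const S.comm_P' (fun ζ => (S.mult χ (L.Φ ζ) : ℂ)) (fun v hv => by
    have hw : (⟨((v : S.K) : G), Subgroup.mem_subgroupOf.1 v.2⟩ : P) ≠ 1 := fun h =>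
      hv (Subtype.ext (Subtype.ext (by simpa using congrArg Subtype.val h)))
    exact h _ hw) (L.Φ.symm ⟨ψ, hψ⟩) (L.Φ.symm ⟨L.ψ₀, L.hψ₀⟩)
  simp only [Equiv.apply_symm_apply, Nat.cast_inj] at h1
  exact h1

/-- A combination whose multiplicities are constant on the block vanishes at singular elements. -/
theorem sum_singular (v : IrrCharacter G → ℂ) (hv : ∀ χ ∉ B, v χ = 0)
    (h : ∀ ψ ∈ S.f, ∑ χ, v χ * (S.mult χ ψ : ℂ) = ∑ χ, v χ * (S.mult χ L.ψ₀ : ℂ)) {g : G}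
    (hg : p ∣ orderOf g) : ∑ χ, v χ * (χ : G → ℂ) g = 0 := by
  have hM := S.hM
  have hD : ∀ w : P, w ≠ 1 → ∑ χ, v χ * L.D χ w = 0 := by
    intro w hw
    simp only [D, Finset.mul_sum, ← mul_assoc]
    rw [Finset.sum_comm]
    simp only [← Finset.sum_mul, fun ζ => h _ (L.Φ ζ).2, ← Finset.mul_sum]
    rw [sum_irr_comm S.comm_P' fun h1 => hw (Subtype.ext (by
      simpa [inK] using congrArg (fun a : P.subgroupOf S.K => ((a : S.K) : G)) h1)), mul_zero]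
  obtain ⟨y, hgy, huy, ⟨j, hj⟩, hy⟩ := pPart_spec hM.1 g
  set u := pPart p g with hu
  have hu1 : u ≠ 1 := fun h1 => hy (by rw [h1, one_mul] at hgy; rwa [hgy])
  have hyK : y ∈ cenZ u := by
    rw [cenZ_eq, Subgroup.mem_centralizer_singleton_iff]; exact huy.eq.symm
  have hyr : ¬ p ∣ orderOf (⟨y, hyK⟩ : cenZ u) := by rwa [← Subgroup.orderOf_coe]
  have hexp : ∀ χ : IrrCharacter G, (χ : G → ℂ) g
      = ∑ d ∈ blockSet M (cenZ u), secPart u (cenZ u) d χ ⟨y, hyK⟩ := fun χ => by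
    have h1 := star_eq (hM := hM) (fun _ => (1 : ℂ)) χ ⟨j, hj⟩ ⟨y, hyK⟩ hyr
    simp only [one_mul] at h1
    rw [CfsgLib.BrouePuig.star_one, hgy] at h1
    exact h1
  simp only [hexp, Finset.mul_sum]
  rw [Finset.sum_comm]
  refine Finset.sum_eq_zero fun d hd => ?_
  by_cases hel : IsElemOf p M B (⟨u, d⟩ : BElem G)
  · obtain ⟨k, hk⟩ := (exists_below_iff hM S.hmax _).2 hel
    set w : P := ⟨k * u * k⁻¹, mem_of_below_act hk⟩ with hwdef
    have hw : w ≠ 1 := fun h1 => hu1 (conj_eq_one_iff.1 (congrArg Subtype.val h1))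
    have heq : act k (⟨u, d⟩ : BElem G) = bel hM S.hmax.1.1 w := eq_bel hM S.hmax.1.1 hk w rfl
    have htr : ∀ (a' : BElem G), a' = bel hM S.hmax.1.1 w → ∀ (c' : cenZ a'.1), ¬ p ∣ orderOf c' →
        ∀ χ, secPart a'.1 (cenZ a'.1) a'.2 χ c' = L.D χ w * L.σ w (c' : G) := by
      rintro _ rfl c' hc' χ
      exact L.secPart_eq χ hw (x := c') hc'
    have hc' : k * y * k⁻¹ ∈ cenZ (act k (⟨u, d⟩ : BElem G)).1 := by
      rw [cenZ_eq, Subgroup.mem_centralizer_singleton_iff]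
      show k * y * k⁻¹ * (k * u * k⁻¹) = k * u * k⁻¹ * (k * y * k⁻¹)
      simp only [mul_assoc, inv_mul_cancel_left]
      rw [← mul_assoc y, ← mul_assoc u, huy.eq]
    have hcr : ¬ p ∣ orderOf (⟨_, hc'⟩ : cenZ (act k (⟨u, d⟩ : BElem G)).1) := by
      rw [← Subgroup.orderOf_coe]
      show ¬ p ∣ orderOf (MulAut.conj k y)
      rwa [MulEquiv.orderOf_eq]
    have hterm : ∀ χ, secPart u (cenZ u) d χ ⟨y, hyK⟩ = L.D χ w * L.σ w (k * y * k⁻¹) := fun χ =>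
      ((secPart_act hM χ k (a := ⟨u, d⟩) (mem_blockSet.1 hd) ⟨y, hyK⟩ ⟨_, hc'⟩ rfl).symm).trans
        (htr _ heq ⟨_, hc'⟩ hcr χ)
    simp only [hterm, ← mul_assoc, ← Finset.sum_mul, hD w hw, zero_mul]
  · refine Finset.sum_eq_zero fun χ _ => ?_
    by_cases hχ : χ ∈ B
    · rw [secPart_eq_zero_of_not_elem hM hχ S.hmax.1.2.1 (a := ⟨u, d⟩)
        (mem_elems.2 ⟨⟨j, hj⟩, mem_blockSet.1 hd⟩) hel hyr, mul_zero]
    · rw [hv χ hχ, zero_mul]

/-- The difference from the fixed member. -/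
noncomputable def dif (_L : S.Lab) (ψ : IrrCharacter S.K) : S.K → ℂ := fun k =>
  (ψ : S.K → ℂ) k - (_L.ψ₀ : S.K → ℂ) k

theorem dif_supp {ψ : IrrCharacter S.K} (hψ : ψ ∈ S.f) {k : S.K} (hk : L.dif ψ k ≠ 0) :
    ∃ (a : S.K) (w : P), w ≠ 1 ∧ ((a * pPart p k * a⁻¹ : S.K) : G) = w := by
  have h := L.hsup (L.Φ.symm ⟨ψ, hψ⟩) (L.Φ.symm ⟨L.ψ₀, L.hψ₀⟩) k
  simp only [Equiv.apply_symm_apply] at h
  exact h fun he => hk (sub_eq_zero.2 he)

theorem dif_regular {ψ : IrrCharacter S.K} (hψ : ψ ∈ S.f) {k : S.K} (hk : ¬ p ∣ orderOf k) :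
    L.dif ψ k = 0 := by
  have h := L.hreg (L.Φ.symm ⟨ψ, hψ⟩) (L.Φ.symm ⟨L.ψ₀, L.hψ₀⟩) k hk
  simp only [Equiv.apply_symm_apply] at h
  exact sub_eq_zero.2 h

theorem mem_H_of_dif {ψ φ : IrrCharacter S.K} (hψ : ψ ∈ S.f) (hφ : φ ∈ S.f) {k : S.K} {x : G}
    (hk : L.dif ψ k ≠ 0) (hx : ext0 S.K (L.dif φ) (x⁻¹ * (k : G) * x) ≠ 0) : x ∈ S.H := by
  have hp := S.hM.1
  by_cases hmem : x⁻¹ * (k : G) * x ∈ S.K
  swap
  · exact absurd (dif_neg hmem) hx
  rw [ext0_mem _ hmem] at hx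
  obtain ⟨a, w, hw, haw⟩ := L.dif_supp hψ hk
  obtain ⟨b, w', hw', hbw⟩ := L.dif_supp hφ hx
  push_cast at haw hbw
  rw [← coe_pPart hp] at haw hbw
  have hconj : pPart p (x⁻¹ * (k : G) * x) = x⁻¹ * pPart p (k : G) * x := by
    have h := pPart_conj hp (k : G) x⁻¹
    rwa [inv_inv] at h
  rw [hconj] at hbw
  set v := (b : G) * x⁻¹ * (a : G)⁻¹ with hv
  have hvw : v * w * v⁻¹ = w' := by
    rw [← haw, ← hbw, hv]
    group
  have hvH : v ∈ S.H := by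
    by_contra hnv
    have h := (Cfsg.Agent.S4636.result p P S.hmax.1.1.1 S.P_ne_bot S.hcyc _ S.zP
      S.card_zpowers_z).1 v hnv
    have hm : (w' : G) ∈ P ⊓ MulAut.conj v • P :=
      ⟨w'.2, ⟨(w : G), w.2, by simpa [MulAut.smul_def] using hvw⟩⟩
    rw [h, Subgroup.mem_bot] at hm
    exact hw' (Subtype.ext hm)
  have hxe : x = (a : G)⁻¹ * v⁻¹ * b := by rw [hv]; group
  rw [hxe]
  exact mul_mem (mul_mem (inv_mem (S.K_le_H a.2)) (inv_mem hvH)) (S.K_le_H b.2)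

theorem card_St (_L : S.Lab) : Nat.card {y : S.H // (y : G) ∈ S.St} = S.ie * Nat.card S.K := by
  rw [Nat.card_congr (show {y : S.H // (y : G) ∈ S.St} ≃ S.St from
    ⟨fun y => ⟨_, y.2⟩, fun y => ⟨⟨y, S.St_le y.2⟩, y.2⟩, fun y => rfl, fun y => rfl⟩)]
  have hKn : (S.K.subgroupOf S.St).Normal :=
    (Subgroup.normal_subgroupOf_iff_le_normalizer S.K_le_St).2
      fun y hy => S.mem_normalizer_K (S.St_le hy)
  let φ : pairStab P c →* S.St ⧸ S.K.subgroupOf S.St :=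
    (QuotientGroup.mk' _).comp (Subgroup.inclusion fun y hy => S.mem_pairStab_f hy)
  have hsurj : Function.Surjective φ := by
    intro q
    obtain ⟨⟨y, hy⟩, rfl⟩ := QuotientGroup.mk'_surjective _ q
    obtain ⟨t, ht, k, hk, hyk⟩ := exists_factor_abelian S.hM S.hmax S.hab
      (bel_below S.hM S.hmax.1.1 S.z) hy
    refine ⟨⟨t, ht⟩, QuotientGroup.eq.2 (Subgroup.mem_subgroupOf.2 ?_)⟩
    show t⁻¹ * y ∈ S.K
    rw [hyk, inv_mul_cancel_left]
    exact hk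
  have hker : φ.ker = (Subgroup.centralizer (P : Set G)).subgroupOf (pairStab P c) := by
    ext t
    rw [MonoidHom.mem_ker, MonoidHom.comp_apply, QuotientGroup.mk'_apply, QuotientGroup.eq_one_iff,
      Subgroup.mem_subgroupOf, Subgroup.mem_subgroupOf, Subgroup.coe_inclusion]
    refine ⟨fun h => S.hfree _ t.2 _ S.z.2 (fun h1 => S.z_ne_one (Subtype.ext h1)) ?_,
      fun h => S.hCK h⟩
    rw [mul_inv_eq_iff_eq_mul]
    exact (Subgroup.mem_centralizer_iff.1 h _ (Subgroup.mem_zpowers _)).symm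
  rw [← Subgroup.card_mul_index (S.K.subgroupOf S.St),
    Nat.card_congr (Subgroup.subgroupOfEquivOfLe S.K_le_St).toEquiv, mul_comm]
  congr 1
  rw [ie, Subgroup.relIndex, ← hker, Subgroup.index_ker, MonoidHom.range_eq_top.2 hsurj,
    Subgroup.card_top]
  rfl

/-- Conjugacy under the stabilizer of the block of the centralizer. -/
def Rel (_L : S.Lab) (ψ φ : IrrCharacter S.K) : Prop :=
  ∃ y : S.H, (y : G) ∈ S.St ∧ S.tw y φ = ψ

theorem rel_equiv : Equivalence L.Rel where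
  refl ψ := ⟨1, one_mem _, S.tw_one ψ⟩
  symm := fun {ψ φ} ⟨y, hy, h⟩ => ⟨y⁻¹, inv_mem hy, by
    rw [← h, ← tw_mul, mul_inv_cancel, tw_one]⟩
  trans := fun {ψ φ η} ⟨y, hy, h⟩ ⟨y', hy', h'⟩ => ⟨y' * y, mul_mem hy' hy, by
    rw [tw_mul, h', h]⟩

theorem tw_base {y : S.H} (hy : (y : G) ∈ S.St) : S.tw y L.ψ₀ = L.ψ₀ := by
  obtain ⟨t, ht, htw⟩ := S.exists_factor hy
  rw [htw]
  exact L.hfix t ht

theorem tw_eq_base {y : S.H} (hy : (y : G) ∈ S.St) {φ : IrrCharacter S.K}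
    (h : S.tw y φ = L.ψ₀) : φ = L.ψ₀ := by
  have h1 := congrArg (S.tw y⁻¹) h
  rwa [← tw_mul, mul_inv_cancel, tw_one, L.tw_base (y := y⁻¹) (inv_mem hy)] at h1

theorem rel_mem {ψ φ : IrrCharacter S.K} (h : L.Rel ψ φ) (hφ : φ ∈ S.f) : ψ ∈ S.f := by
  obtain ⟨y, hy, rfl⟩ := h
  exact (S.tw_mem_iff hφ).2 hy

theorem rel_ne {ψ φ : IrrCharacter S.K} (h : L.Rel ψ φ) (hφ : φ ≠ L.ψ₀) : ψ ≠ L.ψ₀ := by
  obtain ⟨y, hy, rfl⟩ := h
  exact fun h => hφ (L.tw_eq_base hy h)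

/-- The transporters between two members. -/
theorem card_trans {ψ φ : IrrCharacter S.K} (hψ : ψ ∈ S.f) (hψ0 : ψ ≠ L.ψ₀) :
    Nat.card {y : S.H // (y : G) ∈ S.St ∧ S.tw y φ = ψ}
      = if L.Rel ψ φ then Nat.card S.K else 0 := by
  split_ifs with h
  · obtain ⟨y₀, hy₀, h₀⟩ := h
    refine Nat.card_congr (Equiv.symm (Equiv.ofBijective
      (fun k : S.K => (⟨y₀ * ⟨k, S.K_le_H k.2⟩, mul_mem hy₀ (S.K_le_St k.2), by
        rw [tw_mul, h₀, S.tw_of_mem _ k.2]⟩ :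
          {y : S.H // (y : G) ∈ S.St ∧ S.tw y φ = ψ})) ⟨fun a b hab => ?_, fun y => ?_⟩))
    · exact Subtype.ext (mul_left_cancel
        (congrArg (fun y : {y : S.H // (y : G) ∈ S.St ∧ S.tw y φ = ψ} => ((y : S.H) : G)) hab))
    · obtain ⟨y, hy, hyt⟩ := y
      have hst : ((y₀⁻¹ * y : S.H) : G) ∈ S.St := mul_mem (inv_mem hy₀) hy
      have hfix : S.tw (y₀⁻¹ * y) ψ = ψ := by
        have h1 : S.tw y₀⁻¹ ψ = φ := by rw [← h₀, ← tw_mul, mul_inv_cancel, tw_one]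
        rw [tw_mul, h1, hyt]
      obtain ⟨t, ht, k, hk, hyk⟩ := exists_factor_abelian S.hM S.hmax S.hab
        (bel_below S.hM S.hmax.1.1 S.z) hst
      have htfix : S.tw ⟨t, S.pairStab_le_H ht⟩ ψ = ψ := by
        conv_rhs => rw [← hfix, show y₀⁻¹ * y = (⟨t, S.pairStab_le_H ht⟩ : S.H) * ⟨k, S.K_le_H hk⟩
          from Subtype.ext hyk, tw_mul, S.tw_of_mem ⟨k, _⟩ hk]
      have hmemK : ((y₀⁻¹ * y : S.H) : G) ∈ S.K := by
        rw [hyk]
        exact mul_mem (S.hCK (L.hfree ψ hψ hψ0 _ ht htfix)) hk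
      exact ⟨⟨_, hmemK⟩, Subtype.ext (by
        show y₀ * ⟨((y₀⁻¹ * y : S.H) : G), _⟩ = y
        exact mul_inv_cancel_left y₀ y)⟩
  · exact Nat.card_eq_zero.2 (Or.inl ⟨fun y => h ⟨y.1, y.2.1, y.2.2⟩⟩)

theorem classInner_dif {ψ : IrrCharacter S.K} (hψ0 : ψ ≠ L.ψ₀)
    {φ : IrrCharacter S.K} (hφ : φ ∈ S.f) (hφ0 : φ ≠ L.ψ₀) (hψ : ψ ∈ S.f) (y : S.H) :
    classInner (L.dif ψ) (fun k : S.K => ext0 S.K (L.dif φ) ((y : G) * k * (y : G)⁻¹))
      = if (y : G) ∈ S.St then (if S.tw y φ = ψ then 1 else 0) + 1 else 0 := by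
  have he : (fun k : S.K => ext0 S.K (L.dif φ) ((y : G) * k * (y : G)⁻¹))
      = (S.tw y φ : S.K → ℂ) - (S.tw y L.ψ₀ : S.K → ℂ) := funext fun k => by
    rw [Pi.sub_apply, S.tw_apply, S.tw_apply]
    by_cases hk : (y : G) * k * (y : G)⁻¹ ∈ S.K
    · rw [ext0_mem _ hk, ext0_mem _ hk, ext0_mem _ hk]; rfl
    · simp [ext0, hk]
  rw [he, show L.dif ψ = (ψ : S.K → ℂ) - (L.ψ₀ : S.K → ℂ) from rfl, Char.classInner_sub_left,
    Char.classInner_sub_right, Char.classInner_sub_right]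
  simp only [Char.classInner_irrCharacter]
  by_cases hy : (y : G) ∈ S.St
  · rw [if_pos hy, L.tw_base hy, if_neg hψ0, if_pos rfl,
      if_neg (show ¬ L.ψ₀ = S.tw y φ from fun h => hφ0 (L.tw_eq_base hy h.symm))]
    by_cases h : S.tw y φ = ψ
    · rw [if_pos h, if_pos h.symm]; ring
    · rw [if_neg h, if_neg fun h' : ψ = S.tw y φ => h h'.symm]; ring
  · have h1 : ∀ η ∈ S.f, ∀ η' ∈ S.f, η ≠ S.tw y η' := fun η hη η' hη' h =>
      hy ((S.tw_mem_iff hη').1 (h ▸ hη))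
    rw [if_neg hy, if_neg (h1 _ hψ _ hφ), if_neg (h1 _ hψ _ L.hψ₀), if_neg (h1 _ L.hψ₀ _ hφ),
      if_neg (h1 _ L.hψ₀ _ L.hψ₀)]
    ring

/-- The inner products of the induced differences. -/
theorem classInner_ind {ψ φ : IrrCharacter S.K} (hψ : ψ ∈ S.f) (hψ0 : ψ ≠ L.ψ₀) (hφ : φ ∈ S.f)
    (hφ0 : φ ≠ L.ψ₀) :
    classInner (Cfsg.indFun S.K (L.dif ψ)) (Cfsg.indFun S.K (L.dif φ))
      = (S.ie : ℂ) + if L.Rel ψ φ then 1 else 0 := by
  rw [Char.classInner_indFun _ _ (Char.indFun_isClassFunction _ _)]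
  have hval : ∀ k : S.K, L.dif ψ k * conj (Cfsg.indFun S.K (L.dif φ) (k : G))
      = (Nat.card S.K : ℂ)⁻¹ * ∑ y : S.H,
          L.dif ψ k * conj (ext0 S.K (L.dif φ) ((y : G) * k * (y : G)⁻¹)) := fun k => by
    by_cases hk : L.dif ψ k = 0
    · simp [hk]
    rw [Char.indFun_def, map_mul, map_inv₀, map_natCast, map_sum, mul_left_comm, Finset.mul_sum]
    congr 1
    rw [← Finset.sum_subset (Finset.subset_univ (Finset.univ.filter fun x : G => x ∈ S.H))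
      fun x _ hx => by
        rw [extendByZero_eq]
        rw [show ext0 S.K (L.dif φ) (x⁻¹ * (k : G) * x) = 0 from by_contra fun h => hx
          (Finset.mem_filter.2 ⟨Finset.mem_univ _, L.mem_H_of_dif hψ hφ hk h⟩), map_zero, mul_zero]]
    rw [Finset.sum_subtype (p := fun x : G => x ∈ S.H) _ (by simp)
      fun x => L.dif ψ k * conj (Cfsg.extendByZero S.K (L.dif φ) (x⁻¹ * (k : G) * x))]
    refine Fintype.sum_equiv (Equiv.inv S.H) _ _ fun y => ?_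
    simp only [Equiv.inv_apply, Subgroup.coe_inv, inv_inv, extendByZero_eq]
  rw [Cfsg.classInner, Finset.sum_congr rfl fun k _ => hval k, ← Finset.mul_sum, Finset.sum_comm,
    Finset.mul_sum, Finset.mul_sum]
  have hsum : ∀ y : S.H, (Nat.card S.K : ℂ)⁻¹ * ((Nat.card S.K : ℂ)⁻¹ *
      ∑ k : S.K, L.dif ψ k * conj (ext0 S.K (L.dif φ) ((y : G) * k * (y : G)⁻¹)))
        = (Nat.card S.K : ℂ)⁻¹ *
          if (y : G) ∈ S.St then (if S.tw y φ = ψ then 1 else 0) + 1 else 0 := fun y => by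
    rw [← L.classInner_dif hψ0 hφ hφ0 hψ y, Cfsg.classInner]
  simp only [hsum, ← Finset.mul_sum]
  rw [← Finset.sum_filter, Finset.sum_add_distrib, Finset.sum_boole, Finset.sum_const,
    Finset.filter_filter, nsmul_eq_mul, mul_one,
    ← Fintype.card_subtype, ← Fintype.card_subtype, Fintype.card_eq_nat_card,
    Fintype.card_eq_nat_card, L.card_trans hψ hψ0, L.card_St]
  have hK : (Nat.card S.K : ℂ) ≠ 0 := Char.card_ne_zero
  split_ifs <;> (push_cast; field_simp; ring)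

end Lab

end Setup

end CfsgLib.Blocks.CyclicDecomp
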