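import Cfsg.Agent.Lib.Blocks.CyclicStable

/-!
# Eigenvalues of the twisted operator on the kernel modulo the top image

In a simple module the kernel of `X` on `bV` modulo the image of the top power sees a single
eigenvalue, a module with a given eigenvalue has a simple subquotient with it, and every root of
unity of the order of the stabilizer occurs.  So there are at most as many roots as simple modules
in the block.
-/

set_option autoImplicit false
set_option linter.unusedSectionVars false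
set_option maxHeartbeats 1000000
set_option synthInstance.maxHeartbeats 200000

namespace CfsgLib.Blocks.CyclicStable

open Cfsg CfsgLib.Blocks CfsgLib.Blocks.ResidueAlgebra CfsgLib.Blocks.TwoCharacters
open scoped Classical

universe u v

variable {G : Type u} [Group G] [Fintype G] {p : ℕ} {M : Ideal AlgInt}

theorem sum_out_mul {K : Subgroup G} (S : Subgroup K) {β : Type*} [AddCommMonoid β] (F : K → β) :
    ∑ r : K ⧸ S, ∑ u : S, F (r.out * u) = ∑ g : K, F g := by
  rw [← Fintype.sum_prod_type' (fun (r : K ⧸ S) (u : S) => F (r.out * u))]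
  refine Fintype.sum_bijective (fun x : (K ⧸ S) × S => x.1.out * x.2) ⟨fun x y h => ?_, fun g => ?_⟩ _ _
    fun _ => rfl
  · have h1 : x.1 = y.1 := by
      have := congrArg (fun g : K => (g : K ⧸ S)) h
      simpa [QuotientGroup.mk_mul_of_mem] using this
    obtain ⟨x1, x2⟩ := x
    obtain ⟨y1, y2⟩ := y
    subst h1
    simpa using h
  · refine ⟨⟨(g : K ⧸ S), ⟨(g : K ⧸ S).out⁻¹ * g, QuotientGroup.eq.1 (QuotientGroup.out_eq' _)⟩⟩, ?_⟩
    simp

/-- The properties of the twisted operator. -/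
structure IsTw {hM : IsPModular p M} {K H P : Subgroup G} (D : Loc hM K H P) (τ : RA hM G) : Prop where
  pow : ∀ i : ℕ, ∃ S, Supp hM K S ∧ τ ^ i = g1 hM (D.t⁻¹ ^ i) * S
  bτ : D.b * τ = τ
  comm : ∀ w, Supp hM K w → D.Cong (τ * w) (w * τ)
  tn : D.Cong (τ ^ D.n) D.b
  Xτ : ∃ r, D.X * τ = r * D.X
  τX : ∀ i : ℕ, ∃ r, τ * D.X ^ i = D.X ^ i * r

variable {hM : IsPModular p M} {K H P : Subgroup G} {D : Loc hM K H P} {τ : RA hM G}
  {V : Type v} [AddCommGroup V] [Module (RA hM G) V] [Module (Residue hM) V]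
  [IsScalarTower (Residue hM) (RA hM G) V]

/-- The action of an element as a linear map. -/
noncomputable def op (V : Type v) [AddCommGroup V] [Module (RA hM G) V] [Module (Residue hM) V]
    [IsScalarTower (Residue hM) (RA hM G) V] (x : RA hM G) : V →ₗ[Residue hM] V :=
  haveI : SMulCommClass (Residue hM) (RA hM G) V := IsScalarTower.to_smulCommClass
  { toFun := fun v => x • v
    map_add' := smul_add x
    map_smul' := fun c v => (smul_comm c x v).symm }

@[simp] theorem op_apply (x : RA hM G) (v : V) : op V x v = x • v := rfl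

/-- Conjugation of an operator by a group element. -/
noncomputable def cjL (g : G) (γ : V →ₗ[Residue hM] V) : V →ₗ[Residue hM] V :=
  op V (g1 hM g) ∘ₗ γ ∘ₗ op V (g1 hM g⁻¹)

theorem cjL_apply (g : G) (γ : V →ₗ[Residue hM] V) (v : V) :
    cjL g γ v = g1 hM g • γ (g1 hM g⁻¹ • v) := rfl

theorem cjL_mul (g h : G) (γ : V →ₗ[Residue hM] V) : cjL (g * h) γ = cjL g (cjL h γ) :=
  LinearMap.ext fun v => by
    rw [cjL_apply, cjL_apply, cjL_apply, mul_inv_rev, ← g1_mul, ← g1_mul, mul_smul, mul_smul]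

theorem cjL_eq_of_commute {g : G} {γ : V →ₗ[Residue hM] V}
    (h : ∀ v, γ (g1 hM g • v) = g1 hM g • γ v) : cjL g γ = γ :=
  LinearMap.ext fun v => by
    rw [cjL_apply, ← h, ← mul_smul, g1_mul, mul_inv_cancel, g1_one, one_smul]

theorem smul_sum_g1 (x : RA hM G) (v : V) : x • v = ∑ g, x.coeff g • (g1 hM g • v) := by
  conv_lhs => rw [← sum_g1 x]
  rw [Finset.sum_smul]
  exact Finset.sum_congr rfl fun g _ => smul_assoc _ _ _

theorem map_smul_supp {f : V →ₗ[Residue hM] V} (hf : ∀ g ∈ K, ∀ v, f (g1 hM g • v) = g1 hM g • f v)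
    {w : RA hM G} (hw : Supp hM K w) (v : V) : f (w • v) = w • f v := by
  rw [smul_sum_g1, smul_sum_g1, map_sum]
  refine Finset.sum_congr rfl fun g _ => ?_
  by_cases hg : g ∈ K
  · rw [map_smul, hf g hg]
  · rw [hw g hg, zero_smul, zero_smul, map_zero]

theorem cong_smul {x y : RA hM G} (h : D.Cong x y) {v : V} (hv : D.X • v = 0) : x • v = y • v := by
  obtain ⟨r, hr⟩ := h
  rw [← sub_eq_zero, ← sub_smul, hr, mul_smul, hv, smul_zero]

variable (D) in
/-- The kernel of `X` on `bV`. -/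
def InKer (v : V) : Prop := D.b • v = v ∧ D.X • v = 0

variable (D V) in
/-- The image of the top power of `X`. -/
noncomputable def imS : Submodule (Residue hM) V := LinearMap.range (op V (D.X ^ (D.q - 1)))

theorem mem_imS {v : V} : v ∈ imS D V ↔ ∃ y, D.X ^ (D.q - 1) • y = v := Iff.rfl

theorem Xpow_mem_imS (y : V) : D.X ^ (D.q - 1) • y ∈ imS D V := ⟨y, rfl⟩

theorem smul_mem_imS {w : RA hM G} (hw : Supp hM K w) {v : V} (h : v ∈ imS D V) : w • v ∈ imS D V := by
  obtain ⟨y, rfl⟩ := h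
  exact ⟨w • y, by rw [op_apply, op_apply, ← mul_smul, ← mul_smul, (D.Xpow_c hw _).eq]⟩

theorem b_smul_imS {v : V} (h : v ∈ imS D V) : D.b • v = v := by
  obtain ⟨y, rfl⟩ := h
  rw [op_apply, ← mul_smul, D.bXpow]

/-- A trace from the trivial subgroup lands in the image. -/
theorem sum_K_mem [FiniteDimensional (Residue hM) V] (γ : V →ₗ[Residue hM] V) {v : V}
    (hv : D.X • v = 0) : ∑ g : K, D.b • g1 hM (g : G) • γ (g1 hM (g : G)⁻¹ • v) ∈ imS D V := by
  let bs := Module.finBasis (Residue hM) V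
  let φ : Fin (Module.finrank (Residue hM) V) → V →ₗ[Residue hM] Residue hM := fun i => bs.coord i ∘ₗ γ
  have hγ : ∀ u, γ u = ∑ i, φ i u • bs i := fun u => (bs.sum_repr (γ u)).symm
  have key : ∀ i, ∃ w, D.b * ∑ g : K, φ i (g1 hM (g : G)⁻¹ • v) • g1 hM (g : G) = D.X ^ (D.q - 1) * w := by
    intro i
    set R := ∑ g : K, φ i (g1 hM (g : G)⁻¹ • v) • g1 hM (g : G) with hR
    have hRK : Supp hM K R := Supp.sum fun g _ => (supp_g1 g.2).smul _
    have hXR : D.X * R = 0 := by
      refine MonoidAlgebra.coeff_injective (Finsupp.ext fun x => ?_)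
      rw [MonoidAlgebra.coeff_zero, Finsupp.zero_apply]
      by_cases hx : x ∈ K
      · have h1 : φ i (g1 hM x⁻¹ • D.X • v) = 0 := by rw [hv, smul_zero, map_zero]
        rw [← h1, hR, Finset.mul_sum, MonoidAlgebra.coeff_sum, Finsupp.finsetSum_apply,
          smul_sum_g1 D.X v, Finset.smul_sum, map_sum]
        have h2 : ∀ y : G, φ i (g1 hM x⁻¹ • D.X.coeff y • g1 hM y • v)
            = D.X.coeff y * φ i (g1 hM (x⁻¹ * y) • v) := fun y => by
          rw [← op_apply (g1 hM x⁻¹), map_smul, op_apply, map_smul, smul_eq_mul, ← mul_smul, g1_mul]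
        rw [Finset.sum_congr rfl fun y _ => h2 y,
          ← Finset.sum_subset (Finset.filter_subset (· ∈ K) Finset.univ) (fun y _ hy => by
            rw [D.XK y (fun h => hy (Finset.mem_filter.2 ⟨Finset.mem_univ _, h⟩)), zero_mul])]
        refine Finset.sum_bij (fun g _ => x * (g : G)⁻¹) (fun g _ => ?_) (fun a _ a' _ h => ?_)
          (fun y hy => ?_) (fun g _ => ?_)
        · exact Finset.mem_filter.2 ⟨Finset.mem_univ _, K.mul_mem hx (K.inv_mem g.2)⟩
        · exact Subtype.ext (inv_injective (mul_left_cancel h))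
        · exact ⟨⟨y⁻¹ * x, K.mul_mem (K.inv_mem (Finset.mem_filter.1 hy).2) hx⟩, Finset.mem_univ _,
            by simp⟩
        · rw [mul_smul_comm, MonoidAlgebra.coeff_smul, Finsupp.smul_apply, g1,
            MonoidAlgebra.coeff_mul_single_apply, mul_one, smul_eq_mul, inv_mul_cancel_left, mul_comm]
      · exact (D.XK.mul hRK) x hx
    obtain ⟨w, -, hw⟩ := D.kerX (D.b * R) (D.bK.mul hRK) (by rw [← mul_assoc, D.bb])
      (by rw [← mul_assoc, D.Xb, hXR])
    exact ⟨w, hw⟩
  choose w hw using key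
  refine ⟨∑ i, w i • bs i, ?_⟩
  rw [op_apply, Finset.smul_sum]
  simp only [hγ, Finset.smul_sum]
  rw [Finset.sum_comm (s := (Finset.univ : Finset K))]
  refine Finset.sum_congr rfl fun i _ => ?_
  rw [← mul_smul, ← hw i, mul_smul, Finset.sum_smul, Finset.smul_sum]
  refine Finset.sum_congr rfl fun g _ => ?_
  haveI : SMulCommClass (Residue hM) (RA hM G) V := IsScalarTower.to_smulCommClass
  rw [smul_assoc]
  exact congrArg _ (smul_comm _ _ _).symm

/-- A sum over a free orbit space lands in the image. -/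
theorem sum_free_mem [FiniteDimensional (Residue hM) V] {Y : Type*} [Fintype Y] [MulAction P Y]
    (hfree : ∀ (u : P) (y : Y), u • y = y → u = 1) (Γ : Y → V →ₗ[Residue hM] V)
    (hΓ : ∀ (u : P) (y : Y), Γ (u • y) = cjL (u : G) (Γ y))
    (hW : ∀ g ∈ K, ∀ v, ∑ y, Γ y (g1 hM g • v) = g1 hM g • ∑ y, Γ y v) {v : V} (hv : InKer D v) :
    D.b • ∑ y, Γ y v ∈ imS D V := by
  let O := Quotient (MulAction.orbitRel P Y)
  let W0 : V →ₗ[Residue hM] V := ∑ o : O, Γ o.out
  have hbij : Function.Bijective fun x : O × P => x.2 • x.1.out := by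
    constructor
    · rintro ⟨o, u⟩ ⟨o', u'⟩ h
      simp only at h
      have ho : o = o' := by
        rw [← Quotient.out_eq o, ← Quotient.out_eq o']
        exact Quotient.sound ⟨u⁻¹ * u', by
          show (u⁻¹ * u') • o'.out = o.out
          rw [mul_smul, ← h, inv_smul_smul]⟩
      subst ho
      have := hfree (u'⁻¹ * u) o.out (by rw [mul_smul, h, inv_smul_smul])
      rw [inv_mul_eq_one] at this
      rw [this]
    · intro y
      obtain ⟨u, hu⟩ : ∃ u : P, u • (Quotient.mk (MulAction.orbitRel P Y) y).out = y := by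
        obtain ⟨u, hu⟩ := Quotient.mk_out (s := MulAction.orbitRel P Y) y
        exact ⟨u⁻¹, inv_smul_eq_iff.2 hu.symm⟩
      exact ⟨⟨Quotient.mk _ y, u⟩, hu⟩
  have hsum : ∀ w, ∑ y, Γ y w = ∑ u : P, cjL (u : G) W0 w := fun w => by
    rw [← Fintype.sum_bijective _ hbij (fun x => Γ (x.2 • x.1.out) w) _ (fun _ => rfl),
      Fintype.sum_prod_type, Finset.sum_comm]
    refine Finset.sum_congr rfl fun u _ => ?_
    rw [cjL_apply, show W0 (g1 hM (u : G)⁻¹ • w) = ∑ o : O, Γ o.out (g1 hM (u : G)⁻¹ • w) from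
      LinearMap.sum_apply _ _ _, Finset.smul_sum]
    exact Finset.sum_congr rfl fun o _ => by rw [hΓ, cjL_apply]
  let P' := P.subgroupOf K
  let eP : P' ≃* P := Subgroup.subgroupOfEquivOfLe D.hPK
  have h1 : D.b • ∑ y, Γ y v
      = ∑ g : K, D.b • g1 hM (g : G) • (op V D.a ∘ₗ W0) (g1 hM (g : G)⁻¹ • v) := by
    have h3 : D.b • ∑ y, Γ y v = D.b • D.b • ∑ y, Γ y v := by rw [← mul_smul, D.bb]
    rw [h3, ← sum_out_mul P' fun g : K =>
      D.b • g1 hM (g : G) • (op V D.a ∘ₗ W0) (g1 hM (g : G)⁻¹ • v)]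
    simp only [← Finset.smul_sum]
    congr 1
    conv_lhs => rw [← D.htr, Finset.sum_smul]
    refine Finset.sum_congr rfl fun r _ => ?_
    rw [mul_smul, ← hW _ (K.inv_mem r.out.2), hsum, Finset.smul_sum]
    refine Fintype.sum_equiv eP.toEquiv.symm _ _ fun u => ?_
    have hu : ((eP.symm u : P') : K).1 = (u : G) := rfl
    rw [LinearMap.comp_apply, op_apply, cjL_apply, mul_smul, ← mul_smul D.a,
      ← (D.ha _ u.2).eq, mul_smul]
    show _ = g1 hM ((r.out * (eP.symm u : P') : K) : G) •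
      D.a • W0 (g1 hM ((r.out * (eP.symm u : P') : K) : G)⁻¹ • v)
    rw [Subgroup.coe_mul, hu, mul_inv_rev, ← g1_mul, ← g1_mul, mul_smul, mul_smul]
  rw [h1]
  exact sum_K_mem _ hv.2

/-! ### The block idempotent -/

theorem zfix_ker {w : V} (hw : InKer D w) {h : G} (hh : h ∈ Subgroup.zpowers D.z) :
    g1 hM h • w = w := by
  let S : Subgroup G :=
    { carrier := {h | g1 hM h • w = w}
      one_mem' := by simp [g1_one]
      mul_mem' := fun {a b} ha hb => by
        show g1 hM (a * b) • w = w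
        rw [← g1_mul, mul_smul, hb, ha]
      inv_mem' := fun {a} ha => by
        show g1 hM a⁻¹ • w = w
        conv_lhs => rw [← ha]
        rw [← mul_smul, g1_mul, inv_mul_cancel, g1_one, one_smul] }
  refine (Subgroup.zpowers_le.2 (?_ : D.z ∈ S)) hh
  obtain ⟨w', hw', h1⟩ := D.zX
  show g1 hM D.z • w = w
  rw [← sub_eq_zero]
  conv_lhs => arg 2; rw [← one_smul (RA hM G) w]
  rw [← sub_smul]
  conv_lhs => rw [← hw.1]
  rw [← mul_smul, h1, (D.Xc w' hw').eq, mul_smul, hw.2, smul_zero]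

theorem smul_b_g1_ker {g : G} (hg : g ∈ H) {v : V} (hv : InKer D v) :
    D.b • g1 hM g • v = 0 ∨ InKer D (g1 hM g • v) := by
  by_cases hb : D.b * g1 hM g * D.b = 0
  · left
    rw [← hv.1, ← mul_smul, ← mul_smul, hb, zero_smul]
  · right
    obtain ⟨i, -, hik⟩ := D.cosets g hg hb
    have hgb : Commute (g1 hM g) D.b := by
      rw [show g = D.t ^ i * ((D.t ^ i)⁻¹ * g) by group, ← g1_mul]
      exact (D.tpow_b i).mul_left (D.bc _ (supp_g1 hik)).symm
    refine ⟨by rw [← mul_smul, ← hgb.eq, mul_smul, hv.1], ?_⟩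
    obtain ⟨r, hr, h⟩ := D.mul_X_swap (g := g⁻¹) (H.inv_mem hg) (D.commute_b_inv hgb)
    have h2 : D.X * g1 hM g = g1 hM g * (r * D.X) := by
      rw [← (D.Xc r hr).eq, ← mul_one (D.X * r), ← g1_one hM, ← inv_mul_cancel g, ← g1_mul,
        ← mul_assoc (D.X * r), ← h, ← mul_assoc, ← mul_assoc, g1_mul, mul_inv_cancel, g1_one, one_mul]
    rw [← mul_smul, h2, mul_smul, mul_smul, hv.2, smul_zero, smul_zero]

theorem e_smul_sub_mem [Fact p.Prime] [FiniteDimensional (Residue hM) V] {v : V} (hv : InKer D v) :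
    D.b • D.e • v - v ∈ imS D V := by
  haveI := charP_residue hM
  haveI : SMulCommClass (Residue hM) (RA hM G) V := IsScalarTower.to_smulCommClass
  let F : G → V := fun g => D.e.coeff g • (g1 hM g • v)
  have hout : D.b • ∑ g ∈ Finset.univ.filter (· ∉ H), F g ∈ imS D V := by
    letI : MulAction P {g : G // g ∉ H} :=
      { smul := fun u g => ⟨u * g * (u : G)⁻¹, fun h => g.2 (by
          have hu := D.hKH (D.hPK u.2)
          simpa [mul_assoc] using H.mul_mem (H.mul_mem (H.inv_mem hu) h) hu)⟩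
        one_smul := fun g => Subtype.ext (show ((1 : P) : G) * g * ((1 : P) : G)⁻¹ = g by simp)
        mul_smul := fun a b g => Subtype.ext (show ((a * b : P) : G) * g * ((a * b : P) : G)⁻¹
          = a * (b * g * (b : G)⁻¹) * (a : G)⁻¹ by simp [mul_assoc]) }
    have hF : ∀ w : V, ∑ g ∈ Finset.univ.filter (· ∉ H), D.e.coeff g • (g1 hM g • w)
        = ∑ y : {g : G // g ∉ H}, (D.e.coeff y • op V (g1 hM (y : G))) w := fun w => by
      rw [← Finset.sum_subtype (p := fun g => g ∉ H) (Finset.univ.filter (· ∉ H)) (by simp) fun g => (D.e.coeff g • op V (g1 hM g)) w]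
      rfl
    rw [hF v]
    refine sum_free_mem (Y := {g : G // g ∉ H}) (fun u y h => Subtype.ext (D.free y y.2 u u.2 ?_)) _ (fun u y => ?_) ?_ hv
    · have h' : (u : G) * y * (u : G)⁻¹ = y := congrArg Subtype.val h
      have : (y : G)⁻¹ * u * y = u := by
        rw [mul_assoc, inv_mul_eq_iff_eq_mul]
        exact mul_inv_eq_iff_eq_mul.1 h'
      rw [this]; exact u.2
    · refine LinearMap.ext fun w => ?_
      show D.e.coeff ((u : G) * (y : G) * (u : G)⁻¹) • g1 hM ((u : G) * (y : G) * (u : G)⁻¹) • w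
        = g1 hM (u : G) • D.e.coeff (y : G) • g1 hM (y : G) • g1 hM (u : G)⁻¹ • w
      rw [D.eclass, smul_comm (g1 hM (u : G)), ← g1_mul, ← g1_mul, mul_smul, mul_smul]
    · intro k hk w
      rw [← hF, ← hF, Finset.smul_sum]
      refine Finset.sum_bij (fun g _ => k⁻¹ * g * k⁻¹⁻¹) (fun g hg => ?_) (fun a _ b _ h => ?_)
        (fun g hg => ⟨k * g * k⁻¹, ?_, by group⟩) (fun g _ => ?_)
      · have hk' := D.hKH hk
        refine Finset.mem_filter.2 ⟨Finset.mem_univ _, fun h => (Finset.mem_filter.1 hg).2 ?_⟩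
        simpa [mul_assoc] using H.mul_mem (H.mul_mem hk' h) (H.inv_mem hk')
      · simpa using h
      · have hk' := D.hKH hk
        refine Finset.mem_filter.2 ⟨Finset.mem_univ _, fun h => (Finset.mem_filter.1 hg).2 ?_⟩
        simpa [mul_assoc] using H.mul_mem (H.mul_mem (H.inv_mem hk') h) hk'
      · rw [D.eclass, smul_comm (g1 hM k), ← mul_smul, ← mul_smul, g1_mul, g1_mul]
        congr 3
        group
  have hmid : D.b • ∑ g ∈ Finset.univ.filter (fun g => g ∈ H ∧ g ∉ K), F g = 0 := by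
    rw [Finset.smul_sum]
    refine (Module.forall_dual_apply_eq_zero_iff (Residue hM) _).1 fun f => ?_
    rw [map_sum, Finset.sum_subtype (p := fun g => g ∈ H ∧ g ∉ K) _ (by simp)]
    have hzH : ∀ h ∈ Subgroup.zpowers D.z, h ∈ K := fun h hh => Subgroup.zpowers_le.2 D.zK hh
    letI : MulAction (Subgroup.zpowers D.z) {g : G // g ∈ H ∧ g ∉ K} :=
      { smul := fun u g => ⟨u * g * (u : G)⁻¹, by
          have hu := hzH u u.2
          refine ⟨H.mul_mem (H.mul_mem (D.hKH hu) g.2.1) (H.inv_mem (D.hKH hu)), fun h => g.2.2 ?_⟩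
          simpa [mul_assoc] using K.mul_mem (K.mul_mem (K.inv_mem hu) h) hu⟩
        one_smul := fun g => Subtype.ext
          (show ((1 : Subgroup.zpowers D.z) : G) * g * ((1 : Subgroup.zpowers D.z) : G)⁻¹ = g by simp)
        mul_smul := fun a b g => Subtype.ext
          (show ((a * b : Subgroup.zpowers D.z) : G) * g * ((a * b : Subgroup.zpowers D.z) : G)⁻¹
            = a * (b * g * (b : G)⁻¹) * (a : G)⁻¹ by simp [mul_assoc]) }
    refine MinimalDimension.sum_eq_zero_of_no_fixed D.zP _ (fun u g => congrArg f ?_) fun g => ?_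
    · show D.b • D.e.coeff ((u : G) * (g : G) * (u : G)⁻¹) • g1 hM ((u : G) * (g : G) * (u : G)⁻¹) • v
        = D.b • D.e.coeff (g : G) • g1 hM (g : G) • v
      rw [D.eclass]
      refine (smul_comm D.b (D.e.coeff (g : G)) _).trans
        (Eq.trans ?_ (smul_comm D.b (D.e.coeff (g : G)) _).symm)
      congr 1
      have hu' : (u : G)⁻¹ ∈ Subgroup.zpowers D.z := inv_mem u.2
      rw [← g1_mul, ← g1_mul, mul_smul, mul_smul, zfix_ker hv hu', ← mul_smul,
        (D.bc _ (supp_g1 (hzH _ u.2))).eq, mul_smul]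
      rcases smul_b_g1_ker g.2.1 hv with h | h
      · rw [h, smul_zero]
      · rw [h.1, zfix_ker h u.2]
    · refine ⟨⟨D.z, Subgroup.mem_zpowers _⟩, fun h => g.2.2 (D.zfix g g.2.1 ?_)⟩
      exact mul_inv_eq_iff_eq_mul.1 (congrArg Subtype.val h)
  have hK : D.b • ∑ g ∈ Finset.univ.filter (· ∈ K), F g = v := by
    have : (∑ g : G, if g ∈ K then MonoidAlgebra.single g (D.e.coeff g) else 0) • v
        = ∑ g ∈ Finset.univ.filter (· ∈ K), F g := by
      rw [← Finset.sum_filter, Finset.sum_smul]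
      refine Finset.sum_congr rfl fun g _ => ?_
      show _ = D.e.coeff g • (g1 hM g • v)
      rw [← smul_assoc]
      congr 1
      simp [g1]
    rw [← this, ← mul_smul, D.eb, hv.1]
  have hsplit : ∑ g, F g = ∑ g ∈ Finset.univ.filter (· ∉ H), F g
      + ∑ g ∈ Finset.univ.filter (fun g => g ∈ H ∧ g ∉ K), F g
      + ∑ g ∈ Finset.univ.filter (· ∈ K), F g := by
    rw [Finset.sum_filter, Finset.sum_filter, Finset.sum_filter, ← Finset.sum_add_distrib,
      ← Finset.sum_add_distrib]
    refine Finset.sum_congr rfl fun g _ => ?_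
    by_cases h1 : g ∈ K
    · simp [h1, D.hKH h1]
    · by_cases h2 : g ∈ H <;> simp [h1, h2]
  rw [smul_sum_g1 D.e v, hsplit, smul_add, smul_add, hmid, add_zero, hK, add_sub_cancel_right]
  exact hout

end CfsgLib.Blocks.CyclicStable
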