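import Cfsg.Agent.Lib.Blocks.Local

/-!
# Brauer's first main theorem; blocks and Galois-independent descriptions
-/

set_option autoImplicit false

namespace CfsgLib.Blocks

open Cfsg
open scoped Classical ComplexConjugate

variable {G : Type*} [Group G] [Fintype G] {p : ℕ} {M : Ideal AlgInt} {B : Set (IrrCharacter G)}
  {D : Subgroup G}

local notation "N(" D ")" => Subgroup.normalizer (SetLike.coe D)

/-- If `D` is a Sylow subgroup of the centralizer of `c` in its normalizer, it is one in `G`. -/
theorem centExp_eq_of_normalizer (hp : p.Prime) (hD : IsPGroup p D) {c : N(D)}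
    (hc : (c : G) ∈ Subgroup.centralizer (D : Set G))
    (hcard : p ^ centExp p c = Nat.card D) : centExp p (c : G) = centExp p c ∧
      ∀ S : Sylow p (Subgroup.centralizer ({(c : G)} : Set G)),
        Nat.card S = Nat.card D := by
  haveI := Fact.mk hp
  set C := Subgroup.centralizer ({(c : G)} : Set G)
  have hDC : D ≤ C := fun u hu =>
    Subgroup.mem_centralizer_singleton_iff.2 (Subgroup.mem_centralizer_iff.1 hc u hu)
  obtain ⟨S, hS⟩ := (hD.comap_subtype (K := C)).exists_le_sylow
  set T := (S : Subgroup C).map C.subtype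
  have hDT : D ≤ T := fun u hu => ⟨⟨u, hDC hu⟩, hS hu, rfl⟩
  have hTcard : Nat.card T = p ^ centExp p (c : G) := by
    rw [Subgroup.card_map_of_injective C.subtype_injective, S.card_eq_multiplicity]; rfl
  have hT : IsPGroup p T := IsPGroup.map S.isPGroup' _
  have hTD : T = D := by
    by_contra hne
    have hlt : D.subgroupOf T < ⊤ := lt_top_iff_ne_top.2 fun h =>
      hne (le_antisymm (Subgroup.subgroupOf_eq_top.1 h) hDT)
    haveI : Group.IsNilpotent T := hT.isNilpotent
    obtain ⟨u, hu, huD⟩ := SetLike.exists_of_lt (Group.normalizerCondition_of_isNilpotent _ hlt)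
    have huN : (u : G) ∈ N(D) := by
      rw [Subgroup.mem_normalizer_iff]
      intro w
      constructor
      · intro hw
        have := (Subgroup.mem_normalizer_iff.1 hu ⟨w, hDT hw⟩).1 hw
        simpa [Subgroup.mem_subgroupOf] using this
      · intro hw
        have hwT : w ∈ T := by
          have := T.mul_mem (T.mul_mem (inv_mem u.2) (hDT hw)) u.2
          simpa [mul_assoc] using this
        have := (Subgroup.mem_normalizer_iff.1 hu ⟨w, hwT⟩).2
        simp [Subgroup.mem_subgroupOf] at this
        exact this hw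
    -- a larger `p`-subgroup of the centralizer in the normalizer
    set E : Subgroup G := T ⊓ N(D)
    have hEC : E.subgroupOf N(D) ≤ Subgroup.centralizer ({c} : Set N(D)) := by
      intro w hw
      obtain ⟨⟨v, hv⟩, -, he⟩ := (Subgroup.mem_subgroupOf.1 hw).1
      refine Subgroup.mem_centralizer_singleton_iff.2 (Subtype.ext ?_)
      simp only [Subgroup.coe_mul]
      rw [← he]
      exact Subgroup.mem_centralizer_singleton_iff.1 hv
    have hEp : IsPGroup p E := hT.to_le inf_le_left
    obtain ⟨e, he⟩ := IsPGroup.iff_card.1 hEp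
    have hdvd : p ^ e ∣ Nat.card (Subgroup.centralizer ({c} : Set N(D))) := by
      rw [← he, ← Nat.card_congr (Subgroup.subgroupOfEquivOfLe (inf_le_right : E ≤ N(D))).toEquiv]
      exact Subgroup.card_dvd_of_le hEC
    have hle : e ≤ centExp p c := (hp.pow_dvd_iff_le_factorization Nat.card_pos.ne').1 hdvd
    have hcardlt : Nat.card D < Nat.card E := by
      refine lt_of_le_of_ne (Subgroup.card_le_of_le (le_inf hDT Subgroup.le_normalizer)) fun h => huD ?_
      have := Subgroup.eq_of_le_of_card_ge (le_inf hDT Subgroup.le_normalizer) h.ge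
      rw [Subgroup.mem_subgroupOf, this]
      exact ⟨u.2, huN⟩
    rw [he, ← hcard] at hcardlt
    exact absurd (Nat.pow_le_pow_right hp.pos hle) (not_le.2 hcardlt)
  rw [hTD] at hTcard
  refine ⟨Nat.pow_right_injective hp.two_le (hTcard.symm.trans hcard.symm), fun S' => ?_⟩
  rw [hTcard, S'.card_eq_multiplicity]
  rfl

/-- Fusion in `N(D)` of the conjugates of `c` centralizing `D`. -/
theorem trunc_classInd_eq (hp : p.Prime) {c : N(D)}
    (hc : (c : G) ∈ Subgroup.centralizer (D : Set G))
    (hS : ∀ S : Sylow p (Subgroup.centralizer ({(c : G)} : Set G)), Nat.card S = Nat.card D)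
    (hD : IsPGroup p D) :
    brTrunc D N(D) (classInd (c : G)) = classInd c := by
  haveI := Fact.mk hp
  funext k
  by_cases hk : IsConj c k
  · obtain ⟨w, rfl⟩ := isConj_iff.1 hk
    have hmem : ((w * c * w⁻¹ : N(D)) : G) ∈ Subgroup.centralizer (D : Set G) :=
      mem_centralizer_conj w.2 hc
    rw [brTrunc, if_pos hmem, classInd, classInd, if_pos hk,
      if_pos (isConj_iff.2 ⟨(w : G), rfl⟩ : IsConj (c : G) ((w * c * w⁻¹ : N(D)) : G))]
  · rw [classInd, if_neg hk]
    unfold brTrunc
    split
    · rename_i hkC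
      rw [classInd, if_neg]
      intro hconj
      obtain ⟨g, hg⟩ := isConj_iff.1 hconj
      set C := Subgroup.centralizer ({(c : G)} : Set G)
      have hDC : D ≤ C := fun u hu =>
        Subgroup.mem_centralizer_singleton_iff.2 (Subgroup.mem_centralizer_iff.1 hc u hu)
      set D' := D.map (MulAut.conj g⁻¹).toMonoidHom
      have hD'C : D' ≤ C := by
        rintro _ ⟨u, hu, rfl⟩
        have h1 := Subgroup.mem_centralizer_iff.1 hkC u hu
        rw [← hg] at h1
        have h2 := congrArg (fun z => g⁻¹ * z * g) h1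
        refine Subgroup.mem_centralizer_singleton_iff.2 ?_
        simpa [mul_assoc] using h2
      have hD'p : IsPGroup p D' := IsPGroup.map hD _
      obtain ⟨S, hSle⟩ := (hD.comap_subtype (K := C)).exists_le_sylow
      obtain ⟨S', hS'le⟩ := (hD'p.comap_subtype (K := C)).exists_le_sylow
      have hcardD' : Nat.card D' = Nat.card D :=
        Subgroup.card_map_of_injective (MulAut.conj g⁻¹).injective
      have e1 : D.subgroupOf C = S := Subgroup.eq_of_le_of_card_ge hSle (by
        rw [Nat.card_congr (Subgroup.subgroupOfEquivOfLe hDC).toEquiv]; exact (hS S).le)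
      have e2 : D'.subgroupOf C = S' := Subgroup.eq_of_le_of_card_ge hS'le (by
        rw [Nat.card_congr (Subgroup.subgroupOfEquivOfLe hD'C).toEquiv, hcardD']; exact (hS S').le)
      obtain ⟨z, hz⟩ := MulAction.exists_smul_eq C S S'
      have hmap : D.map (MulAut.conj (g * (z : G))).toMonoidHom = D := by
        refine Subgroup.eq_of_le_of_card_ge ?_
          (Subgroup.card_map_of_injective (MulAut.conj (g * (z : G))).injective).ge
        rintro _ ⟨u, hu, rfl⟩
        have h1 : (MulAut.conj z ⟨u, hDC hu⟩ : C) ∈ (S' : Subgroup C) := by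
          rw [← hz, Sylow.coe_subgroup_smul]
          refine ⟨⟨u, hDC hu⟩, ?_, rfl⟩
          show (⟨u, hDC hu⟩ : C) ∈ (S : Subgroup C)
          rw [← e1]; exact hu
        rw [← e2] at h1
        obtain ⟨v, hv, hve⟩ := h1
        have h2 : g⁻¹ * v * g = (z : G) * u * (z : G)⁻¹ := by simpa using hve
        show g * (z : G) * u * (g * (z : G))⁻¹ ∈ D
        rw [show g * (z : G) * u * (g * (z : G))⁻¹ = g * ((z : G) * u * (z : G)⁻¹) * g⁻¹ by
          simp [mul_assoc], ← h2]
        simpa [mul_assoc] using hv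
      have hn : g * (z : G) ∈ N(D) := by
        refine Subgroup.mem_normalizer_iff.2 fun u => ⟨fun hu => ?_, fun hu => ?_⟩
        · have h1 : MulAut.conj (g * (z : G)) u ∈ D := by
            rw [← hmap]; exact ⟨u, hu, rfl⟩
          exact h1
        · have h1 : g * (z : G) * u * (g * (z : G))⁻¹ ∈
              D.map (MulAut.conj (g * (z : G))).toMonoidHom := by rw [hmap]; exact hu
          obtain ⟨v, hv, hve⟩ := h1
          have : v = u := (MulAut.conj (g * (z : G))).injective hve
          exact this ▸ hv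
      exact hk (isConj_iff.2 ⟨⟨_, hn⟩, Subtype.ext (by
        have hzc : (z : G) * c = c * z := Subgroup.mem_centralizer_singleton_iff.1 z.2
        show g * z * c * (g * z)⁻¹ = k
        rw [mul_assoc g, hzc, ← mul_assoc, mul_inv_rev, mul_assoc (g * (c : G)), mul_inv_cancel_left,
          hg])⟩)
    · rfl

theorem isPGroup_subgroupOf_normalizer (hD : IsPGroup p D) : IsPGroup p (D.subgroupOf N(D)) :=
  hD.of_injective (Subgroup.subgroupOfEquivOfLe (Subgroup.le_normalizer (H := D))).toMonoidHom
    (Subgroup.subgroupOfEquivOfLe (Subgroup.le_normalizer (H := D))).injective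

/-- For a block of `N(D)` with defect `|D|` inducing `B`, the central character at the classes of
defect `D` is that of `B`. -/
theorem centralChar_congr_of_defect (hM : IsPModular p M) (hD : IsPGroup p D)
    {b : Set (IrrCharacter N(D))} (hind : IsInducedBlock M N(D) b B) {ξ : IrrCharacter N(D)}
    (hξ : ξ ∈ b) {χ : IrrCharacter G} (hχ : χ ∈ B) {c : N(D)}
    (hc : (c : G) ∈ Subgroup.centralizer (D : Set G))
    (hcard : p ^ centExp p c = Nat.card D) :
    MemLocalIdeal M (centralChar (ξ : N(D) → ℂ) c - centralChar (χ : G → ℂ) (c : G)) := by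
  obtain ⟨-, hS⟩ := centExp_eq_of_normalizer hM.1 hD hc hcard
  have h := omega_brTrunc_congr hM hD Subgroup.le_normalizer le_rfl ξ
    (classInd_isClassFunction (c : G)) (classInd_LR hM _)
  rw [← inducedCentralChar_eq, trunc_classInd_eq hM.1 hc hS hD, omega_classInd] at h
  exact LI.trans hM (LI.sub_comm h) (hind.2.2 ξ hξ χ hχ c)

/-- The first main theorem: blocks of `N(D)` with defect group `D` induce blocks with defect
group `D`. -/
theorem isDefectGroup_of_induced_normalizer (hM : IsPModular p M) (hD : IsPGroup p D)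
    {b : Set (IrrCharacter N(D))} (hbD : IsDefectGroup p M b (D.subgroupOf N(D)))
    (hind : IsInducedBlock M N(D) b B) : IsDefectGroup p M B D := by
  haveI := Fact.mk hM.1
  obtain ⟨E, hE, hle⟩ := exists_defectGroup_ge_of_induced hM hind hbD
  rw [Subgroup.map_subgroupOf_eq_of_le Subgroup.le_normalizer] at hle
  obtain ⟨c, hc, hcl⟩ := exists_unit_coeff_centralizer hM hbD
  have hc' : (c : G) ∈ Subgroup.centralizer (D : Set G) :=
    (mem_centralizer_subgroupOf Subgroup.le_normalizer c).1 hc
  have hcard : p ^ centExp p c = Nat.card D := by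
    rw [centExp_eq_of_isDefectClass hM hind.1 hcl, ← card_defectGroup hM hind.1 hbD,
      Nat.card_congr (Subgroup.subgroupOfEquivOfLe Subgroup.le_normalizer).toEquiv]
  obtain ⟨heq, -⟩ := centExp_eq_of_normalizer hM.1 hD hc' hcard
  obtain ⟨ξ, hξ⟩ := IsPBlock.nonempty hM hind.1
  obtain ⟨χ, hχ⟩ := IsPBlock.nonempty hM hind.2.1
  have hunit : ¬ MemLocalIdeal M (centralChar (χ : G → ℂ) (c : G)) := fun hI => hcl.2.2 ξ hξ (by
    have := LI.add hM (centralChar_congr_of_defect hM hD hind hξ hχ hc' hcard) hI
    rwa [sub_add_cancel] at this)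
  have h1 := blockDefect_le_centExp hM hind.2.1 hχ hunit
  rw [heq] at h1
  have hED : D = E := Subgroup.eq_of_le_of_card_ge hle (by
    rw [card_defectGroup hM hind.2.1 hE, ← hcard]
    exact Nat.pow_le_pow_right hM.1.pos h1)
  rwa [hED]

/-- The Brauer correspondent exists and is unique. -/
theorem existsUnique_correspondent (hM : IsPModular p M) (hB : IsPBlock M B)
    (hD : IsDefectGroup p M B D) :
    ∃! b : Set (IrrCharacter N(D)), IsPBlock M b ∧ IsDefectGroup p M b (D.subgroupOf N(D)) ∧
      IsInducedBlock M N(D) b B := by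
  haveI := Fact.mk hM.1
  have hDp := isPGroup_defectGroup hD
  haveI : (D.subgroupOf N(D)).Normal :=
    normal_subgroupOf_of_le_normalizer Subgroup.le_normalizer le_rfl
  have hcardN : Nat.card (D.subgroupOf N(D)) = p ^ blockDefect p B := by
    rw [Nat.card_congr (Subgroup.subgroupOfEquivOfLe Subgroup.le_normalizer).toEquiv,
      card_defectGroup hM hB hD]
  obtain ⟨c, hc, hcl⟩ := exists_unit_coeff_centralizer hM hD
  obtain ⟨b, hind⟩ := exists_inducing_block_local hM hB hDp Subgroup.le_normalizer
    (centralizer_le_normalizer D) le_rfl hc hcl.2.1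
  obtain ⟨E, hE⟩ := exists_isDefectGroup hM hind.1
  have hle := le_defectGroup_of_normal hM hind.1 (isPGroup_subgroupOf_normalizer hDp) hE
  have hbD : IsDefectGroup p M b (D.subgroupOf N(D)) := by
    rwa [Subgroup.eq_of_le_of_card_ge hle (by
      rw [card_defectGroup hM hind.1 hE, hcardN]
      exact Nat.pow_le_pow_right hM.1.pos (blockDefect_le_of_induced hM hind))]
  refine ⟨b, ⟨hind.1, hbD, hind⟩, fun b' ⟨hb', hbD', hind'⟩ => ?_⟩
  obtain ⟨ξ, hξ⟩ := IsPBlock.nonempty hM hind.1
  obtain ⟨ξ', hξ'⟩ := IsPBlock.nonempty hM hb'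
  obtain ⟨χ, hχ⟩ := IsPBlock.nonempty hM hB
  have hd : ∀ {e : Set (IrrCharacter N(D))}, IsPBlock M e →
      IsDefectGroup p M e (D.subgroupOf N(D)) → blockDefect p e = blockDefect p B := fun he heD =>
    Nat.pow_right_injective hM.1.two_le ((card_defectGroup hM he heD).symm.trans hcardN)
  refine IsPBlock.eq_of_mem hM hb' hind.1 hξ' ((IsPBlock.mem_iff hM hind.1 hξ).2 ?_)
  refine (sameBlock_iff_defect hM (d := blockDefect p B) ?_ ?_).2 fun x _ hxd => ?_
  · rw [← IsPBlock.eq_blockOf hM hind.1 hξ]; exact hd hind.1 hbD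
  · rw [← IsPBlock.eq_blockOf hM hb' hξ']; exact hd hb' hbD'
  by_cases hx : x ∈ Subgroup.centralizer (D.subgroupOf N(D) : Set N(D))
  · have hx' := (mem_centralizer_subgroupOf Subgroup.le_normalizer x).1 hx
    have hcard : p ^ centExp p x = Nat.card D := by rw [hxd, card_defectGroup hM hB hD]
    exact LI.trans hM (centralChar_congr_of_defect hM hDp hind hξ hχ hx' hcard)
      (LI.sub_comm (centralChar_congr_of_defect hM hDp hind' hξ' hχ hx' hcard))
  · exact LI.sub hM (centralChar_LI_of_notMem hM (isPGroup_subgroupOf_normalizer hDp) ξ hx)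
      (centralChar_LI_of_notMem hM (isPGroup_subgroupOf_normalizer hDp) ξ' hx)

omit [Fintype G] in
/-- Blocks do not depend on the choice of the modular maximal ideal. -/
theorem sameBlock_of_sameBlock [Finite G] (hM : IsPModular p M) {M' : Ideal AlgInt}
    (hM' : IsPModular p M') {χ ψ : IrrCharacter G} (h : SameBlock M (χ : G → ℂ) (ψ : G → ℂ)) :
    SameBlock M' (χ : G → ℂ) (ψ : G → ℂ) := by
  classical
  letI : Fintype G := Fintype.ofFinite G
  have hB : IsPBlock M (blockOf M (χ : G → ℂ)) := isPBlock_blockOf χ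
  obtain ⟨φ, hφ, hmin⟩ := exists_degVal_eq_min (p := p) (IsPBlock.nonempty hM hB)
  have key : ∀ θ ∈ blockOf M (χ : G → ℂ), θ ∈ blockOf M' (φ : G → ℂ) := fun θ hθ => by
    by_contra hne
    refine regInt_ne_zero_of_min hM hB hφ hmin hθ (Int.cast_injective (α := ℂ) ?_)
    rw [cast_regInt hM.1, IsPBlock.regInner_eq_zero hM' (isPBlock_blockOf φ)
      (SameBlock_refl hM' _) hne, Int.cast_zero]
  exact IsPBlock.sameBlock hM' (isPBlock_blockOf φ) (key χ (SameBlock_refl hM _))
    (key ψ (mem_blockOf.2 h))

end CfsgLib.Blocks
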