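import Cfsg.Agent.Lib.Blocks.CentralDefect
import Cfsg.Agent.Lib.Char.Quotient
import Cfsg.Agent.Lib.CharDeep.Brauer
import Cfsg.Agent.Lib.CharDeep.PartHom
import Cfsg.Agent.Lib.CharDeep.GenChar

/-!
# Normal `p`-subgroups whose centralizer has `p`-power index; blocks with defect group `P` of
`P C_G(P)`
-/

set_option autoImplicit false

namespace CfsgLib.Blocks

open Cfsg
open scoped Classical ComplexConjugate

variable {G : Type*} [Group G] [Fintype G] {p : ℕ} {M : Ideal AlgInt}

/-- Blocks are determined by central characters at `p`-regular elements. -/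
theorem sameBlock_of_regular (hM : IsPModular p M) {χ ψ : IrrCharacter G}
    (h : ∀ s : G, ¬ p ∣ orderOf s →
      MemLocalIdeal M (centralChar (χ : G → ℂ) s - centralChar (ψ : G → ℂ) s)) :
    SameBlock M (χ : G → ℂ) (ψ : G → ℂ) := by
  set B := blockOf M (χ : G → ℂ)
  have hB : IsPBlock M B := isPBlock_blockOf χ
  by_contra hne
  have key : MemLocalIdeal M (blockInd B χ - blockInd B ψ) := by
    rw [← sum_blockCoeff_centralChar B χ, ← sum_blockCoeff_centralChar B ψ,
      ← Finset.sum_sub_distrib]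
    refine LI.sum hM fun C _ => ?_
    rw [← mul_sub]
    by_cases hC : p ∣ orderOf C.out
    · rw [IsPBlock.blockCoeff_eq_zero hM hB hC, zero_mul]
      exact LI.zero hM
    · exact LI.mul_left hM (blockCoeff_LR hM hB _) (h _ hC)
  rw [blockInd_of_mem (show χ ∈ B from SameBlock_refl hM _),
    blockInd_of_notMem (show ψ ∉ B from fun h' => hne (mem_blockOf.1 h')), sub_zero] at key
  exact LI.not_one hM key

/-- The `p`-part of an element. -/
noncomputable def pPart (p : ℕ) (g : G) : G :=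
  if h : ∃ x, IsPPart p g x then h.choose else 1

theorem pPart_spec (hp : p.Prime) (g : G) : IsPPart p g (pPart p g) := by
  obtain ⟨x, y, hx, -⟩ := exists_isPPart hp g
  rw [pPart, dif_pos ⟨x, hx⟩]
  exact (⟨x, hx⟩ : ∃ x, IsPPart p g x).choose_spec

theorem pPart_eq (hp : p.Prime) {g x : G} (h : IsPPart p g x) : pPart p g = x :=
  isPPart_unique hp (pPart_spec hp g) h

theorem isPPart_one_of_regular {s : G} (hs : ¬ p ∣ orderOf s) : IsPPart p s 1 :=
  ⟨s, one_mul s, Commute.one_left s, ⟨0, by simp⟩, hs⟩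

variable {P : Subgroup G} [P.Normal]

theorem regular_mem_centralizer (hp : p.Prime)
    (hC : ∃ k : ℕ, (Subgroup.centralizer (P : Set G)).index = p ^ k) {s : G}
    (hs : ¬ p ∣ orderOf s) : s ∈ Subgroup.centralizer (P : Set G) := by
  obtain ⟨k, hk⟩ := hC
  set C := Subgroup.centralizer (P : Set G)
  have h1 : orderOf (QuotientGroup.mk' C s) ∣ p ^ k := by
    rw [← hk, Subgroup.index_eq_card]; exact orderOf_dvd_natCard _
  obtain ⟨j, -, hj⟩ := (Nat.dvd_prime_pow hp).1 h1
  rcases Nat.eq_zero_or_pos j with h0 | h0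
  · rw [h0, pow_zero, orderOf_eq_one_iff] at hj
    exact (QuotientGroup.eq_one_iff s).1 hj
  · exact absurd ((dvd_pow_self p h0.ne').trans (hj ▸ orderOf_map_dvd (QuotientGroup.mk' C) s)) hs

/-- A `p`-regular coset of `P` holds exactly one `p`-regular element. -/
theorem exists_regular_lift (hp : p.Prime) {q : G ⧸ P} (hq : ¬ p ∣ orderOf q) :
    ∃ s : G, ¬ p ∣ orderOf s ∧ QuotientGroup.mk' P s = q := by
  obtain ⟨g, rfl⟩ := QuotientGroup.mk'_surjective P q
  obtain ⟨x, y, -, hxy, hc, hy, ⟨k, hk⟩, -⟩ := exists_isPPart hp g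
  refine ⟨y, hy, ?_⟩
  have h1 : IsPPart p (QuotientGroup.mk' P g) (QuotientGroup.mk' P x) :=
    ⟨QuotientGroup.mk' P y, by rw [← map_mul, hxy], hc.map _, by
      obtain ⟨j, -, hj⟩ := (Nat.dvd_prime_pow hp).1 (hk ▸ orderOf_map_dvd (QuotientGroup.mk' P) x)
      exact ⟨j, hj⟩, fun h => hy (h.trans (orderOf_map_dvd _ y))⟩
  have h2 := isPPart_unique hp h1 (isPPart_one_of_regular hq)
  rw [← hxy, map_mul, h2, one_mul]

theorem eq_of_regular_of_mk_eq (hp : p.Prime) (hP : IsPGroup p P)
    (hC : ∃ k : ℕ, (Subgroup.centralizer (P : Set G)).index = p ^ k) {s t : G}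
    (hs : ¬ p ∣ orderOf s) (ht : ¬ p ∣ orderOf t)
    (h : QuotientGroup.mk' P s = QuotientGroup.mk' P t) : s = t := by
  haveI := Fact.mk hp
  have hu : t * s⁻¹ ∈ P :=
    (QuotientGroup.eq_one_iff (N := P) _).1 (show QuotientGroup.mk' P (t * s⁻¹) = 1 by
      rw [map_mul, map_inv, h, mul_inv_cancel])
  obtain ⟨k, hk⟩ := IsPGroup.iff_orderOf.1 hP ⟨_, hu⟩
  rw [Subgroup.orderOf_mk] at hk
  have h1 := isPPart_mul (Subgroup.mem_centralizer_iff.1 (regular_mem_centralizer hp hC hs) _ hu) hk hs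
  rw [inv_mul_cancel_right] at h1
  have h2 := isPPart_unique hp h1 (isPPart_one_of_regular ht)
  exact (mul_inv_eq_one.1 h2).symm

theorem regular_mk {s : G} (hs : ¬ p ∣ orderOf s) : ¬ p ∣ orderOf (QuotientGroup.mk' P s) :=
  fun h => hs (h.trans (orderOf_map_dvd _ s))

/-- The inflation of an irreducible character of `G ⧸ P`. -/
noncomputable def inflate (P : Subgroup G) [P.Normal] (ψ : IrrCharacter (G ⧸ P)) : IrrCharacter G :=
  ⟨(ψ : G ⧸ P → ℂ) ∘ QuotientGroup.mk' P,
    CfsgLib.Char.IsIrrCharacter.comp_surjective ψ.2 _ (QuotientGroup.mk'_surjective P)⟩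

theorem inflate_apply (ψ : IrrCharacter (G ⧸ P)) (g : G) :
    (inflate P ψ : G → ℂ) g = (ψ : G ⧸ P → ℂ) (QuotientGroup.mk' P g) := rfl

theorem inflate_ker (ψ : IrrCharacter (G ⧸ P)) {u : G} (hu : u ∈ P) :
    (inflate P ψ : G → ℂ) u = (inflate P ψ : G → ℂ) 1 := by
  rw [inflate_apply, inflate_apply, map_one,
    show QuotientGroup.mk' P u = 1 from (QuotientGroup.eq_one_iff u).2 hu]

theorem centralChar_inflate (hp : p.Prime) (hP : IsPGroup p P)
    (hC : ∃ k : ℕ, (Subgroup.centralizer (P : Set G)).index = p ^ k) (ψ : IrrCharacter (G ⧸ P))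
    {s : G} (hs : ¬ p ∣ orderOf s) :
    centralChar (inflate P ψ : G → ℂ) s
      = centralChar (ψ : G ⧸ P → ℂ) (QuotientGroup.mk' P s) := by
  letI : Fintype (G ⧸ P) := Fintype.ofFinite _
  have hconj : ∀ {a b : G}, IsConj a b → ¬ p ∣ orderOf a → ¬ p ∣ orderOf b := fun {a b} h ha => by
    obtain ⟨w, rfl⟩ := isConj_iff.1 h
    rwa [show orderOf (w * a * w⁻¹) = orderOf a from (MulAut.conj w).orderOf_eq a]
  rw [← omega_classInd, ← omega_classInd, omega, omega, inflate_apply, map_one]
  congr 1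
  simp only [classInd, ite_mul, one_mul, zero_mul]
  rw [← Finset.sum_filter, ← Finset.sum_filter]
  refine Finset.sum_nbij (QuotientGroup.mk' P) (fun x hx => ?_) (fun x hx y hy he => ?_)
    (fun q hq => ?_) (fun x _ => rfl)
  · simp only [Finset.mem_filter, Finset.mem_univ, true_and] at hx ⊢
    exact MonoidHom.map_isConj (QuotientGroup.mk' P) hx
  · simp only [Finset.coe_filter, Finset.mem_univ, true_and, Set.mem_setOf_eq] at hx hy
    exact eq_of_regular_of_mk_eq hp hP hC (hconj hx hs) (hconj hy hs) he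
  · simp only [Finset.coe_filter, Finset.mem_univ, true_and, Set.mem_setOf_eq, Set.mem_image] at hq ⊢
    obtain ⟨w, rfl⟩ := isConj_iff.1 hq
    obtain ⟨w, rfl⟩ := QuotientGroup.mk'_surjective P w
    exact ⟨w * s * w⁻¹, isConj_iff.2 ⟨w, rfl⟩, by simp⟩

theorem sameBlock_inflate_iff (hM : IsPModular p M) (hP : IsPGroup p P)
    (hC : ∃ k : ℕ, (Subgroup.centralizer (P : Set G)).index = p ^ k)
    (χ ψ : IrrCharacter (G ⧸ P)) :
    SameBlock M (χ : G ⧸ P → ℂ) (ψ : G ⧸ P → ℂ)
      ↔ SameBlock M (inflate P χ : G → ℂ) (inflate P ψ : G → ℂ) := by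
  letI : Fintype (G ⧸ P) := Fintype.ofFinite _
  constructor
  · exact fun h => sameBlock_of_regular hM fun s hs => by
      rw [centralChar_inflate hM.1 hP hC χ hs, centralChar_inflate hM.1 hP hC ψ hs]; exact h _
  · exact fun h => sameBlock_of_regular hM fun q hq => by
      obtain ⟨s, hs, rfl⟩ := exists_regular_lift hM.1 hq
      rw [← centralChar_inflate hM.1 hP hC χ hs, ← centralChar_inflate hM.1 hP hC ψ hs]; exact h _

/-- Every block holds a character of `G ⧸ P`. -/
theorem exists_inflate_mem (hM : IsPModular p M) (hP : IsPGroup p P)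
    (hC : ∃ k : ℕ, (Subgroup.centralizer (P : Set G)).index = p ^ k)
    {B : Set (IrrCharacter G)} (hB : IsPBlock M B) :
    ∃ ψ : IrrCharacter (G ⧸ P), inflate P ψ ∈ B := by
  letI : Fintype (G ⧸ P) := Fintype.ofFinite _
  haveI := Fact.mk hM.1
  obtain ⟨χ, hχ⟩ := IsPBlock.nonempty hM hB
  by_contra hcon
  push Not at hcon
  set R : Finset G := Finset.univ.filter fun s => IsPRegular p s
  set f : G ⧸ P → ℂ := fun q => ∑ s ∈ R with QuotientGroup.mk' P s = q, (χ : G → ℂ) s
  have hf : IsClassFunction (G ⧸ P) f := by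
    intro q w
    obtain ⟨w, rfl⟩ := QuotientGroup.mk'_surjective P w
    simp only [f]
    refine (Finset.sum_equiv (MulAut.conj w).toEquiv (fun s => ?_) fun s _ => ?_).symm
    · simp only [R, Finset.mem_filter, Finset.mem_univ, true_and, MulEquiv.toEquiv_eq_coe,
        EquivLike.coe_coe, MulAut.conj_apply, map_mul, map_inv]
      simp only [IsPRegular]
      rw [show orderOf (w * s * w⁻¹) = orderOf s from (MulAut.conj w).orderOf_eq s]
      exact and_congr_right fun _ => ⟨fun h => by rw [h], fun h => by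
        simpa [mul_assoc] using congrArg
          (fun z => (QuotientGroup.mk' P w)⁻¹ * z * QuotientGroup.mk' P w) h⟩
    · exact (CfsgLib.Char.IsIrrCharacter.isClassFunction χ.2 s w).symm
  have horth : ∀ ψ : IrrCharacter (G ⧸ P), classInner f (ψ : G ⧸ P → ℂ) = 0 := by
    intro ψ
    have h := IsPBlock.regInner_eq_zero hM hB hχ (hcon ψ)
    rw [regInner, mul_eq_zero] at h
    replace h := h.resolve_left (mul_ne_zero (pPartCard_ne_zero hM.1)
      (inv_ne_zero CfsgLib.Char.card_ne_zero))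
    rw [Cfsg.classInner]
    refine mul_eq_zero_of_right _ (Eq.trans ?_ h)
    simp only [f, Finset.sum_mul]
    rw [← Finset.sum_fiberwise R (QuotientGroup.mk' P)]
    refine Finset.sum_congr rfl fun q _ => Finset.sum_congr rfl fun s hs => ?_
    rw [conj_irr, inflate_apply, map_inv, (Finset.mem_filter.1 hs).2]
  have h1 : f 1 = 0 := by
    rw [CfsgLib.Char.IsClassFunction.eq_sum_irr hf]
    simp [horth]
  refine irr_one_ne_zero χ (Eq.trans ?_ h1)
  have h1R : (1 : G) ∈ R := by
    simp only [R, Finset.mem_filter, Finset.mem_univ, true_and]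
    simp [IsPRegular, hM.1.ne_one]
  have hmemR : ∀ s ∈ R, ¬ p ∣ orderOf s := fun s hs => by
    simp only [R, Finset.mem_filter, Finset.mem_univ, true_and] at hs
    exact hs
  have hset : (R.filter fun s => QuotientGroup.mk' P s = 1) = {1} := by
    refine Finset.eq_singleton_iff_unique_mem.2
      ⟨Finset.mem_filter.2 ⟨h1R, map_one _⟩, fun s hs => ?_⟩
    obtain ⟨hs1, hs2⟩ := Finset.mem_filter.1 hs
    exact eq_of_regular_of_mk_eq hM.1 hP hC (hmemR s hs1) (hmemR 1 h1R)
      (hs2.trans (map_one _).symm)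
  simp only [f]
  rw [hset, Finset.sum_singleton]

/-! ### The characters of a block with defect group `P` when `G = P C_G(P)` -/

/-- `g ↦ ζ (g_p) θ g` on the elements with `p`-part in `P`. -/
noncomputable def prodChar (p : ℕ) (P : Subgroup G) (ζ : P → ℂ) (θ : G → ℂ) : G → ℂ := fun g =>
  if h : pPart p g ∈ P then ζ ⟨pPart p g, h⟩ * θ g else 0

theorem prodChar_isClassFunction (hp : p.Prime) (hG : P ⊔ Subgroup.centralizer (P : Set G) = ⊤)
    {ζ : P → ℂ} (hζ : IsClassFunction P ζ) {θ : G → ℂ} (hθ : IsClassFunction G θ) :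
    IsClassFunction G (prodChar p P ζ θ) := by
  intro g w
  have hpp : pPart p (w * g * w⁻¹) = w * pPart p g * w⁻¹ :=
    pPart_eq hp (isPPart_conj (pPart_spec hp g) w)
  unfold prodChar
  by_cases h : pPart p g ∈ P
  · have h' : pPart p (w * g * w⁻¹) ∈ P := hpp ▸ Subgroup.Normal.conj_mem inferInstance _ h w
    rw [dif_pos h, dif_pos h', hθ g w]
    congr 1
    obtain ⟨v, hv, c, hc, rfl⟩ := Subgroup.mem_sup_of_normal_left.1 (hG ▸ Subgroup.mem_top w)
    rw [show (⟨pPart p (v * c * g * (v * c)⁻¹), h'⟩ : P)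
        = ⟨v, hv⟩ * ⟨pPart p g, h⟩ * ⟨v, hv⟩⁻¹ from Subtype.ext (by
      show pPart p (v * c * g * (v * c)⁻¹) = v * pPart p g * v⁻¹
      rw [hpp, mul_inv_rev, mul_assoc v c, ← Subgroup.mem_centralizer_iff.1 hc _ h]
      simp [mul_assoc])]
    exact hζ _ _
  · rw [dif_neg h, dif_neg]
    rw [hpp]
    exact fun h' => h (by simpa [mul_assoc] using Subgroup.Normal.conj_mem inferInstance _ h' w⁻¹)

variable {ψ : IrrCharacter (G ⧸ P)}

theorem inflate_eq_zero (hM : IsPModular p M)
    (hψ : degVal p ψ = P.index.factorization p) {g : G} (hg : pPart p g ∉ P) :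
    (inflate P ψ : G → ℂ) g = 0 := by
  letI : Fintype (G ⧸ P) := Fintype.ofFinite _
  haveI := Fact.mk hM.1
  rw [inflate_apply]
  obtain ⟨y, he, hc, ⟨k, hk⟩, hy⟩ := pPart_spec hM.1 g
  refine (defectGroup_and_vanish_of_central hM (D := (⊥ : Subgroup (G ⧸ P)))
    IsPGroup.of_bot bot_le ψ (by rw [hψ, Subgroup.index_bot, Subgroup.index_eq_card])).2 _
    (QuotientGroup.mk' P (pPart p g)) ?_ fun h => hg ((QuotientGroup.eq_one_iff _).1 h)
  obtain ⟨j, -, hj⟩ := (Nat.dvd_prime_pow hM.1).1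
    (hk ▸ orderOf_map_dvd (QuotientGroup.mk' P) (pPart p g))
  exact ⟨QuotientGroup.mk' P y, by rw [← map_mul, he], hc.map _, ⟨j, hj⟩,
    fun h => hy (h.trans (orderOf_map_dvd _ y))⟩

theorem inflate_mul_left (ψ : IrrCharacter (G ⧸ P)) {u : G} (hu : u ∈ P) (s : G) :
    (inflate P ψ : G → ℂ) (u * s) = (inflate P ψ : G → ℂ) s := by
  rw [inflate_apply, inflate_apply, map_mul,
    show QuotientGroup.mk' P u = 1 from (QuotientGroup.eq_one_iff u).2 hu, one_mul]

theorem prodChar_mul (hp : p.Prime) (hP : IsPGroup p P) {ζ : P → ℂ} (u : P) {s : G}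
    (hs : ¬ p ∣ orderOf s) (hc : Commute (u : G) s) :
    prodChar p P ζ (inflate P ψ : G → ℂ) ((u : G) * s) = ζ u * (inflate P ψ : G → ℂ) s := by
  haveI := Fact.mk hp
  obtain ⟨k, hk⟩ := IsPGroup.iff_orderOf.1 hP u
  rw [← Subgroup.orderOf_coe] at hk
  have h := pPart_eq hp (isPPart_mul hc hk hs)
  rw [prodChar, dif_pos (h.symm ▸ u.2), inflate_mul_left ψ u.2]
  exact congrArg (fun z => ζ z * _) (Subtype.ext h)

/-- Sums over the elements with `p`-part in `P`. -/
theorem sum_eq_sum_prod (hp : p.Prime) (hP : IsPGroup p P)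
    (hC : ∃ k : ℕ, (Subgroup.centralizer (P : Set G)).index = p ^ k) (F : G → ℂ)
    (hF : ∀ g, pPart p g ∉ P → F g = 0) :
    ∑ g : G, F g = ∑ u : P, ∑ s ∈ Finset.univ.filter (fun s : G => IsPRegular p s), F ((u : G) * s) := by
  haveI := Fact.mk hp
  rw [← Finset.sum_product', ← Finset.sum_filter_add_sum_filter_not Finset.univ
    (fun g => pPart p g ∈ P), Finset.sum_eq_zero (s := Finset.univ.filter fun g => ¬ pPart p g ∈ P)
    (fun g hg => hF g (Finset.mem_filter.1 hg).2), add_zero]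
  have hpart : ∀ (u : P) (s : G), ¬ p ∣ orderOf s → pPart p ((u : G) * s) = u := fun u s hs => by
    obtain ⟨k, hk⟩ := IsPGroup.iff_orderOf.1 hP u
    rw [← Subgroup.orderOf_coe] at hk
    exact pPart_eq hp (isPPart_mul
      (Subgroup.mem_centralizer_iff.1 (regular_mem_centralizer hp hC hs) _ u.2) hk hs)
  refine (Finset.sum_nbij (fun i : P × G => (i.1 : G) * i.2) (fun i hi => ?_) (fun i hi j hj he => ?_)
    (fun g hg => ?_) fun i _ => rfl).symm
  · simp only [Finset.mem_product, Finset.mem_filter, Finset.mem_univ, true_and] at hi ⊢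
    rw [hpart _ _ hi]; exact i.1.2
  · simp only [Finset.coe_product, Set.mem_prod, Finset.coe_filter, Finset.mem_univ, true_and,
      Set.mem_setOf_eq] at hi hj
    change (i.1 : G) * i.2 = (j.1 : G) * j.2 at he
    have h1 := congrArg (pPart p) he
    rw [hpart _ _ hi.2, hpart _ _ hj.2] at h1
    rw [h1] at he
    exact Prod.ext (Subtype.ext h1) (mul_left_cancel he)
  · simp only [Finset.coe_filter, Finset.mem_univ, true_and, Set.mem_setOf_eq] at hg
    obtain ⟨y, he, -, -, hy⟩ := pPart_spec hp g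
    exact ⟨(⟨_, hg⟩, y), Finset.mem_coe.2 (Finset.mem_product.2 ⟨Finset.mem_univ _,
      Finset.mem_filter.2 ⟨Finset.mem_univ _, hy⟩⟩), he⟩

theorem classInner_prodChar (hM : IsPModular p M) (hP : IsPGroup p P)
    (hC : ∃ k : ℕ, (Subgroup.centralizer (P : Set G)).index = p ^ k)
    (hψ : degVal p ψ = P.index.factorization p) (ζ ζ' : IrrCharacter P) :
    classInner (prodChar p P (ζ : P → ℂ) (inflate P ψ : G → ℂ))
        (prodChar p P (ζ' : P → ℂ) (inflate P ψ : G → ℂ))
      = classInner (ζ : P → ℂ) (ζ' : P → ℂ) := by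
  letI : Fintype (G ⧸ P) := Fintype.ofFinite _
  have hR : ∑ s ∈ Finset.univ.filter (fun s : G => IsPRegular p s),
      (inflate P ψ : G → ℂ) s * conj ((inflate P ψ : G → ℂ) s) = (Nat.card (G ⧸ P) : ℂ) := by
    have h := sum_mul_inv ψ ψ
    rw [if_pos rfl] at h
    rw [← h, ← Finset.sum_filter_add_sum_filter_not Finset.univ
      (fun q : G ⧸ P => IsPRegular p q), Finset.sum_eq_zero
      (s := Finset.univ.filter fun q : G ⧸ P => ¬ IsPRegular p q), add_zero]
    · refine Finset.sum_nbij (QuotientGroup.mk' P) (fun s hs => ?_) (fun s hs t ht he => ?_)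
        (fun q hq => ?_) (fun s _ => by rw [conj_irr]; simp [inflate_apply])
      · simp only [Finset.mem_filter, Finset.mem_univ, true_and] at hs ⊢
        exact regular_mk hs
      · simp only [Finset.coe_filter, Finset.mem_univ, true_and, Set.mem_setOf_eq] at hs ht
        exact eq_of_regular_of_mk_eq hM.1 hP hC hs ht he
      · simp only [Finset.coe_filter, Finset.mem_univ, true_and, Set.mem_setOf_eq] at hq
        obtain ⟨s, hs, rfl⟩ := exists_regular_lift hM.1 hq
        exact ⟨s, Finset.mem_coe.2 (Finset.mem_filter.2 ⟨Finset.mem_univ _, hs⟩), rfl⟩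
    · intro q hq
      obtain ⟨g, rfl⟩ := QuotientGroup.mk'_surjective P q
      have hg : pPart p g ∉ P := fun hu => (Finset.mem_filter.1 hq).2 (by
        obtain ⟨y, he, -, -, hy⟩ := pPart_spec hM.1 g
        rw [← he, map_mul, show QuotientGroup.mk' P (pPart p g) = 1 from
          (QuotientGroup.eq_one_iff _).2 hu, one_mul]
        exact regular_mk hy)
      rw [show (ψ : G ⧸ P → ℂ) (QuotientGroup.mk' P g) = 0 from inflate_eq_zero hM hψ hg, zero_mul]
  rw [Cfsg.classInner, sum_eq_sum_prod hM.1 hP hC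
    _ (fun g hg => by rw [prodChar, dif_neg hg, zero_mul]), Cfsg.classInner]
  have e : ∀ (u : P), ∑ s ∈ Finset.univ.filter (fun s : G => IsPRegular p s),
      prodChar p P (ζ : P → ℂ) (inflate P ψ : G → ℂ) ((u : G) * s)
        * conj (prodChar p P (ζ' : P → ℂ) (inflate P ψ : G → ℂ) ((u : G) * s))
      = ((ζ : P → ℂ) u * conj ((ζ' : P → ℂ) u)) * (Nat.card (G ⧸ P) : ℂ) := fun u => by
    rw [← hR, Finset.mul_sum]
    refine Finset.sum_congr rfl fun s hs => ?_
    have hs' := (Finset.mem_filter.1 hs).2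
    have hc := Subgroup.mem_centralizer_iff.1 (regular_mem_centralizer hM.1 hC hs') _ u.2
    rw [prodChar_mul hM.1 hP u hs' hc, prodChar_mul hM.1 hP u hs' hc, map_mul]
    ring
  rw [Finset.sum_congr rfl fun u _ => e u, ← Finset.sum_mul,
    ← Subgroup.card_mul_index P, Subgroup.index_eq_card, Nat.cast_mul, mul_inv]
  have h0 : (Nat.card (G ⧸ P) : ℂ) ≠ 0 := Nat.cast_ne_zero.2 Nat.card_pos.ne'
  field_simp

theorem prodChar_isGeneralizedCharacter (hM : IsPModular p M)
    (hG : P ⊔ Subgroup.centralizer (P : Set G) = ⊤)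
    (hψ : degVal p ψ = P.index.factorization p) (ζ : IrrCharacter P) :
    IsGeneralizedCharacter G (prodChar p P (ζ : P → ℂ) (inflate P ψ : G → ℂ)) := by
  haveI := Fact.mk hM.1
  have hp := hM.1
  refine CharDeep.Brauer.isGeneralizedCharacter_of_elementary
    (prodChar_isClassFunction hp hG (CfsgLib.Char.IsIrrCharacter.isClassFunction ζ.2)
      (CfsgLib.Char.IsIrrCharacter.isClassFunction (inflate P ψ).2)) fun l hl E hE => ?_
  letI : Fintype E := Fintype.ofFinite E
  have := CharDeep.PartHom.isNilpotent_of_isElementary hl hE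
  obtain ⟨i, c, hc, hcard⟩ :=
    Nat.exists_eq_pow_mul_and_not_dvd (Nat.card_pos (α := E)).ne' p hp.ne_one
  have hco : Nat.Coprime c (p ^ i) :=
    Nat.Coprime.pow_right _ ((hp.coprime_iff_not_dvd.2 hc).symm)
  obtain ⟨e, he0, he1, hee⟩ := CharDeep.PartHom.exists_exponent hco
  obtain ⟨e', he0', he1', hee'⟩ := CharDeep.PartHom.exists_exponent hco.symm
  have hcard' : Nat.card E = c * p ^ i := by rw [hcard, mul_comm]
  rw [← hcard'] at hee
  rw [← hcard] at hee'
  let φ := CharDeep.PartHom.powHom (G := E) e hee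
  let π := CharDeep.PartHom.powHom (G := E) e' hee'
  have hsum : ∀ x : E, φ x * π x = x := fun x => by
    show x ^ e * x ^ e' = x
    rw [← pow_add]
    conv_rhs => rw [← pow_one x]
    rw [pow_eq_pow_iff_modEq]
    refine Nat.ModEq.of_dvd (orderOf_dvd_natCard x) ?_
    rw [hcard']
    exact (Nat.modEq_and_modEq_iff_modEq_mul hco).1
      ⟨by simpa using he0.add he1', by simpa using he1.add he0'⟩
  have hφord : ∀ x : E, orderOf (φ x) ∣ p ^ i :=
    CharDeep.PartHom.orderOf_pow_exponent_dvd hcard' he0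
  have hπord : ∀ x : E, orderOf (π x) ∣ c :=
    CharDeep.PartHom.orderOf_pow_exponent_dvd hcard he0'
  have hπid : ∀ x : E, ¬ p ∣ orderOf x → π x = x := fun x hx =>
    CharDeep.PartHom.pow_exponent_eq_self he1' (CharDeep.PartHom.orderOf_dvd_of_coprime hcard
      (Nat.Coprime.pow_right _ ((hp.coprime_iff_not_dvd.2 hx).symm)))
  have hpp : ∀ x : E, pPart p (x : G) = (φ x : G) := fun x => by
    obtain ⟨j, -, hj⟩ := (Nat.dvd_prime_pow hp).1 (hφord x)
    refine pPart_eq hp ⟨(π x : G), ?_, ?_, ⟨j, by rw [Subgroup.orderOf_coe, hj]⟩, fun h => hc ?_⟩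
    · exact congrArg Subtype.val (hsum x)
    · exact congrArg Subtype.val ((Commute.refl x).pow_pow e e').eq
    · rw [Subgroup.orderOf_coe] at h; exact h.trans (hπord x)
  set θ : G → ℂ := (inflate P ψ : G → ℂ)
  set E0 : Subgroup E := (P.subgroupOf E).comap φ with hE0
  haveI : E0.Normal := Subgroup.Normal.comap inferInstance _
  set q := E0.index
  let πE : E →* π.range := π.rangeRestrict
  have hθE : IsCharacter E fun x : E => θ x :=
    CfsgLib.Char.IsCharacter.restrict (CfsgLib.Char.isCharacter_irr (inflate P ψ)) E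
  have hvanish : ∀ x : E, x ∉ E0 → θ x = 0 := fun x hx =>
    inflate_eq_zero hM hψ fun h => hx (by rw [hE0, Subgroup.mem_comap, Subgroup.mem_subgroupOf, ← hpp]; exact h)
  have hinE0 : ∀ x : E, ¬ p ∣ orderOf x → x ∈ E0 := fun x hx => by
    have h := hsum x
    rw [hπid x hx, mul_eq_right] at h
    rw [hE0, Subgroup.mem_comap, h]
    exact one_mem _
  -- the character whose restriction to `E0` is `θ / q`
  choose m hm using fun ν : IrrCharacter π.range =>
    CfsgLib.Char.IsCharacter.classInner_nat hθE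
      (CfsgLib.Char.IsCharacter.comp (CfsgLib.Char.isCharacter_irr ν) πE)
  set ρ : π.range → ℂ := fun k => θ ((k : E) : G)
  have hρ : ∀ x : E, x ∈ E0 → θ x = ρ (πE x) := fun x hx => by
    show θ x = θ ((π x : E) : G)
    conv_lhs => rw [← hsum x]
    exact inflate_mul_left ψ (Subgroup.mem_subgroupOf.1 (Subgroup.mem_comap.1 hx)) _
  have hρcl : IsClassFunction π.range ρ := fun a b =>
    CfsgLib.Char.IsIrrCharacter.isClassFunction (inflate P ψ).2 ((a : E) : G) ((b : E) : G)
  have hrel : ∀ ν : IrrCharacter π.range,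
      (q : ℂ) * (m ν : ℂ) = classInner ρ (ν : π.range → ℂ) := fun ν => by
    rw [← hm ν, ← classInner_comp_surjective_range (f := πE.comp E0.subtype) (φ := ρ)
      (χ := (ν : π.range → ℂ))]
    · have hsplit : ∑ x : E, θ x * conj (((ν : π.range → ℂ) ∘ πE) x)
          = ∑ x : E0, ρ (πE x) * conj ((ν : π.range → ℂ) (πE x)) := by
        rw [← Finset.sum_filter_add_sum_filter_not Finset.univ (fun x : E => x ∈ E0),
          Finset.sum_eq_zero (s := Finset.univ.filter fun x : E => ¬ x ∈ E0)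
            (fun x hx => by rw [hvanish x (Finset.mem_filter.1 hx).2, zero_mul]), add_zero,
          Finset.sum_subtype _ (p := fun x : E => x ∈ E0) (fun x => by simp)]
        exact Finset.sum_congr rfl fun x _ => by rw [hρ x x.2]; rfl
      rw [Cfsg.classInner, Cfsg.classInner, hsplit]
      simp only [Function.comp_apply, MonoidHom.comp_apply, Subgroup.coe_subtype]
      change (E0.index : ℂ) * _ = _
      rw [← Subgroup.card_mul_index E0, Nat.cast_mul, mul_inv]
      field_simp [CfsgLib.Char.card_ne_zero, Nat.cast_ne_zero.2 (Subgroup.index_ne_zero_of_finite (H := E0))]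
    · intro k
      obtain ⟨x, hx⟩ := k.2
      have hk : ¬ p ∣ orderOf (π x) := fun h => hc (h.trans (hπord x))
      exact ⟨⟨π x, hinE0 _ hk⟩, Subtype.ext ((hπid _ hk).trans hx)⟩
  set η : E → ℂ := ∑ ν : IrrCharacter π.range, (m ν) • ((ν : π.range → ℂ) ∘ πE)
  have hη : IsCharacter E η := CfsgLib.Char.isCharacter_sum _ _ fun ν _ =>
    CfsgLib.Char.IsCharacter.nsmul
      (CfsgLib.Char.IsCharacter.comp (CfsgLib.Char.isCharacter_irr ν) πE) _
  have hηval : ∀ x : E, x ∈ E0 → (q : ℂ) * η x = θ x := fun x hx => by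
    rw [hρ x hx, congrFun (CfsgLib.Char.IsClassFunction.eq_sum_irr hρcl) (πE x)]
    simp only [η, Finset.sum_apply, Finset.mul_sum, Pi.smul_apply, smul_eq_mul, nsmul_eq_mul,
      Pi.mul_apply, Pi.natCast_apply, Function.comp_apply, ← mul_assoc, hrel]
  let φ0 : E0 →* P :=
    { toFun := fun x => ⟨(φ x : G), Subgroup.mem_subgroupOf.1 (Subgroup.mem_comap.1 x.2)⟩
      map_one' := Subtype.ext (by simp)
      map_mul' := fun x y => Subtype.ext (by simp) }
  have hprod : IsCharacter E0 ((ζ : P → ℂ) ∘ φ0 * fun x : E0 => η x) :=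
    CfsgLib.Char.IsCharacter.mul
      (CfsgLib.Char.IsCharacter.comp (CfsgLib.Char.isCharacter_irr ζ) φ0)
      (CfsgLib.Char.IsCharacter.restrict hη E0)
  convert CfsgLib.Char.IsCharacter.isGeneralizedCharacter
    (CfsgLib.Char.IsCharacter.indFun E0 hprod) using 1
  funext x
  by_cases hx : x ∈ E0
  · have hPx : pPart p (x : G) ∈ P := by
      rw [hpp]; exact Subgroup.mem_subgroupOf.1 (Subgroup.mem_comap.1 hx)
    rw [show Cfsg.indFun E0 ((ζ : P → ℂ) ∘ φ0 * fun x : E0 => η x) x
        = Cfsg.indFun E0 ((ζ : P → ℂ) ∘ φ0 * fun x : E0 => η x) ((⟨x, hx⟩ : E0) : E) from rfl,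
      CfsgLib.Char.indFun_apply_of_normal]
    have hterm : ∀ w : E, ((ζ : P → ℂ) ∘ φ0 * fun x : E0 => η x)
        ⟨w * x * w⁻¹, Subgroup.Normal.conj_mem inferInstance x hx w⟩
        = (ζ : P → ℂ) ⟨_, hPx⟩ * η x := by
      intro w
      have hcl := prodChar_isClassFunction (θ := fun _ => (1 : ℂ)) hp hG
        (CfsgLib.Char.IsIrrCharacter.isClassFunction ζ.2) (fun _ _ => rfl) (x : G) (w : G)
      rw [prodChar, prodChar, dif_pos hPx, mul_one] at hcl
      have hPw : pPart p ((w : G) * x * (w : G)⁻¹) ∈ P := by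
        rw [show ((w : G) * x * (w : G)⁻¹) = ((w * x * w⁻¹ : E) : G) from rfl, hpp]
        exact Subgroup.mem_subgroupOf.1 (Subgroup.mem_comap.1
          (Subgroup.Normal.conj_mem inferInstance x hx w : w * x * w⁻¹ ∈ E0))
      rw [dif_pos hPw, mul_one] at hcl
      show (ζ : P → ℂ) (φ0 _) * η (w * x * w⁻¹) = _
      rw [CfsgLib.Char.IsCharacter.isClassFunction hη x w, ← hcl]
      exact congrArg (fun z => (ζ : P → ℂ) z * η x) (Subtype.ext (hpp (w * x * w⁻¹)).symm)
    rw [Finset.sum_congr rfl fun w _ => hterm w, Finset.sum_const, Finset.card_univ,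
      nsmul_eq_mul, ← Nat.card_eq_fintype_card, ← Subgroup.card_mul_index E0, Nat.cast_mul,
      prodChar, dif_pos hPx, ← hηval x hx]
    field_simp [CfsgLib.Char.card_ne_zero]
    ring
  · rw [CfsgLib.Char.indFun_eq_zero_of_normal _ _ hx, prodChar, dif_neg]
    rw [hpp]
    exact hx
where
  classInner_comp_surjective_range {A B : Type _} [Group A] [Group B] [Fintype A] [Fintype B]
      {f : A →* B} {φ χ : B → ℂ} (hf : Function.Surjective f) :
      Cfsg.classInner (φ ∘ f) (χ ∘ f) = Cfsg.classInner φ χ :=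
    CfsgLib.Char.classInner_comp_surjective f hf φ χ


theorem index_centralizer_of_sup_eq_top (hp : p.Prime) (hP : IsPGroup p P)
    (hG : P ⊔ Subgroup.centralizer (P : Set G) = ⊤) :
    ∃ k : ℕ, (Subgroup.centralizer (P : Set G)).index = p ^ k := by
  haveI := Fact.mk hp
  set C := Subgroup.centralizer (P : Set G)
  have h : Function.Surjective ((QuotientGroup.mk' C).comp P.subtype) := fun q => by
    obtain ⟨w, rfl⟩ := QuotientGroup.mk'_surjective C q
    obtain ⟨v, hv, c, hc, rfl⟩ := Subgroup.mem_sup_of_normal_left.1 (hG ▸ Subgroup.mem_top w)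
    refine ⟨⟨v, hv⟩, ?_⟩
    simp only [MonoidHom.comp_apply, Subgroup.coe_subtype, map_mul,
      show QuotientGroup.mk' C c = 1 from (QuotientGroup.eq_one_iff c).2 hc, mul_one]
  obtain ⟨k, hk⟩ := IsPGroup.iff_card.1 (hP.of_surjective _ h)
  exact ⟨k, (Subgroup.index_eq_card C).trans hk⟩

theorem degVal_inflate (ψ : IrrCharacter (G ⧸ P)) : degVal p (inflate P ψ) = degVal p ψ := by
  rw [degVal, degVal, charDegree, charDegree, inflate_apply, map_one]

theorem sameBlock_prodChar (hM : IsPModular p M) (hP : IsPGroup p P) {ζ : IrrCharacter P}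
    {χ : IrrCharacter G}
    (hχ : (χ : G → ℂ) = prodChar p P (ζ : P → ℂ) (inflate P ψ : G → ℂ)) :
    SameBlock M (χ : G → ℂ) (inflate P ψ : G → ℂ) := by
  refine sameBlock_of_regular hM fun s hs => ?_
  have h : ∀ t : G, ¬ p ∣ orderOf t →
      (χ : G → ℂ) t = (ζ : P → ℂ) 1 * (inflate P ψ : G → ℂ) t := fun t ht => by
    have := prodChar_mul (ψ := ψ) (ζ := (ζ : P → ℂ)) hM.1 hP 1 ht
      (by rw [OneMemClass.coe_one]; exact Commute.one_left t)
    rwa [OneMemClass.coe_one, one_mul, ← hχ] at this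
  rw [centralChar, centralChar, h s hs, h 1 (by simp [hM.1.ne_one]),
    mul_left_comm, mul_div_mul_left _ _ (irr_one_ne_zero ζ), sub_self]
  exact LI.zero hM

/-- The structure of a block with defect group `P` when `G = P C_G(P)`. -/
theorem exists_canonical (hM : IsPModular p M) (hP : IsPGroup p P)
    (hG : P ⊔ Subgroup.centralizer (P : Set G) = ⊤) {B : Set (IrrCharacter G)}
    (hB : IsPBlock M B) (hD : IsDefectGroup p M B P) :
    ∃ ψ : IrrCharacter (G ⧸ P), inflate P ψ ∈ B ∧ degVal p ψ = P.index.factorization p ∧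
      (∀ ζ : IrrCharacter P, ∃ χ ∈ B,
        (χ : G → ℂ) = prodChar p P (ζ : P → ℂ) (inflate P ψ : G → ℂ)) ∧
      ∀ χ ∈ B, ∃ ζ : IrrCharacter P,
        (χ : G → ℂ) = prodChar p P (ζ : P → ℂ) (inflate P ψ : G → ℂ) := by
  haveI := Fact.mk hM.1
  have hC := index_centralizer_of_sup_eq_top hM.1 hP hG
  obtain ⟨ψ, hψB⟩ := exists_inflate_mem hM hP hC hB
  letI : Fintype (G ⧸ P) := Fintype.ofFinite _
  obtain ⟨d, hd⟩ := IsPGroup.iff_card.1 hP
  have hdB : blockDefect p B = d :=
    Nat.pow_right_injective hM.1.two_le ((card_defectGroup hM hB hD).symm.trans hd)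
  have hfac : (Nat.card G).factorization p = d + P.index.factorization p := by
    rw [← Subgroup.card_mul_index P, hd, Nat.factorization_mul (pow_ne_zero _ hM.1.ne_zero)
      Subgroup.index_ne_zero_of_finite, Finsupp.add_apply, Nat.Prime.factorization_pow hM.1,
      Finsupp.single_eq_same]
  have hle : degVal p ψ ≤ P.index.factorization p := by
    rw [Subgroup.index_eq_card]; exact degVal_le ψ
  have hsum := blockDefect_add_min (p := p) (IsPBlock.nonempty hM hB)
  have hge := minDegVal_le (p := p) hψB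
  rw [degVal_inflate] at hge
  have hψ : degVal p ψ = P.index.factorization p := by omega
  have hmin : degVal p (inflate P ψ) = minDegVal p B := by rw [degVal_inflate]; omega
  have hirr : ∀ ζ : IrrCharacter P,
      IsIrrCharacter G (prodChar p P (ζ : P → ℂ) (inflate P ψ : G → ℂ)) := fun ζ => by
    refine CharDeep.GenChar.isIrrCharacter_of_norm_one
      (prodChar_isGeneralizedCharacter hM hG hψ ζ)
      ((classInner_prodChar hM hP hC hψ ζ ζ).trans (CfsgLib.Char.classInner_irr_self ζ.2)) ?_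
    have := prodChar_mul (ψ := ψ) (ζ := (ζ : P → ℂ)) hM.1 hP 1 (s := 1) (by simp [hM.1.ne_one])
      (Commute.one_right _)
    rw [OneMemClass.coe_one, mul_one] at this
    rw [this, irr_one_eq, irr_one_eq, ← Nat.cast_mul, Complex.natCast_re]
    exact_mod_cast Nat.mul_pos (charDegree_pos ζ) (charDegree_pos (inflate P ψ))
  have hmem : ∀ ζ : IrrCharacter P, (⟨_, hirr ζ⟩ : IrrCharacter G) ∈ B := fun ζ =>
    (IsPBlock.mem_iff hM hB hψB).2 (SameBlock_symm (sameBlock_prodChar hM hP rfl))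
  refine ⟨ψ, hψB, hψ, fun ζ => ⟨_, hmem ζ, rfl⟩, fun χ hχ => ?_⟩
  by_contra hne
  push Not at hne
  set R : Finset G := Finset.univ.filter fun s => IsPRegular p s
  set F : P → ℂ := fun u => ∑ s ∈ R, (χ : G → ℂ) ((u : G) * s) * conj ((inflate P ψ : G → ℂ) s)
  have hFcl : IsClassFunction P F := fun u w => by
    refine Finset.sum_congr rfl fun s hs => ?_
    have hc := Subgroup.mem_centralizer_iff.1
      (regular_mem_centralizer hM.1 hC (Finset.mem_filter.1 hs).2) _ w.2
    rw [show ((w * u * w⁻¹ : P) : G) * s = (w : G) * ((u : G) * s) * (w : G)⁻¹ by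
      have hc' : (w : G)⁻¹ * s = s * (w : G)⁻¹ := (show Commute (w : G) s from hc).inv_left.eq
      simp only [Subgroup.coe_mul, Subgroup.coe_inv, mul_assoc, hc'],
      CfsgLib.Char.IsIrrCharacter.isClassFunction χ.2]
  have horth : ∀ ζ : IrrCharacter P, classInner F (ζ : P → ℂ) = 0 := by
    intro ζ
    have h := CfsgLib.Char.classInner_irr_ne χ.2 (hirr ζ) (hne ζ)
    rw [Cfsg.classInner, sum_eq_sum_prod hM.1 hP hC _
      (fun g hg => by rw [prodChar, dif_neg hg, map_zero, mul_zero]), mul_eq_zero] at h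
    refine mul_eq_zero_of_right _ (Eq.trans ?_ (h.resolve_left
      (inv_ne_zero CfsgLib.Char.card_ne_zero)))
    refine Finset.sum_congr rfl fun u _ => ?_
    simp only [F, Finset.sum_mul]
    refine Finset.sum_congr rfl fun s hs => ?_
    have hs' := (Finset.mem_filter.1 hs).2
    rw [prodChar_mul hM.1 hP u hs'
      (Subgroup.mem_centralizer_iff.1 (regular_mem_centralizer hM.1 hC hs') _ u.2), map_mul]
    ring
  have h1 : F 1 = 0 := by
    rw [CfsgLib.Char.IsClassFunction.eq_sum_irr hFcl]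
    simp [horth]
  refine regInt_ne_zero_of_min hM hB hψB hmin hχ (Int.cast_injective (α := ℂ) ?_)
  rw [cast_regInt hM.1, regInner_comm, regInner, Int.cast_zero]
  refine mul_eq_zero_of_right _ (Eq.trans ?_ h1)
  simp only [F, OneMemClass.coe_one, one_mul, conj_irr]
  exact Finset.sum_congr rfl fun s _ => rfl

end CfsgLib.Blocks
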