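import Cfsg.Agent.Lib.Blocks.Section
import Cfsg.Agent.Lib.Blocks.FirstMain
import Cfsg.Agent.Lib.Blocks.PCentralizer

/-!
# The section of an element generating the defect group

When `⟨x⟩` is a defect group of `B` with normalizer `K = C(x)`, one block `b` of `K` induces `B`, all
its members agree on `p`-regular elements, and the section of `x` is a multiple of their values.
-/

set_option autoImplicit false

namespace CfsgLib.Blocks.SectionCentral

open Cfsg CfsgLib.Blocks
open scoped Classical ComplexConjugate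

variable {G : Type*} [Group G] [Fintype G] {p : ℕ} {M : Ideal AlgInt}

theorem eq_of_correspondent (hM : IsPModular p M) {B : Set (IrrCharacter G)} (hB : IsPBlock M B) {D : Subgroup G}
    (hD : IsDefectGroup p M B D) {K : Subgroup G} (hK : K = Subgroup.normalizer (D : Set G))
    {b b' : Set (IrrCharacter K)} (h : IsInducedBlock M K b B) (hd : IsDefectGroup p M b (D.subgroupOf K))
    (h' : IsInducedBlock M K b' B) (hd' : IsDefectGroup p M b' (D.subgroupOf K)) : b = b' := by
  subst hK
  obtain ⟨c, -, huniq⟩ := existsUnique_correspondent hM hB hD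
  exact (huniq b ⟨h.1, hd, h⟩).trans (huniq b' ⟨h'.1, hd', h'⟩).symm

/-- A block inducing `B` from the centralizer of `x` has defect group `⟨x⟩`. -/
theorem isDefectGroup_of_induced (hM : IsPModular p M) {B : Set (IrrCharacter G)} {x : G}
    (hx : ∃ k : ℕ, orderOf x = p ^ k) (hD : IsDefectGroup p M B (Subgroup.zpowers x))
    {b : Set (IrrCharacter (Subgroup.centralizer ({x} : Set G)))}
    (hb : IsInducedBlock M (Subgroup.centralizer ({x} : Set G)) b B) :
    IsDefectGroup p M b ((Subgroup.zpowers x).subgroupOf (Subgroup.centralizer ({x} : Set G))) := by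
  haveI := Fact.mk hM.1
  set K := Subgroup.centralizer ({x} : Set G)
  have hle : Subgroup.zpowers x ≤ K := Subgroup.zpowers_le.2 (Subgroup.mem_centralizer_singleton_iff.2 rfl)
  set Q := (Subgroup.zpowers x).subgroupOf K with hQ
  haveI : Q.Normal := ⟨fun n hn g => by
    rw [hQ, Subgroup.mem_subgroupOf] at hn ⊢
    obtain ⟨i, hi⟩ := Subgroup.mem_zpowers_iff.1 hn
    have hc : Commute (g : G) x := Subgroup.mem_centralizer_singleton_iff.1 g.2
    rw [Subgroup.coe_mul, Subgroup.coe_mul, Subgroup.coe_inv, ← hi, (hc.zpow_right i).eq, mul_inv_cancel_right]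
    exact Subgroup.mem_zpowers_iff.2 ⟨i, rfl⟩⟩
  have hQp : IsPGroup p Q := by
    obtain ⟨k, hk⟩ := hx
    exact IsPGroup.of_card (n := k) (by
      rw [Nat.card_congr (Subgroup.subgroupOfEquivOfLe hle).toEquiv, Nat.card_zpowers, hk])
  obtain ⟨E, hE⟩ := exists_isDefectGroup hM hb.1
  have h1 := le_defectGroup_of_normal hM hb.1 hQp hE
  have hc : Nat.card E ≤ Nat.card Q := by
    rw [card_defectGroup hM hb.1 hE, Nat.card_congr (Subgroup.subgroupOfEquivOfLe hle).toEquiv,
      card_defectGroup hM hb.2.1 hD]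
    exact Nat.pow_le_pow_right hM.1.pos (blockDefect_le_of_induced hM hb)
  rwa [Subgroup.eq_of_le_of_card_ge h1 hc]

/-- With a central defect group, the members agree on regular elements and are as many as its elements. -/
theorem central_members (hM : IsPModular p M) {b : Set (IrrCharacter G)} (hb : IsPBlock M b) {P : Subgroup G}
    (hPZ : P ≤ Subgroup.center G) (hD : IsDefectGroup p M b P) :
    (∀ φ ∈ b, ∀ φ' ∈ b, ∀ s : G, ¬ p ∣ orderOf s → (φ : G → ℂ) s = (φ' : G → ℂ) s) ∧
      Nat.card b = Nat.card P := by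
  haveI := Fact.mk hM.1
  haveI : P.Normal := ⟨fun n hn g => by
    rwa [Subgroup.mem_center_iff.1 (hPZ hn) g, mul_inv_cancel_right]⟩
  have hP : IsPGroup p P := by
    obtain ⟨g, -, S, rfl⟩ := hD
    exact S.isPGroup'.map _
  have hG : P ⊔ Subgroup.centralizer (P : Set G) = ⊤ := by
    refine top_le_iff.1 (le_trans (fun x _ => ?_) le_sup_right)
    exact Subgroup.mem_centralizer_iff.2 fun u hu => ((Subgroup.mem_center_iff.1 (hPZ hu)) x).symm
  have hcommP : ∀ a c : P, a * c = c * a := fun a c =>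
    Subtype.ext ((Subgroup.mem_center_iff.1 (hPZ c.2)) a)
  obtain ⟨ψ, -, -, hex, hall⟩ := exists_canonical hM hP hG hb hD
  have hζ1 : ∀ ζ : IrrCharacter P, (ζ : P → ℂ) 1 = 1 := fun ζ => Char.apply_one_eq_one_of_comm hcommP ζ.2
  have hval : ∀ φ ∈ b, ∀ s : G, ¬ p ∣ orderOf s → (φ : G → ℂ) s = (inflate P ψ : G → ℂ) s := by
    intro φ hφ s hs
    obtain ⟨ζ, hζ⟩ := hall φ hφ
    have h1 := prodChar_mul (ψ := ψ) (ζ := (ζ : P → ℂ)) hM.1 hP 1 hs
      (by rw [OneMemClass.coe_one]; exact Commute.one_left s)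
    rw [OneMemClass.coe_one, one_mul, ← hζ, hζ1, one_mul] at h1
    exact h1
  refine ⟨fun φ hφ φ' hφ' s hs => (hval φ hφ s hs).trans (hval φ' hφ' s hs).symm, ?_⟩
  choose f hfb hf using hex
  rw [show Nat.card P = Nat.card (IrrCharacter P) by
    rw [Char.card_irrCharacter]
    exact Nat.card_eq_of_bijective ConjClasses.mk ⟨fun a c h => by
      obtain ⟨u, hu⟩ := isConj_iff.1 (ConjClasses.mk_eq_mk_iff_isConj.1 h)
      rw [← hu, hcommP u a, mul_inv_cancel_right], ConjClasses.mk_surjective⟩]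
  symm
  refine Nat.card_eq_of_bijective (fun ζ : IrrCharacter P => (⟨f ζ, hfb ζ⟩ : b)) ⟨fun a c h => ?_, fun φ => ?_⟩
  · have h' : (f a : G → ℂ) = f c := congrArg (fun z : b => ((z : IrrCharacter G) : G → ℂ)) h
    rw [hf, hf] at h'
    refine Subtype.ext (funext fun u => mul_right_cancel₀ (irr_one_ne_zero (inflate P ψ)) ?_)
    have h1 : ¬ p ∣ orderOf (1 : G) := by rw [orderOf_one]; exact hM.1.not_dvd_one
    rw [← prodChar_mul (ψ := ψ) (ζ := (a : P → ℂ)) hM.1 hP u h1 (Commute.one_right _),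
      ← prodChar_mul (ψ := ψ) (ζ := (c : P → ℂ)) hM.1 hP u h1 (Commute.one_right _), h']
  · obtain ⟨ζ, hζ⟩ := hall φ φ.2
    exact ⟨ζ, Subtype.ext (Subtype.ext ((hf ζ).trans hζ.symm))⟩

/-- The section of `x`: the kernel and the values. -/
theorem section_values (hM : IsPModular p M) {B : Set (IrrCharacter G)} (hB : IsPBlock M B) {x : G}
    (hx : ∃ k : ℕ, orderOf x = p ^ k) (hD : IsDefectGroup p M B (Subgroup.zpowers x))
    (hN : Subgroup.centralizer ({x} : Set G) = Subgroup.normalizer ((Subgroup.zpowers x : Subgroup G) : Set G))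
    {b : Set (IrrCharacter (Subgroup.centralizer ({x} : Set G)))}
    (hb : IsInducedBlock M (Subgroup.centralizer ({x} : Set G)) b B)
    {θ : IrrCharacter (Subgroup.centralizer ({x} : Set G))} (hθ : θ ∈ b) :
    sectionSet M (Subgroup.centralizer ({x} : Set G)) B = b ∧
    (∀ s t : Subgroup.centralizer ({x} : Set G), ¬ p ∣ orderOf s → ¬ p ∣ orderOf t →
      blockKernel (sectionSet M (Subgroup.centralizer ({x} : Set G)) B) t s
        = (orderOf x : ℂ) * ((θ : Subgroup.centralizer ({x} : Set G) → ℂ) t⁻¹ *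
            (θ : Subgroup.centralizer ({x} : Set G) → ℂ) s)) ∧
    ∀ χ ∈ B, ∀ s : Subgroup.centralizer ({x} : Set G), ¬ p ∣ orderOf s →
      (χ : G → ℂ) (x * (s : G)) = (∑ ψ : IrrCharacter (Subgroup.centralizer ({x} : Set G)),
        blockInd b ψ * classInner (fun c : Subgroup.centralizer ({x} : Set G) => (χ : G → ℂ) (x * (c : G)))
          (ψ : Subgroup.centralizer ({x} : Set G) → ℂ)) * (θ : Subgroup.centralizer ({x} : Set G) → ℂ) s := by
  haveI := Fact.mk hM.1
  have hle : Subgroup.zpowers x ≤ (Subgroup.centralizer ({x} : Set G)) := Subgroup.zpowers_le.2 (Subgroup.mem_centralizer_singleton_iff.2 rfl)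
  have hZ : (Subgroup.zpowers x).subgroupOf (Subgroup.centralizer ({x} : Set G)) ≤ Subgroup.center (Subgroup.centralizer ({x} : Set G)) := fun u hu => by
    obtain ⟨i, hi⟩ := Subgroup.mem_zpowers_iff.1 (Subgroup.mem_subgroupOf.1 hu)
    refine Subgroup.mem_center_iff.2 fun g => Subtype.ext ?_
    have hc : Commute (g : G) x := Subgroup.mem_centralizer_singleton_iff.1 g.2
    show (g : G) * (u : G) = (u : G) * (g : G)
    rw [← hi]; exact (hc.zpow_right i).eq
  have hbD := isDefectGroup_of_induced hM hx hD hb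
  obtain ⟨hagree, hcard⟩ := central_members hM hb.1 hZ hbD
  rw [Nat.card_congr (Subgroup.subgroupOfEquivOfLe hle).toEquiv, Nat.card_zpowers] at hcard
  have hS : sectionSet M (Subgroup.centralizer ({x} : Set G)) B = b := by
    ext ψ
    constructor
    · intro hψ
      have := eq_of_correspondent hM hB hD hN hψ (isDefectGroup_of_induced hM hx hD hψ) hb hbD
      rw [← this]; exact SameBlock_refl hM _
    · intro hψ
      show IsInducedBlock M (Subgroup.centralizer ({x} : Set G)) (blockOf M (ψ : (Subgroup.centralizer ({x} : Set G)) → ℂ)) B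
      rwa [← IsPBlock.eq_blockOf hM hb.1 hψ]
  refine ⟨hS, fun s t hs ht => ?_, fun χ hχ s hs => ?_⟩
  · rw [hS, blockKernel]
    have ht' : ¬ p ∣ orderOf t⁻¹ := by rwa [orderOf_inv]
    rw [Finset.sum_congr rfl (g := fun ψ => blockInd b ψ * ((θ : (Subgroup.centralizer ({x} : Set G)) → ℂ) t⁻¹ * (θ : (Subgroup.centralizer ({x} : Set G)) → ℂ) s)) fun ψ _ => by
      by_cases hψ : ψ ∈ b
      · rw [hagree ψ hψ θ hθ _ ht', hagree ψ hψ θ hθ _ hs]
      · rw [blockInd_of_notMem hψ, zero_mul, zero_mul], ← Finset.sum_mul]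
    congr 1
    rw [← hcard, Nat.card_eq_fintype_card, ← Set.toFinset_card, Finset.card_eq_sum_ones, Nat.cast_sum]
    refine ((Finset.sum_congr rfl fun ψ hψ => ?_).trans
      (Finset.sum_subset (Finset.subset_univ _) fun ψ _ hψ => blockInd_of_notMem (by simpa using hψ))).symm
    rw [blockInd_of_mem (Set.mem_toFinset.1 hψ), Nat.cast_one]
  · have h := blockPart_sectionSet hM (x := x) rfl hx hB χ hs
    rw [hS, blockInd_of_mem hχ, one_mul, blockPart_eq_sum] at h
    rw [← h, Finset.sum_mul]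
    refine Finset.sum_congr rfl fun ψ _ => ?_
    by_cases hψ : ψ ∈ b
    · rw [hagree ψ hψ θ hθ _ hs, mul_assoc]
    · rw [blockInd_of_notMem hψ, zero_mul, zero_mul, zero_mul]

/-- A member of a block with more than one member is nonzero at some singular element. -/
theorem exists_singular_ne_zero (hM : IsPModular p M) {B : Set (IrrCharacter G)} (hB : IsPBlock M B)
    {χ χ' : IrrCharacter G} (hχ : χ ∈ B) (hχ' : χ' ∈ B) (hne : χ ≠ χ') :
    ∃ g : G, p ∣ orderOf g ∧ (χ : G → ℂ) g ≠ 0 := by
  by_contra hcon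
  push Not at hcon
  obtain ⟨χ₀, h₀, hmin⟩ := exists_degVal_eq_min (p := p) ⟨χ, hχ⟩
  have key : ∀ φ : IrrCharacter G, φ ∈ B → φ ≠ χ → regInner p (φ : G → ℂ) (χ : G → ℂ) = 0 := by
    intro φ _ hφ
    rw [regInner, mul_eq_zero]
    right
    have hs := sum_mul_inv φ χ
    rw [if_neg hφ, ← Finset.sum_filter_add_sum_filter_not Finset.univ (fun x : G => IsPRegular p x)] at hs
    rw [Finset.sum_eq_zero (s := Finset.univ.filter fun x : G => ¬ IsPRegular p x) fun x hx => by
      rw [hcon x⁻¹ (by rw [orderOf_inv]; exact not_isPRegular.1 (Finset.mem_filter.1 hx).2), mul_zero],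
      add_zero] at hs
    rw [hs]
  by_cases h : χ₀ = χ
  · subst h
    refine regInt_ne_zero_of_min hM hB h₀ hmin hχ' ?_
    apply Int.cast_injective (α := ℂ)
    rw [cast_regInt hM.1, regInner_comm, key χ' hχ' (Ne.symm hne), Int.cast_zero]
  · refine regInt_ne_zero_of_min hM hB h₀ hmin hχ ?_
    apply Int.cast_injective (α := ℂ)
    rw [cast_regInt hM.1, key χ₀ h₀ h, Int.cast_zero]

end CfsgLib.Blocks.SectionCentral
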