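import Cfsg.Agent.Lib.Blocks.CyclicRank
import Cfsg.Agent.Lib.Blocks.SectionCentral
import Cfsg.Agent.Lib.Char.Linear

/-!
# The block of the centralizer of an element of order `p` below a cyclic maximal pair

Its members differ on each section by the values of linear characters of the defect group, and the
stabilizer of the pair fixes exactly one of them.
-/

set_option autoImplicit false
set_option linter.unusedSectionVars false
set_option maxHeartbeats 1000000

namespace CfsgLib.Blocks.CyclicDecomp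

open Cfsg CfsgLib.Blocks CfsgLib.BrauerPairs CfsgLib.BrouePuig
open scoped Classical ComplexConjugate

universe u

variable {G : Type u} [Group G] [Fintype G] {p : ℕ} [Fact p.Prime] {M : Ideal AlgInt}
  {B : Set (IrrCharacter G)} {P : Subgroup G}
  {c : Set (IrrCharacter (Subgroup.centralizer (P : Set G)))}

/-- A cyclic maximal pair and an element of order `p` in it. -/
structure Setup (p : ℕ) (M : Ideal AlgInt) (B : Set (IrrCharacter G)) (P : Subgroup G)
    (c : Set (IrrCharacter (Subgroup.centralizer (P : Set G)))) where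
  hM : IsPModular p M
  hmax : IsMaximalBrauerPair p M B P c
  hcyc : IsCyclic P
  z : P
  hz : orderOf z = p

theorem exists_setup (hM : IsPModular p M) (hmax : IsMaximalBrauerPair p M B P c) (hcyc : IsCyclic P)
    (hP1 : P ≠ ⊥) : Nonempty (Setup p M B P c) := by
  obtain ⟨a, ha⟩ := hmax.1.1.1.exists_card_eq
  have ha0 : a ≠ 0 := fun h0 => hP1 (Subgroup.eq_bot_of_card_eq P (by rw [ha, h0, pow_zero]))
  obtain ⟨w, hw⟩ := exists_prime_orderOf_dvd_card' (G := P) p (by rw [ha]; exact dvd_pow_self p ha0)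
  exact ⟨⟨hM, hmax, hcyc, w, hw⟩⟩

/-- The zero extension. -/
noncomputable def ext0 (K : Subgroup G) (ψ : K → ℂ) (g : G) : ℂ := if h : g ∈ K then ψ ⟨g, h⟩ else 0

theorem ext0_mem {K : Subgroup G} (ψ : K → ℂ) {g : G} (h : g ∈ K) : ext0 K ψ g = ψ ⟨g, h⟩ :=
  dif_pos h

theorem ext0_coe {K : Subgroup G} (ψ : K → ℂ) (k : K) : ext0 K ψ (k : G) = ψ k := dif_pos k.2

namespace Setup

variable (S : Setup p M B P c)

/-- The centralizer of `z`. -/
abbrev K : Subgroup G := cenZ (S.z : G)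

/-- The block of the centralizer. -/
noncomputable def f : Set (IrrCharacter S.K) := (bel S.hM S.hmax.1.1 S.z).2

theorem hab (S : Setup p M B P c) : ∀ x ∈ P, ∀ y ∈ P, x * y = y * x := abelian_of_isCyclic S.hcyc

theorem hfree (S : Setup p M B P c) : FreeAct P c := fun _ hg _ hx hx1 hfix =>
  free_of_cyclic S.hM S.hmax S.hcyc hg hx hx1 hfix

theorem z_ne_one : S.z ≠ 1 := fun h => (Fact.out : p.Prime).ne_one (by rw [← S.hz, h, orderOf_one])

theorem zP : Subgroup.zpowers (S.z : G) ≤ P := Subgroup.zpowers_le.2 S.z.2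

theorem hPK : P ≤ S.K := le_centralizer_of_abelian S.hab S.zP

theorem hCK : Subgroup.centralizer (P : Set G) ≤ S.K :=
  BrouePuig.centralizer_le_centralizer S.zP

theorem P_ne_bot (S : Setup p M B P c) : P ≠ ⊥ := fun h => S.z_ne_one (Subtype.ext (Subgroup.mem_bot.1 (h ▸ S.z.2)))

theorem card_zpowers_z : Nat.card (Subgroup.zpowers (S.z : G)) = p := by
  rw [Nat.card_zpowers, Subgroup.orderOf_coe, S.hz]

theorem z_mem_zpowers {w : P} (hw : w ≠ 1) : (S.z : G) ∈ Subgroup.zpowers (w : G) := by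
  have hp : p.Prime := Fact.out
  obtain ⟨k, hk⟩ := (IsPGroup.iff_orderOf.1 S.hmax.1.1.1) w
  have hk0 : k ≠ 0 := fun h0 => hw (orderOf_eq_one_iff.1 (by rw [hk, h0, pow_zero]))
  obtain ⟨j, rfl⟩ := Nat.exists_eq_succ_of_ne_zero hk0
  set u : P := w ^ p ^ j with hu
  have hou : orderOf u = p := by
    rw [hu, orderOf_pow, hk, Nat.gcd_eq_right (pow_dvd_pow p (Nat.le_succ j)),
      Nat.pow_div (Nat.le_succ j) hp.pos]
    simp
  haveI : IsCyclic P := S.hcyc
  have h := Cfsg.Agent.S4636.cyclic_card_unique (P := P) (n := p) hp.pos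
    (H := Subgroup.zpowers S.z) (K := Subgroup.zpowers u)
    (by rw [Nat.card_zpowers, S.hz]) (by rw [Nat.card_zpowers, hou])
  obtain ⟨i, hi⟩ := Subgroup.mem_zpowers_iff.1 (h ▸ Subgroup.mem_zpowers S.z : S.z ∈ Subgroup.zpowers u)
  rw [← hi]
  push_cast [hu]
  exact Subgroup.zpow_mem _ (Subgroup.pow_mem _ (Subgroup.mem_zpowers _) _) _

theorem cenZ_le {w : P} (hw : w ≠ 1) : cenZ (w : G) ≤ S.K :=
  Subgroup.centralizer_le (Subgroup.zpowers_le.2 (S.z_mem_zpowers hw))

theorem hiff (x : S.K) : (x : G) ∈ Subgroup.centralizer (P : Set G)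
    ↔ x ∈ Subgroup.centralizer (P.subgroupOf S.K : Set S.K) :=
  (mem_centralizer_subgroupOf_iff S.hPK x).symm

/-- The pair inside the centralizer. -/
noncomputable def c' : Set (IrrCharacter (Subgroup.centralizer (P.subgroupOf S.K : Set S.K))) :=
  irrEquiv (nestIso (BrouePuig.centralizer_le_centralizer S.zP) S.hiff) '' c

theorem hnest : IsMaximalBrauerPair p M S.f (P.subgroupOf S.K) S.c' :=
  maximal_nested S.hM S.hmax S.hab S.zP (bel_inducedIn S.hM S.hmax.1.1 S.hab S.z)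

theorem hnil : IsNilpotentBlock p M S.f := nilpotent_bel S.hM S.hmax S.hab S.hfree S.z_ne_one

theorem hf : IsPBlock M S.f := S.hnest.1.2.1

theorem hab' : ∀ x ∈ P.subgroupOf S.K, ∀ y ∈ P.subgroupOf S.K, x * y = y * x :=
  fun _ hx _ hy => Subtype.ext (S.hab _ hx _ hy)

theorem f_induced : IsInducedBlock M S.K S.f B :=
  (isBrauerPairOf_iff_induced S.hM (S.hmax.1.1.1.to_le S.zP) S.hf).1
    (isElemOf_of_below S.hM S.hmax (bel_below S.hM S.hmax.1.1 S.z))

/-- An element of `P` in the centralizer. -/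
noncomputable def inK (w : P) : P.subgroupOf S.K := ⟨⟨w, S.hPK w.2⟩, Subgroup.mem_subgroupOf.2 w.2⟩

theorem coe_inK (w : P) : ((S.inK w : S.K) : G) = w := rfl

/-! ### Contributions as sums over the group -/

/-- The block below `(P, c)` over `w`. -/
noncomputable def belB (w : P) : Set (IrrCharacter (cenZ (w : G))) := (bel S.hM S.hmax.1.1 w).2

/-- The block below the pair inside the centralizer over `w`. -/
noncomputable def belK (w : P) :
    Set (IrrCharacter (cenZ ((S.inK w : P.subgroupOf S.K) : S.K))) :=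
  (bel S.hM S.hnest.1.1 (S.inK w)).2

/-- The coefficients of the block below `(P, c)` over `w`. -/
noncomputable def beta (w : P) : G → ℂ :=
  subgroupBlockCoeff (cenZ (w : G)) (S.belB w)

/-- The contribution of a function at `w`. -/
noncomputable def sec (F : G → ℂ) (w : P) (x : G) : ℂ := ∑ k : G, S.beta w k * F (w * x * k)

theorem sum_cenZ (w : P) (F : G → ℂ) :
    ∑ k : cenZ (w : G), S.beta w (k : G) * F (k : G) = ∑ k : G, S.beta w k * F k := by
  rw [← Finset.sum_subset (Finset.subset_univ (Finset.univ.filter fun k : G => k ∈ cenZ (w : G)))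
    fun k _ hk => by
      show S.beta w k * F k = 0
      rw [beta, bc_of_notMem fun h => hk (Finset.mem_filter.2 ⟨Finset.mem_univ _, h⟩), zero_mul]]
  exact (Finset.sum_subtype (p := fun k => k ∈ cenZ (w : G)) _ (by simp)
    fun k => S.beta w k * F k).symm

theorem secPart_eq_sec (w : P) (χ : IrrCharacter G) (x : cenZ (w : G)) :
    secPart (w : G) (cenZ (w : G)) (S.belB w) χ x = S.sec (χ : G → ℂ) w x := by
  have hcl : IsClassFunction (cenZ (w : G)) fun d : cenZ (w : G) => (χ : G → ℂ) ((w : G) * d) :=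
    mul_left_isClassFunction (cenZ_eq (w : G)) χ
  refine (blockPart_eq_conv _ hcl x).trans ?_
  refine Eq.trans ?_ (S.sum_cenZ w fun k => (χ : G → ℂ) ((w : G) * (x : G) * k))
  refine Finset.sum_congr rfl fun k _ => ?_
  rw [beta, bc_of_mem k.2, Subgroup.coe_mul, mul_assoc]

theorem sec_conj {t : G} (ht : t ∈ pairStab P c) {w w' : P} (hw : (w' : G) = t * w * t⁻¹) (F : G → ℂ)
    (x : G) : S.sec F w' (t * x * t⁻¹) = S.sec (fun g => F (t * g * t⁻¹)) w x := by
  have hb : ∀ k, S.beta w' (t * k * t⁻¹) = S.beta w k := fun k => by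
    have h := act_bel_stab S.hM S.hmax.1.1 ht w
    rw [show (⟨t * (w : G) * t⁻¹, (Subgroup.mem_normalizer_iff.1 ht.1 _).1 w.2⟩ : P) = w' from
      Subtype.ext hw.symm] at h
    show (bel S.hM S.hmax.1.1 w').bc _ = (bel S.hM S.hmax.1.1 w).bc k
    rw [← h, bc_act]
    simp [mul_assoc]
  refine (Fintype.sum_equiv (MulAut.conj t).toEquiv _ _ fun k => ?_).symm
  show S.beta w k * F (t * ((w : G) * x * k) * t⁻¹)
    = S.beta w' (t * k * t⁻¹) * F ((w' : G) * (t * x * t⁻¹) * (t * k * t⁻¹))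
  rw [hb, hw]
  simp [mul_assoc]

theorem sec_sum {ι : Type*} (s : Finset ι) (a : ι → ℂ) (F : ι → G → ℂ) (w : P) (x : G) :
    S.sec (fun g => ∑ i ∈ s, a i * F i g) w x = ∑ i ∈ s, a i * S.sec (F i) w x := by
  simp only [sec, Finset.mul_sum]
  rw [Finset.sum_comm]
  exact Finset.sum_congr rfl fun i _ => Finset.sum_congr rfl fun k _ => by ring

theorem sec_res {w : P} (hw : w ≠ 1) (F : G → ℂ) {x : G} (hx : x ∈ cenZ (w : G)) :
    S.sec F w x = S.sec (ext0 S.K fun k => F k) w x := by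
  refine Finset.sum_congr rfl fun k _ => ?_
  by_cases hk : k ∈ cenZ (w : G)
  · rw [ext0_mem _ (S.K.mul_mem (S.K.mul_mem (S.hPK w.2) (S.cenZ_le hw hx)) (S.cenZ_le hw hk))]
  · rw [beta, bc_of_notMem hk, zero_mul, zero_mul]

/-- The contributions inside the centralizer. -/
theorem secPart_local {w : P} (hw : w ≠ 1) (ψ : IrrCharacter S.K) (x : cenZ (w : G))
    (x' : cenZ ((S.inK w : P.subgroupOf S.K) : S.K)) (hx : ((x' : S.K) : G) = x) :
    secPart ((S.inK w : P.subgroupOf S.K) : S.K) (cenZ ((S.inK w : P.subgroupOf S.K) : S.K))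
      (S.belK w) ψ x' = S.sec (ext0 S.K (ψ : S.K → ℂ)) w x := by
  let u : S.K := ((S.inK w : P.subgroupOf S.K) : S.K)
  have hL : cenZ (w : G) ≤ S.K := S.cenZ_le hw
  have hiffL : ∀ a : S.K, (a : G) ∈ cenZ (w : G) ↔ a ∈ cenZ u := fun a => by
    rw [cenZ_eq, cenZ_eq, Subgroup.mem_centralizer_singleton_iff,
      Subgroup.mem_centralizer_singleton_iff, Subtype.ext_iff, Subgroup.coe_mul, Subgroup.coe_mul]
    rfl
  set φ := nestIso hL hiffL
  set eK := irrEquiv φ '' S.belB w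
  have hg : IsInducedBlockIn M (cenZ (w : G)) (Subgroup.centralizer (P : Set G)) c (S.belB w) :=
    bel_inducedIn S.hM S.hmax.1.1 S.hab w
  set ψ₁ := nestIso (BrouePuig.centralizer_le_centralizer S.zP) S.hiff
  have hin : IsInducedBlockIn M (cenZ u) (Subgroup.centralizer (P.subgroupOf S.K : Set S.K))
      S.c' eK := by
    refine ⟨isPBlock_image _ hg.1, isPBlock_image _ hg.2.1, ?_⟩
    rintro _ ⟨ξ, hξ, rfl⟩ _ ⟨χ, hχ, rfl⟩ n
    rw [show centralChar ((irrEquiv φ χ : IrrCharacter (cenZ u)) : cenZ u → ℂ) n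
      = centralChar (χ : cenZ (w : G) → ℂ) (φ n) from centralChar_irrEquiv φ _ n]
    have e : inducedCentralCharIn (cenZ u) (Subgroup.centralizer (P.subgroupOf S.K : Set S.K))
          ((irrEquiv ψ₁ ξ : IrrCharacter _) : _ → ℂ) (n : S.K)
        = inducedCentralCharIn (cenZ (w : G)) (Subgroup.centralizer (P : Set G))
            (ξ : Subgroup.centralizer (P : Set G) → ℂ) (φ n : G) := by
      rw [inducedCentralCharIn, inducedCentralCharIn]
      refine finsum_mem_eq_of_bijOn ψ₁ ⟨?_, ψ₁.injective.injOn, ?_⟩ fun k _ => ?_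
      · rintro k ⟨a, ha⟩
        exact ⟨φ a, congrArg Subtype.val ha⟩
      · rintro k ⟨a, ha⟩
        refine ⟨ψ₁.symm k, ⟨φ.symm a, Subtype.ext ?_⟩, ψ₁.apply_symm_apply k⟩
        exact ha
      · rw [irrEquiv_apply, irrEquiv_apply, map_one]
    rw [e]
    exact hg.2.2 ξ hξ χ hχ _
  have heK : eK = S.belK w :=
    inducedIn_unique S.hM (H := cenZ u) (fun a ha => (hiffL a).1
      (BrouePuig.centralizer_le_centralizer (Subgroup.zpowers_le.2 w.2) ((S.hiff a).2 ha)))
      hin (bel_inducedIn S.hM S.hnest.1.1 S.hab' (S.inK w))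
  rw [← heK]
  refine (blockPart_eq_conv eK (mul_left_isClassFunction (cenZ_eq u) ψ) x').trans ?_
  refine Eq.trans ?_ (S.sum_cenZ w fun k => ext0 S.K (ψ : S.K → ℂ) ((w : G) * (x : G) * k))
  refine Fintype.sum_equiv φ.toEquiv _ _ fun k => ?_
  have h1 : blockCoeff eK k = S.beta w ((φ k : cenZ (w : G)) : G) := by
    refine (bc_coe (cenZ u) eK k).symm.trans ?_
    exact bc_image_nestIso _ _ _ _
  rw [h1]
  congr 1
  show _ = ext0 S.K (ψ : S.K → ℂ) ((w : G) * (x : G) * ((φ k : cenZ (w : G)) : G))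
  rw [ext0_mem _ (S.K.mul_mem (S.K.mul_mem (S.hPK w.2) (hL x.2)) (hL (φ k).2))]
  refine congrArg (ψ : S.K → ℂ) (Subtype.ext ?_)
  show ((u : S.K) : G) * (((x' : S.K) : G) * ((k : S.K) : G)) = _
  rw [hx, ← mul_assoc]
  rfl

/-! ### The members -/

/-- The structure of the block of the centralizer. -/
theorem exists_members :
    ∃ (σ : P → G → ℂ) (Φ : IrrCharacter (P.subgroupOf S.K) ≃ S.f),
      (∀ ζ ζ' (x : S.K), ¬ p ∣ orderOf x →
        ((Φ ζ : IrrCharacter S.K) : S.K → ℂ) x = ((Φ ζ' : IrrCharacter S.K) : S.K → ℂ) x) ∧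
      (∀ ζ ζ' (x : S.K), ((Φ ζ : IrrCharacter S.K) : S.K → ℂ) x ≠ ((Φ ζ' : IrrCharacter S.K) : S.K → ℂ) x →
        ∃ (k : S.K) (w : P), w ≠ 1 ∧ ((k * pPart p x * k⁻¹ : S.K) : G) = w) ∧
      (∀ ζ : IrrCharacter (P.subgroupOf S.K), ∀ w : P, w ≠ 1 → ∀ x : cenZ (w : G), ¬ p ∣ orderOf x →
        S.sec (ext0 S.K ((Φ ζ : IrrCharacter S.K) : S.K → ℂ)) w x
          = (ζ : P.subgroupOf S.K → ℂ) (S.inK w) * σ w x) ∧
      (∀ ψ ∉ S.f, ∀ w : P, w ≠ 1 → ∀ x : cenZ (w : G), ¬ p ∣ orderOf x →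
        S.sec (ext0 S.K (ψ : S.K → ℂ)) w x = 0) ∧
      (∀ w : P, w ≠ 1 → ∃ x : cenZ (w : G), ¬ p ∣ orderOf x ∧ σ w x ≠ 0) := by
  have hM := S.hM
  obtain ⟨χ, hχ, h0, Φ, hΦ⟩ := exists_param_star hM S.hnil S.hnest
  have hcl : ∀ ζ : IrrCharacter (P.subgroupOf S.K), IsClassFunction _ (ζ : P.subgroupOf S.K → ℂ) :=
    fun ζ => Char.IsIrrCharacter.isClassFunction ζ.2
  have hone : ∀ ζ : IrrCharacter (P.subgroupOf S.K), (ζ : P.subgroupOf S.K → ℂ) 1 = 1 := fun ζ =>
    Char.apply_one_eq_one_of_comm (G := P.subgroupOf S.K)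
      (fun a b => Subtype.ext (S.hab' a a.2 b b.2)) ζ.2
  have hloc : ∀ w : P, ∀ x : cenZ (w : G), w ≠ 1 → ∃ x' : cenZ ((S.inK w : P.subgroupOf S.K) : S.K),
      ((x' : S.K) : G) = x ∧ orderOf x' = orderOf x := by
    intro w x hw
    have hmem : (⟨x, S.cenZ_le hw x.2⟩ : S.K) ∈ cenZ ((S.inK w : P.subgroupOf S.K) : S.K) := by
      rw [cenZ_eq, Subgroup.mem_centralizer_singleton_iff]
      exact Subtype.ext (Subgroup.mem_centralizer_singleton_iff.1 (cenZ_eq (w : G) ▸ x.2))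
    exact ⟨⟨_, hmem⟩, rfl, by rw [← Subgroup.orderOf_coe, ← Subgroup.orderOf_coe, Subgroup.orderOf_mk]⟩
  refine ⟨fun w x => S.sec (ext0 S.K (χ : S.K → ℂ)) w x, Φ, ?_, ?_, ?_, ?_, ?_⟩
  · intro ζ ζ' x hx
    rw [hΦ, hΦ, star_etaOf_regular S.hnest (stable_of_class hM S.hnil S.hnest (hcl ζ)) hχ hx,
      star_etaOf_regular S.hnest (stable_of_class hM S.hnil S.hnest (hcl ζ')) hχ hx, hone, hone]
  · intro ζ ζ' x hne
    obtain ⟨y, hxy, hcomm, ⟨j, hj⟩, hy⟩ := pPart_spec hM.1 x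
    set u := pPart p x
    have hyu : y ∈ cenZ u := by
      rw [cenZ_eq, Subgroup.mem_centralizer_singleton_iff]; exact hcomm.eq.symm
    have e := fun ζ : IrrCharacter (P.subgroupOf S.K) =>
      star_eq (hM := hM) (etaOf p M _ S.c' (ζ : P.subgroupOf S.K → ℂ)) χ (u := u) ⟨j, hj⟩ ⟨y, hyu⟩
        (by rwa [← Subgroup.orderOf_coe])
    simp only [hxy] at e
    rw [hΦ, hΦ, e, e] at hne
    obtain ⟨d, -, hdne⟩ : ∃ d ∈ blockSet M (Subgroup.centralizer
        ((Subgroup.zpowers u : Subgroup S.K) : Set S.K)),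
        etaOf p M _ S.c' (ζ : P.subgroupOf S.K → ℂ) ⟨u, d⟩ * secPart u _ d χ ⟨y, hyu⟩
          ≠ etaOf p M _ S.c' (ζ' : P.subgroupOf S.K → ℂ) ⟨u, d⟩ * secPart u _ d χ ⟨y, hyu⟩ := by
      by_contra hno
      push Not at hno
      exact hne (Finset.sum_congr rfl hno)
    have hel : IsElemOf p M S.f (⟨u, d⟩ : BElem S.K) := by
      by_contra hn
      refine hdne ?_
      rw [etaOf_eq_zero hM S.hnest _ hn, etaOf_eq_zero hM S.hnest _ hn]
    obtain ⟨k, hk⟩ := (exists_below_iff hM S.hnest _).2 hel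
    refine ⟨k, ⟨((k * u * k⁻¹ : S.K) : G), Subgroup.mem_subgroupOf.1 (mem_of_below_act hk)⟩,
      fun hk1 => hdne ?_, rfl⟩
    rw [etaOf_eq (stable_of_class hM S.hnil S.hnest (hcl ζ)) hk,
      etaOf_eq (stable_of_class hM S.hnil S.hnest (hcl ζ')) hk,
      show (⟨k * (⟨u, d⟩ : BElem S.K).1 * k⁻¹, mem_of_below_act hk⟩ : P.subgroupOf S.K) = 1 from
        Subtype.ext (Subtype.ext (by simpa using congrArg Subtype.val hk1)), hone, hone]
  · intro ζ w hw x hx
    obtain ⟨x', hx', hox⟩ := hloc w x hw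
    rw [← S.secPart_local hw (Φ ζ : IrrCharacter S.K) x x' hx']
    show _ = _ * S.sec _ w x
    rw [← S.secPart_local hw χ x x' hx']
    have hel := isElemOf_of_below hM S.hnest (bel_below hM S.hnest.1.1 (S.inK w))
    refine (secPart_star (hM := hM) (e := S.belK w) _ χ (Φ ζ : IrrCharacter S.K) (hΦ ζ)
      (mem_elems.1 (IsElemOf.mem hM.1 hel)).1 hel.1.2 (hox.symm ▸ hx)).trans ?_
    exact congrArg (· * _)
      (etaOf_bel hM S.hnest.1.1 (stable_of_class hM S.hnil S.hnest (hcl ζ)) (S.inK w))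
  · intro ψ hψ w hw x hx
    obtain ⟨x', hx', hox⟩ := hloc w x hw
    rw [← S.secPart_local hw ψ x x' hx']
    have hel := isElemOf_of_below hM S.hnest (bel_below hM S.hnest.1.1 (S.inK w))
    exact secPart_eq_zero_of_notMem hM (b := S.belK w) (cenZ_eq _) (mem_elems.1 (IsElemOf.mem hM.1 hel)).1
      ((isBrauerPairOf_iff_induced hM hel.1.1 hel.1.2).1 hel) hψ (hox.symm ▸ hx)
  · intro w hw
    have h := ratio_mul_secInner_eq_one hM S.hnil S.hnest hχ h0 (S.inK w)
    obtain ⟨d, hd, hdne⟩ : ∃ d : cenZ ((S.inK w : P.subgroupOf S.K) : S.K), IsPRegular p d ∧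
        secPart ((S.inK w : P.subgroupOf S.K) : S.K) (cenZ ((S.inK w : P.subgroupOf S.K) : S.K))
          (S.belK w) χ d ≠ 0 := by
      by_contra hno
      push Not at hno
      refine one_ne_zero (h.symm.trans (mul_eq_zero_of_right _ ?_))
      rw [secInner]
      refine Finset.sum_eq_zero fun d hd => ?_
      exact mul_eq_zero_of_left (hno d (Finset.mem_filter.1 hd).2) _
    have hmem : ((d : S.K) : G) ∈ cenZ (w : G) := by
      rw [cenZ_eq, Subgroup.mem_centralizer_singleton_iff]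
      exact congrArg Subtype.val
        (Subgroup.mem_centralizer_iff.1 d.2 _ (Subgroup.mem_zpowers _)).symm
    refine ⟨⟨_, hmem⟩, ?_, fun h1 => hdne ?_⟩
    · rw [Subgroup.orderOf_mk, Subgroup.orderOf_coe, Subgroup.orderOf_coe]
      exact hd
    · rw [S.secPart_local hw χ ⟨_, hmem⟩ d rfl]
      exact h1

/-! ### Conjugation by the normalizer -/

theorem mem_normalizer_K {y : G} (hy : y ∈ Subgroup.normalizer (Subgroup.zpowers (S.z : G) : Set G)) :
    y ∈ Subgroup.normalizer (S.K : Set G) :=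
  normalizer_le_normalizer_centralizer _ hy

/-- The normalizer of `⟨z⟩`. -/
abbrev H : Subgroup G := Subgroup.normalizer (Subgroup.zpowers (S.z : G) : Set G)

/-- A conjugate character of the centralizer. -/
noncomputable def tw (y : S.H) (ψ : IrrCharacter S.K) : IrrCharacter S.K :=
  irrEquiv (conjIso (y : G) (mem_iff_of_normalizer (S.mem_normalizer_K y.2))) ψ

theorem tw_apply (y : S.H) (ψ : IrrCharacter S.K) (k : S.K) :
    (S.tw y ψ : S.K → ℂ) k = ext0 S.K (ψ : S.K → ℂ) ((y : G) * k * (y : G)⁻¹) := by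
  rw [tw, irrEquiv_apply, ext0_mem _
    ((mem_iff_of_normalizer (S.mem_normalizer_K y.2) _).2 k.2)]
  rfl

theorem ext0_tw (y : S.H) (ψ : IrrCharacter S.K) (g : G) :
    ext0 S.K (S.tw y ψ : S.K → ℂ) g = ext0 S.K (ψ : S.K → ℂ) ((y : G) * g * (y : G)⁻¹) := by
  by_cases hg : g ∈ S.K
  · rw [ext0_mem _ hg, tw_apply]
  · rw [ext0, dif_neg hg, ext0, dif_neg fun h => hg
      ((mem_iff_of_normalizer (S.mem_normalizer_K y.2) _).1 h)]

theorem tw_mul (x y : S.H) (ψ : IrrCharacter S.K) : S.tw (x * y) ψ = S.tw y (S.tw x ψ) :=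
  Subtype.ext (funext fun k => by
    rw [tw_apply, tw_apply, ext0_tw]
    simp [mul_assoc])

theorem tw_one (ψ : IrrCharacter S.K) : S.tw 1 ψ = ψ :=
  Subtype.ext (funext fun k => by rw [tw_apply]; simp [ext0_coe])

theorem tw_of_mem (y : S.H) (hy : (y : G) ∈ S.K) (ψ : IrrCharacter S.K) : S.tw y ψ = ψ :=
  Subtype.ext (funext fun k => by
    rw [tw_apply, show (y : G) * k * (y : G)⁻¹ = ((⟨y, hy⟩ * k * ⟨y, hy⟩⁻¹ : S.K) : G) from rfl,
      ext0_coe]
    exact irr_conj_apply ψ k _)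

theorem tw_mem_iff {y : S.H} {ψ : IrrCharacter S.K} (hψ : ψ ∈ S.f) :
    S.tw y ψ ∈ S.f ↔ (y : G) ∈ pairStab (Subgroup.zpowers (S.z : G)) S.f := by
  have hiff := mem_iff_of_normalizer (S.mem_normalizer_K y.2)
  set f' := irrEquiv (conjIso (y : G) hiff) '' S.f
  have hbc : ∀ x, subgroupBlockCoeff S.K f' x = subgroupBlockCoeff S.K S.f ((y : G) * x * (y : G)⁻¹) :=
    fun x => bc_image_conjIso _ hiff S.f x
  constructor
  · intro h
    have he : f' = S.f :=
      IsPBlock.eq_of_mem S.hM (isPBlock_image _ S.hf) S.hf ⟨ψ, hψ, rfl⟩ h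
    exact ⟨y.2, fun x => (hbc x).symm.trans (by rw [he])⟩
  · intro h
    have he : f' = S.f := bc_injective S.K (funext fun x => (hbc x).trans (h.2 x))
    exact he ▸ ⟨ψ, hψ, rfl⟩

theorem pairStab_le_H {y : G} (hy : y ∈ pairStab P c) : y ∈ S.H :=
  CyclicRank.mem_normalizer_zpowers S.hcyc (pairStab_le_normalizer c hy) S.z.2

theorem mem_pairStab_f {y : G} (hy : y ∈ pairStab P c) :
    y ∈ pairStab (Subgroup.zpowers (S.z : G)) S.f :=
  CyclicRank.mem_pairStab_below S.hM S.hmax.1.1 (bel_below S.hM S.hmax.1.1 S.z) hy (S.pairStab_le_H hy)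

theorem exists_factor {y : S.H} (hy : (y : G) ∈ pairStab (Subgroup.zpowers (S.z : G)) S.f) :
    ∃ t : S.H, (t : G) ∈ pairStab P c ∧ ∀ ψ, S.tw y ψ = S.tw t ψ := by
  obtain ⟨t, ht, k, hk, hyk⟩ := exists_factor_abelian S.hM S.hmax S.hab
    (bel_below S.hM S.hmax.1.1 S.z) hy
  refine ⟨⟨t, S.pairStab_le_H ht⟩, ht, fun ψ => ?_⟩
  rw [show y = (⟨t, S.pairStab_le_H ht⟩ : S.H) * ⟨k, centralizer_le_normalizer _ hk⟩ from
    Subtype.ext hyk, tw_mul, S.tw_of_mem ⟨k, _⟩ hk]

/-- A member fixed by the stabilizer of the pair, the others being moved freely. -/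
theorem exists_base :
    ∃ ψ₀ ∈ S.f, (∀ t : S.H, (t : G) ∈ pairStab P c → S.tw t ψ₀ = ψ₀) ∧
      ∀ ψ ∈ S.f, ψ ≠ ψ₀ → ∀ t : S.H, (t : G) ∈ pairStab P c → S.tw t ψ = ψ →
        (t : G) ∈ Subgroup.centralizer (P : Set G) := by
  have hp : p.Prime := Fact.out
  have hM := S.hM
  obtain ⟨σ, Φ, -, -, hsec, -, hσ⟩ := S.exists_members
  let P' := P.subgroupOf S.K
  have hone : ∀ ζ : IrrCharacter P', (ζ : P' → ℂ) 1 = 1 := fun ζ =>
    Char.apply_one_eq_one_of_comm (G := P') (fun a b => Subtype.ext (S.hab' a a.2 b b.2)) ζ.2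
  have hhom : ∀ ζ : IrrCharacter P', ∃ φ : P' →* ℂˣ, (ζ : P' → ℂ) = fun g => (φ g : ℂ) := fun ζ =>
    Char.exists_hom_of_apply_one_eq_one (Char.isCharacter_irr ζ) (hone ζ)
  obtain ⟨a, ha⟩ := S.hmax.1.1.1.exists_card_eq
  have hcard' : Nat.card P' = p ^ a := by
    rw [Nat.card_congr (Subgroup.subgroupOfEquivOfLe S.hPK).toEquiv, ha]
  -- the label
  have hlab : ∀ t : S.H, (t : G) ∈ pairStab P c → (t : G) ∉ Subgroup.centralizer (P : Set G) →
      ∃! ζ : IrrCharacter P', S.tw t (Φ ζ : IrrCharacter S.K) = (Φ ζ : IrrCharacter S.K) := by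
    intro t ht htC
    obtain ⟨m, hm⟩ := exists_exp S.hcyc (pairStab_le_normalizer c ht)
    have hmp : ¬ (p : ℤ) ∣ m - 1 := fun hd => htC (S.hfree _ ht _ S.z.2
      (fun h => S.z_ne_one (Subtype.ext h)) (by
        rw [hm _ S.z.2]
        obtain ⟨i, hi⟩ := hd
        have hzp : (S.z : G) ^ p = 1 := by
          have := congrArg (fun a : P => (a : G)) (pow_orderOf_eq_one S.z)
          rwa [S.hz] at this
        rw [show m = (p : ℤ) * i + 1 by omega, zpow_add, zpow_one, zpow_mul, zpow_natCast, hzp,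
          one_zpow, one_mul]))
    have hmem : ∀ ψ : S.f, S.tw t (ψ : IrrCharacter S.K) ∈ S.f := fun ψ =>
      (S.tw_mem_iff ψ.2).2 (S.mem_pairStab_f ht)
    let one : IrrCharacter P' := ⟨_, Char.isIrrCharacter_one⟩
    let lab : IrrCharacter P' → IrrCharacter P' := fun ζ => Φ.symm ⟨_, hmem (Φ ζ)⟩
    have hlabel : ∀ ζ, S.tw t (Φ ζ : IrrCharacter S.K) = (Φ (lab ζ) : IrrCharacter S.K) := fun ζ => by
      simp [lab]
    have hval : ∀ ζ (v : P'), (lab ζ : P' → ℂ) v
        = (lab one : P' → ℂ) v * (ζ : P' → ℂ) (v ^ m) := by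
      intro ζ v
      by_cases hv : v = 1
      · rw [hv, one_zpow, hone, hone, hone, mul_one]
      set w : P := ⟨((v : S.K) : G), Subgroup.mem_subgroupOf.1 v.2⟩ with hwdef
      have hvw : S.inK w = v := Subtype.ext (Subtype.ext rfl)
      have hw : w ≠ 1 := fun h => hv (by rw [← hvw, h]; exact Subtype.ext (Subtype.ext rfl))
      obtain ⟨w', hw'def⟩ : ∃ w' : P, (w' : G) = (t : G) * w * (t : G)⁻¹ :=
        ⟨⟨_, (Subgroup.mem_normalizer_iff.1 (pairStab_le_normalizer c ht) _).1 w.2⟩, rfl⟩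
      have hw' : w' ≠ 1 := fun h => hw (Subtype.ext (by
        rw [h, Subgroup.coe_one, eq_comm, conj_eq_one_iff] at hw'def
        rw [Subgroup.coe_one]
        exact hw'def))
      have hww : S.inK w' = v ^ m := Subtype.ext (Subtype.ext (by
        rw [coe_inK, hw'def, hm _ w.2, SubgroupClass.coe_zpow, SubgroupClass.coe_zpow]))
      obtain ⟨x, hx, hxne⟩ := hσ w hw
      have hxmem : (t : G) * x * (t : G)⁻¹ ∈ cenZ (w' : G) := by
        rw [cenZ_eq, Subgroup.mem_centralizer_singleton_iff, hw'def]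
        have hx2 : (x : G) ∈ Subgroup.centralizer ({(w : G)} : Set G) := cenZ_eq (w : G) ▸ x.2
        have := Subgroup.mem_centralizer_singleton_iff.1 hx2
        calc (t : G) * x * (t : G)⁻¹ * ((t : G) * w * (t : G)⁻¹) = t * (x * w) * (t : G)⁻¹ := by group
          _ = t * (w * x) * (t : G)⁻¹ := by rw [this]
          _ = _ := by group
      have hx' : ¬ p ∣ orderOf (⟨_, hxmem⟩ : cenZ (w' : G)) := by
        rw [← Subgroup.orderOf_coe]
        show ¬ p ∣ orderOf (MulAut.conj (t : G) (x : G))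
        rwa [MulEquiv.orderOf_eq, Subgroup.orderOf_coe]
      have key : ∀ η, (lab η : P' → ℂ) v * σ w x
          = (η : P' → ℂ) (v ^ m) * σ w' ((t : G) * x * (t : G)⁻¹) := fun η => by
        rw [← hvw, ← hsec (lab η) w hw x hx, hvw, ← hww, ← hsec η w' hw' ⟨_, hxmem⟩ hx',
          S.sec_conj ht (w := w) (w' := w') hw'def]
        congr 1
        funext g
        rw [← ext0_tw]
        exact congrArg (fun ψ : IrrCharacter S.K => ext0 S.K (ψ : S.K → ℂ) g) (hlabel η).symm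
      have k1 := key one
      have k2 := key ζ
      rw [show (one : P' → ℂ) (v ^ m) = 1 from rfl, one_mul] at k1
      rw [← k1] at k2
      exact mul_right_cancel₀ hxne (by rw [k2]; ring)
    obtain ⟨μ, hμ⟩ := hhom (lab one)
    -- the exponent of the solution
    have hcop : IsCoprime (m - 1) ((p : ℤ) ^ a) :=
      ((Nat.prime_iff_prime_int.1 hp).coprime_iff_not_dvd.2 hmp).symm.pow_right
    obtain ⟨j, i, hji⟩ := hcop
    have hpa : ∀ v : P', v ^ ((p : ℤ) ^ a) = 1 := fun v => by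
      rw [← Nat.cast_pow, zpow_natCast, ← hcard', pow_card_eq_one']
    let ν : P' →* ℂˣ :=
      { toFun := fun v => μ v ^ (-j)
        map_one' := by simp
        map_mul' := fun a b => by rw [map_mul, mul_zpow] }
    let sol : IrrCharacter P' := ⟨_, Char.isIrrCharacter_hom ν⟩
    have hsol : ∀ v, (sol : P' → ℂ) v = ((μ v ^ (-j) : ℂˣ) : ℂ) := fun v => rfl
    refine ⟨sol, ?_, ?_⟩
    · show S.tw t (Φ sol : IrrCharacter S.K) = _
      rw [hlabel]
      congr 2
      refine Subtype.ext (funext fun v => ?_)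
      rw [hval, hμ, hsol, hsol, ← map_zpow μ, ← map_zpow μ]
      show (μ v : ℂ) * ((μ ((v ^ m) ^ (-j)) : ℂˣ) : ℂ) = ((μ (v ^ (-j)) : ℂˣ) : ℂ)
      rw [← Units.val_mul, ← map_mul]
      congr 2
      rw [← zpow_mul, ← zpow_one_add,
        show 1 + m * -j = -j + i * ((p : ℤ) ^ a) by linear_combination -hji, zpow_add, mul_comm i,
        zpow_mul, hpa, one_zpow, mul_one]
    · intro ζ hζ
      rw [hlabel] at hζ
      have hζ' : lab ζ = ζ := Φ.injective (Subtype.ext hζ)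
      obtain ⟨φ, hφ⟩ := hhom ζ
      refine Subtype.ext (funext fun v => ?_)
      have h1 : ∀ v, φ v = μ v * φ (v ^ m) := fun v => Units.ext (by
        have := hval ζ v
        rw [hζ', hμ, hφ] at this
        exact this)
      rw [hφ, hsol, ← map_zpow μ]
      show (φ v : ℂ) = ((μ (v ^ (-j)) : ℂˣ) : ℂ)
      congr 1
      have h2 := h1 v
      rw [map_zpow] at h2
      have h3 : μ v = φ v ^ (1 - m) := by
        rw [zpow_sub, zpow_one, eq_mul_inv_iff_mul_eq]
        exact h2.symm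
      rw [map_zpow μ, h3, ← zpow_mul,
        show (1 - m) * -j = 1 - i * ((p : ℤ) ^ a) by linear_combination hji, zpow_sub, zpow_one,
        mul_comm i, zpow_mul, ← map_zpow φ, hpa, map_one, one_zpow, inv_one, mul_one]
  -- a generator
  haveI hN : ((Subgroup.centralizer (P : Set G)).subgroupOf (pairStab P c)).Normal :=
    Subgroup.normal_subgroupOf_iff_le_normalizer (centralizer_le_pairStab c) |>.2
      ((pairStab_le_normalizer c).trans (normalizer_le_normalizer_centralizer P))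
  obtain ⟨hcT, -⟩ := cyclic_inertial hM S.hmax S.hcyc S.P_ne_bot rfl
  set N := (Subgroup.centralizer (P : Set G)).subgroupOf (pairStab P c)
  have hCfix : ∀ t : S.H, (t : G) ∈ Subgroup.centralizer (P : Set G) → ∀ ψ, S.tw t ψ = ψ :=
    fun t ht ψ => S.tw_of_mem t (S.hCK ht) ψ
  obtain ⟨g₀, hg₀⟩ := hcT.exists_zpow_surjective
  obtain ⟨g, rfl⟩ := QuotientGroup.mk'_surjective N g₀
  by_cases htriv : ∀ t : S.H, (t : G) ∈ pairStab P c → (t : G) ∈ Subgroup.centralizer (P : Set G)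
  · obtain ⟨ψ, hψ⟩ := IsPBlock.nonempty hM S.hf
    exact ⟨ψ, hψ, fun t ht => hCfix t (htriv t ht) ψ, fun _ _ _ t ht _ => htriv t ht⟩
  · push Not at htriv
    obtain ⟨t₁, ht₁, ht₁C⟩ := htriv
    let gH : S.H := ⟨g, S.pairStab_le_H g.2⟩
    have hgC : (g : G) ∉ Subgroup.centralizer (P : Set G) := by
      intro hg
      refine ht₁C ?_
      obtain ⟨i, hi⟩ := hg₀ (QuotientGroup.mk' N ⟨(t₁ : G), ht₁⟩)
      simp only at hi
      rw [show QuotientGroup.mk' N g = 1 from (QuotientGroup.eq_one_iff _).2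
        (Subgroup.mem_subgroupOf.2 hg), one_zpow] at hi
      have h1 : (⟨(t₁ : G), ht₁⟩ : pairStab P c) ∈ N :=
        (QuotientGroup.eq_one_iff (N := N) _).1 hi.symm
      exact Subgroup.mem_subgroupOf.1 h1
    obtain ⟨ζ₀, hζ₀, huniq₀⟩ := hlab gH g.2 hgC
    set ψ₀ := (Φ ζ₀ : IrrCharacter S.K)
    let St : Subgroup S.H :=
      { carrier := {y | S.tw y ψ₀ = ψ₀}
        one_mem' := S.tw_one ψ₀
        mul_mem' := fun {x y} hx hy => by
          show S.tw (x * y) ψ₀ = ψ₀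
          rw [tw_mul, hx, hy]
        inv_mem' := fun {x} hx => by
          show S.tw x⁻¹ ψ₀ = ψ₀
          conv_lhs => rw [← hx, ← tw_mul, mul_inv_cancel, tw_one] }
    have hfix : ∀ t : S.H, (t : G) ∈ pairStab P c → S.tw t ψ₀ = ψ₀ := by
      intro t ht
      obtain ⟨i, hi⟩ := hg₀ (QuotientGroup.mk' N ⟨t, ht⟩)
      simp only at hi
      rw [← map_zpow] at hi
      have h1 : (g ^ i)⁻¹ * ⟨t, ht⟩ ∈ N := QuotientGroup.eq.1 hi
      have h2 : (gH ^ i)⁻¹ * t ∈ St := by
        refine hCfix _ ?_ ψ₀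
        have h3 := Subgroup.mem_subgroupOf.1 h1
        simpa using h3
      have h4 := St.mul_mem (St.zpow_mem (show gH ∈ St from hζ₀) i) h2
      rwa [mul_inv_cancel_left] at h4
    refine ⟨ψ₀, (Φ ζ₀).2, hfix, fun ψ hψ hne t ht htψ => ?_⟩
    by_contra htC
    obtain ⟨ζ, -, hu⟩ := hlab t ht htC
    have e1 := hu ζ₀ (hfix t ht)
    have e2 := hu (Φ.symm ⟨ψ, hψ⟩) (by
      show S.tw t ((Φ (Φ.symm ⟨ψ, hψ⟩) : S.f) : IrrCharacter S.K) = _
      rw [Equiv.apply_symm_apply]; exact htψ)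
    refine hne ?_
    show ψ = (Φ ζ₀ : IrrCharacter S.K)
    rw [e1, ← e2, Equiv.apply_symm_apply]

end Setup

end CfsgLib.Blocks.CyclicDecomp
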