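import Cfsg.Agent.Lib.Blocks.DefectGroup
import Cfsg.Agent.Lib.Char.Quotient
import Cfsg.Agent.Lib.CharDeep.CentralTrick

/-!
# Knörr: a character vanishing at all elements of order `p` has defect zero
-/

set_option autoImplicit false

namespace CfsgLib.Blocks

open Cfsg
open scoped Classical ComplexConjugate

variable {p : ℕ} {M : Ideal AlgInt}

/-- In a group with a central element of order `p` the sum over the elements with `g ^ p = 1`
vanishes modulo `M` under every central character. -/
theorem omega_powOne_LI {X : Type*} [Group X] [Fintype X] (hM : IsPModular p M) {v : X}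
    (hv : v ∈ Subgroup.center X) (hvp : orderOf v = p) (ψ : IrrCharacter X) :
    MemLocalIdeal M (omega (ψ : X → ℂ) fun x => if x ^ p = 1 then 1 else 0) := by
  set f : X → ℂ := fun x => if x ^ p = 1 then 1 else 0 with hfdef
  have hshift : ∀ x, f (x * v) = f x := fun x => by
    simp only [f, (show Commute x v from Subgroup.mem_center_iff.1 hv x).mul_pow]
    rw [show v ^ p = 1 by rw [← hvp]; exact pow_orderOf_eq_one v, mul_one]
  obtain ⟨ε, hε, -⟩ := CfsgLib.CharDeep.CentralTrick.exists_scalar_center ψ.2 hv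
  by_cases h1 : ε = 1
  · subst h1
    simp only [one_mul] at hε
    set Z := Subgroup.zpowers v
    haveI hZn : Z.Normal := ⟨fun n hn g => by
      have hc : n ∈ Subgroup.center X := (Subgroup.zpowers_le.2 hv) hn
      rw [Subgroup.mem_center_iff.1 hc g, mul_inv_cancel_right]; exact hn⟩
    have hZ : ∀ n ∈ Z, ∀ x, f (x * n) = f x ∧ (ψ : X → ℂ) (x * n) = (ψ : X → ℂ) x := by
      intro n hn
      obtain ⟨j, rfl⟩ := Subgroup.mem_zpowers_iff.1 hn
      induction j with
      | zero => intro x; simp
      | succ i ih =>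
        intro x
        have h := ih (zpow_mem (Subgroup.mem_zpowers v) _) x
        rw [zpow_add_one, ← mul_assoc]
        exact ⟨(hshift _).trans h.1, (hε _).trans h.2⟩
      | pred i ih =>
        intro x
        have h := ih (zpow_mem (Subgroup.mem_zpowers v) _) x
        have e : x * v ^ (-(i : ℤ) - 1) * v = x * v ^ (-(i : ℤ)) := by
          rw [mul_assoc, ← zpow_add_one, sub_add_cancel]
        refine ⟨?_, ?_⟩
        · rw [← hshift, e]; exact h.1
        · rw [← hε, e]; exact h.2
    obtain ⟨θ, hθ, he⟩ := CfsgLib.Char.IsIrrCharacter.exists_deflate ψ.2 Z fun n hn => by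
      simpa using (hZ n hn 1).2
    haveI : Fintype (X ⧸ Z) := Fintype.ofFinite _
    let g : X ⧸ Z → ℂ := fun q => f q.out
    have hg : ∀ x : X, g (QuotientGroup.mk' Z x) = f x := by
      intro x
      obtain ⟨z, hz⟩ := QuotientGroup.mk_out_eq_mul Z x
      show f (QuotientGroup.mk x : X ⧸ Z).out = f x
      rw [hz]; exact (hZ _ z.2 x).1
    have hgcl : IsClassFunction (X ⧸ Z) g := by
      intro a b
      obtain ⟨a, rfl⟩ := QuotientGroup.mk'_surjective Z a
      obtain ⟨b, rfl⟩ := QuotientGroup.mk'_surjective Z b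
      rw [← map_inv, ← map_mul, ← map_mul, hg, hg]
      simp only [f, conj_pow, conj_eq_one_iff]
    have e : omega (ψ : X → ℂ) f = (p : ℂ) * omega θ g := by
      rw [omega, omega, ← mul_div_assoc]
      congr 1
      · rw [← Finset.sum_fiberwise (Finset.univ : Finset X) (QuotientGroup.mk' Z), Finset.mul_sum]
        refine Finset.sum_congr rfl fun q _ => ?_
        rw [Finset.sum_congr rfl (g := fun _ => g q * θ q) fun x hx => by
          rw [he, Function.comp_apply, ← hg x, (Finset.mem_filter.1 hx).2],
          Finset.sum_const, nsmul_eq_mul]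
        congr 1
        obtain ⟨x, rfl⟩ := QuotientGroup.mk'_surjective Z q
        rw [← Fintype.card_subtype, ← Nat.card_eq_fintype_card, ← hvp, ← Nat.card_zpowers]
        congr 1
        refine Nat.card_congr ⟨fun y => ⟨x⁻¹ * y.1, QuotientGroup.eq.1 y.2.symm⟩,
          fun z => ⟨x * z.1, (QuotientGroup.eq.2 (by simp)).symm⟩,
          fun y => Subtype.ext (by simp), fun z => Subtype.ext (by simp)⟩
      · rw [he]; rfl
    rw [e]
    refine LI.mul_right hM (LI.natCast_prime hM) (omega_LR hM ⟨θ, hθ⟩ hgcl fun q => ?_)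
    simp only [g, f]; split
    · exact LR.one hM
    · exact LR.zero hM
  · have : omega (ψ : X → ℂ) f = 0 := by
      rw [omega]
      have h : ∑ x, f x * (ψ : X → ℂ) x = ε * ∑ x, f x * (ψ : X → ℂ) x := by
        rw [Finset.mul_sum]
        refine (Fintype.sum_equiv (Equiv.mulRight v) _ _ fun x => ?_).symm
        simp only [Equiv.coe_mulRight, hε, hshift]; ring
      have h2 : (1 - ε) * ∑ x, f x * (ψ : X → ℂ) x = 0 := by
        rw [sub_mul, one_mul, ← h, sub_self]
      rw [(mul_eq_zero.1 h2).resolve_left (sub_ne_zero.2 (Ne.symm h1)), zero_div]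
    rw [this]; exact LI.zero hM

/-- Knörr's theorem. -/
theorem degVal_eq_of_vanish {G : Type*} [Group G] [Fintype G] (hM : IsPModular p M)
    {χ : IrrCharacter G} (h : ∀ g : G, orderOf g = p → (χ : G → ℂ) g = 0) :
    degVal p χ = (Nat.card G).factorization p := by
  haveI := Fact.mk hM.1
  refine le_antisymm (degVal_le χ) (not_lt.1 fun hlt => ?_)
  set B := blockOf M (χ : G → ℂ)
  have hB : IsPBlock M B := isPBlock_blockOf χ
  have hχ : χ ∈ B := SameBlock_refl hM _
  obtain ⟨D, hD⟩ := exists_isDefectGroup hM hB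
  have hDp := isPGroup_defectGroup hD
  haveI hne : Nontrivial D := by
    rw [← Finite.one_lt_card_iff_nontrivial, card_defectGroup hM hB hD]
    refine Nat.one_lt_pow ?_ hM.1.one_lt
    have := minDegVal_le (p := p) hχ
    rw [blockDefect_eq]; omega
  haveI := IsPGroup.center_nontrivial hDp
  obtain ⟨v, hv⟩ := exists_prime_orderOf_dvd_card' (G := Subgroup.center D) p (by
    obtain ⟨n, hn⟩ := IsPGroup.iff_card.1 (hDp.to_subgroup (Subgroup.center D))
    rw [hn]
    refine dvd_pow_self p fun h0 => ?_
    rw [h0, pow_zero] at hn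
    exact (Finite.one_lt_card (α := Subgroup.center D)).ne' hn)
  obtain ⟨c, hc, hcl⟩ := exists_unit_coeff_centralizer hM hD
  set X := Subgroup.centralizer (D : Set G) with hX
  obtain ⟨ψ, χ', hχ', heval⟩ := exists_brauer_eval hM hB hDp hc hcl.2.1
  have hvX : ((v : D) : G) ∈ X := Subgroup.mem_centralizer_iff.2 fun d hd =>
    congrArg Subtype.val (Subgroup.mem_center_iff.1 v.2 ⟨d, hd⟩)
  let vX : X := ⟨_, hvX⟩
  have hcent : vX ∈ Subgroup.center X := Subgroup.mem_center_iff.2 fun x => Subtype.ext
    (Subgroup.mem_centralizer_iff.1 x.2 _ (v : D).2).symm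
  have hord : orderOf vX = p := by
    rw [← Subgroup.orderOf_coe, show (vX : G) = ((v : D) : G) from rfl, Subgroup.orderOf_coe,
      Subgroup.orderOf_coe, hv]
  set f : G → ℂ := fun g => if g ^ p = 1 then 1 else 0
  have hf : IsClassFunction G f := fun a b => by simp only [f, conj_pow, conj_eq_one_iff]
  have hR : ∀ g, MemLocalRing M (f g) := fun g => by
    simp only [f]; split
    · exact LR.one hM
    · exact LR.zero hM
  have h1 : omega (χ : G → ℂ) f = 1 := by
    rw [omega, Finset.sum_eq_single (1 : G)]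
    · simp [f, irr_one_ne_zero χ]
    · intro g _ hg
      by_cases hgp : g ^ p = 1
      · rw [h g (orderOf_eq_prime hgp hg), mul_zero]
      · simp [f, hgp]
    · simp
  have e : brTrunc D X f = fun x : X => if x ^ p = 1 then 1 else 0 := by
    funext x
    have hx : x ^ p = 1 ↔ (x : G) ^ p = 1 := by
      rw [← Subgroup.coe_pow, OneMemClass.coe_eq_one]
    rw [brTrunc, if_pos x.2]
    simp only [f, hx]
  have h2 : MemLocalIdeal M (omega (ψ : X → ℂ) (brTrunc D X f)) := by
    rw [e]; convert omega_powOne_LI hM hcent hord ψ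
  have h4 := LI.sub hM h2 (heval f hf hR)
  rw [sub_sub_cancel] at h4
  have h5 := LI.add hM (omega_congr hM (IsPBlock.sameBlock hM hB hχ hχ') hf hR) h4
  rw [sub_add_cancel, h1] at h5
  exact LI.not_one hM h5

end CfsgLib.Blocks
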