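import Cfsg.Agent.Lib.Blocks.NormalP
import Cfsg.Agent.Lib.BrauerPairs.Principal
import Cfsg.Agent.Lib.Blocks.Knorr

/-!
# Groups with a single block

A group with a normal `p`-subgroup containing its centralizer has one block.  If the centralizers of
all elements of order `p` are of this kind, every character of positive defect is in the principal
block.
-/

set_option autoImplicit false

namespace CfsgLib.Blocks

open Cfsg
open scoped Classical ComplexConjugate

variable {p : ℕ} {M : Ideal AlgInt}

/-- A normal `p`-subgroup containing its centralizer leaves only the principal block. -/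
theorem mem_principalBlock_of_constrained {X : Type*} [Group X] [Fintype X] (hM : IsPModular p M)
    (Q : Subgroup X) [Q.Normal] (hQ : IsPGroup p Q) (hC : Subgroup.centralizer (Q : Set X) ≤ Q)
    (ψ : IrrCharacter X) : ψ ∈ principalBlock M X := by
  set B := principalBlock M X
  have hB : IsPBlock M B := isPBlock_principalBlock
  have hzero : ∀ g : X, g ≠ 1 → blockCoeff B g = 0 := by
    intro g hg
    by_cases hgC : g ∈ Subgroup.centralizer (Q : Set X)
    · refine IsPBlock.blockCoeff_eq_zero hM hB ?_
      obtain ⟨k, hk⟩ := hQ ⟨g, hC hgC⟩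
      have hgk : g ^ p ^ k = 1 := congrArg Subtype.val hk
      have : Fact p.Prime := ⟨hM.1⟩
      obtain ⟨j, hj, hoj⟩ := (Nat.dvd_prime_pow hM.1).1 (orderOf_dvd_of_pow_eq_one hgk)
      rw [hoj]
      refine dvd_pow_self p fun h0 => hg ?_
      rw [h0, pow_zero] at hoj
      exact orderOf_eq_one_iff.1 hoj
    · exact blockCoeff_eq_zero_of_notMem_centralizer hM hQ hB hgC
  have he : ∀ φ : IrrCharacter X, blockInd B φ = blockCoeff B 1 := by
    intro φ
    rw [← omega_blockCoeff B φ]
    have : (fun g => blockCoeff B g) = fun g => if g = 1 then blockCoeff B 1 else 0 := by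
      funext g
      by_cases hg : g = 1
      · rw [if_pos hg, hg]
      · rw [if_neg hg, hzero g hg]
    rw [this]
    simp [omega, irr_one_ne_zero φ]
  by_contra hψ
  have h1 := he (trivChar X)
  have h2 := he ψ
  rw [blockInd_of_mem (trivChar_mem_principalBlock hM)] at h1
  rw [blockInd_of_notMem hψ] at h2
  exact one_ne_zero (h1.trans h2.symm)

/-- If the centralizers of all elements of order `p` have a normal `p`-subgroup containing its
centralizer, the characters of positive defect lie in the principal block. -/
theorem mem_principalBlock_of_local {G : Type*} [Group G] [Fintype G] (hM : IsPModular p M)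
    (hloc : ∀ t : G, orderOf t = p → ∃ Q : Subgroup (Subgroup.centralizer ({t} : Set G)),
      Q.Normal ∧ IsPGroup p Q ∧ Subgroup.centralizer (Q : Set _) ≤ Q)
    (χ : IrrCharacter G) (hχ : degVal p χ < (Nat.card G).factorization p) :
    χ ∈ principalBlock M G := by
  haveI := Fact.mk hM.1
  set B := blockOf M (χ : G → ℂ)
  have hB : IsPBlock M B := isPBlock_blockOf χ
  have hχB : χ ∈ B := SameBlock_refl hM _
  obtain ⟨D, hD⟩ := exists_isDefectGroup hM hB
  obtain ⟨t₀, ht₀⟩ := exists_prime_orderOf_dvd_card' (G := D) p (by
    rw [card_defectGroup hM hB hD]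
    refine dvd_pow_self p ?_
    have := minDegVal_le (p := p) hχB
    rw [blockDefect_eq]
    omega)
  have ht : orderOf (t₀ : G) = p := by rw [Subgroup.orderOf_coe, ht₀]
  set P := Subgroup.zpowers (t₀ : G)
  have hP : IsPGroup p P := IsPGroup.of_card (n := 1) (by rw [Nat.card_zpowers, ht, pow_one])
  obtain ⟨c, hc, hcl⟩ := exists_unit_coeff_centralizer hM hD
  have hcP : c ∈ Subgroup.centralizer (P : Set G) := by
    rw [Subgroup.mem_centralizer_iff]
    intro u hu
    exact Subgroup.mem_centralizer_iff.1 hc u (Subgroup.zpowers_le.2 t₀.2 hu)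
  obtain ⟨ψ, χ', hχ', heval⟩ := exists_brauer_eval hM hB hP hcP hcl.2.1
  obtain ⟨Q, hQn, hQp, hQC⟩ : ∃ Q : Subgroup (Subgroup.centralizer (P : Set G)),
      Q.Normal ∧ IsPGroup p Q ∧ Subgroup.centralizer (Q : Set _) ≤ Q := by
    have e : Subgroup.centralizer (P : Set G) = Subgroup.centralizer ({(t₀ : G)} : Set G) :=
      centralizer_zpowers _
    rw [e]
    exact hloc _ ht
  haveI := hQn
  have hψ : ψ ∈ principalBlock M (Subgroup.centralizer (P : Set G)) :=
    mem_principalBlock_of_constrained hM Q hQp hQC ψ
  have hind : IsInducedBlock M (Subgroup.centralizer (P : Set G))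
      (principalBlock M (Subgroup.centralizer (P : Set G))) (principalBlock M G) :=
    (BrauerPairs.isBrauerPairOf_principal_iff hM hP).2 rfl |> (isBrauerPairOf_iff_induced hM hP
      isPBlock_principalBlock).1
  have hsame : SameBlock M (fun _ : G => (1 : ℂ)) (χ' : G → ℂ) := by
    intro g
    have hR : ∀ x, MemLocalRing M (classInd g x) := fun x => by
      unfold classInd; split
      · exact LR.one hM
      · exact LR.zero hM
    have e : (fun k : Subgroup.centralizer (P : Set G) => classInd g (k : G)) =
        brTrunc P (Subgroup.centralizer (P : Set G)) (classInd g) :=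
      funext fun k => (if_pos k.2).symm
    have h1 := heval _ (classInd_isClassFunction g) hR
    rw [← e, ← inducedCentralChar_eq, omega_classInd] at h1
    exact LI.trans hM (LI.sub_comm (hind.2.2 ψ hψ (trivChar G) (trivChar_mem_principalBlock hM) g)) h1
  exact SameBlock_trans hM hsame (SameBlock_symm (IsPBlock.sameBlock hM hB hχB hχ'))

end CfsgLib.Blocks
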