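import Cfsg.Agent.Lib.Blocks.CyclicRoots
import Cfsg.Agent.Lib.Blocks.CyclicCorner
import Cfsg.Agent.Lib.Blocks.BlockTrace
import Cfsg.Agent.Lib.BrouePuig.FreeAbelian
import Cfsg.Agent.S4636

/-!
# The inertial index is at most the regular rank of a block with cyclic defect group
-/

set_option autoImplicit false
set_option linter.unusedSectionVars false
set_option maxHeartbeats 1000000
set_option synthInstance.maxHeartbeats 200000

namespace CfsgLib.Blocks.CyclicRank

open Cfsg CfsgLib.Blocks CfsgLib.Blocks.ResidueAlgebra CfsgLib.Blocks.TwoCharacters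
  CfsgLib.Blocks.CyclicStable CfsgLib.BrauerPairs CfsgLib.BrouePuig
open scoped Pointwise
open scoped Classical

universe u

variable {G : Type u} [Group G] [Fintype G] {p : ℕ} {M : Ideal AlgInt}

/-- The group algebra of a subgroup inside that of the group. -/
noncomputable def up (hM : IsPModular p M) (K : Subgroup G) : RA hM K →ₐ[Residue hM] RA hM G :=
  MonoidAlgebra.mapDomainAlgHom (Residue hM) (Residue hM) K.subtype

theorem up_single (hM : IsPModular p M) (K : Subgroup G) (k : K) (r : Residue hM) :
    up hM K (MonoidAlgebra.single k r) = MonoidAlgebra.single (k : G) r := by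
  simp [up]

theorem coeff_up (hM : IsPModular p M) (K : Subgroup G) (x : RA hM K) (g : G) :
    (up hM K x).coeff g = if h : g ∈ K then x.coeff ⟨g, h⟩ else 0 := by
  conv_lhs => rw [← sum_single_eq hM x]
  rw [map_sum, MonoidAlgebra.coeff_sum, Finsupp.finsetSum_apply]
  simp only [up_single, MonoidAlgebra.coeff_single, Finsupp.single_apply]
  split_ifs with h
  · rw [Finset.sum_eq_single (⟨g, h⟩ : K) (fun k _ hk => if_neg fun e => hk (Subtype.ext e))
      (by simp), if_pos rfl]
  · exact Finset.sum_eq_zero fun k _ => if_neg fun e : (k : G) = g => h (e ▸ k.2)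

theorem supp_up (hM : IsPModular p M) (K : Subgroup G) (x : RA hM K) :
    Supp hM (K : Set G) (up hM K x) := fun g hg => by rw [coeff_up]; exact dif_neg hg

theorem up_injective (hM : IsPModular p M) (K : Subgroup G) : Function.Injective (up hM K) :=
  fun x y h => ext_coeff fun k => by
    have h1 := congrArg (fun z : RA hM G => z.coeff (k : G)) h
    simp only [coeff_up, dif_pos k.2] at h1
    exact h1

theorem exists_up (hM : IsPModular p M) (K : Subgroup G) {w : RA hM G} (hw : Supp hM (K : Set G) w) :
    ∃ x, up hM K x = w := by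
  refine ⟨∑ k : K, MonoidAlgebra.single k (w.coeff (k : G)), ext_coeff fun g => ?_⟩
  rw [coeff_up]
  split_ifs with h
  · rw [MonoidAlgebra.coeff_sum, Finsupp.finsetSum_apply]
    simp only [MonoidAlgebra.coeff_single, Finsupp.single_apply]
    rw [Finset.sum_eq_single (⟨g, h⟩ : K) (fun k _ hk => if_neg hk) (by simp), if_pos rfl]
  · exact (hw g h).symm

theorem up_idem (hM : IsPModular p M) (K : Subgroup G) (f : Set (IrrCharacter K)) :
    up hM K (idem hM f) = iota hM K f := by
  refine ext_coeff fun g => ?_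
  rw [coeff_up]
  split_ifs with h
  · rw [coeff_idem, coeff_iota, bc_of_mem h]
  · rw [coeff_iota_notMem f h]

/-- An element stabilizing a pair stabilizes the pair below it over a normalized subgroup. -/
theorem mem_pairStab_below [Fact p.Prime] (hM : IsPModular p M) {P Q : Subgroup G}
    {c : Set (IrrCharacter (Subgroup.centralizer (P : Set G)))}
    {f : Set (IrrCharacter (Subgroup.centralizer (Q : Set G)))} (hP : IsBrauerPair p M P c)
    (hle : Below p M P c ⟨Q, f⟩) {y : G} (hy : y ∈ pairStab P c)
    (hyQ : y ∈ Subgroup.normalizer (Q : Set G)) : y ∈ pairStab Q f := by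
  have hPc : conjPair y ⟨P, c⟩ = ⟨P, c⟩ := pair_ext (map_conj_of_mem_normalizer hy.1) fun z => by
    show subgroupBlockCoeff _ (conjBlock P y c) z = _
    rw [bc_conjBlock', ← hy.2]
    simp [mul_assoc]
  have h := conjPair_subpair y hle
  rw [hPc] at h
  have heq := Below.eq hM hP h hle (map_conj_of_mem_normalizer hyQ)
  refine ⟨hyQ, fun z => ?_⟩
  have h1 := congrFun (congrArg (fun a : BrauerPairIdx G =>
    subgroupBlockCoeff (Subgroup.centralizer (a.1 : Set G)) a.2) heq) (y * z * y⁻¹)
  simp only [conjPair] at h1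
  rw [bc_conjBlock] at h1
  exact h1.symm

/-- The normalizer of a cyclic group normalizes its subgroups. -/
theorem mem_normalizer_zpowers {P : Subgroup G} (hcyc : IsCyclic P) {g : G}
    (hg : g ∈ Subgroup.normalizer (P : Set G)) {z : G} (hz : z ∈ P) :
    g ∈ Subgroup.normalizer (Subgroup.zpowers z : Set G) := by
  obtain ⟨m, hm⟩ := exists_exp hcyc hg
  refine CfsgLib.Fsys.mem_normalizer_of_map_le fun u hu => ?_
  obtain ⟨j, rfl⟩ := Subgroup.mem_zpowers_iff.1 hu
  show g * z ^ j * g⁻¹ ∈ _
  rw [hm _ (Subgroup.zpow_mem _ hz j)]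
  exact Subgroup.zpow_mem _ (Subgroup.zpow_mem _ (Subgroup.mem_zpowers _) _) _

/-- A stabilizing element outside the conjugate of a block kills its idempotent. -/
theorem fixes_of_mul_ne_zero (hM : IsPModular p M) {K : Subgroup G} {f : Set (IrrCharacter K)}
    (hf : IsPBlock M f) {h : G} (hh : h ∈ Subgroup.normalizer (K : Set G))
    (hne : iota hM K f * g1 hM h * iota hM K f ≠ 0) : Fixes h (subgroupBlockCoeff K f) := by
  have hiff := mem_iff_of_normalizer (Subgroup.inv_mem _ hh)
  set f' := irrEquiv (conjIso h⁻¹ hiff) '' f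
  have hf' : IsPBlock M f' := isPBlock_image _ hf
  have hconj : iota hM K f' = g1 hM h * iota hM K f * g1 hM h⁻¹ := by
    refine ext_coeff fun x => ?_
    rw [g1, g1, MonoidAlgebra.coeff_mul_single_apply, MonoidAlgebra.coeff_single_mul_apply, inv_inv,
      mul_one, one_mul, coeff_iota, coeff_iota, bc_image_conjIso, inv_inv]
    simp only [mul_assoc]
  by_contra hno
  refine hne ?_
  have hff : f ≠ f' := fun he => hno fun x => by
    conv_lhs => rw [he]
    rw [bc_image_conjIso, inv_inv]
    simp [mul_assoc]
  have h0 := iota_orth (hM := hM) hf hf' hff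
  rw [hconj, ← mul_assoc, ← mul_assoc] at h0
  calc iota hM K f * g1 hM h * iota hM K f
      = iota hM K f * g1 hM h * iota hM K f * g1 hM h⁻¹ * g1 hM h := by
        rw [mul_assoc _ (g1 hM h⁻¹), g1_mul, inv_mul_cancel, g1_one, mul_one]
    _ = 0 := by rw [h0, zero_mul]

/-- The powers of the generator of a local corner. -/
theorem gen_span {k A : Type*} [Field k] [Ring A] [Algebra k A] [FiniteDimensional k A] {E : A}
    {R I : Submodule k A} {τ : A →ₗ[k] k} (h : SymLocalCorner.SymLocal τ E R I) {x : A} (hx : x ∈ I)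
    (hgen : I ≤ Submodule.span k {x} ⊔ I ^ 2) :
    R ≤ Submodule.span k (Set.range fun i : ℕ => x ^ i * E) := by
  set S := Submodule.span k (Set.range fun i : ℕ => x ^ i * E)
  have hxi : ∀ i : ℕ, x ^ (i + 1) ∈ S := fun i => by
    refine Submodule.subset_span ⟨i + 1, ?_⟩
    show x ^ (i + 1) * E = x ^ (i + 1)
    rw [pow_succ, mul_assoc, h.right x (h.le hx)]
  have hpowI : ∀ i : ℕ, x ^ (i + 1) ∈ I ^ (i + 1) := fun i => Submodule.pow_mem_pow _ hx _
  have hstep : ∀ n : ℕ, I ^ (n + 1) ≤ Submodule.span k {x ^ (n + 1)} ⊔ I ^ (n + 2) := fun n => by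
    induction n with
    | zero => simpa using hgen
    | succ n ih =>
      rw [pow_succ I (n + 1)]
      refine Submodule.mul_le.2 fun a ha b hb => ?_
      obtain ⟨a₁, ha₁, a₂, ha₂, rfl⟩ := Submodule.mem_sup.1 (ih ha)
      rw [add_mul]
      refine add_mem ?_ (Submodule.mem_sup_right ?_)
      · obtain ⟨c, rfl⟩ := Submodule.mem_span_singleton.1 ha₁
        obtain ⟨b₁, hb₁, b₂, hb₂, rfl⟩ := Submodule.mem_sup.1 (hgen hb)
        rw [mul_add]
        refine add_mem ?_ (Submodule.mem_sup_right ?_)
        · obtain ⟨d, rfl⟩ := Submodule.mem_span_singleton.1 hb₁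
          rw [smul_mul_assoc, mul_smul_comm, smul_smul, ← pow_succ]
          exact Submodule.mem_sup_left
            (Submodule.smul_mem _ _ (Submodule.mem_span_singleton_self _))
        · rw [show n + 1 + 2 = (n + 1) + 2 from rfl, pow_add I (n + 1) 2]
          exact Submodule.mul_mem_mul (Submodule.smul_mem _ _ (hpowI n)) hb₂
      · rw [show n + 1 + 2 = (n + 2) + 1 from rfl, pow_succ I (n + 2)]
        exact Submodule.mul_mem_mul ha₂ hb
  have hI : ∀ n : ℕ, I ≤ S ⊔ I ^ (n + 1) := fun n => by
    induction n with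
    | zero => exact le_sup_of_le_right (by simp)
    | succ n ih =>
      refine ih.trans (sup_le le_sup_left ((hstep n).trans (sup_le ?_ le_sup_right)))
      exact le_sup_of_le_left ((Submodule.span_singleton_le_iff_mem _ _).2 (hxi n))
  obtain ⟨N, hN⟩ := h.nil
  intro r hr
  obtain ⟨c, hc⟩ := h.split r hr
  have h1 : S ⊔ I ^ (N + 1) = S := by rw [pow_succ, hN, Submodule.bot_mul, sup_bot_eq]
  rw [← sub_add_cancel r (c • E)]
  exact add_mem (h1 ▸ hI N hc) (Submodule.smul_mem _ _ (Submodule.subset_span ⟨0, by simp⟩))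

/-- The data at the centralizer of an element of order `p`. -/
theorem exists_loc [Fact p.Prime] (hM : IsPModular p M) {B : Set (IrrCharacter G)} {P : Subgroup G}
    {c : Set (IrrCharacter (Subgroup.centralizer (P : Set G)))}
    (hmax : IsMaximalBrauerPair p M B P c) (hcyc : IsCyclic P) (hP1 : P ≠ ⊥) :
    ∃ (K H : Subgroup G) (D : Loc hM K H P), D.e = idem hM B ∧
      D.n = (Subgroup.centralizer (P : Set G)).relIndex (pairStab P c) := by
  have hp : p.Prime := Fact.out
  haveI := TwoCharacters.charP_residue hM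
  have hPp : IsPGroup p P := hmax.1.1.1
  have hab := abelian_of_isCyclic hcyc
  have hfree : FreeAct P c := fun g hg x hx hx1 hfix => free_of_cyclic hM hmax hcyc hg hx hx1 hfix
  obtain ⟨a, ha⟩ := hPp.exists_card_eq
  have ha0 : a ≠ 0 := fun h0 => hP1 (Subgroup.eq_bot_of_card_eq P (by rw [ha, h0, pow_zero]))
  obtain ⟨w, hw⟩ := exists_prime_orderOf_dvd_card' (G := P) p (by rw [ha]; exact dvd_pow_self p ha0)
  set z : G := (w : G) with hz
  have hzo : orderOf z = p := by rw [hz, Subgroup.orderOf_coe, hw]
  have hw1 : w ≠ 1 := fun h => hp.ne_one (by rw [← hw, h, orderOf_one])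
  set Q : Subgroup G := Subgroup.zpowers z with hQdef
  have hQP : Q ≤ P := Subgroup.zpowers_le.2 w.2
  set K : Subgroup G := Subgroup.centralizer (Q : Set G) with hKdef
  set H : Subgroup G := Subgroup.normalizer (Q : Set G) with hHdef
  have hPK : P ≤ K := le_centralizer_of_abelian hab hQP
  have hCK : Subgroup.centralizer (P : Set G) ≤ K :=
    CfsgLib.BrouePuig.centralizer_le_centralizer hQP
  have hKH : K ≤ H := centralizer_le_normalizer Q
  -- the block of the centralizer
  let f : Set (IrrCharacter (Subgroup.centralizer (Q : Set G))) := (bel hM hmax.1.1 w).2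
  have hbelow : Below p M P c ⟨Q, f⟩ := bel_below hM hmax.1.1 w
  have hnest := maximal_nested hM hmax hab hQP (bel_inducedIn hM hmax.1.1 hab w)
  have hnil : IsNilpotentBlock p M f := nilpotent_bel hM hmax hab hfree hw1
  have hf : IsPBlock M f := hnest.1.2.1
  obtain ⟨χ₀, hreg, -⟩ := nilpotent_regular hM hnil hnest
    (fun x hx y hy => Subtype.ext (hab _ hx _ hy))
  set P' : Subgroup K := P.subgroupOf K with hP'def
  have hD' : IsDefectGroup p M f P' := isDefectGroup_of_isMaximal hM hnest
  have hcP' : Nat.card P' = p ^ a := by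
    rw [Nat.card_congr (Subgroup.subgroupOfEquivOfLe hPK).toEquiv, ha]
  haveI : IsCyclic P := hcyc
  have hcyc' : IsCyclic P' := isCyclic_of_surjective _
    (Subgroup.subgroupOfEquivOfLe hPK).symm.surjective
  have hl : blockRank p f = 1 := blockRank_eq_one_of_nilpotent hM hnil hnest
  have h1reg : ¬ p ∣ orderOf (1 : K) := by rw [orderOf_one]; exact hp.not_dvd_one
  obtain ⟨F⟩ := RankOneFrame.exists_frame hM hf (χ₁ := χ₀) (fun φ hφ g hg => by
    rw [hreg φ hφ g hg, hreg φ hφ 1 h1reg, mul_comm])
  obtain ⟨x, hxI, hgen⟩ := CyclicCorner.exists_gen hM hf hD' hcyc' F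
  have hcom := CyclicCorner.comSub_eq_bot hM hf hD' hcyc' F
  obtain ⟨τ, hloc⟩ := F.loc
  set R := RankOneCorner.corner (Residue hM) F.E
  haveI : Module.Finite (Residue hM) (MonoidAlgebra (Residue hM) K) :=
    Module.Finite.equiv (coord hM (G := K)).symm
  have memR : ∀ {r : RA hM K}, r ∈ R ↔ F.E * r * F.E = r := fun {r} =>
    RankOneCorner.mem_corner F.idemE
  have hEwE : ∀ r, F.E * r * F.E ∈ R := fun r => memR.2 (by
    simp only [← mul_assoc, F.idemE.eq]; rw [mul_assoc _ F.E F.E, F.idemE.eq])
  have hQwP : ∀ l r j, F.Q l * r * F.P j ∈ R := fun l r j => memR.2 (by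
    simp only [← mul_assoc, F.hEQ]; rw [mul_assoc _ (F.P j), F.hPE])
  have hEP : ∀ l, F.E * F.P l ∈ R := fun l => memR.2 (by
    rw [← mul_assoc, F.idemE.eq, mul_assoc, F.hPE])
  have hRc : ∀ r ∈ R, ∀ r' ∈ R, r * r' = r' * r := fun r hr r' hr' => by
    have h1 := SymLocalCorner.comSub_comm (k := Residue hM) hr hr'
    rw [hcom, Submodule.mem_bot, sub_eq_zero] at h1
    exact h1
  have hRspan := gen_span hloc hxI hgen
  have hxR : x ∈ R := hloc.le hxI
  -- the nilpotency index
  have hnilx : ∃ i, x ^ (i + 1) = 0 := by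
    obtain ⟨N, hN⟩ := hloc.nil
    refine ⟨N, ?_⟩
    have h1 : x ^ N ∈ F.I ^ N := Submodule.pow_mem_pow _ hxI N
    rw [hN, Submodule.mem_bot] at h1
    rw [pow_succ, h1, zero_mul]
  have hdimR : Module.finrank (Residue hM) R = p ^ a := by
    have h1 := F.dimR
    rw [show SymLocalCorner.comSub (RankOneCorner.corner (Residue hM) F.E) = ⊥ from hcom,
      finrank_bot, zero_add] at h1
    rw [h1, RankOneFrame.card_eq_pow hM hf hl fun F' =>
      CyclicCorner.comSub_eq_bot hM hf hD' hcyc' F', ← card_defectGroup hM hf hD', hcP']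
  have hx0 : x ≠ 0 := by
    intro h0
    have h1 : R ≤ Submodule.span (Residue hM) {F.E} := hRspan.trans (Submodule.span_le.2 (by
      rintro _ ⟨_ | i, rfl⟩
      · simpa using Submodule.mem_span_singleton_self F.E
      · simp [h0]))
    have h2 := (Submodule.finrank_mono h1).trans (finrank_span_le_card ({F.E} : Set (RA hM K)))
    rw [hdimR] at h2
    have h3 := Nat.one_lt_pow ha0 hp.one_lt
    simp at h2
    omega
  obtain ⟨q, hq2, hxq, hxq'⟩ : ∃ q, 2 ≤ q ∧ x ^ q = 0 ∧ x ^ (q - 1) ≠ 0 := by
    set i := Nat.find hnilx with hi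
    have hi0 : i ≠ 0 := fun h0 => hx0 (by
      have := Nat.find_spec hnilx
      rwa [← hi, h0, zero_add, pow_one] at this)
    refine ⟨i + 1, by omega, Nat.find_spec hnilx, fun h0 => ?_⟩
    obtain ⟨j, hj⟩ := Nat.exists_eq_succ_of_ne_zero hi0
    exact Nat.find_min hnilx (show j < i by omega) (by rw [Nat.add_sub_cancel, hj] at h0; exact h0)
  -- the generator spread over the block
  set X := ∑ l, F.P l * x * F.Q l with hXdef
  have hXP : ∀ l, X * F.P l = F.P l * x := fun l => by
    rw [hXdef, Finset.sum_mul, Finset.sum_eq_single l (fun j _ hj => by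
      rw [mul_assoc, F.hQP, if_neg hj, mul_zero]) (by simp), mul_assoc, F.hQP, if_pos rfl, mul_assoc,
      hloc.right x hxR]
  have hbX : idem hM f * X = X := by
    rw [hXdef, Finset.mul_sum]
    exact Finset.sum_congr rfl fun l _ => by rw [← mul_assoc, ← mul_assoc, F.heP]
  have hQb : ∀ l, F.Q l * idem hM f = F.Q l := fun l => by
    rw [← idem_commute hM (F.Q l), ← F.hEQ, ← mul_assoc, F.heE, F.hEQ]
  have hXc : ∀ r, X * r = r * X := fun r => by
    have h1 : ∀ l, F.Q l * r = ∑ j, F.Q l * r * F.P j * F.Q j := fun l => by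
      conv_lhs => rw [← hQb l, mul_assoc, idem_commute hM r, ← mul_assoc, ← F.hsum, Finset.mul_sum]
      exact Finset.sum_congr rfl fun j _ => by simp only [mul_assoc]
    have h2 : ∀ j, r * F.P j = ∑ l, F.P l * (F.Q l * r * F.P j) := fun j => by
      conv_lhs => rw [← F.heP j, ← mul_assoc, ← idem_commute hM r, ← F.hsum, Finset.sum_mul,
        Finset.sum_mul]
      exact Finset.sum_congr rfl fun l _ => by simp only [mul_assoc]
    calc X * r = ∑ l, ∑ j, F.P l * (x * (F.Q l * r * F.P j)) * F.Q j := by
          rw [hXdef, Finset.sum_mul]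
          refine Finset.sum_congr rfl fun l _ => ?_
          conv_lhs => rw [mul_assoc, h1, Finset.mul_sum]
          exact Finset.sum_congr rfl fun j _ => by simp only [mul_assoc]
      _ = ∑ l, ∑ j, F.P l * (F.Q l * r * F.P j * x) * F.Q j :=
          Finset.sum_congr rfl fun l _ => Finset.sum_congr rfl fun j _ => by
            rw [hRc x hxR _ (hQwP l r j)]
      _ = r * X := by
          rw [hXdef, Finset.mul_sum, Finset.sum_comm]
          refine Finset.sum_congr rfl fun j _ => ?_
          conv_rhs => rw [← mul_assoc, ← mul_assoc, h2, Finset.sum_mul, Finset.sum_mul]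
          exact Finset.sum_congr rfl fun l _ => by simp only [mul_assoc]
  have hXE : X * F.E = x := by
    rw [hXc, hXdef, Finset.mul_sum]
    have h1 : ∀ l, F.E * (F.P l * x * F.Q l) = x * (F.E * (F.P l * F.Q l)) := fun l => by
      rw [← mul_assoc, ← mul_assoc, ← hRc x hxR _ (hEP l)]
      simp only [mul_assoc]
    rw [Finset.sum_congr rfl fun l _ => h1 l, ← Finset.mul_sum, ← Finset.mul_sum, F.hsum,
      ← idem_commute hM F.E, F.heE, hloc.right x hxR]
  have hXiE : ∀ i : ℕ, X ^ i * F.E = x ^ i * F.E := fun i => by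
    induction i with
    | zero => rw [pow_zero, pow_zero]
    | succ i ih =>
      rw [pow_succ, mul_assoc, hXE, pow_succ, mul_assoc (x ^ i), hloc.right x hxR]
      conv_lhs => rw [← hloc.left x hxR, ← mul_assoc, ih, mul_assoc, hloc.left x hxR]
  have hXP' : ∀ (i : ℕ) l, X ^ i * F.P l = F.P l * (x ^ i * F.E) := fun i l => by
    rw [← hXiE, ← mul_assoc, ← Commute.eq ((show Commute X (F.P l) from hXc _).pow_left i), mul_assoc,
      F.hPE]
  have hSR : ∀ {y : RA hM K},
      y ∈ Submodule.span (Residue hM) (Set.range fun i : ℕ => x ^ i * F.E) → F.E * y ∈ R := fun {y} hy => by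
    induction hy using Submodule.span_induction with
    | mem y hy =>
      obtain ⟨i, rfl⟩ := hy
      show F.E * (x ^ i * F.E) ∈ R
      rw [← mul_assoc]
      exact hEwE _
    | zero => rw [mul_zero]; exact zero_mem _
    | add y y' _ _ hy hy' => rw [mul_add]; exact add_mem hy hy'
    | smul d y _ hy => rw [mul_smul_comm]; exact Submodule.smul_mem _ _ hy
  have hdecR : ∀ r ∈ R, ∃ c : Residue hM, ∃ r' ∈ R, r = c • F.E + x * r' := fun r hr => by
    have h1 := hRspan hr
    clear hr
    induction h1 using Submodule.span_induction with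
    | mem y hy =>
      obtain ⟨_ | i, rfl⟩ := hy
      · exact ⟨1, 0, zero_mem _, by simp⟩
      · refine ⟨0, F.E * x ^ i * F.E, hEwE _, ?_⟩
        show x ^ (i + 1) * F.E = _
        rw [zero_smul, zero_add, pow_succ']
        simp only [← mul_assoc]
        rw [hloc.right x hxR]
    | zero => exact ⟨0, 0, zero_mem _, by simp⟩
    | add y y' _ _ hy hy' =>
      obtain ⟨c, r₁, h₁, rfl⟩ := hy
      obtain ⟨c', r₂, h₂, rfl⟩ := hy'
      exact ⟨c + c', r₁ + r₂, add_mem h₁ h₂, by rw [add_smul, mul_add]; abel⟩
    | smul d y _ hy =>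
      obtain ⟨c, r₁, h₁, rfl⟩ := hy
      exact ⟨d * c, d • r₁, Submodule.smul_mem _ _ h₁, by rw [smul_add, smul_smul, mul_smul_comm]⟩
  have hkill : ∀ r ∈ R, x * r = 0 → ∃ r' ∈ R, r = x ^ (q - 1) * r' := fun r hr hxr => by
    suffices h : ∀ j ≤ q - 1, ∃ r' ∈ R, r = x ^ j * r' from h (q - 1) le_rfl
    intro j
    induction j with
    | zero => exact fun _ => ⟨r, hr, by simp⟩
    | succ j ih =>
      intro hj
      obtain ⟨r', hr', hrr'⟩ := ih (by omega)
      obtain ⟨c, r'', hr'', hc⟩ := hdecR r' hr'
      obtain rfl : c = 0 := by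
        by_contra hc0
        have h1 : x ^ (q - 2 - j) * (x * r) = 0 := by rw [hxr, mul_zero]
        rw [hrr', hc, ← mul_assoc, ← mul_assoc, ← pow_succ, ← pow_add, mul_add, mul_smul_comm,
          show q - 2 - j + 1 + j = q - 1 by omega, ← mul_assoc, ← pow_succ,
          Nat.sub_add_cancel (by omega : 1 ≤ q), hxq, zero_mul, add_zero,
          smul_eq_zero] at h1
        refine hxq' ?_
        rw [show q - 1 = q - 2 + 1 by omega, pow_succ] at h1 ⊢
        rw [mul_assoc, hloc.right x hxR] at h1
        exact h1.resolve_left hc0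
      exact ⟨r'', hr'', by rw [hrr', hc, zero_smul, zero_add, pow_succ, mul_assoc]⟩
  -- the element of order `p`
  have hzK : z ∈ K := hPK w.2
  have hzc : ∀ r, Commute (MonoidAlgebra.single (⟨z, hzK⟩ : K) (1 : Residue hM)) r := fun r => by
    rw [← sum_single_eq hM r]
    refine Commute.sum_right _ _ _ fun k _ => ?_
    have h1 : (⟨z, hzK⟩ : K) * k = k * ⟨z, hzK⟩ := Subtype.ext
      (Subgroup.mem_centralizer_iff.1 k.2 z (Subgroup.mem_zpowers z))
    rw [Commute, SemiconjBy, MonoidAlgebra.single_mul_single, MonoidAlgebra.single_mul_single, h1,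
      one_mul, mul_one]
  set y₀ := MonoidAlgebra.single (⟨z, hzK⟩ : K) (1 : Residue hM) - 1 with hy₀
  have hy₀c : ∀ r, Commute y₀ r := fun r => (hzc r).sub_left (Commute.one_left r)
  obtain ⟨r₀, hr₀, hzx⟩ : ∃ r₀ ∈ R, y₀ * F.E = x * r₀ := by
    obtain ⟨c, r', hr', hc⟩ := hdecR (y₀ * F.E) (memR.2 (by
      rw [← mul_assoc, ← (hy₀c F.E).eq, mul_assoc y₀, F.idemE.eq, mul_assoc, F.idemE.eq]))
    refine ⟨r', hr', ?_⟩
    obtain rfl : c = 0 := by
      by_contra hc0
      haveI : CharP (RA hM K) p := charP_of_injective_algebraMap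
        (algebraMap (Residue hM) (RA hM K)).injective p
      have h1 : y₀ ^ p = 0 := by
        rw [hy₀, sub_pow_char_of_commute p (Commute.one_right _), one_pow, MonoidAlgebra.single_pow,
          one_pow, show (⟨z, hzK⟩ : K) ^ p = 1 from Subtype.ext (by
            rw [Subgroup.coe_pow, Subgroup.coe_one, ← hzo, pow_orderOf_eq_one]),
          ← MonoidAlgebra.one_def, sub_self]
      have h2 : c ^ p • F.E = -(x ^ p * r' ^ p) := by
        have h3 : c • F.E = y₀ * F.E - x * r' := by rw [hc, add_sub_cancel_right]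
        have hcomm : Commute (y₀ * F.E) (x * r') :=
          (hy₀c _).mul_left (show F.E * (x * r') = x * r' * F.E by
            rw [hloc.left _ (hloc.mul _ hxR _ hr'), hloc.right _ (hloc.mul _ hxR _ hr')])
        have h4 := congrArg (· ^ p) h3
        rw [smul_pow, sub_pow_char_of_commute p hcomm, (hy₀c F.E).mul_pow, h1, zero_mul, zero_sub,
          Commute.mul_pow (show Commute x r' from hRc x hxR r' hr')] at h4
        rw [← h4]
        congr 1
        exact ((congrArg (F.E ^ ·) (Nat.sub_add_cancel hp.one_le).symm).trans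
          (F.idemE.pow_succ_eq _)).symm
      have h3 := congrArg (x ^ (q - 1) * ·) h2
      simp only [mul_neg, mul_smul_comm] at h3
      rw [← mul_assoc, ← pow_add, show q - 1 + p = q + (p - 1) by have := hp.one_lt; omega,
        pow_add, hxq, zero_mul, zero_mul, neg_zero, smul_eq_zero] at h3
      refine hxq' ?_
      rw [show q - 1 = q - 2 + 1 by omega, pow_succ] at h3 ⊢
      rw [mul_assoc, hloc.right x hxR] at h3
      exact h3.resolve_left (pow_ne_zero _ hc0)
    rw [hc, zero_smul, zero_add]
  -- the stabilizer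
  haveI hN : ((Subgroup.centralizer (P : Set G)).subgroupOf (pairStab P c)).Normal :=
    Subgroup.normal_subgroupOf_iff_le_normalizer (centralizer_le_pairStab c) |>.2
      ((pairStab_le_normalizer c).trans (normalizer_le_normalizer_centralizer P))
  obtain ⟨hcT, hdiv⟩ := cyclic_inertial hM hmax hcyc hP1 rfl
  set N := (Subgroup.centralizer (P : Set G)).subgroupOf (pairStab P c) with hNdef
  obtain ⟨g₀, hg₀⟩ := IsCyclic.exists_ofOrder_eq_natCard (α := pairStab P c ⧸ N)
  obtain ⟨t, rfl⟩ := QuotientGroup.mk'_surjective N g₀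
  set n := (Subgroup.centralizer (P : Set G)).relIndex (pairStab P c) with hn
  have hn' : n = Nat.card (pairStab P c ⧸ N) := Subgroup.index_eq_card _
  have hnpos : 0 < n := by rw [hn']; exact Nat.card_pos
  have hmemN : ∀ u : pairStab P c, u ∈ N ↔ (u : G) ∈ Subgroup.centralizer (P : Set G) := fun u =>
    Subgroup.mem_subgroupOf
  have hnormQ : ∀ y ∈ pairStab P c, y ∈ H := fun y hy =>
    mem_normalizer_zpowers hcyc (pairStab_le_normalizer c hy) w.2
  have htH : (t : G) ∈ H := hnormQ _ t.2
  have hstab : ∀ y ∈ pairStab P c, y ∈ pairStab Q f := fun y hy =>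
    mem_pairStab_below hM hmax.1.1 hbelow hy (hnormQ y hy)
  obtain ⟨hTI, -⟩ := Cfsg.Agent.S4636.result p P hPp hP1 hcyc Q hQP (by
    rw [hQdef, Nat.card_zpowers, hzo])
  obtain ⟨aK, -, haK, hatr⟩ := BlockTrace.exists_trace hM hf hD'
  have hbup : up hM K (idem hM f) = iota hM K f := up_idem hM K f
  refine ⟨K, H,
    { q := q
      n := n
      m := F.m
      b := iota hM K f
      a := up hM K aK
      e := idem hM B
      E := up hM K F.E
      X := up hM K X
      Pm := fun l => up hM K (F.P l)
      Qm := fun l => up hM K (F.Q l)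
      z := z
      t := t
      hPK := hPK
      hKH := hKH
      hHn := fun h hh g hg => (mem_iff_of_normalizer (normalizer_le_normalizer_centralizer Q hh) g).2 hg
      bK := hbup ▸ supp_up hM K _
      bb := iota_idem hf
      bc := fun v hv => commute_iota_of_supp f hv
      ha := fun u hu => by
        rw [show g1 hM u = up hM K (MonoidAlgebra.single (⟨u, hPK hu⟩ : K) 1) from
          (up_single hM K ⟨u, hPK hu⟩ 1).symm]
        exact Commute.map (haK ⟨u, hPK hu⟩ (Subgroup.mem_subgroupOf.2 hu)) (up hM K)
      aK := supp_up hM K _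
      htr := by
        rw [← hbup, ← hatr, map_sum]
        exact Finset.sum_congr rfl fun r _ => by rw [map_mul, map_mul, up_single, up_single]; rfl
      EK := supp_up hM K _
      EE := by rw [← map_mul, F.idemE.eq]
      PK := fun l => supp_up hM K _
      QK := fun l => supp_up hM K _
      hQP := fun l j => by
        rw [← map_mul, F.hQP]
        split
        · rfl
        · exact map_zero _
      hsum := by
        rw [← hbup, ← F.hsum, map_sum]
        exact Finset.sum_congr rfl fun l _ => (map_mul _ _ _).symm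
      hPE := fun l => by rw [← map_mul, F.hPE]
      hEQ := fun l => by rw [← map_mul, F.hEQ]
      bE := by rw [← hbup, ← map_mul, F.heE]
      XK := supp_up hM K _
      bX := by rw [← hbup, ← map_mul, hbX]
      Xc := fun v hv => by
        obtain ⟨r, rfl⟩ := exists_up hM K hv
        exact Commute.map (hXc r) (up hM K)
      corner := fun v hv => by
        obtain ⟨r, rfl⟩ := exists_up hM K hv
        rw [← map_mul, ← map_mul]
        have h1 := Submodule.mem_map_of_mem (f := (up hM K).toLinearMap) (hRspan (hEwE r))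
        rw [Submodule.map_span] at h1
        refine Submodule.span_mono ?_ h1
        rintro _ ⟨_, ⟨i, rfl⟩, rfl⟩
        exact ⟨i, by
          show up hM K X ^ i * up hM K F.E = up hM K (x ^ i * F.E)
          rw [← map_pow, ← map_mul, hXiE]⟩
      Xq := by
        rw [← map_pow]
        have h1 : X ^ q * idem hM f = X ^ q := by
          rw [← idem_commute hM, ← Nat.sub_add_cancel (by omega : 1 ≤ q), pow_succ', ← mul_assoc, hbX]
        rw [← h1, ← F.hsum, Finset.mul_sum, Finset.sum_eq_zero fun l _ => ?_, map_zero]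
        rw [← mul_assoc, hXP', hxq, zero_mul, mul_zero, zero_mul]
      two_le := hq2
      kerX := fun v hv hbv hXv => by
        obtain ⟨r, rfl⟩ := exists_up hM K hv
        rw [← hbup, ← map_mul] at hbv
        have hbr := up_injective hM K hbv
        rw [← map_mul, ← map_zero (up hM K)] at hXv
        have hXr := up_injective hM K hXv
        choose u hu hu' using fun (lj : Fin F.m × Fin F.m) =>
          hkill _ (hQwP lj.1 r lj.2) (by
            calc x * (F.Q lj.1 * r * F.P lj.2)
                = (x * F.Q lj.1) * r * F.P lj.2 := by simp only [mul_assoc]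
              _ = F.Q lj.1 * (X * r) * F.P lj.2 := by
                rw [← mul_assoc, ← hXc (F.Q lj.1), ← hXE, mul_assoc X F.E, F.hEQ]
              _ = 0 := by rw [hXr, mul_zero, zero_mul])
        refine ⟨up hM K (∑ l, ∑ j, F.P l * u (l, j) * F.Q j), supp_up hM K _, ?_⟩
        rw [← map_pow, ← map_mul]
        congr 1
        have hr : r = ∑ l, ∑ j, F.P l * (F.Q l * r * F.P j) * F.Q j := by
          conv_lhs => rw [← hbr, ← idem_mul_self hM hf, mul_assoc, idem_commute hM r, ← F.hsum,
            Finset.sum_mul]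
          refine Finset.sum_congr rfl fun l _ => ?_
          rw [Finset.mul_sum, Finset.mul_sum]
          exact Finset.sum_congr rfl fun j _ => by simp only [mul_assoc]
        rw [hr, Finset.mul_sum]
        refine Finset.sum_congr rfl fun l _ => ?_
        rw [Finset.mul_sum]
        refine Finset.sum_congr rfl fun j _ => ?_
        rw [hu' (l, j), ← mul_assoc (X ^ _), ← mul_assoc (X ^ _), hXP']
        simp only [mul_assoc]
        rw [← mul_assoc F.E (u (l, j)), hloc.left _ (hu (l, j))]
      ne := by
        rw [← map_pow, ← map_mul, ← map_zero (up hM K), hXiE]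
        refine fun h => hxq' ?_
        have h1 := up_injective hM K h
        rw [show q - 1 = q - 2 + 1 by omega, pow_succ] at h1 ⊢
        rwa [mul_assoc, hloc.right x hxR] at h1
      zK := hzK
      zP := IsPGroup.of_card (n := 1) (by rw [Nat.card_zpowers, hzo, pow_one])
      zX := by
        refine ⟨up hM K (∑ l, F.P l * r₀ * F.Q l), supp_up hM K _, ?_⟩
        rw [← hbup, show g1 hM z = up hM K (MonoidAlgebra.single (⟨z, hzK⟩ : K) 1) from
          (up_single hM K ⟨z, hzK⟩ 1).symm, ← map_one (up hM K), ← map_sub, ← map_mul, ← map_mul]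
        congr 1
        rw [← hy₀, ← F.hsum, Finset.mul_sum, Finset.mul_sum]
        refine Finset.sum_congr rfl fun l _ => ?_
        calc y₀ * (F.P l * F.Q l) = F.P l * (y₀ * F.E) * F.Q l := by
              rw [← mul_assoc, (hy₀c (F.P l)).eq, mul_assoc _ (y₀ * F.E), mul_assoc y₀, F.hEQ,
                mul_assoc]
          _ = X * (F.P l * r₀ * F.Q l) := by
              rw [hzx, ← mul_assoc X, ← mul_assoc X, hXP, mul_assoc (F.P l) x r₀]
      zfix := fun g _ hg => by
        rw [hKdef, hQdef, CfsgLib.Blocks.centralizer_zpowers, Subgroup.mem_centralizer_singleton_iff]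
        exact hg.symm
      free := fun y hy u hu hyu => by
        have h1 : u ∈ P ⊓ MulAut.conj y • P := by
          refine ⟨hu, ?_⟩
          show u ∈ MulAut.conj y • P
          rw [Subgroup.mem_smul_pointwise_iff_exists]
          exact ⟨y⁻¹ * u * y, hyu, by simp [MulAut.smul_def, mul_assoc]⟩
        rw [hTI y hy, Subgroup.mem_bot] at h1
        exact h1
      tH := htH
      tb := commute_iota (hstab _ t.2).2
      tn := by
        have h1 : t ^ n ∈ N := by
          rw [← QuotientGroup.eq_one_iff, QuotientGroup.mk_pow]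
          show (QuotientGroup.mk' N t) ^ n = 1
          rw [hn', ← hg₀, pow_orderOf_eq_one]
        exact hCK ((hmemN _).1 h1)
      cosets := fun h hh hne => by
        have hst : h ∈ pairStab Q f := ⟨hh,
          fixes_of_mul_ne_zero hM hf (normalizer_le_normalizer_centralizer Q hh) hne⟩
        obtain ⟨y, hy, v, hv, rfl⟩ := exists_factor_abelian hM hmax hab hbelow hst
        have hmem : QuotientGroup.mk' N ⟨y, hy⟩ ∈ Subgroup.zpowers (QuotientGroup.mk' N t) := by
          rw [Subgroup.eq_top_of_card_eq (Subgroup.zpowers (QuotientGroup.mk' N t))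
            (by rw [Nat.card_zpowers, hg₀])]
          exact Subgroup.mem_top _
        obtain ⟨i, hi⟩ := mem_powers_iff_mem_zpowers.2 hmem
        refine ⟨i % n, Nat.mod_lt _ hnpos, ?_⟩
        have hmod : QuotientGroup.mk' N t ^ (i % n) = QuotientGroup.mk' N t ^ i := by
          rw [hn', ← hg₀, pow_mod_orderOf]
        have h1 : (t ^ (i % n))⁻¹ * ⟨y, hy⟩ ∈ N := by
          rw [← QuotientGroup.eq_one_iff]
          show QuotientGroup.mk' N ((t ^ (i % n))⁻¹ * ⟨y, hy⟩) = 1
          rw [map_mul, map_inv, map_pow, hmod, inv_mul_eq_one]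
          exact hi
        have h2 := K.mul_mem (hCK ((hmemN _).1 h1)) hv
        rw [← mul_assoc]
        simpa using h2
      inj := fun i hi hiK => by
        have hmem : ((t : G) ^ i) ∈ Subgroup.centralizer (P : Set G) := by
          refine free_of_cyclic hM hmax hcyc ((pairStab P c).pow_mem t.2 i) w.2
            (fun h => hw1 (Subtype.ext h)) ?_
          rw [mul_inv_eq_iff_eq_mul]
          exact (Subgroup.mem_centralizer_iff.1 hiK z (Subgroup.mem_zpowers z)).symm
        have h1 : QuotientGroup.mk' N t ^ i = 1 := by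
          rw [← map_pow]
          exact (QuotientGroup.eq_one_iff _).2 ((hmemN _).2 (by simpa using hmem))
        have h2 := orderOf_dvd_of_pow_eq_one h1
        rw [hg₀, ← hn'] at h2
        exact Nat.eq_zero_of_dvd_of_lt h2 hi
      npos := hnpos
      nk := fun h => by
        have h1 := Nat.le_of_dvd (Nat.sub_pos_of_lt hp.one_lt)
          (((CharP.cast_eq_zero_iff (Residue hM) p n).1 h).trans hdiv)
        have := hp.one_lt
        omega
      ec := fun v => idem_commute hM v
      ee := idem_mul_self hM hmax.1.2.1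
      eclass := fun g h => by
        rw [coeff_idem, coeff_idem]
        exact congrArg _ (blockCoeff_isClassFunction B g h)
      eb := by
        set eK := ∑ g : G, if g ∈ K then MonoidAlgebra.single g ((idem hM B).coeff g) else 0
        have heK : ∀ g, eK.coeff g = if g ∈ K then (idem hM B).coeff g else 0 := fun g => by
          rw [MonoidAlgebra.coeff_sum, Finsupp.finsetSum_apply, Finset.sum_eq_single g
            (fun x _ hx => by split_ifs <;> simp [hx]) (by simp)]
          split_ifs <;> simp
        rw [(commute_iota_of_supp f (x := eK) fun g hg => by rw [heK, if_neg hg]).eq]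
        refine ext_coeff fun g => ?_
        by_cases hg : g ∈ K
        swap
        · rw [coeff_iota_notMem f hg]
          exact ((show Supp hM (K : Set G) eK from fun g hg => by rw [heK, if_neg (show g ∉ K from hg)]).mul
            (fun g hg => coeff_iota_notMem f hg)) g hg
        rw [coeff_mul_sum, coeff_iota]
        have hQp : IsPGroup p Q := hPp.to_le hQP
        have hof : IsBrauerPairOf p M B Q f :=
          isElemOf_of_below hM hmax (a := bel hM hmax.1.1 w) hbelow
        have hcong := gconv_bc_congr hM hQp (goodAt_blockCoeff hM hmax.1.2.1 Q)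
          (idemAt_blockCoeff hM B Q) hf hof.2.2 hg
        have hLR : MemLocalRing M (subgroupBlockCoeff K f g) := bc_LR hM hf g
        have hsum : ∑ y, eK.coeff y * (iota hM K f).coeff (y⁻¹ * g)
            = resid hM (gconv (blockCoeff B) (subgroupBlockCoeff K f) g) := by
          rw [gconv, resid_sum hM _ fun y _ => LR.mul hM (blockCoeff_LR hM hmax.1.2.1 _) (bc_LR hM hf _)]
          refine Finset.sum_congr rfl fun y _ => ?_
          rw [resid_mul hM (blockCoeff_LR hM hmax.1.2.1 _) (bc_LR hM hf _), coeff_iota, heK, coeff_idem]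
          by_cases hy : y ∈ K
          · rw [if_pos hy]
          · rw [if_neg hy, bc_of_notMem (K := K) (g := y⁻¹ * g) fun h => hy ?_, resid_zero, mul_zero,
              mul_zero]
            simpa using K.mul_mem hg (K.inv_mem h)
        rw [hsum, ← sub_add_cancel (gconv (blockCoeff B) (subgroupBlockCoeff K f) g)
          (subgroupBlockCoeff K f g), resid_add hM (LI.memLocalRing hcong) hLR, resid_eq_zero hM hcong,
          zero_add] },
    rfl, rfl⟩

/-- The inertial index is at most the regular rank. -/
theorem relIndex_le_blockRank [Fact p.Prime] (hM : IsPModular p M) {B : Set (IrrCharacter G)}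
    {P : Subgroup G} {c : Set (IrrCharacter (Subgroup.centralizer (P : Set G)))}
    (hmax : IsMaximalBrauerPair p M B P c) (hcyc : IsCyclic P) (hP1 : P ≠ ⊥) :
    (Subgroup.centralizer (P : Set G)).relIndex (pairStab P c) ≤ blockRank p B := by
  obtain ⟨K, H, D, he, hn⟩ := exists_loc hM hmax hcyc hP1
  exact hn ▸ n_le_blockRank hmax.1.2.1 D he

end CfsgLib.Blocks.CyclicRank
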