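import Cfsg.Agent.Lib.CharDeep.DetExt
import Cfsg.Agent.Lib.Blocks.Basic

/-!
# Extensions of an irreducible character differ by linear characters
-/

set_option autoImplicit false

namespace CfsgLib.Blocks

open Cfsg CfsgLib.CharDeep
open scoped Classical ComplexConjugate

variable {G : Type*} [Group G] {N : Subgroup G} [N.Normal]

/-- Two extensions of an irreducible character differ by a linear character trivial on `N`. -/
theorem exists_linear_of_extensions [Finite G] (η η' : IrrCharacter G) (θ : IrrCharacter N)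
    (h : ∀ n : N, (η : G → ℂ) n = (θ : N → ℂ) n) (h' : ∀ n : N, (η' : G → ℂ) n = (θ : N → ℂ) n) :
    ∃ β : G →* ℂˣ, (∀ n : N, β n = 1) ∧
      ∀ g, (η' : G → ℂ) g = (β g : ℂ) * (η : G → ℂ) g := by
  obtain ⟨a, σ, hσi, hσ⟩ := η.2
  obtain ⟨b, σ', hσ'i, hσ'⟩ := η'.2
  obtain ⟨c, ρθ, hθi, hρθ⟩ := θ.2
  let ρ : Representation ℂ N (Fin a → ℂ) := σ.comp N.subtype
  let ρ' : Representation ℂ N (Fin b → ℂ) := σ'.comp N.subtype
  have hres : ρ.character = ρθ.character := funext fun n => by
    show σ.character (n : G) = _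
    rw [hσ, hρθ, h n]
  haveI := hθi
  obtain ⟨φ₀⟩ := IrrTools.nonempty_equiv_of_character_eq ρθ ρ hres
  haveI : ρ.IsIrreducible := CfsgLib.Char.isIrreducible_of_equiv φ₀
  have hres' : ρ'.character = ρ.character := funext fun n => by
    show σ'.character (n : G) = σ.character (n : G)
    rw [hσ, hσ', h n, h' n]
  obtain ⟨φ⟩ := IrrTools.nonempty_equiv_of_character_eq ρ ρ' hres'
  let τ := DetExt.conjRep σ' φ.toLinearEquiv.symm
  have hτN : ∀ n : N, τ n = ρ n := fun n => LinearMap.ext fun w => by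
    show φ.toLinearEquiv.symm.conj (σ' n) w = _
    rw [LinearEquiv.conj_apply]
    simp only [LinearEquiv.symm_symm, LinearMap.coe_comp, LinearEquiv.coe_coe, Function.comp_apply]
    rw [LinearEquiv.symm_apply_eq]
    exact (LinearMap.congr_fun (φ.toIntertwiningMap.isIntertwining' n) w).symm
  have hσN : ∀ n : N, σ n = ρ n := fun n => rfl
  haveI := IrrTools.apply_ne_zero_of_isIrreducible ρ
  have hτσ : ∀ g, ∃! c : ℂˣ, τ g = (c : ℂ) • σ g := by
    intro g
    obtain ⟨c, hc⟩ := IrrTools.exists_smul_of_commute ρ (σ g⁻¹ * τ g) fun n => by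
      have h1 : τ g * ρ n = ρ (MulAut.conjNormal g n) * τ g := by
        rw [← hτN, ← hτN, ← map_mul, ← map_mul]; simp
      have h2 : σ g⁻¹ * ρ (MulAut.conjNormal g n) = ρ n * σ g⁻¹ := by
        rw [← hσN, ← hσN, ← map_mul, ← map_mul]; simp [mul_assoc]
      rw [mul_assoc, h1, ← mul_assoc, h2, mul_assoc]
    have h3 : τ g = c • σ g := by
      have h4 := congrArg (σ g * ·) hc
      simpa [← mul_assoc, ← map_mul] using h4
    have hne : τ g ≠ 0 := fun h0 => one_ne_zero (α := Module.End ℂ (Fin a → ℂ)) (by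
      rw [← map_one τ, ← inv_mul_cancel g, map_mul, h0, mul_zero])
    have hc0 : c ≠ 0 := fun h0 => hne (by rw [h3, h0, zero_smul])
    refine ⟨Units.mk0 c hc0, h3, fun e he => Units.ext ?_⟩
    exact smul_left_injective ℂ (fun h0 : σ g = 0 => hne (by rw [h3, h0, smul_zero])) (he.symm.trans h3)
  choose f hf huniq using hτσ
  let β : G →* ℂˣ := MonoidHom.mk' f fun x y => (huniq (x * y) _ (by
    show τ (x * y) = _
    rw [map_mul, hf x, hf y, smul_mul_smul_comm, ← map_mul, Units.val_mul])).symm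
  refine ⟨β, fun n => (huniq n 1 (show τ n = ((1 : ℂˣ) : ℂ) • σ n by
    rw [Units.val_one, one_smul, hσN, hτN])).symm, fun g => ?_⟩
  have e1 : τ.character g = (η' : G → ℂ) g := by
    rw [DetExt.character_conjRep, hσ']
  rw [← e1, ← hσ]
  show LinearMap.trace ℂ _ (τ g) = (f g : ℂ) * LinearMap.trace ℂ _ (σ g)
  rw [hf g, map_smul, smul_eq_mul]

/-- The product of a linear and an irreducible character is irreducible. -/
theorem isIrrCharacter_hom_mul [Fintype G] (β : G →* ℂˣ) (η : IrrCharacter G) :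
    IsIrrCharacter G fun g => (β g : ℂ) * (η : G → ℂ) g := by
  refine CfsgLib.Char.IsCharacter.isIrrCharacter_of_norm_one
    (CfsgLib.Char.IsCharacter.mul (CfsgLib.Char.isCharacter_hom β)
      (CfsgLib.Char.isCharacter_irr η)) ?_
  refine Eq.trans ?_ (CfsgLib.Char.classInner_irr_self η.2)
  simp only [Cfsg.classInner]
  congr 1
  refine Finset.sum_congr rfl fun g _ => ?_
  have hb : (β g : ℂ) * conj (β g : ℂ) = 1 := by
    have hn : ‖(β g : ℂ)‖ = 1 := Complex.norm_eq_one_of_pow_eq_one (n := orderOf g)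
      (by rw [← Units.val_pow_eq_pow_val, ← map_pow, pow_orderOf_eq_one, map_one, Units.val_one])
      (orderOf_pos g).ne'
    rw [Complex.mul_conj, Complex.normSq_eq_norm_sq, hn, one_pow, Complex.ofReal_one]
  simp only [map_mul]
  linear_combination ((η : G → ℂ) g * conj ((η : G → ℂ) g)) * hb

end CfsgLib.Blocks
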