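import Cfsg.Agent.Lib.CharDeep.DetExt
import Cfsg.Agent.Lib.CharDeep.Galois.CharAut
import Cfsg.Agent.Lib.CharDeep.Clifford
import Cfsg.Agent.Lib.Char.Monomial
import Cfsg.Agent.Lib.Blocks.ExtTwist
import Cfsg.Agent.Lib.Blocks.CoverBasics
import Cfsg.Agent.Lib.Blocks.CoverPrincipal
import Cfsg.Agent.Lib.Blocks.Parts
import Cfsg.Agent.Lib.Fusion.Basic
import Mathlib.GroupTheory.FiniteAbelian.Duality
import Mathlib.RingTheory.RootsOfUnity.AlgebraicallyClosed
import Mathlib.Analysis.Complex.Polynomial.Basic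

/-!
# Extensions over the `p`-residual with cyclic quotient
-/

set_option autoImplicit false
set_option maxHeartbeats 800000

namespace CfsgLib.Blocks.CyclicResidual

open Cfsg CfsgLib CfsgLib.Blocks CfsgLib.Char CfsgLib.CharDeep
open scoped Classical ComplexConjugate

variable {G : Type*} [Group G] [Fintype G] {p : ℕ} [hp : Fact p.Prime]
variable {N : Subgroup G} [hN : N.Normal] [Fintype N]

/-- Linear characters of the quotient. -/
abbrev Dual (N : Subgroup G) [N.Normal] : Type _ := G ⧸ N →* ℂˣ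

omit [Fintype G] [Fintype N] in
theorem hom_residual_eq_one [Finite G] (hres : N = Cfsg.pResidual p G) (f : N →* ℂˣ) (n : N) :
    ¬ p ∣ orderOf (f n) := by
  subst hres
  have h : n ∈ Cfsg.pResidual p (Cfsg.pResidual p G) :=
    CfsgLib.Fusion.Basic.pResidual_pResidual (p := p) (G := G) ▸ Subgroup.mem_top n
  have h' : n ∈ Subgroup.closure {g : Cfsg.pResidual p G | (orderOf g).Coprime p} := h
  clear h
  induction h' using Subgroup.closure_induction with
  | mem x hx =>
    intro hd
    exact (hp.out.coprime_iff_not_dvd.1 (Nat.Coprime.symm hx)) (hd.trans (orderOf_map_dvd f x))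
  | one => rw [map_one, orderOf_one]; exact hp.out.not_dvd_one
  | mul x y _ _ hx hy =>
    intro hd
    rw [map_mul] at hd
    have hd' := hd.trans (Commute.all (f x) (f y)).orderOf_mul_dvd_lcm
    rcases hp.out.dvd_mul.1 (hd'.trans (Nat.lcm_dvd_mul _ _)) with e | e
    exacts [hx e, hy e]
  | inv x _ hx => rw [map_inv, orderOf_inv]; exact hx

/-- An invariant character of degree prime to `p` has an extension fixed by the power map if it is
itself fixed; the determinant of the extension has order prime to `p`. -/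
theorem exists_extension (hres : N = Cfsg.pResidual p G) {k : ℕ}
    (hk : (Nat.card G).Coprime k) (hk₂ : ∀ g : G, Nat.Coprime (orderOf g) p → g ^ k = g)
    (θ : IrrCharacter N) (hθd : ¬ p ∣ charDegree (θ : N → ℂ))
    (hinv : ∀ (g : G) (n : N), (θ : N → ℂ) (MulAut.conjNormal g n) = (θ : N → ℂ) n) :
    ∃ η : IrrCharacter G, (∀ n : N, (η : G → ℂ) n = (θ : N → ℂ) n) ∧
      ((∀ n : N, (θ : N → ℂ) (n ^ k) = (θ : N → ℂ) n) →
        ∀ g : G, (η : G → ℂ) (g ^ k) = (η : G → ℂ) g) := by
  obtain ⟨d, ρ, hρ, hρe⟩ := id θ.2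
  haveI := hρ
  obtain ⟨r, hr⟩ : ∃ r : ℕ, N.index = p ^ r := by
    rw [hres]; exact CfsgLib.Fusion.Basic.exists_index_pResidual
  have hdeg : charDegree (θ : N → ℂ) = Module.finrank ℂ (Fin d → ℂ) := by
    have h1 := irr_one_eq θ
    rw [← hρe, Representation.char_one] at h1
    rw [← hρe]
    exact_mod_cast h1.symm
  have hcop : N.index.Coprime (Module.finrank ℂ (Fin d → ℂ)) := by
    rw [hr, ← hdeg]
    exact (hp.out.coprime_iff_not_dvd.2 hθd).pow_left r
  have hρinv : ProjExt.Invariant ρ := fun g n => by rw [hρe]; exact hinv g n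
  set f := DetExt.detHom ρ with hf
  have hfinv : ∀ (g : G) (n : N), f ⟨g * n * g⁻¹, hN.conj_mem n n.2 g⟩ = f n := by
    intro g n
    obtain ⟨γ, hγ⟩ := ProjExt.exists_lift ρ g (hρinv g)
    have h1 := congrArg LinearMap.det (ProjExt.lin_mul ρ γ n)
    rw [map_mul, map_mul, ProjExt.det_lin, one_mul, mul_one] at h1
    apply Units.ext
    rw [hf, DetExt.coe_detHom, DetExt.coe_detHom, h1]
    congr 2
    exact Subtype.ext (by rw [MulAut.conjNormal_apply, hγ])
  -- the order of the determinant
  set m := ∏ n : N, orderOf (f n) with hm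
  have hmp : ¬ p ∣ m := fun hd => by
    obtain ⟨n, -, hn⟩ := (Prime.dvd_finsetProd_iff hp.out.prime _).1 hd
    exact hom_residual_eq_one hres f n hn
  have hfm : ∀ n : N, f n ^ m = 1 := fun n =>
    orderOf_dvd_iff_pow_eq_one.1 (Finset.dvd_prod_of_mem _ (Finset.mem_univ n))
  haveI : N.FiniteIndex := Subgroup.finiteIndex_of_finite
  let T : G →* ℂˣ := MonoidHom.transfer f
  have hT : ∀ n : N, T n = f n ^ N.index := fun n =>
    CentralExt.transfer_eq_pow_index le_rfl f hfinv f (fun _ _ => rfl) n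
  have hTm : ∀ g : G, T g ^ m = 1 := by
    intro g
    show MonoidHom.transfer f g ^ m = 1
    rw [MonoidHom.transfer_def f default g]
    unfold Subgroup.leftTransversals.diff
    rw [← Finset.prod_pow]
    exact Finset.prod_eq_one fun q _ => hfm _
  obtain ⟨a, ha⟩ : ∃ a : ℕ, N.index * a ≡ 1 [MOD m] := by
    refine ⟨N.index ^ (m.totient - 1), ?_⟩
    have hm0 : 0 < m := Finset.prod_pos fun n _ =>
      (MonoidHom.isOfFinOrder f (isOfFinOrder_of_finite n)).orderOf_pos
    rw [← pow_succ', Nat.sub_add_cancel (Nat.totient_pos.mpr hm0)]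
    refine Nat.ModEq.pow_totient ?_
    rw [hr]
    exact (hp.out.coprime_iff_not_dvd.2 hmp).pow_left r
  let μ : G →* ℂˣ := (powMonoidHom a).comp T
  have hμ : ∀ n : N, μ n = f n := fun n => by
    show T n ^ a = _
    rw [hT, ← pow_mul]
    conv_rhs => rw [← pow_one (f n)]
    exact pow_eq_pow_iff_modEq.2 (ha.of_dvd (orderOf_dvd_of_pow_eq_one (hfm n)))
  have hμk : ∀ g : G, μ (g ^ k) = μ g := by
    intro g
    obtain ⟨w, y, -, hwy, hc, hy, ⟨j, hj⟩, -, -⟩ := exists_isPPart hp.out g
    have hw : μ w = 1 := by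
      refine orderOf_eq_one_iff.1 (Nat.eq_one_of_dvd_coprimes
        ((hp.out.coprime_iff_not_dvd.2 hmp).pow_left j) (hj ▸ orderOf_map_dvd μ w)
        (orderOf_dvd_of_pow_eq_one ?_))
      show (T w ^ a) ^ m = 1
      rw [← pow_mul, mul_comm, pow_mul, hTm, one_pow]
    rw [← hwy, hc.mul_pow, map_mul, map_mul, map_pow μ w, hw, one_pow,
      hk₂ y ((hp.out.coprime_iff_not_dvd.2 hy).symm)]
  obtain ⟨σ, hσ, hσdet⟩ := DetExt.exists_extension_det ρ hρinv hcop μ hμ
  haveI := DetExt.isIrreducible_of_extends ρ σ hσ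
  let η : IrrCharacter G := ⟨σ.character, IrrTools.isIrrCharacter_character σ⟩
  have hη : ∀ n : N, (η : G → ℂ) n = (θ : N → ℂ) n := fun n =>
    (congrArg (LinearMap.trace ℂ _) (hσ n)).trans (congrFun hρe n)
  refine ⟨η, hη, fun hθ g => ?_⟩
  -- the image is another extension with the same determinant
  obtain ⟨β, hβ1, hβ⟩ := exists_linear_of_extensions η
    ⟨_, IsIrrCharacter.comp_pow η.2 k hk⟩ θ hη fun n => by
      show (η : G → ℂ) ((n : G) ^ k) = _
      rw [← SubgroupClass.coe_pow, hη, hθ]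
  change ∀ g, (η : G → ℂ) (g ^ k) = (β g : ℂ) * (η : G → ℂ) g at hβ
  suffices h1 : β g = 1 by rw [hβ, h1, Units.val_one, one_mul]
  -- compare determinants of the power map and the twist
  have hβidx : β g ^ N.index = 1 := by
    rw [← map_pow]
    exact hβ1 ⟨g ^ N.index, Subgroup.pow_index_mem N g⟩
  have hdet : β g ^ Module.finrank ℂ (Fin d → ℂ) = 1 := by
    let τ : Representation ℂ (Subgroup.zpowers g) (Fin d → ℂ) :=
      { toFun := fun x => σ ((x : G) ^ k)
        map_one' := by rw [OneMemClass.coe_one, one_pow, map_one]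
        map_mul' := fun x y => by
          obtain ⟨i, hi⟩ := Subgroup.mem_zpowers_iff.1 x.2
          obtain ⟨j, hj⟩ := Subgroup.mem_zpowers_iff.1 y.2
          have hc : Commute (x : G) y := by
            rw [← hi, ← hj]; exact (Commute.refl g).zpow_zpow i j
          rw [Subgroup.coe_mul, hc.mul_pow, map_mul] }
    obtain ⟨φ⟩ := CfsgLib.Char.nonempty_equiv_of_char_eq τ
      ((DetExt.twistHom σ β).comp (Subgroup.zpowers g).subtype) (funext fun x => by
        show (η : G → ℂ) ((x : G) ^ k) = LinearMap.trace ℂ _ ((β x : ℂ) • σ x)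
        rw [hβ, map_smul, smul_eq_mul]
        rfl)
    let x : Subgroup.zpowers g := ⟨g, Subgroup.mem_zpowers g⟩
    have h1 : φ.toLinearEquiv.conj (τ x) = (DetExt.twistHom σ β) (g : G) := by
      refine LinearMap.ext fun v => ?_
      rw [LinearEquiv.conj_apply]
      simp only [LinearMap.coe_comp, LinearEquiv.coe_coe, Function.comp_apply]
      have e := LinearMap.congr_fun (φ.toIntertwiningMap.isIntertwining' x) (φ.toLinearEquiv.symm v)
      refine e.trans ?_
      simp only [LinearMap.coe_comp, Function.comp_apply]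
      exact congrArg _ (φ.toLinearEquiv.apply_symm_apply v)
    have h2 := congrArg LinearMap.det h1
    rw [LinearEquiv.conj_apply, LinearMap.comp_assoc, LinearMap.det_conj] at h2
    change LinearMap.det (σ (g ^ k)) = LinearMap.det ((β g : ℂ) • σ g) at h2
    rw [LinearMap.det_smul, ← DetExt.coe_detHom, ← DetExt.coe_detHom, hσdet, hμk] at h2
    exact Units.ext (mul_right_cancel₀ (μ g).ne_zero
      (by rw [Units.val_pow_eq_pow_val, Units.val_one, one_mul]; exact h2.symm))
  refine orderOf_eq_one_iff.1 (Nat.eq_one_of_dvd_coprimes hcop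
    (orderOf_dvd_of_pow_eq_one hβidx) (orderOf_dvd_of_pow_eq_one hdet))

/-- The characters over an extendible character are its products with the linear characters of the
abelian quotient, each exactly once. -/
theorem twists_bijective [IsMulCommutative (G ⧸ N)] (θ : IrrCharacter N) (η : IrrCharacter G)
    (hη : ∀ n : N, (η : G → ℂ) n = (θ : N → ℂ) n) :
    let χ : Dual N → IrrCharacter G := fun l =>
      ⟨_, isIrrCharacter_hom_mul (l.comp (QuotientGroup.mk' N)) η⟩
    Function.Injective χ ∧ ∀ ψ : IrrCharacter G,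
      classInner (fun n : N => (ψ : G → ℂ) n) (θ : N → ℂ) ≠ 0 → ∃ l, χ l = ψ := by
  intro χ
  letI : CommGroup (G ⧸ N) := { QuotientGroup.Quotient.group N with
    mul_comm := fun a b => IsMulCommutative.is_comm.comm a b }
  haveI : Finite (Dual N) := Finite.of_equiv _
    (CommGroup.monoidHom_mulEquiv_of_hasEnoughRootsOfUnity (G ⧸ N) ℂ).some.symm.toEquiv
  letI : Fintype (Dual N) := Fintype.ofFinite _
  have hcard : Fintype.card (Dual N) = N.index := by
    rw [← Nat.card_eq_fintype_card, CommGroup.card_monoidHom_of_hasEnoughRootsOfUnity]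
    rfl
  have hηN : ∀ (g : G) (n : N), (θ : N → ℂ) ⟨g * n * g⁻¹, hN.conj_mem n n.2 g⟩ = (θ : N → ℂ) n :=
    fun g n => by rw [← hη, ← hη]; exact IsIrrCharacter.isClassFunction η.2 n g
  have hsum : indFun N (θ : N → ℂ) = ∑ l : Dual N, (χ l : G → ℂ) := by
    funext g
    rw [Finset.sum_apply]
    show _ = ∑ l : Dual N, (l (g : G ⧸ N) : ℂ) * (η : G → ℂ) g
    by_cases hg : g ∈ N
    · have h1 : ∀ l : Dual N, l (g : G ⧸ N) = 1 := fun l => by
        rw [(QuotientGroup.eq_one_iff g).2 hg, map_one]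
      have h2 := indFun_apply_of_normal N (θ : N → ℂ) ⟨g, hg⟩
      simp only [h1, Units.val_one, one_mul, Finset.sum_const, Finset.card_univ, hcard,
        nsmul_eq_mul]
      refine h2.trans ?_
      rw [Finset.sum_congr rfl (g := fun _ => (θ : N → ℂ) ⟨g, hg⟩) fun x _ => hηN x ⟨g, hg⟩,
        Finset.sum_const, Finset.card_univ, nsmul_eq_mul, ← hη ⟨g, hg⟩, ← mul_assoc]
      congr 1
      rw [← Nat.card_eq_fintype_card, ← N.index_mul_card, Nat.cast_mul]
      field_simp [Nat.cast_ne_zero.2 (Nat.card_pos (α := N)).ne']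
    · rw [indFun_def, ← Finset.sum_mul]
      obtain ⟨l₀, hl₀⟩ := CommGroup.exists_apply_ne_one_of_hasEnoughRootsOfUnity (G ⧸ N) ℂ
        (a := (g : G ⧸ N)) (mt (QuotientGroup.eq_one_iff g).1 hg)
      have h3 : ∑ l : Dual N, (l (g : G ⧸ N) : ℂ) = 0 := by
        have h4 : (l₀ (g : G ⧸ N) : ℂ) * ∑ l : Dual N, (l (g : G ⧸ N) : ℂ)
            = ∑ l : Dual N, (l (g : G ⧸ N) : ℂ) := by
          rw [Finset.mul_sum]
          exact Fintype.sum_equiv (Equiv.mulLeft l₀) _ _ fun l => by simp
        exact (mul_left_eq_self₀.1 h4).resolve_left fun h => hl₀ (Units.ext h)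
      rw [h3, zero_mul, Finset.sum_eq_zero fun x _ => ?_, mul_zero]
      refine extendByZero_apply_notMem N _ ?_
      exact fun h => hg (by simpa [mul_assoc] using hN.conj_mem _ h x)
  refine ⟨?_, fun ψ hψ => ?_⟩
  · have hnorm : classInner (indFun N (θ : N → ℂ)) (indFun N (θ : N → ℂ)) = (N.index : ℂ) := by
      rw [classInner_indFun_irr θ.2 θ.2, Nat.card_congr (Equiv.subtypeUnivEquiv fun g => ?_),
        ← N.index_mul_card, Nat.cast_mul, mul_div_cancel_right₀ _
          (Nat.cast_ne_zero.2 Nat.card_pos.ne')]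
      exact funext fun n => hηN g n
    rw [hsum, classInner_sum_left] at hnorm
    intro a b hab
    by_contra hne
    have h1 : ∀ l : Dual N, classInner (χ l : G → ℂ) (∑ m : Dual N, (χ m : G → ℂ))
        = ((Finset.univ.filter fun m => χ m = χ l).card : ℂ) := by
      intro l
      rw [classInner_sum_right, Finset.card_filter, Nat.cast_sum]
      refine Finset.sum_congr rfl fun m _ => ?_
      rw [classInner_irrCharacter]
      by_cases h : χ m = χ l
      · simp [h]
      · simp [h, Ne.symm h]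
    rw [Finset.sum_congr rfl fun l _ => h1 l, ← Nat.cast_sum, Nat.cast_inj, ← hcard] at hnorm
    refine (ne_of_gt ?_) hnorm
    rw [← Finset.card_univ, Finset.card_eq_sum_ones]
    refine Finset.sum_lt_sum (fun l _ => Finset.card_pos.2 ⟨l, by simp⟩) ⟨a, Finset.mem_univ a, ?_⟩
    exact Finset.one_lt_card.2 ⟨a, by simp, b, by simp [hab], hne⟩
  · by_contra hcon
    push Not at hcon
    refine hψ ?_
    have h0 : classInner (ψ : G → ℂ) (indFun N (θ : N → ℂ)) = 0 := by
      rw [hsum, classInner_sum_right]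
      refine Finset.sum_eq_zero fun l _ => ?_
      rw [classInner_irrCharacter, if_neg fun e => hcon l e.symm]
    rwa [classInner_indFun_right N _ (IsIrrCharacter.isClassFunction ψ.2)] at h0

end CfsgLib.Blocks.CyclicResidual
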