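import Cfsg.Agent.Lib.Blocks.CyclicEigen
import Mathlib.RingTheory.RootsOfUnity.EnoughRootsOfUnity
import Mathlib.RingTheory.RootsOfUnity.PrimitiveRoots
import Mathlib.LinearAlgebra.Dual.Lemmas

/-!
# One eigenvalue for each simple module, and every eigenvalue
-/

set_option autoImplicit false
set_option linter.unusedSectionVars false
set_option maxHeartbeats 1000000
set_option synthInstance.maxHeartbeats 200000

namespace CfsgLib.Blocks.CyclicStable

open Cfsg CfsgLib.Blocks CfsgLib.Blocks.ResidueAlgebra CfsgLib.Blocks.TwoCharacters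
open scoped Classical

universe u v

variable {G : Type u} [Group G] [Fintype G] {p : ℕ} {M : Ideal AlgInt}

theorem exists_out_smul {P : Subgroup G} (g : G) (y : G ⧸ P) :
    ∃ u ∈ P, (g • y).out = g * y.out * u := by
  obtain ⟨u, hu⟩ := QuotientGroup.mk_out_eq_mul P (g * y.out)
  refine ⟨u, u.2, ?_⟩
  rw [← hu]
  conv_lhs => rw [← QuotientGroup.out_eq' y]
  rfl

variable {hM : IsPModular p M} {K H P : Subgroup G} {D : Loc hM K H P} {τ : RA hM G}
  {V : Type v} [AddCommGroup V] [Module (RA hM G) V] [Module (Residue hM) V]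
  [IsScalarTower (Residue hM) (RA hM G) V]

/-! ### The twisted operator on modules -/

namespace IsTw

theorem τb (ht : IsTw D τ) : τ * D.b = τ := by
  obtain ⟨S, hS, h⟩ := ht.pow 1
  rw [pow_one, pow_one] at h
  calc τ * D.b = g1 hM D.t⁻¹ * (D.b * S) := by rw [h, mul_assoc, (D.bc S hS).eq]
    _ = D.b * τ := by rw [← mul_assoc, (D.commute_b_inv D.tb).eq, h, mul_assoc]
    _ = τ := ht.bτ

theorem commute_b (ht : IsTw D τ) : Commute D.b τ := ht.bτ.trans ht.τb.symm

theorem inKer_smul (ht : IsTw D τ) {v : V} (hv : InKer D v) : InKer D (τ • v) := by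
  obtain ⟨r, hr⟩ := ht.Xτ
  exact ⟨by rw [← mul_smul, ht.bτ], by rw [← mul_smul, hr, mul_smul, hv.2, smul_zero]⟩

theorem inKer_pow (ht : IsTw D τ) {v : V} (hv : InKer D v) : ∀ i : ℕ, InKer D (τ ^ i • v)
  | 0 => by rwa [pow_zero, one_smul]
  | i + 1 => by rw [pow_succ', mul_smul]; exact ht.inKer_smul (inKer_pow ht hv i)

theorem comm_smul (ht : IsTw D τ) {w : RA hM G} (hw : Supp hM K w) {v : V} (hv : D.X • v = 0) :
    τ • w • v = w • τ • v := by
  rw [← mul_smul, ← mul_smul, cong_smul (ht.comm w hw) hv]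

theorem pow_n (ht : IsTw D τ) {v : V} (hv : InKer D v) : τ ^ D.n • v = v := by
  rw [cong_smul ht.tn hv.2, hv.1]

theorem mem_imS (ht : IsTw D τ) {v : V} (h : v ∈ imS D V) : τ • v ∈ imS D V := by
  obtain ⟨y, rfl⟩ := h
  obtain ⟨r, hr⟩ := ht.τX (D.q - 1)
  exact ⟨r • y, by rw [op_apply, op_apply, ← mul_smul, ← mul_smul, hr]⟩

end IsTw

/-! ### The projector on an eigenspace -/

variable (D τ) in
/-- The projector on the eigenvalue `ω`. -/
noncomputable def pr (ω : Residue hM) : RA hM G :=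
  (D.n : Residue hM)⁻¹ • ∑ i ∈ Finset.range D.n, (ω⁻¹ • τ) ^ i

theorem pr_mem {S : Submodule (Residue hM) V} (hS : ∀ v ∈ S, τ • v ∈ S) {v : V} (hv : v ∈ S)
    (ω : Residue hM) : pr D τ ω • v ∈ S := by
  have hpow : ∀ i : ℕ, τ ^ i • v ∈ S := fun i => by
    induction i with
    | zero => rwa [pow_zero, one_smul]
    | succ i ih => rw [pow_succ', mul_smul]; exact hS _ ih
  rw [pr, smul_assoc, Finset.sum_smul]
  refine S.smul_mem _ (sum_mem fun i _ => ?_)
  rw [smul_pow, smul_assoc]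
  exact S.smul_mem _ (hpow i)

variable (D) in
/-- The kernel of `X` on `bV`, as a subspace. -/
noncomputable def kerS (V : Type v) [AddCommGroup V] [Module (RA hM G) V] [Module (Residue hM) V]
    [IsScalarTower (Residue hM) (RA hM G) V] : Submodule (Residue hM) V :=
  LinearMap.ker (op V D.X) ⊓ LinearMap.ker (op V (1 - D.b))

theorem mem_kerS {v : V} : v ∈ kerS D V ↔ InKer D v := by
  rw [kerS, Submodule.mem_inf, LinearMap.mem_ker, LinearMap.mem_ker, op_apply, op_apply, sub_smul,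
    one_smul, sub_eq_zero]
  exact ⟨fun h => ⟨h.2.symm, h.1⟩, fun h => ⟨h.2, h.1.symm⟩⟩

theorem pr_inKer (ht : IsTw D τ) {v : V} (hv : InKer D v) (ω : Residue hM) :
    InKer D (pr D τ ω • v) :=
  mem_kerS.1 (pr_mem (fun _ h => mem_kerS.2 (ht.inKer_smul (mem_kerS.1 h))) (mem_kerS.2 hv) ω)

theorem pr_eigen (ht : IsTw D τ) {v : V} (hv : InKer D v) {ω : Residue hM} (hω : ω ^ D.n = 1) :
    τ • pr D τ ω • v = ω • pr D τ ω • v := by
  haveI : SMulCommClass (Residue hM) (RA hM G) V := IsScalarTower.to_smulCommClass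
  have hω0 : ω ≠ 0 := fun h => by rw [h, zero_pow D.npos.ne'] at hω; exact zero_ne_one hω
  set S := ∑ i ∈ Finset.range D.n, (ω⁻¹ • τ) ^ i with hS
  have h1 : (ω⁻¹ • τ - 1) * S = (ω⁻¹ • τ) ^ D.n - 1 := mul_geom_sum _ _
  have h2 : (ω⁻¹ • τ) • S • v = S • v := by
    rw [← sub_eq_zero, ← mul_smul, ← sub_smul]
    rw [show ω⁻¹ • τ * S - S = (ω⁻¹ • τ - 1) * S by rw [sub_mul, one_mul], h1, sub_smul, one_smul,
      smul_pow, inv_pow, hω, inv_one, one_smul, ht.pow_n hv, sub_self]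
  rw [pr, ← hS, smul_assoc, smul_comm τ, smul_comm ω]
  congr 1
  conv_rhs => rw [← h2]
  rw [smul_assoc, smul_smul ω, mul_inv_cancel₀ hω0, one_smul]

theorem sum_pr {ζ : Residue hM} (hζ : IsPrimitiveRoot ζ D.n) :
    ∑ a ∈ Finset.range D.n, pr D τ (ζ ^ a) = 1 := by
  have hinner : ∀ i ∈ Finset.range D.n, ∑ a ∈ Finset.range D.n, ((ζ ^ a)⁻¹) ^ i
      = if i = 0 then (D.n : Residue hM) else 0 := fun i hi => by
    split_ifs with h
    · subst h; simp
    · have hne : ζ⁻¹ ^ i ≠ 1 := fun hh => by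
        rw [inv_pow, inv_eq_one] at hh
        exact h (Nat.eq_zero_of_dvd_of_lt ((hζ.pow_eq_one_iff_dvd i).1 hh) (Finset.mem_range.1 hi))
      rw [Finset.sum_congr rfl fun a _ => show ((ζ ^ a)⁻¹) ^ i = (ζ⁻¹ ^ i) ^ a by
        rw [← inv_pow, ← pow_mul, ← pow_mul, mul_comm], geom_sum_eq hne]
      rw [← pow_mul, mul_comm, pow_mul, inv_pow, hζ.pow_eq_one, inv_one, one_pow, sub_self, zero_div]
  simp only [pr]
  rw [← Finset.smul_sum, Finset.sum_comm]
  simp only [smul_pow, ← Finset.sum_smul]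
  rw [Finset.sum_congr rfl fun i hi => by rw [hinner i hi], Finset.sum_eq_single 0 (fun i _ h => by
    rw [if_neg h, zero_smul]) (fun h => absurd (Finset.mem_range.2 D.npos) h), if_pos rfl, pow_zero,
    smul_smul, inv_mul_cancel₀ D.nk, one_smul]

theorem exists_pr_not_mem [Fact p.Prime] (S : Submodule (Residue hM) V) {v : V} (hv : v ∉ S) :
    ∃ ω : Residue hM, ω ^ D.n = 1 ∧ pr D τ ω • v ∉ S := by
  haveI : IsAlgClosed (Residue hM) := isAlgClosed_residue hM
  haveI : NeZero (D.n : Residue hM) := ⟨D.nk⟩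
  haveI : NeZero D.n := ⟨D.npos.ne'⟩
  obtain ⟨ζ, hζ⟩ := HasEnoughRootsOfUnity.exists_primitiveRoot (Residue hM) D.n
  by_contra hno
  push Not at hno
  refine hv ?_
  rw [← one_smul (RA hM G) v, ← sum_pr (τ := τ) hζ, Finset.sum_smul]
  exact sum_mem fun a _ => hno _ (by rw [← pow_mul, mul_comm, pow_mul, hζ.pow_eq_one, one_pow])

/-! ### A simple module sees one eigenvalue -/

theorem cjL_coset {γ : V →ₗ[Residue hM] V} (hγ : ∀ u ∈ P, ∀ v, γ (g1 hM u • v) = g1 hM u • γ v)
    {y y' : G} (h : y⁻¹ * y' ∈ P) : cjL y' γ = cjL y γ := by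
  rw [show y' = y * (y⁻¹ * y') by group, cjL_mul, cjL_eq_of_commute (hγ _ h)]

theorem exists_scalar [Fact p.Prime] [FiniteDimensional (Residue hM) V] [IsSimpleModule (RA hM G) V]
    (ht : IsTw D τ) {v₀ : V} (hv₀ : InKer D v₀) (hv₀' : v₀ ∉ imS D V) :
    ∃ ω : Residue hM, ∀ v : V, InKer D v → τ • v - ω • v ∈ imS D V := by
  haveI : IsAlgClosed (Residue hM) := isAlgClosed_residue hM
  haveI : SMulCommClass (Residue hM) (RA hM G) V := IsScalarTower.to_smulCommClass
  have hXE : ∀ i : ℕ, D.E * D.X ^ i = D.X ^ i * D.E := fun i => ((D.Xpow_c D.EK i).eq).symm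
  let W : ℕ → Submodule (Residue hM) V := fun j =>
    LinearMap.ker (op V D.X) ⊓ LinearMap.range (op V (D.X ^ j * D.E))
  have hW : ∀ {j : ℕ} {v : V}, v ∈ W j ↔ D.X • v = 0 ∧ ∃ y, (D.X ^ j * D.E) • y = v := Iff.rfl
  have hWE : ∀ {j : ℕ} {v : V}, v ∈ W j → D.E • v = v := fun hv => by
    obtain ⟨-, y, rfl⟩ := hW.1 hv
    rw [← mul_smul, ← mul_assoc, hXE, mul_assoc, D.EE]
  have hWk : ∀ {j : ℕ} {v : V}, v ∈ W j → InKer D v := fun hv =>
    ⟨by conv_lhs => rw [← hWE hv]; rw [← mul_smul, D.bE, hWE hv], (hW.1 hv).1⟩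
  have hW0 : ∀ l {v : V}, InKer D v → D.Qm l • v ∈ W 0 := fun l v hv => hW.2
    ⟨by rw [← mul_smul, (D.Xc _ (D.QK l)).eq, mul_smul, hv.2, smul_zero],
      ⟨D.Qm l • v, by rw [pow_zero, one_mul, ← mul_smul, D.hEQ]⟩⟩
  have hdec : ∀ {v : V}, InKer D v → v = ∑ l, D.Pm l • D.Qm l • v := fun {v} hv => by
    conv_lhs => rw [← hv.1, ← D.hsum, Finset.sum_smul]
    exact Finset.sum_congr rfl fun l _ => mul_smul _ _ _
  have hlast : ∀ {j : ℕ} {v : V}, D.q - 1 ≤ j → v ∈ W j → v ∈ imS D V := fun {j v} hj hv => by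
    obtain ⟨-, y, rfl⟩ := hW.1 hv
    exact ⟨(D.X ^ (j - (D.q - 1)) * D.E) • y, by
      rw [op_apply, ← mul_smul, ← mul_assoc, ← pow_add, Nat.add_sub_cancel' hj]⟩
  -- the highest layer
  obtain ⟨j, hjW, hmax⟩ : ∃ j, ¬ W j ≤ imS D V ∧ W (j + 1) ≤ imS D V := by
    by_contra hno
    push Not at hno
    have hall : ∀ j, ¬ W j ≤ imS D V := fun j => by
      induction j with
      | zero =>
        intro hle
        refine hv₀' ?_
        rw [hdec hv₀]
        exact sum_mem fun l _ => smul_mem_imS (D.PK l) (hle (hW0 l hv₀))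
      | succ j ih => exact hno j ih
    exact hall (D.q - 1) fun v hv => hlast le_rfl hv
  have hjq : j + 1 ≤ D.q - 1 := by
    by_contra hlt
    exact hjW fun v hv => hlast (by omega) hv
  obtain ⟨w₀, hw₀, hw₀'⟩ := SetLike.not_le_iff_exists.1 hjW
  obtain ⟨ω, hω, hu⟩ := exists_pr_not_mem (D := D) (τ := τ) (imS D V) hw₀'
  have hWτ : ∀ v ∈ W j, τ • v ∈ W j := fun v hv => by
    have hk := ht.inKer_smul (hWk hv)
    refine hW.2 ⟨hk.2, ?_⟩
    have hEτ : D.E • τ • v = τ • v := by rw [← ht.comm_smul D.EK (hWk hv).2, hWE hv]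
    obtain ⟨-, y, hy⟩ := hW.1 hv
    obtain ⟨r, hr⟩ := ht.τX j
    refine ⟨(r * D.E) • y, ?_⟩
    rw [← hEτ, ← hy, ← mul_smul τ, ← mul_assoc τ, hr, ← mul_smul, ← mul_smul, ← hXE]
    simp only [mul_assoc]
  set u₀ := pr D τ ω • w₀ with hu₀
  have hu₀W : u₀ ∈ W j := pr_mem hWτ hw₀ ω
  have hu₀e : τ • u₀ = ω • u₀ := pr_eigen ht (hWk hw₀) hω
  have hpowu : ∀ i : ℕ, τ ^ i • u₀ = ω ^ i • u₀ := fun i => by
    induction i with
    | zero => rw [pow_zero, pow_zero, one_smul, one_smul]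
    | succ i ih => rw [pow_succ', mul_smul, ih, smul_comm, hu₀e, smul_smul, ← pow_succ]
  -- the functional
  obtain ⟨-, y, hy⟩ := hW.1 hu₀W
  set y' := D.E • y with hy'
  have hyu : D.X ^ j • y' = u₀ := by rw [hy', ← mul_smul, hy]
  have hS : u₀ ∉ LinearMap.range (op V (D.X ^ (j + 1) * D.E)) ⊔ imS D V := by
    intro h
    obtain ⟨a, ⟨a', rfl⟩, c, ⟨c', rfl⟩, hac⟩ := Submodule.mem_sup.1 h
    refine hu ?_
    show u₀ ∈ imS D V
    have hd : u₀ = (D.X ^ (j + 1) * D.E) • a' + D.X ^ (D.q - 1) • D.E • c' := by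
      rw [← hWE hu₀W, ← hac, op_apply, op_apply, smul_add]
      simp only [← mul_smul, ← mul_assoc, hXE]
      rw [mul_assoc (D.X ^ (j + 1)), D.EE]
    rw [hd]
    refine add_mem (hmax (hW.2 ⟨?_, a', rfl⟩)) (Xpow_mem_imS _)
    have h1 : D.X • u₀ = 0 := (hW.1 hu₀W).1
    rw [hd, smul_add, ← mul_smul D.X (D.X ^ (D.q - 1)), ← pow_succ', D.qsucc, D.Xq, zero_smul,
      add_zero] at h1
    exact h1
  obtain ⟨f, hf, hfS⟩ := Submodule.exists_dual_map_eq_bot_of_notMem hS inferInstance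
  set φ : V →ₗ[Residue hM] Residue hM := (f u₀)⁻¹ • f with hφ
  have hφu : φ u₀ = 1 := by rw [hφ, LinearMap.smul_apply, smul_eq_mul, inv_mul_cancel₀ hf]
  have hφ0 : ∀ v ∈ LinearMap.range (op V (D.X ^ (j + 1) * D.E)) ⊔ imS D V, φ v = 0 := fun v hv => by
    have : f v = 0 := (Submodule.mem_bot _).1 (hfS ▸ Submodule.mem_map_of_mem hv)
    rw [hφ, LinearMap.smul_apply, this, smul_zero]
  -- the operator on one copy
  let π₁ : V →ₗ[Residue hM] V := ∑ a ∈ Finset.range (j + 1),
    (φ ∘ₗ op V (D.X ^ (j - a) * D.E)).smulRight (D.X ^ a • y')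
  have hπ : ∀ v, π₁ v = ∑ a ∈ Finset.range (j + 1), φ ((D.X ^ (j - a) * D.E) • v) • D.X ^ a • y' :=
    fun v => by simp [π₁, LinearMap.sum_apply]
  have hπE : ∀ v, π₁ (D.E • v) = π₁ v := fun v => by
    simp only [hπ, ← mul_smul, mul_assoc, D.EE]
  have hEπ : ∀ v, D.E • π₁ v = π₁ v := fun v => by
    rw [hπ, Finset.smul_sum]
    refine Finset.sum_congr rfl fun a _ => ?_
    rw [smul_comm]
    congr 1
    rw [hy', ← mul_smul, ← mul_smul, hXE, mul_assoc, D.EE, mul_smul]
  have hπX : ∀ v, π₁ (D.X • v) = D.X • π₁ v := fun v => by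
    set F : ℕ → V := fun a => φ ((D.X ^ (j + 1 - a) * D.E) • v) • D.X ^ a • y' with hF
    have h1 : π₁ (D.X • v) = ∑ a ∈ Finset.range (j + 1), F a := by
      rw [hπ]
      refine Finset.sum_congr rfl fun a ha => ?_
      simp only [hF]
      rw [← mul_smul, mul_assoc, ← (D.Xc _ D.EK).eq, ← mul_assoc, ← pow_succ,
        show j - a + 1 = j + 1 - a by have := Finset.mem_range.1 ha; omega]
    have h2 : D.X • π₁ v = ∑ a ∈ Finset.range (j + 1), F (a + 1) := by
      rw [hπ, Finset.smul_sum]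
      refine Finset.sum_congr rfl fun a _ => ?_
      simp only [hF]
      rw [smul_comm, ← mul_smul, ← pow_succ', show j + 1 - (a + 1) = j - a by omega]
    have h3 : F 0 = 0 := by
      rw [hF]
      simp only [Nat.sub_zero]
      show φ (op V (D.X ^ (j + 1) * D.E) v) • _ = 0
      rw [hφ0 _ (Submodule.mem_sup_left ⟨v, rfl⟩), zero_smul]
    have h4 : F (j + 1) = 0 := by
      rw [hF]
      simp only [Nat.sub_self]
      rw [pow_succ' D.X j, mul_smul D.X, hyu, (hW.1 hu₀W).1, smul_zero]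
    rw [h1, h2, Finset.sum_range_succ', Finset.sum_range_succ (fun a => F (a + 1)) j, h3, h4]
  have hπi : ∀ (i : ℕ) (v : V), π₁ (D.X ^ i • v) = D.X ^ i • π₁ v := fun i => by
    induction i with
    | zero => intro v; simp
    | succ i ih => intro v; rw [pow_succ', mul_smul, hπX, ih, mul_smul]
  have hπc : ∀ (x : RA hM G), x ∈ Submodule.span (Residue hM) (Set.range fun i : ℕ => D.X ^ i * D.E) →
      ∀ v, π₁ (x • v) = x • π₁ v := fun x hx => by
    induction hx using Submodule.span_induction with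
    | mem x hx =>
      obtain ⟨i, rfl⟩ := hx
      intro v
      rw [mul_smul, hπi, hπE, mul_smul, hEπ]
    | zero => intro v; rw [zero_smul, map_zero, zero_smul]
    | add a b _ _ ha hb => intro v; rw [add_smul, map_add, ha, hb, add_smul]
    | smul c a _ ha => intro v; rw [smul_assoc, map_smul, ha, smul_assoc]
  have hπN : ∀ v ∈ W 0, π₁ v = φ v • u₀ := fun v hv => by
    rw [hπ, Finset.sum_eq_single j (fun a ha haj => ?_) (by simp), Nat.sub_self, pow_zero, one_mul,
      hWE hv, hyu]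
    obtain ⟨i, hi⟩ : ∃ i, j - a = i + 1 := ⟨j - a - 1, by have := Finset.mem_range.1 ha; omega⟩
    rw [hi, mul_smul, hWE hv, pow_succ, mul_smul, (hW.1 hv).1, smul_zero, map_zero, zero_smul]
  -- the operator on `bV`
  let β : V →ₗ[Residue hM] V := ∑ l, op V (D.Pm l) ∘ₗ π₁ ∘ₗ op V (D.Qm l)
  have hβ : ∀ v, β v = ∑ l, D.Pm l • π₁ (D.Qm l • v) := fun v => by
    simp [β, LinearMap.sum_apply]
  have hbβ : ∀ v, D.b • β v = β v := fun v => by
    rw [hβ, Finset.smul_sum]
    exact Finset.sum_congr rfl fun l _ => by rw [← mul_smul, D.bP]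
  have hβw : ∀ w, Supp hM (K : Set G) w → ∀ v, β (w • v) = w • β v := fun w hw v => by
    have hc : ∀ i l, D.Qm i * w * D.Pm l
        ∈ Submodule.span (Residue hM) (Set.range fun a : ℕ => D.X ^ a * D.E) := fun i l => by
      have h := D.corner _ (((D.QK i).mul hw).mul (D.PK l))
      rwa [← mul_assoc, ← mul_assoc, D.hEQ, mul_assoc (D.Qm i * w) (D.Pm l), D.hPE] at h
    have h1 : ∀ i, D.Qm i * w = ∑ l, D.Qm i * w * D.Pm l * D.Qm l := fun i => by
      conv_lhs => rw [← D.Qb i, mul_assoc, (D.bc w hw).eq, ← D.hsum, Finset.mul_sum, Finset.mul_sum]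
      exact Finset.sum_congr rfl fun l _ => by simp only [mul_assoc]
    have h2 : ∀ i, π₁ (D.Qm i • w • v) = ∑ l, (D.Qm i * w * D.Pm l) • π₁ (D.Qm l • v) := fun i => by
      rw [← mul_smul]
      conv_lhs => rw [h1]
      rw [Finset.sum_smul, map_sum]
      exact Finset.sum_congr rfl fun l _ => by rw [mul_smul _ (D.Qm l), hπc _ (hc i l)]
    rw [hβ]
    calc ∑ i, D.Pm i • π₁ (D.Qm i • w • v)
        = ∑ l, (D.b * w) • (D.Pm l • π₁ (D.Qm l • v)) := by
          simp only [h2, Finset.smul_sum]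
          rw [Finset.sum_comm]
          refine Finset.sum_congr rfl fun l _ => ?_
          rw [← D.hsum, Finset.sum_mul, Finset.sum_smul]
          refine Finset.sum_congr rfl fun i _ => ?_
          simp only [← mul_smul, mul_assoc]
      _ = w • β v := by rw [← Finset.smul_sum, ← hβ, (D.bc w hw).eq, mul_smul, hbβ]
  have hβN : ∀ v ∈ W 0, β v = φ v • u₀ := fun v hv => by
    rw [← hπN v hv]
    have hEP : ∀ l, D.E * D.Pm l
        ∈ Submodule.span (Residue hM) (Set.range fun a : ℕ => D.X ^ a * D.E) := fun l => by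
      have h := D.corner _ (D.PK l)
      rwa [mul_assoc, D.hPE] at h
    have h : β v = D.E • β v := by rw [← hβw _ D.EK, hWE hv]
    rw [h, hβ, Finset.smul_sum]
    calc ∑ l, D.E • D.Pm l • π₁ (D.Qm l • v) = ∑ l, π₁ ((D.E * D.Pm l) • D.Qm l • v) :=
          Finset.sum_congr rfl fun l _ => by rw [hπc _ (hEP l), mul_smul]
      _ = π₁ v := by
        rw [← map_sum]
        congr 1
        conv_rhs => rw [← hWE hv, ← hWE hv, ← mul_smul, D.EE, ← D.bE,
          (D.bc _ D.EK).eq, ← D.hsum, Finset.mul_sum, Finset.sum_smul]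
        exact Finset.sum_congr rfl fun l _ => by simp only [← mul_smul, mul_assoc]
  -- the average over the cosets
  let γ : V →ₗ[Residue hM] V := op V D.a ∘ₗ β
  have hγ : ∀ u ∈ P, ∀ v, γ (g1 hM u • v) = g1 hM u • γ v := fun u hu v => by
    show D.a • β (g1 hM u • v) = g1 hM u • D.a • β v
    rw [hβw _ (supp_g1 (D.hPK hu)), ← mul_smul, ← mul_smul, (D.ha u hu).eq]
  let Γ : G ⧸ P → V →ₗ[Residue hM] V := fun z => cjL z.out γ
  have hΓs : ∀ (g : G) (z : G ⧸ P), Γ (g • z) = cjL g (Γ z) := fun g z => by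
    obtain ⟨u, hu, h⟩ := exists_out_smul g z
    show cjL (g • z).out γ = cjL g (cjL z.out γ)
    rw [h, cjL_coset hγ (y := g * z.out) (by rw [inv_mul_cancel_left]; exact hu), cjL_mul]
  let Φ : V →ₗ[Residue hM] V := ∑ z, Γ z
  have hΦg : ∀ (g : G) v, Φ (g1 hM g • v) = g1 hM g • Φ v := fun g v => by
    simp only [Φ, LinearMap.sum_apply, Finset.smul_sum]
    refine Fintype.sum_equiv (MulAction.toPerm g⁻¹) _ _ fun z => ?_
    rw [MulAction.toPerm_apply, hΓs, cjL_apply g⁻¹, inv_inv, ← mul_smul (g1 hM g), g1_mul,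
      mul_inv_cancel, g1_one, one_smul]
  let ΦA : Module.End (RA hM G) V :=
    { toFun := Φ
      map_add' := map_add Φ
      map_smul' := fun x v => map_smul_supp (K := ⊤) (fun g _ => hΦg g)
        (fun g hg => absurd trivial hg) v }
  obtain ⟨lam, hlam⟩ := (IsSimpleModule.algebraMap_end_bijective_of_isAlgClosed (A := RA hM G)
    (Residue hM) (V := V)).2 ΦA
  have hΦv : ∀ v, Φ v = lam • v := fun v => by
    have h := LinearMap.congr_fun hlam v
    rw [Module.algebraMap_end_apply] at h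
    exact h.symm
  -- evaluation on one copy
  let c : V → Residue hM := fun v => ∑ i ∈ Finset.range D.n, φ (τ ^ (D.n - i) • v) * ω ^ i
  have heval : ∀ v ∈ W 0, D.b • Φ v - c v • u₀ ∈ imS D V := by
    intro v hv
    have hvk := hWk hv
    have hout : D.b • ∑ z ∈ Finset.univ.filter (fun z : G ⧸ P => z.out ∉ H), Γ z v ∈ imS D V := by
      letI : MulAction P {z : G ⧸ P // z.out ∉ H} :=
        { smul := fun u z => ⟨(u : G) • (z : G ⧸ P), fun h => z.2 (by
            obtain ⟨u', hu', he⟩ := exists_out_smul (u : G) (z : G ⧸ P)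
            rw [he, H.mul_mem_cancel_right (D.hKH (D.hPK hu')),
              H.mul_mem_cancel_left (D.hKH (D.hPK u.2))] at h
            exact h)⟩
          one_smul := fun z => Subtype.ext (one_smul G (z : G ⧸ P))
          mul_smul := fun a b z => Subtype.ext (mul_smul (a : G) (b : G) (z : G ⧸ P)) }
      have hF : ∀ w, ∑ z ∈ Finset.univ.filter (fun z : G ⧸ P => z.out ∉ H), Γ z w
          = ∑ z : {z : G ⧸ P // z.out ∉ H}, Γ z w := fun w =>
        Finset.sum_subtype (p := fun z : G ⧸ P => z.out ∉ H) _ (by simp) fun z => Γ z w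
      rw [hF]
      refine sum_free_mem (Y := {z : G ⧸ P // z.out ∉ H})
        (fun u z h => Subtype.ext (D.free _ z.2 u u.2 ?_)) _ (fun u z => hΓs (u : G) (z : G ⧸ P)) ?_ hvk
      · have h' : (u : G) • (z : G ⧸ P) = z := congrArg Subtype.val h
        obtain ⟨u', hu', he⟩ := exists_out_smul (u : G) (z : G ⧸ P)
        rw [h'] at he
        have hu'' : (z : G ⧸ P).out⁻¹ * u * (z : G ⧸ P).out = u'⁻¹ :=
          eq_inv_of_mul_eq_one_left (by
            rw [mul_assoc, mul_assoc, ← mul_assoc (u : G), ← he, inv_mul_cancel])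
        rw [hu'']; exact P.inv_mem hu'
      · intro k hk w
        rw [← hF, ← hF, Finset.smul_sum]
        refine Finset.sum_bij (fun z _ => k⁻¹ • z) (fun z hz => ?_)
          (fun z _ z' _ h => smul_left_cancel _ h) (fun z hz => ⟨k • z, ?_, inv_smul_smul k z⟩)
          (fun z _ => ?_)
        · obtain ⟨u', hu', he⟩ := exists_out_smul k⁻¹ z
          refine Finset.mem_filter.2 ⟨Finset.mem_univ _, fun h => (Finset.mem_filter.1 hz).2 ?_⟩
          rwa [he, H.mul_mem_cancel_right (D.hKH (D.hPK hu')),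
            H.mul_mem_cancel_left (H.inv_mem (D.hKH hk))] at h
        · obtain ⟨u', hu', he⟩ := exists_out_smul k z
          refine Finset.mem_filter.2 ⟨Finset.mem_univ _, fun h => (Finset.mem_filter.1 hz).2 ?_⟩
          rwa [he, H.mul_mem_cancel_right (D.hKH (D.hPK hu')),
            H.mul_mem_cancel_left (D.hKH hk)] at h
        · rw [hΓs, cjL_apply k⁻¹, inv_inv, ← mul_smul (g1 hM k), g1_mul, mul_inv_cancel, g1_one,
            one_smul]
    let P' := P.subgroupOf K
    let emb : Fin D.n × (K ⧸ P') → G ⧸ P := fun x =>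
      ((D.t⁻¹ ^ (x.1 : ℕ) * (x.2.out : G) : G) : G ⧸ P)
    have hemb : Function.Injective emb := by
      rintro ⟨i, r⟩ ⟨i', r'⟩ h
      have h1 : (D.t⁻¹ ^ (i : ℕ) * (r.out : G))⁻¹ * (D.t⁻¹ ^ (i' : ℕ) * r'.out) ∈ P :=
        QuotientGroup.eq.1 h
      have h2 : (D.t⁻¹ ^ (i : ℕ))⁻¹ * D.t⁻¹ ^ (i' : ℕ) ∈ K := by
        have := K.mul_mem (K.mul_mem r.out.2 (D.hPK h1)) (K.inv_mem r'.out.2)
        simpa [mul_assoc] using this
      have hii : i = i' := by
        rcases le_total (i : ℕ) i' with hle | hle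
        · obtain ⟨d, hd⟩ := Nat.exists_eq_add_of_le hle
          rw [hd, pow_add, inv_mul_cancel_left, inv_pow] at h2
          have := D.inj d (by omega) (K.inv_mem_iff.1 h2)
          exact Fin.ext (by omega)
        · obtain ⟨d, hd⟩ := Nat.exists_eq_add_of_le hle
          rw [hd, pow_add, mul_inv_rev, mul_assoc, inv_mul_cancel, mul_one, inv_pow, inv_inv] at h2
          have := D.inj d (by omega) h2
          exact Fin.ext (by omega)
      subst hii
      refine Prod.ext rfl ?_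
      rw [mul_inv_rev, mul_assoc, inv_mul_cancel_left] at h1
      rw [← QuotientGroup.out_eq' r, ← QuotientGroup.out_eq' r']
      exact QuotientGroup.eq.2 h1
    have hin : D.b • ∑ z ∈ Finset.univ.filter (fun z : G ⧸ P => z.out ∈ H), Γ z v
        = ∑ x : Fin D.n × (K ⧸ P'), D.b • Γ (emb x) v := by
      rw [Finset.smul_sum, ← Finset.sum_image (g := emb) (fun a _ b _ h => hemb h)
        (f := fun z => D.b • Γ z v)]
      refine (Finset.sum_subset ?_ ?_).symm
      · intro z hz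
        obtain ⟨x, -, rfl⟩ := Finset.mem_image.1 hz
        obtain ⟨u, hu⟩ := QuotientGroup.mk_out_eq_mul P (D.t⁻¹ ^ (x.1 : ℕ) * (x.2.out : G))
        refine Finset.mem_filter.2 ⟨Finset.mem_univ _, ?_⟩
        show (emb x).out ∈ H
        rw [hu]
        exact H.mul_mem (H.mul_mem (H.pow_mem (H.inv_mem D.tH) _) (D.hKH x.2.out.2))
          (D.hKH (D.hPK u.2))
      · intro z hz hz'
        have hzH := (Finset.mem_filter.1 hz).2
        by_cases hb : D.b * g1 hM z.out * D.b = 0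
        · show D.b • g1 hM z.out • D.a • β (g1 hM z.out⁻¹ • v) = 0
          rw [← hbβ, ← mul_smul D.a, ← (D.bc _ D.aK).eq, mul_smul, ← mul_smul (g1 hM z.out),
            ← mul_smul, ← mul_assoc, hb, zero_smul]
        · exfalso
          obtain ⟨i, hi, hik⟩ := D.cosets _ hzH hb
          obtain ⟨i', hi', hk'⟩ : ∃ i' < D.n, (D.t⁻¹ ^ i')⁻¹ * z.out ∈ K := by
            rcases Nat.eq_zero_or_pos i with h0 | h0
            · subst h0; exact ⟨0, D.npos, by simpa using hik⟩
            · refine ⟨D.n - i, by omega, ?_⟩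
              have h3 := K.mul_mem D.tn hik
              rwa [← mul_assoc, ← Nat.sub_add_cancel hi.le, pow_add, mul_inv_cancel_right,
                ← inv_inv (D.t ^ (D.n - i)), ← inv_pow] at h3
          refine hz' (Finset.mem_image.2
            ⟨(⟨i', hi'⟩, ((⟨_, hk'⟩ : K) : K ⧸ P')), Finset.mem_univ _, ?_⟩)
          obtain ⟨u, hu⟩ := QuotientGroup.mk_out_eq_mul P' (⟨_, hk'⟩ : K)
          show ((D.t⁻¹ ^ i' * ((((⟨_, hk'⟩ : K) : K ⧸ P').out : K) : G) : G) : G ⧸ P) = z
          rw [hu, Subgroup.coe_mul, ← mul_assoc, mul_inv_cancel_left,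
            QuotientGroup.mk_mul_of_mem _ (Subgroup.mem_subgroupOf.1 u.2), QuotientGroup.out_eq']
    have hterm : ∀ i : Fin D.n, ∑ r : K ⧸ P', D.b • Γ (emb (i, r)) v - (φ (τ ^ (D.n - i) • v) * ω ^ (i : ℕ)) • u₀
        ∈ imS D V := by
      intro i
      have hq : ∀ r : K ⧸ P', Γ (emb (i, r)) = cjL (D.t⁻¹ ^ (i : ℕ)) (cjL (r.out : G) γ) := fun r => by
        rw [← cjL_mul]
        exact cjL_coset hγ (QuotientGroup.eq.1 (QuotientGroup.out_eq' (emb (i, r))).symm)
      have hsum : ∀ w, ∑ r : K ⧸ P', cjL (r.out : G) γ w = β w := fun w => by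
        conv_rhs => rw [← hbβ, ← D.htr, Finset.sum_smul]
        refine Finset.sum_congr rfl fun r _ => ?_
        show g1 hM (r.out : G) • D.a • β (g1 hM (r.out : G)⁻¹ • w) = _
        rw [hβw _ (supp_g1 (K.inv_mem r.out.2)), mul_smul, mul_smul]
      set w := τ ^ (D.n - i) • v with hw
      have hwW : w ∈ W 0 := by
        have hk := ht.inKer_pow hvk (D.n - i)
        refine hW.2 ⟨hk.2, w, ?_⟩
        rw [pow_zero, one_mul, hw]
        clear_value w
        generalize D.n - (i : ℕ) = k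
        induction k with
        | zero => rw [pow_zero, one_smul, hWE hv]
        | succ k ih => rw [pow_succ', mul_smul, ← ht.comm_smul D.EK (ht.inKer_pow hvk k).2, ih]
      obtain ⟨S, hS', hpowi⟩ := ht.pow i
      have hv' : g1 hM (D.t⁻¹ ^ (i : ℕ))⁻¹ • v = S • w := by
        have : τ ^ (i : ℕ) • w = v := by
          rw [hw, ← mul_smul, ← pow_add, Nat.add_sub_cancel' i.2.le, ht.pow_n hvk]
        conv_lhs => rw [← this, hpowi, ← mul_smul, ← mul_assoc, g1_mul, inv_mul_cancel, g1_one, one_mul]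
      have hmain : ∑ r : K ⧸ P', D.b • Γ (emb (i, r)) v = D.b • τ ^ (i : ℕ) • β w := by
        simp only [hq, cjL_apply, ← Finset.smul_sum]
        simp only [← cjL_apply]
        rw [hsum, hv', hβw _ hS', ← mul_smul (g1 hM (D.t⁻¹ ^ (i : ℕ))), ← hpowi]
      rw [hmain, ← mul_smul D.b, ((ht.commute_b).pow_right _).eq, mul_smul, hbβ, hβN w hwW,
        smul_comm, hpowu, smul_smul, sub_self]
      exact zero_mem _
    have hsplit : D.b • Φ v = D.b • ∑ z ∈ Finset.univ.filter (fun z : G ⧸ P => z.out ∉ H), Γ z v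
        + D.b • ∑ z ∈ Finset.univ.filter (fun z : G ⧸ P => z.out ∈ H), Γ z v := by
      rw [← smul_add]
      congr 1
      rw [show Φ v = ∑ z, Γ z v from LinearMap.sum_apply _ _ _,
        ← Finset.sum_filter_add_sum_filter_not Finset.univ (fun z : G ⧸ P => z.out ∉ H)]
      simp only [not_not]
    rw [hsplit, hin, Fintype.sum_prod_type]
    simp only [c]
    rw [← Fin.sum_univ_eq_sum_range (fun i => φ (τ ^ (D.n - i) • v) * ω ^ i), Finset.sum_smul,
      add_sub_assoc, ← Finset.sum_sub_distrib]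
    exact add_mem hout (sum_mem fun i _ => hterm i)
  have hu₀0 : u₀ ∈ W 0 := hW.2 ⟨(hW.1 hu₀W).1, u₀, by rw [pow_zero, one_mul, hWE hu₀W]⟩
  have hcu : c u₀ = (D.n : Residue hM) := by
    show ∑ i ∈ Finset.range D.n, φ (τ ^ (D.n - i) • u₀) * ω ^ i = _
    rw [Finset.sum_congr rfl fun i hi => show φ (τ ^ (D.n - i) • u₀) * ω ^ i = 1 by
      rw [hpowu, map_smul, hφu, smul_eq_mul, mul_one, ← pow_add,
        Nat.sub_add_cancel (Finset.mem_range.1 hi).le, hω]]
    simp
  have hlamn : lam = (D.n : Residue hM) := by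
    have h := heval u₀ hu₀0
    rw [hΦv, smul_comm, (hWk hu₀0).1, hcu, ← sub_smul] at h
    by_contra hne
    exact hu ((Submodule.smul_mem_iff _ (sub_ne_zero.2 hne)).1 h)
  refine ⟨ω, fun v hv => ?_⟩
  have hcopy : ∀ x ∈ W 0, τ • x - ω • x ∈ imS D V := fun x hx => by
    have h := heval x hx
    rw [hΦv, smul_comm, (hWk hx).1, hlamn] at h
    obtain ⟨y, hy, hxy⟩ : ∃ y ∈ imS D V, (D.n : Residue hM) • x = c x • u₀ + y :=
      ⟨_, h, by abel⟩
    have h2 : (D.n : Residue hM) • (τ • x - ω • x) = τ • y - ω • y := by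
      rw [smul_sub, ← smul_comm τ, smul_comm (D.n : Residue hM) ω, hxy, smul_add, smul_add,
        smul_comm τ (c x), hu₀e, smul_comm ω (c x)]
      abel
    exact (Submodule.smul_mem_iff _ D.nk).1 (h2 ▸ sub_mem (ht.mem_imS hy) (Submodule.smul_mem _ _ hy))
  rw [hdec hv, Finset.smul_sum, Finset.smul_sum, ← Finset.sum_sub_distrib]
  refine sum_mem fun l _ => ?_
  rw [ht.comm_smul (D.PK l) (hWk (hW0 l hv)).2, smul_comm ω (D.Pm l), ← smul_sub]
  exact smul_mem_imS (D.PK l) (hcopy _ (hW0 l hv))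

/-! ### Every root occurs, and in a single simple module -/

variable (D τ) in
/-- `ω` occurs on the kernel of `X` modulo the image. -/
def Eig (V : Type v) [AddCommGroup V] [Module (RA hM G) V] [Module (Residue hM) V]
    [IsScalarTower (Residue hM) (RA hM G) V] (ω : Residue hM) : Prop :=
  ∃ v : V, InKer D v ∧ τ • v = ω • v ∧ v ∉ imS D V

theorem Eig.unique [Fact p.Prime] [FiniteDimensional (Residue hM) V] [IsSimpleModule (RA hM G) V]
    (ht : IsTw D τ) {ω ω' : Residue hM} (h : Eig D τ V ω) (h' : Eig D τ V ω') : ω = ω' := by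
  obtain ⟨v, hv, hve, hv'⟩ := h
  obtain ⟨w, hw, hwe, hw'⟩ := h'
  obtain ⟨lam, hlam⟩ := exists_scalar ht hv hv'
  have h1 : ∀ {c : Residue hM} {x : V}, InKer D x → τ • x = c • x → x ∉ imS D V → c = lam := by
    intro c x hx hxe hx'
    by_contra hne
    have h2 := hlam x hx
    rw [hxe, ← sub_smul] at h2
    exact hx' ((Submodule.smul_mem_iff _ (sub_ne_zero.2 hne)).1 h2)
  rw [h1 hv hve hv', h1 hw hwe hw']

theorem Eig.map {V' : Type v} [AddCommGroup V'] [Module (RA hM G) V'] [Module (Residue hM) V']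
    [IsScalarTower (Residue hM) (RA hM G) V'] (f : V ≃ₗ[RA hM G] V') {ω : Residue hM}
    (h : Eig D τ V ω) : Eig D τ V' ω := by
  obtain ⟨v, hv, hve, hv'⟩ := h
  refine ⟨f v, ⟨?_, ?_⟩, ?_, fun hmem => hv' ?_⟩
  · rw [← map_smul, hv.1]
  · rw [← map_smul, hv.2, map_zero]
  · rw [← map_smul, hve]
    exact f.toLinearMap.map_smul_of_tower ω v
  · obtain ⟨y, hy⟩ := hmem
    exact ⟨f.symm y, f.injective (by rw [op_apply, map_smul, f.apply_symm_apply]; exact hy)⟩

theorem exists_simple_eig [Fact p.Prime] (ht : IsTw D τ) {ω : Residue hM} (hω : ω ^ D.n = 1) :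
    ∀ (d : ℕ) (V : Type v) [AddCommGroup V] [Module (RA hM G) V] [Module (Residue hM) V]
      [IsScalarTower (Residue hM) (RA hM G) V] [FiniteDimensional (Residue hM) V],
      Module.finrank (Residue hM) V ≤ d → Eig D τ V ω →
      ∃ (S : Type v) (_ : AddCommGroup S) (_ : Module (RA hM G) S) (_ : Module (Residue hM) S)
        (_ : IsScalarTower (Residue hM) (RA hM G) S) (_ : FiniteDimensional (Residue hM) S),
        IsSimpleModule (RA hM G) S ∧ Eig D τ S ω := by
  intro d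
  induction d with
  | zero =>
    intro V _ _ _ _ _ hd h
    obtain ⟨v, -, -, hv'⟩ := h
    haveI := Module.finrank_zero_iff.1 (Nat.le_zero.1 hd)
    exact absurd (Subsingleton.elim v 0 ▸ zero_mem (imS D V)) hv'
  | succ d ih =>
    intro V _ _ _ _ _ hd h
    obtain ⟨v, hv, hve, hv'⟩ := h
    by_cases hs : ∀ W : Submodule (RA hM G) V, W = ⊥ ∨ W = ⊤
    · haveI : Nontrivial V := ⟨⟨v, 0, fun h0 => hv' (h0 ▸ zero_mem _)⟩⟩
      haveI : IsSimpleOrder (Submodule (RA hM G) V) := ⟨hs⟩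
      exact ⟨V, _, _, _, inferInstance, inferInstance, { }, v, hv, hve, hv'⟩
    push Not at hs
    obtain ⟨W, hW0, hW1⟩ := hs
    haveI : FiniteDimensional (Residue hM) W :=
      Module.Finite.of_injective (W.subtype.restrictScalars (Residue hM)) Subtype.coe_injective
    haveI : FiniteDimensional (Residue hM) (V ⧸ W) :=
      Module.Finite.of_surjective (W.mkQ.restrictScalars (Residue hM)) W.mkQ_surjective
    by_cases hq : W.mkQ v ∈ imS D (V ⧸ W)
    · obtain ⟨y', hy⟩ := hq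
      obtain ⟨y, rfl⟩ := W.mkQ_surjective y'
      have hw : v - D.X ^ (D.q - 1) • y ∈ W := by
        rw [← W.ker_mkQ, LinearMap.mem_ker, map_sub, map_smul, ← op_apply, hy, sub_self]
      set w : W := ⟨_, hw⟩ with hwdef
      have hwk : InKer D w := by
        refine ⟨Subtype.ext ?_, Subtype.ext ?_⟩
        · show D.b • (v - D.X ^ (D.q - 1) • y) = _
          rw [smul_sub, hv.1, b_smul_imS (Xpow_mem_imS y)]
        · show D.X • (v - D.X ^ (D.q - 1) • y) = 0
          rw [smul_sub, hv.2, ← mul_smul, ← pow_succ', D.qsucc, D.Xq, zero_smul, sub_zero]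
      have hω0 : ω ≠ 0 := fun h0 => by rw [h0, zero_pow D.npos.ne'] at hω; exact zero_ne_one hω
      have hpow : ∀ i : ℕ, (ω⁻¹ • τ) ^ i • v = v := fun i => by
        induction i with
        | zero => rw [pow_zero, one_smul]
        | succ i ih' =>
          rw [pow_succ, mul_smul, smul_assoc, hve, smul_smul, inv_mul_cancel₀ hω0, one_smul, ih']
      have hprv : pr D τ ω • v = v := by
        rw [pr, smul_assoc, Finset.sum_smul, Finset.sum_congr rfl fun i _ => hpow i,
          Finset.sum_const, Finset.card_range, ← Nat.cast_smul_eq_nsmul (Residue hM), smul_smul,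
          inv_mul_cancel₀ D.nk, one_smul]
      have hlt : Module.finrank (Residue hM) W < Module.finrank (Residue hM) V :=
        Submodule.finrank_lt (s := W.restrictScalars (Residue hM)) (fun h => hW1
          ((Submodule.restrictScalars_eq_top_iff (Residue hM) (RA hM G) V).1 h))
      refine ih W (by omega) ⟨pr D τ ω • w, pr_inKer ht hwk ω, pr_eigen ht hwk hω, fun hmem => hv' ?_⟩
      obtain ⟨z, hz⟩ := hmem
      have hz' : pr D τ ω • (v - D.X ^ (D.q - 1) • y) = D.X ^ (D.q - 1) • (z : V) :=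
        (congrArg Subtype.val hz).symm
      rw [smul_sub, hprv, sub_eq_iff_eq_add] at hz'
      rw [hz']
      exact add_mem (Xpow_mem_imS _) (pr_mem (fun _ h => ht.mem_imS h) (Xpow_mem_imS y) ω)
    · have hlt : Module.finrank (Residue hM) (V ⧸ W) < Module.finrank (Residue hM) V := by
        obtain ⟨x, hx, hx0⟩ := Submodule.exists_mem_ne_zero_of_ne_bot hW0
        have h1 := LinearMap.finrank_range_add_finrank_ker (W.mkQ.restrictScalars (Residue hM))
        rw [LinearMap.range_eq_top.2 (show Function.Surjective (W.mkQ.restrictScalars (Residue hM)) from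
          W.mkQ_surjective), finrank_top] at h1
        have h2 : 0 < Module.finrank (Residue hM)
            (LinearMap.ker (W.mkQ.restrictScalars (Residue hM))) := by
          refine Nat.pos_of_ne_zero fun h0 => hx0 ?_
          have : x ∈ LinearMap.ker (W.mkQ.restrictScalars (Residue hM)) := by
            rw [LinearMap.mem_ker]; exact (Submodule.Quotient.mk_eq_zero W).2 hx
          rwa [Submodule.finrank_eq_zero.1 h0] at this
        omega
      refine ih (V ⧸ W) (by omega) ⟨W.mkQ v, ⟨?_, ?_⟩, ?_, hq⟩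
      · rw [← map_smul, hv.1]
      · rw [← map_smul, hv.2, map_zero]
      · rw [← map_smul, hve]
        exact W.mkQ.map_smul_of_tower ω v

/-- Every root occurs. -/
theorem exists_eig (ht : IsTw D τ) {ω : Residue hM} (hω : ω ^ D.n = 1) :
    ∃ σ : RA hM G, Eig D τ (Submodule.span (RA hM G) ({σ} : Set (RA hM G))) ω := by
  set σ₀ := D.X ^ (D.q - 1) * D.E with hσ₀
  set σ := pr D τ ω * σ₀ with hσdef
  refine ⟨σ, ?_⟩
  have hσ₀k : InKer (V := RA hM G) D σ₀ := by
    refine ⟨?_, ?_⟩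
    · show D.b * (D.X ^ (D.q - 1) * D.E) = _
      rw [← mul_assoc, D.bXpow]
    · show D.X * (D.X ^ (D.q - 1) * D.E) = 0
      rw [← mul_assoc, ← pow_succ', D.qsucc, D.Xq, zero_mul]
  have hσk : InKer (V := RA hM G) D σ := pr_inKer ht hσ₀k ω
  have hσe : τ * σ = ω • σ := pr_eigen ht hσ₀k hω
  refine ⟨⟨σ, Submodule.mem_span_singleton_self σ⟩, ⟨Subtype.ext hσk.1, Subtype.ext hσk.2⟩,
    Subtype.ext hσe, fun hmem => ?_⟩
  obtain ⟨⟨_, hy⟩, he⟩ := hmem
  obtain ⟨x, rfl⟩ := Submodule.mem_span_singleton.1 hy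
  have he' : D.X ^ (D.q - 1) * (x * σ) = σ := congrArg Subtype.val he
  -- the component in the stabilizer
  have hσ₀K : Supp hM K σ₀ := (D.XK.pow _).mul D.EK
  have hσH : Supp hM (H : Set G) σ := by
    have hp : Supp hM (H : Set G) (pr D τ ω) := by
      refine Supp.smul (Supp.sum fun i _ => ?_) _
      obtain ⟨S, hS, hi⟩ := ht.pow i
      rw [smul_pow, hi]
      exact ((supp_g1 (S := (H : Set G)) (H.pow_mem (H.inv_mem D.tH) i)).mul
        (fun g hg => hS g fun hk => hg (D.hKH hk))).smul _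
    exact hp.mul fun g hg => hσ₀K g fun hk => hg (D.hKH hk)
  have hzero : ∀ g ∈ H, D.X ^ (D.q - 1) * (g1 hM g * σ) = 0 := by
    intro g hg
    rw [← D.bXpow, ← mul_assoc, ← hσk.1]
    show D.b * D.X ^ (D.q - 1) * g1 hM g * (D.b * σ) = 0
    rw [(D.bc _ (D.XK.pow _)).eq, mul_assoc (D.X ^ _) D.b, mul_assoc, ← mul_assoc (D.b * g1 hM g)]
    by_cases hb : D.b * g1 hM g * D.b = 0
    · rw [hb, zero_mul, mul_zero]
    obtain ⟨i, -, hik⟩ := D.cosets g hg hb
    have hgb : Commute (g1 hM g) D.b := by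
      rw [show g = D.t ^ i * ((D.t ^ i)⁻¹ * g) by group, ← g1_mul]
      exact (D.tpow_b i).mul_left (D.bc _ (supp_g1 hik)).symm
    obtain ⟨r, hr, h⟩ := D.mul_X_pow_swap (g := g⁻¹) (H.inv_mem hg) (D.commute_b_inv hgb) (D.q - 1)
    have h2 : D.X ^ (D.q - 1) * g1 hM g = g1 hM g * (r * D.X ^ (D.q - 1)) := by
      rw [← (D.Xpow_c hr (D.q - 1)).eq]
      calc D.X ^ (D.q - 1) * g1 hM g
          = g1 hM g * (g1 hM g⁻¹ * D.X ^ (D.q - 1)) * g1 hM g := by
            rw [← mul_assoc, g1_mul, mul_inv_cancel, g1_one, one_mul]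
        _ = _ := by
            rw [h, mul_assoc, mul_assoc _ (g1 hM g⁻¹), g1_mul, inv_mul_cancel, g1_one, mul_one]
    have hXσ : D.X ^ (D.q - 1) * σ = 0 := by
      rw [show D.q - 1 = D.q - 2 + 1 by have := D.two_le; omega, pow_succ, mul_assoc,
        show D.X * σ = 0 from hσk.2, mul_zero]
    rw [← hgb.eq, mul_assoc (g1 hM g) D.b D.b, D.bb, mul_assoc,
      show D.b * σ = σ from hσk.1, ← mul_assoc, h2, mul_assoc, mul_assoc, hXσ, mul_zero, mul_zero]
  have hsum : D.X ^ (D.q - 1) * (x * σ)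
      = ∑ g : G, x.coeff g • (D.X ^ (D.q - 1) * (g1 hM g * σ)) := by
    conv_lhs => rw [← sum_g1 x, Finset.sum_mul, Finset.mul_sum]
    exact Finset.sum_congr rfl fun g _ => by rw [smul_mul_assoc, mul_smul_comm]
  have hHzero : ∀ h ∈ H, σ.coeff h = 0 := by
    intro h hh
    rw [← he', hsum, MonoidAlgebra.coeff_sum, Finsupp.finsetSum_apply]
    refine Finset.sum_eq_zero fun g _ => ?_
    rw [MonoidAlgebra.coeff_smul, Finsupp.smul_apply]
    by_cases hg : g ∈ H
    · rw [hzero g hg, MonoidAlgebra.coeff_zero, Finsupp.zero_apply, smul_zero]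
    · rw [show (D.X ^ (D.q - 1) * (g1 hM g * σ)).coeff h = 0 from ?_, smul_zero]
      rw [coeff_mul_sum]
      refine Finset.sum_eq_zero fun a _ => ?_
      by_cases ha : a ∈ K
      · rw [g1, MonoidAlgebra.coeff_single_mul_apply, hσH _ fun h' => hg ?_, mul_zero, mul_zero]
        have h3 := H.mul_mem (H.mul_mem (H.inv_mem (D.hKH ha)) hh) (H.inv_mem h')
        simpa [mul_assoc] using h3
      · rw [(D.XK.pow _) a ha, zero_mul]
  have hσ0 : σ = 0 := MonoidAlgebra.coeff_injective (Finsupp.ext fun g => by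
    by_cases hg : g ∈ H
    · rw [hHzero g hg, MonoidAlgebra.coeff_zero, Finsupp.zero_apply]
    · rw [hσH g hg, MonoidAlgebra.coeff_zero, Finsupp.zero_apply])
  refine D.ne (MonoidAlgebra.coeff_injective (Finsupp.ext fun g => ?_))
  rw [MonoidAlgebra.coeff_zero, Finsupp.zero_apply]
  by_cases hg : g ∈ K
  swap
  · exact hσ₀K g hg
  have h0 : σ.coeff g = 0 := by rw [hσ0, MonoidAlgebra.coeff_zero, Finsupp.zero_apply]
  rw [hσdef, pr, smul_mul_assoc, MonoidAlgebra.coeff_smul, Finsupp.smul_apply, Finset.sum_mul,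
    MonoidAlgebra.coeff_sum, Finsupp.finsetSum_apply, Finset.sum_eq_single 0 (fun i hi hi0 => ?_)
      (fun h => absurd (Finset.mem_range.2 D.npos) h), pow_zero, one_mul, smul_eq_mul] at h0
  · exact (mul_eq_zero.1 h0).resolve_left (inv_ne_zero D.nk)
  obtain ⟨S, hS, hi'⟩ := ht.pow i
  rw [smul_pow, smul_mul_assoc, MonoidAlgebra.coeff_smul, Finsupp.smul_apply, hi', mul_assoc, g1,
    MonoidAlgebra.coeff_single_mul_apply, (hS.mul hσ₀K) _ fun hk => hi0 ?_, mul_zero, smul_zero]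
  refine D.inj i (Finset.mem_range.1 hi) ?_
  have h4 := K.mul_mem hk (K.inv_mem hg)
  simpa [mul_assoc] using h4

/-- There are at most as many roots as simple modules in the block. -/
theorem n_le_blockRank [Fact p.Prime] {B : Set (IrrCharacter G)} (hB : IsPBlock M B)
    (D : Loc hM K H P) (he : D.e = idem hM B) : D.n ≤ blockRank p B := by
  haveI : IsAlgClosed (Residue hM) := isAlgClosed_residue hM
  obtain ⟨τ, h1, h2, h3, h4, h5, h6⟩ := D.exists_tau
  have ht : IsTw D τ := ⟨h1, h2, h3, h4, h5, h6⟩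
  haveI : NeZero (D.n : Residue hM) := ⟨D.nk⟩
  haveI : NeZero D.n := ⟨D.npos.ne'⟩
  obtain ⟨ζ, hζ⟩ := HasEnoughRootsOfUnity.exists_primitiveRoot (Residue hM) D.n
  obtain ⟨r, d, hd, π, hπ, N, hN⟩ := exists_split (Residue hM) (RA hM G)
  haveI := hd
  have key : ∀ a : Fin D.n, ∃ i, π (idem hM B) i = 1 ∧
      ∃ (S : Type u) (_ : AddCommGroup S) (_ : Module (RA hM G) S) (_ : Module (Residue hM) S)
        (_ : IsScalarTower (Residue hM) (RA hM G) S) (_ : FiniteDimensional (Residue hM) S),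
        IsSimpleModule (RA hM G) S ∧ Eig D τ S (ζ ^ (a : ℕ)) ∧
          ∃ (u : RA hM G) (v : S), π u = Pi.single i (Matrix.single 0 0 1) ∧ u • v = v ∧ v ≠ 0 := by
    intro a
    have hω : (ζ ^ (a : ℕ)) ^ D.n = 1 := by rw [← pow_mul, mul_comm, pow_mul, hζ.pow_eq_one, one_pow]
    obtain ⟨σ, hσ⟩ := exists_eig ht hω
    haveI : FiniteDimensional (Residue hM) (Submodule.span (RA hM G) ({σ} : Set (RA hM G))) :=
      Module.Finite.of_injective
        ((Submodule.span (RA hM G) ({σ} : Set (RA hM G))).subtype.restrictScalars (Residue hM))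
        Subtype.coe_injective
    obtain ⟨S, i1, i2, i3, i4, i5, hS, hSe⟩ := exists_simple_eig ht hω _ _ le_rfl hσ
    haveI := hS
    obtain ⟨v₀, hv₀, -, hv₀'⟩ := id hSe
    haveI : Nontrivial S := ⟨⟨v₀, 0, fun h0 => hv₀' (h0 ▸ zero_mem _)⟩⟩
    have hid : ∀ w : S, idem hM B • w = w := by
      have hne : idem hM B • v₀ ≠ 0 := fun h0 => hv₀' <| by
        have h := e_smul_sub_mem hv₀
        rw [he, h0, smul_zero, zero_sub, neg_mem_iff] at h
        exact h
      intro w
      obtain ⟨x, hx⟩ := Submodule.mem_span_singleton.1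
        ((IsSimpleModule.span_singleton_eq_top (RA hM G) hne).symm ▸ Submodule.mem_top (x := w))
      rw [← hx, ← mul_smul, ← mul_smul, idem_commute hM x, mul_assoc, idem_mul_self hM hB, mul_smul]
    obtain ⟨i, u, v, hu, huv, hv⟩ := SimpleCount.exists_index hπ hN (V := S)
    exact ⟨i, SimpleCount.index_eq_one hN hid hu huv hv
      (eq_zero_or_one hd hπ (idem_commute hM) (idem_mul_self hM hB) i),
      S, i1, i2, i3, i4, i5, hS, hSe, u, v, hu, huv, hv⟩
  choose f hf1 hf2 using key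
  refine le_trans ?_ (SimpleCount.card_le_blockRank hM hB hπ hN)
  rw [← Fintype.card_fin D.n, ← Finset.card_univ]
  refine Finset.card_le_card_of_injOn f (fun a _ => Finset.mem_filter.2 ⟨Finset.mem_univ _, hf1 a⟩) ?_
  intro a _ a' _ haa
  have ha := hf2 a
  have ha' := hf2 a'
  rw [← haa] at ha'
  obtain ⟨S, i1, i2, i3, i4, i5, hS, hSe, u, v, hu, huv, hv⟩ := ha
  obtain ⟨S', j1, j2, j3, j4, j5, hS', hSe', u', v', hu', huv', hv'⟩ := ha'
  haveI := hS
  haveI := hS'
  obtain ⟨φ⟩ := SimpleCount.nonempty_equiv hπ hN hu huv hv hu' huv' hv'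
  have h := Eig.unique ht (Eig.map φ hSe) hSe'
  exact Fin.ext (hζ.pow_inj a.2 a'.2 h)

end CfsgLib.Blocks.CyclicStable
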