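import Cfsg.Agent.Lib.Blocks.BlockTrace
import Cfsg.Agent.Lib.Blocks.BrauerPair
import Cfsg.Agent.Lib.Blocks.Defect
import Mathlib.GroupTheory.Sylow

/-!
# Blocks of least possible dimension

If the dimension of the block algebra `eA` is `p ^ (2a - d)`, then for a Sylow subgroup `S` the
algebra is, as a module for `S × S`, the permutation module on the cosets of a twisted diagonal
subgroup of the order of the defect group. Hence an element normalising a `p`-subgroup at whose
centralizer the block idempotent does not vanish acts on it as an element of `S`, and the block is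
nilpotent.
-/

set_option autoImplicit false
set_option linter.unusedSectionVars false
set_option maxHeartbeats 1000000

namespace CfsgLib.Blocks.MinimalDimension

open Cfsg CfsgLib.Blocks.ResidueAlgebra CfsgLib.Blocks.TwoCharacters
open scoped Classical
open LinearMap (mulLeft mulRight)

/-! ### Generalities -/

section General

variable {p : ℕ} [Fact p.Prime] {k : Type*} [Field k] [CharP k p]

theorem sum_eq_zero_of_no_fixed {H X : Type*} [Group H] [MulAction H X] [Fintype X] (hH : IsPGroup p H)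
    [Finite H] (f : X → k) (hf : ∀ (h : H) x, f (h • x) = f x) (hno : ∀ x : X, ∃ h : H, h • x ≠ x) :
    ∑ x, f x = 0 := by
  rw [Fintype.sum_equiv (MulAction.selfEquivSigmaOrbits H X) f
    (fun y => f ((MulAction.selfEquivSigmaOrbits H X).symm y)) (fun x => by rw [Equiv.symm_apply_apply]),
    Fintype.sum_sigma]
  refine Finset.sum_eq_zero fun o _ => ?_
  set x₀ := o.out
  have hconst : ∀ y : MulAction.orbit H x₀,
      f ((MulAction.selfEquivSigmaOrbits H X).symm ⟨o, y⟩) = f x₀ := fun y => by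
    obtain ⟨h, hh⟩ := MulAction.mem_orbit_iff.1 y.2
    show f (y : X) = f x₀
    rw [← hh, hf]
  rw [Finset.sum_congr rfl fun y _ => hconst y, Finset.sum_const, Finset.card_univ, nsmul_eq_mul]
  have hdvd : p ∣ Fintype.card (MulAction.orbit H x₀) := by
    obtain ⟨n, hn⟩ := hH.card_orbit x₀
    rw [← Nat.card_eq_fintype_card, hn]
    refine dvd_pow_self p fun h0 => ?_
    rw [h0, pow_zero, Nat.card_eq_one_iff_unique] at hn
    obtain ⟨h, hh⟩ := hno x₀
    exact hh (congrArg Subtype.val (hn.1.elim ⟨h • x₀, MulAction.mem_orbit _ _⟩ ⟨x₀, MulAction.mem_orbit_self _⟩))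
  rw [(CharP.cast_eq_zero_iff k p _).2 hdvd, zero_mul]

/-- An invariant space of functions contains an invariant function. -/
theorem exists_fixed_of_invariant {H X : Type*} [Group H] [MulAction H X] [Fintype X] [Finite H]
    (hH : IsPGroup p H) (K : Submodule k (X → k))
    (hK : ∀ (h : H), ∀ f ∈ K, (fun x => f (h⁻¹ • x)) ∈ K) (hne : K ≠ ⊥) :
    ∃ f ∈ K, f ≠ 0 ∧ ∀ (h : H) x, f (h • x) = f x := by
  haveI := Fintype.ofFinite H
  obtain ⟨c, hc, hc0⟩ := Submodule.exists_mem_ne_zero_of_ne_bot hne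
  letI act : MulAction H (X → k) :=
    { smul := fun h f x => f (h⁻¹ • x)
      one_smul := fun f => funext fun x => show f ((1 : H)⁻¹ • x) = f x by rw [inv_one, one_smul]
      mul_smul := fun a b f => funext fun x => show f ((a * b)⁻¹ • x) = f (b⁻¹ • (a⁻¹ • x)) by
        rw [mul_inv_rev, mul_smul] }
  let Φ : (H → ZMod p) →+ (X → k) :=
    { toFun := fun a => ∑ h, ZMod.castHom dvd_rfl k (a h) • h • c
      map_zero' := by simp
      map_add' := fun a b => by simp [add_smul, Finset.sum_add_distrib] }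
  set Rg := Φ.range
  haveI : Finite Rg := (Set.finite_range Φ).to_subtype
  have hΦ : ∀ (t : H) (a : H → ZMod p), t • Φ a = Φ fun s => a (t⁻¹ * s) := fun t a => funext fun x => by
    show (∑ h, ZMod.castHom dvd_rfl k (a h) • h • c) (t⁻¹ • x) = (∑ h, ZMod.castHom dvd_rfl k (a (t⁻¹ * h)) • h • c) x
    rw [Finset.sum_apply, Finset.sum_apply]
    refine Fintype.sum_equiv (Equiv.mulLeft t) _ _ fun h => ?_
    simp only [Pi.smul_apply, Equiv.coe_mulLeft, inv_mul_cancel_left]
    congr 1
    show c (h⁻¹ • t⁻¹ • x) = c ((t * h)⁻¹ • x)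
    rw [mul_inv_rev, mul_smul]
  letI actS : MulAction H Rg :=
    { smul := fun t f => ⟨t • (f : X → k), by
        obtain ⟨a, ha⟩ := f.2
        exact ⟨_, by rw [← ha]; exact (hΦ t a).symm⟩⟩
      one_smul := fun f => Subtype.ext (one_smul H (f : X → k))
      mul_smul := fun s t f => Subtype.ext (mul_smul s t (f : X → k)) }
  have hcS : c ∈ Rg := ⟨Pi.single 1 1, by
    show (∑ h, ZMod.castHom dvd_rfl k ((Pi.single 1 1 : H → ZMod p) h) • h • c) = c
    rw [Finset.sum_eq_single (1 : H)] <;> simp +contextual [Pi.single_apply]⟩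
  have hcard : p ∣ Nat.card Rg := by
    have h1 : addOrderOf (⟨c, hcS⟩ : Rg) = p := by
      refine addOrderOf_eq_prime (Subtype.ext (funext fun u => ?_)) fun h => hc0 (congrArg Subtype.val h)
      show (p • c) u = 0
      rw [Pi.smul_apply, nsmul_eq_mul, CharP.cast_eq_zero, zero_mul]
    exact h1 ▸ addOrderOf_dvd_natCard (⟨c, hcS⟩ : Rg)
  have hzero : (0 : Rg) ∈ MulAction.fixedPoints H Rg := fun t => Subtype.ext (funext fun u => rfl)
  obtain ⟨f, hf, hf0⟩ := hH.exists_fixed_point_of_prime_dvd_card_of_fixed_point Rg hcard hzero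
  have hfK : (f : X → k) ∈ K := by
    obtain ⟨a, ha⟩ := f.2
    rw [← ha]
    exact sum_mem fun h _ => Submodule.smul_mem _ _ (hK h c hc)
  refine ⟨f, hfK, fun h => hf0 (Subtype.ext h).symm, fun h x => ?_⟩
  have := congrFun (congrArg Subtype.val (hf h)) (h • x)
  exact this.symm.trans (congrArg (f : X → k) (inv_smul_smul h x))

/-- An invariant space of functions on a transitive set contains the constants. -/
theorem one_mem_of_invariant {H X : Type*} [Group H] [MulAction H X] [Fintype X] [Finite H]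
    (hH : IsPGroup p H) (htr : ∀ x y : X, ∃ h : H, h • x = y) (K : Submodule k (X → k))
    (hK : ∀ (h : H), ∀ f ∈ K, (fun x => f (h⁻¹ • x)) ∈ K) (hne : K ≠ ⊥) :
    (fun _ => (1 : k)) ∈ K := by
  obtain ⟨f, hfK, hf0, hf⟩ := exists_fixed_of_invariant hH K hK hne
  obtain ⟨x₀, hx₀⟩ := Function.ne_iff.1 hf0
  rw [Pi.zero_apply] at hx₀
  have hconst : ∀ x, f x = f x₀ := fun x => by
    obtain ⟨h, hh⟩ := htr x x₀
    rw [← hh, hf]
  have h2 := Submodule.smul_mem K (f x₀)⁻¹ hfK
  convert h2 using 1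
  funext x
  rw [Pi.smul_apply, smul_eq_mul, hconst x, inv_mul_cancel₀ hx₀]

open Polynomial in
/-- An element that is not nilpotent has an idempotent multiple by a polynomial in itself. -/
theorem exists_idem_multiple {A : Type*} [Ring A] [Algebra k A] [Module.Finite k A] {z : A}
    (hz : ¬ IsNilpotent z) :
    ∃ q : k[X], IsIdempotentElem (z * aeval z q) ∧ z * aeval z q ≠ 0 := by
  have hint : IsIntegral k z := Algebra.IsIntegral.isIntegral z
  obtain ⟨h, hμ, hh⟩ := exists_eq_pow_rootMultiplicity_mul_and_not_dvd (minpoly k z)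
    (minpoly.ne_zero hint) 0
  set n := rootMultiplicity 0 (minpoly k z)
  simp only [C_0, sub_zero] at hμ hh
  obtain ⟨u, v, huv⟩ : IsCoprime ((X : k[X]) ^ (n + 1)) h :=
    ((irreducible_X (R := k)).coprime_iff_not_dvd.2 hh).pow_left
  have h0 : aeval z (X ^ n * h) = 0 := by rw [← hμ, minpoly.aeval]
  refine ⟨u * X ^ n, ?_, ?_⟩
  · show _ * _ = _
    have e1 : z * aeval z (u * X ^ n) = aeval z (u * X ^ (n + 1)) := by
      rw [show u * X ^ (n + 1) = X * (u * X ^ n) by ring, map_mul (aeval z) X, aeval_X]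
    rw [e1, ← map_mul, ← sub_eq_zero, ← map_sub,
      show u * X ^ (n + 1) * (u * X ^ (n + 1)) - u * X ^ (n + 1) = -(u * v * X) * (X ^ n * h) by
        linear_combination (u * X ^ (n + 1)) * huv, map_mul, h0, mul_zero]
  · intro h1
    refine hz ⟨n, ?_⟩
    have e2 : (X : k[X]) ^ n = X ^ n * (X * (u * X ^ n)) + v * (X ^ n * h) := by
      linear_combination -(X ^ n) * huv
    calc z ^ n = aeval z ((X : k[X]) ^ n) := by rw [map_pow, aeval_X]
      _ = 0 := by
        rw [e2, map_add, map_mul, map_mul, map_mul (aeval z) v, h0, mul_zero, add_zero, aeval_X, h1, mul_zero]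

end General

/-! ### The block -/

variable {G : Type*} [Group G] [Fintype G] {p : ℕ} {M : Ideal AlgInt}

/-- A group element in the group algebra over the residue field. -/
noncomputable abbrev sg (hM : IsPModular p M) (g : G) : MonoidAlgebra (Residue hM) G :=
  MonoidAlgebra.single g 1

theorem sg_mul (hM : IsPModular p M) (g h : G) : sg hM g * sg hM h = sg hM (g * h) := by
  simp [sg]

theorem sg_one (hM : IsPModular p M) : sg hM (1 : G) = 1 := MonoidAlgebra.one_def.symm

variable (hM : IsPModular p M)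

/-- The trace of `b` over the cosets of `R` in `S`. -/
noncomputable def trS {S : Subgroup G} (R : Subgroup S) (b : MonoidAlgebra (Residue hM) G) :
    MonoidAlgebra (Residue hM) G :=
  ∑ u : S ⧸ R, sg hM (u.out : G) * b * sg hM (u.out : G)⁻¹

/-- `b` lies in the block algebra and commutes with `R`. -/
def Loc (B : Set (IrrCharacter G)) {S : Subgroup G} (R : Subgroup S)
    (b : MonoidAlgebra (Residue hM) G) : Prop :=
  idem hM B * b = b ∧ ∀ r : S, r ∈ R → Commute (sg hM (r : G)) b

variable {B : Set (IrrCharacter G)} {S : Subgroup G}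

theorem conj_out {R : Subgroup S} {b : MonoidAlgebra (Residue hM) G} (hb : Loc hM B R b) (s : S) :
    sg hM (s : G) * b * sg hM (s : G)⁻¹
      = sg hM ((s : S ⧸ R).out : G) * b * sg hM ((s : S ⧸ R).out : G)⁻¹ := by
  obtain ⟨⟨x, hx⟩, hsx⟩ := QuotientGroup.mk_out_eq_mul R s
  rw [hsx]
  show _ = sg hM ((s : G) * (x : G)) * b * sg hM ((s : G) * (x : G))⁻¹
  rw [mul_inv_rev, ← sg_mul, ← sg_mul, mul_assoc (sg hM (s : G)) (sg hM (x : G)), (hb.2 x hx).eq,
    ← mul_assoc (sg hM (s : G)) b, ← mul_assoc (sg hM (s : G) * b * sg hM (x : G)),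
    mul_assoc (sg hM (s : G) * b) (sg hM (x : G)), sg_mul, mul_inv_cancel, sg_one, mul_one]

theorem commute_trS {R : Subgroup S} {b : MonoidAlgebra (Residue hM) G} (hb : Loc hM B R b) {s : G}
    (hs : s ∈ S) : Commute (sg hM s) (trS hM R b) := by
  show _ * _ = _ * _
  simp only [trS, Finset.mul_sum, Finset.sum_mul]
  refine Fintype.sum_equiv (MulAction.toPerm (⟨s, hs⟩ : S)) _ _ fun u => ?_
  rw [MulAction.toPerm_apply]
  have h1 : (((⟨s, hs⟩ : S) * u.out : S) : S ⧸ R) = (⟨s, hs⟩ : S) • u := by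
    conv_rhs => rw [← QuotientGroup.out_eq' u]
    rfl
  rw [← h1, ← conj_out hM hb ((⟨s, hs⟩ : S) * u.out)]
  show _ = sg hM (s * (u.out : G)) * b * sg hM (s * (u.out : G))⁻¹ * sg hM s
  rw [mul_inv_rev, mul_assoc _ (sg hM ((u.out : G)⁻¹ * s⁻¹)), sg_mul, mul_assoc _ s⁻¹ s,
    inv_mul_cancel, mul_one, ← sg_mul]
  simp only [mul_assoc]

theorem trS_mul {R : Subgroup S} (b : MonoidAlgebra (Residue hM) G) {c : MonoidAlgebra (Residue hM) G}
    (hc : ∀ s ∈ S, Commute (sg hM s) c) : trS hM R b * c = trS hM R (b * c) := by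
  simp only [trS, Finset.sum_mul]
  refine Finset.sum_congr rfl fun u _ => ?_
  rw [mul_assoc (sg hM (u.out : G) * b), (hc _ (inv_mem u.out.2)).eq]
  simp only [mul_assoc]

theorem mul_trS {R : Subgroup S} (b : MonoidAlgebra (Residue hM) G) {c : MonoidAlgebra (Residue hM) G}
    (hc : ∀ s ∈ S, Commute (sg hM s) c) : c * trS hM R b = trS hM R (c * b) := by
  simp only [trS, Finset.mul_sum]
  refine Finset.sum_congr rfl fun u _ => ?_
  simp only [← mul_assoc]
  rw [(hc _ u.out.2).eq]

theorem idem_mul_trS {R : Subgroup S} {b : MonoidAlgebra (Residue hM) G} (hb : Loc hM B R b) :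
    idem hM B * trS hM R b = trS hM R b := by
  simp only [trS, Finset.mul_sum]
  exact Finset.sum_congr rfl fun u _ => by
    rw [← mul_assoc, ← mul_assoc, idem_commute hM, mul_assoc (sg hM _) _ b, hb.1]

/-- A trace from a small subgroup of `S` into the block algebra is not nilpotent. -/
theorem exists_trace_ideal (hB : IsPBlock M B) {D : Subgroup G} (a₀ : MonoidAlgebra (Residue hM) G)
    (ha₀e : idem hM B * a₀ = a₀) (ha₀D : ∀ d ∈ D, Commute (MonoidAlgebra.single d 1) a₀)
    (ha₀tr : ∑ q : G ⧸ D, MonoidAlgebra.single q.out 1 * a₀ * MonoidAlgebra.single q.out⁻¹ 1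
      = idem hM B) :
    ∃ (R : Subgroup S) (b : MonoidAlgebra (Residue hM) G), Loc hM B R b ∧
      ¬ IsNilpotent (trS hM R b) ∧ Nat.card R ≤ Nat.card D := by
  haveI := Fact.mk hM.1
  let k := Residue hM
  set e := idem hM B with hedef
  have hec := idem_commute hM (B := B)
  have hee : e * e = e := idem_mul_self hM hB
  -- conjugates of `a₀` over the cosets of `D`
  let T : G ⧸ D → MonoidAlgebra k G := fun q => sg hM q.out * a₀ * sg hM q.out⁻¹
  have hTout : ∀ g : G, sg hM g * a₀ * sg hM g⁻¹ = T (g : G ⧸ D) := fun g => by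
    obtain ⟨⟨x, hx⟩, hgx⟩ := QuotientGroup.mk_out_eq_mul D g
    show _ = sg hM _ * a₀ * sg hM _
    rw [hgx]
    show _ = sg hM (g * x) * a₀ * sg hM (g * x)⁻¹
    rw [mul_inv_rev, ← sg_mul, ← sg_mul, mul_assoc (sg hM g) (sg hM x), (ha₀D x hx).eq,
      ← mul_assoc (sg hM g) a₀, ← mul_assoc (sg hM g * a₀ * sg hM x), mul_assoc (sg hM g * a₀) (sg hM x),
      sg_mul, mul_inv_cancel, sg_one, mul_one]
  have hTconj : ∀ (s : G) q, sg hM s * T q * sg hM s⁻¹ = T (s • q) := fun s q => by
    have h1 : ((s * q.out : G) : G ⧸ D) = s • q := by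
      conv_rhs => rw [← QuotientGroup.out_eq' q]
      rfl
    rw [← h1, ← hTout, mul_inv_rev, ← sg_mul, ← sg_mul]
    simp only [T, mul_assoc]
  have hTe : ∀ q, e * T q = T q := fun q => by
    show e * (sg hM q.out * a₀ * sg hM q.out⁻¹) = _
    rw [← mul_assoc, ← mul_assoc, hec, mul_assoc (sg hM q.out) e a₀, ha₀e]
  let cen : MonoidAlgebra k G → Prop := fun z => e * z = z ∧ ∀ s ∈ S, Commute (sg hM s) z
  let O := MulAction.orbitRel.Quotient S (G ⧸ D)
  let St : O → Subgroup S := fun o => MulAction.stabilizer S o.out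
  by_contra hno
  push Not at hno
  have hStD : ∀ o, Nat.card (St o) ≤ Nat.card D := fun o => by
    set g := (Quotient.out o : G ⧸ D).out
    let f : St o → D := fun r => ⟨g⁻¹ * ((r : S) : G) * g, by
      have h1 : ((r : S) : G) • (Quotient.out o : G ⧸ D) = Quotient.out o := r.2
      rw [← QuotientGroup.out_eq' (Quotient.out o : G ⧸ D), MulAction.Quotient.smul_mk] at h1
      have h2 := D.inv_mem (QuotientGroup.eq.1 h1)
      simpa [mul_assoc] using h2⟩
    refine Nat.card_le_card_of_injective f fun r r' h => ?_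
    have := congrArg Subtype.val h
    exact Subtype.ext (Subtype.ext (by simpa [f] using this))
  have hTloc : ∀ o, Loc hM B (St o) (T o.out) := fun o => ⟨hTe _, fun r hr => by
    have h1 := hTconj (r : G) o.out
    rw [show (r : G) • o.out = o.out from hr] at h1
    show _ * _ = _ * _
    conv_rhs => rw [← h1]
    rw [mul_assoc _ (sg hM (r : G)⁻¹), sg_mul, inv_mul_cancel, sg_one, mul_one]⟩
  -- closure properties
  let J : O → MonoidAlgebra k G → Prop := fun o z => ∃ b', Loc hM B (St o) b' ∧ trS hM (St o) b' = z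
  have hnil : ∀ o z, J o z → IsNilpotent z := fun o z ⟨b', hb', hz⟩ => by
    by_contra hzn
    exact absurd (hStD o) (not_le.2 (hno (St o) b' hb' (hz ▸ hzn)))
  have hJadd : ∀ o z z', J o z → J o z' → J o (z + z') := by
    rintro o _ _ ⟨b', hb', rfl⟩ ⟨b'', hb'', rfl⟩
    refine ⟨b' + b'', ⟨by rw [mul_add, hb'.1, hb''.1], fun r hr => (hb'.2 r hr).add_right (hb''.2 r hr)⟩, ?_⟩
    simp only [trS, mul_add, add_mul, Finset.sum_add_distrib]
  have hJr : ∀ o z c, J o z → cen c → J o (z * c) := by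
    rintro o _ c ⟨b', hb', rfl⟩ hc
    exact ⟨b' * c, ⟨by rw [← mul_assoc, hb'.1], fun r hr => (hb'.2 r hr).mul_right (hc.2 _ r.2)⟩,
      (trS_mul hM b' hc.2).symm⟩
  have hJl : ∀ o z c, J o z → cen c → J o (c * z) := by
    rintro o _ c ⟨b', hb', rfl⟩ hc
    exact ⟨c * b', ⟨by rw [← mul_assoc, hc.1],
      fun r hr => (hc.2 _ r.2).mul_right (hb'.2 r hr)⟩, (mul_trS hM b' hc.2).symm⟩
  have hJcen : ∀ o z, J o z → cen z := by
    rintro o _ ⟨b', hb', rfl⟩
    exact ⟨idem_mul_trS hM hb', fun s hs => commute_trS hM hb' hs⟩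
  have hsum : ∀ (F : Finset O) (f : O → MonoidAlgebra k G), (∀ o ∈ F, J o (f o)) →
      cen (∑ o ∈ F, f o) ∧ IsNilpotent (∑ o ∈ F, f o) := by
    intro F
    induction F using Finset.induction_on with
    | empty =>
      intro f _
      simp only [Finset.sum_empty]
      exact ⟨⟨mul_zero e, fun s _ => Commute.zero_right _⟩, IsNilpotent.zero⟩
    | insert o F ho ih =>
      intro f hf
      obtain ⟨hyc, n, hyn⟩ := ih f fun o' ho' => hf o' (Finset.mem_insert_of_mem ho')
      rw [Finset.sum_insert ho]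
      set x := f o
      set y := ∑ o' ∈ F, f o'
      have hx : J o x := hf o (Finset.mem_insert_self o F)
      have hxc := hJcen o x hx
      refine ⟨⟨by rw [mul_add, hxc.1, hyc.1], fun s hs => (hxc.2 s hs).add_right (hyc.2 s hs)⟩, ?_⟩
      have hsc : cen (x + y) :=
        ⟨by rw [mul_add, hxc.1, hyc.1], fun s hs => (hxc.2 s hs).add_right (hyc.2 s hs)⟩
      have hkey : ∀ i, J o ((x + y) ^ (i + 1) - y ^ (i + 1)) := fun i => by
        induction i with
        | zero => simpa using hx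
        | succ i ihi =>
          have hyp : cen (y ^ (i + 1)) := by
            refine ⟨?_, fun s hs => (hyc.2 s hs).pow_right _⟩
            rw [pow_succ', ← mul_assoc, hyc.1]
          rw [show (x + y) ^ (i + 1 + 1) - y ^ (i + 1 + 1)
            = ((x + y) ^ (i + 1) - y ^ (i + 1)) * (x + y) + y ^ (i + 1) * x by
              rw [pow_succ _ (i + 1), pow_succ y (i + 1), sub_mul, mul_add (y ^ (i + 1))]; abel]
          exact hJadd _ _ _ (hJr _ _ _ ihi hsc) (hJl _ _ _ hx hyp)
      obtain ⟨j, hj⟩ := hnil _ _ (hkey n)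
      rw [pow_succ y n, hyn, zero_mul, sub_zero, ← pow_mul] at hj
      exact ⟨_, hj⟩
  obtain ⟨-, n, hn⟩ := hsum Finset.univ (fun o => trS hM (St o) (T o.out)) fun o _ => ⟨_, hTloc o, rfl⟩
  have htot : ∑ o, trS hM (St o) (T o.out) = e := by
    refine Eq.trans ?_ ha₀tr
    show _ = ∑ q, T q
    rw [Fintype.sum_equiv (MulAction.selfEquivSigmaOrbits S (G ⧸ D)) T
      (fun y => T ((MulAction.selfEquivSigmaOrbits S (G ⧸ D)).symm y))
      (fun x => by rw [Equiv.symm_apply_apply]), Fintype.sum_sigma]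
    refine Finset.sum_congr rfl fun o _ => ?_
    rw [trS]
    rw [← Equiv.sum_comp (MulAction.orbitEquivQuotientStabilizer S o.out).symm]
    refine Finset.sum_congr (Finset.ext fun z => by simp) fun u _ => ?_
    show sg hM (u.out : G) * T o.out * sg hM (u.out : G)⁻¹
      = T (↑((MulAction.orbitEquivQuotientStabilizer S o.out).symm u) : G ⧸ D)
    rw [hTconj]
    congr 1
    conv_rhs => rw [← QuotientGroup.out_eq' u, MulAction.orbitEquivQuotientStabilizer_symm_apply]
    rfl
  rw [htot] at hn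
  exact idem_ne_zero hM hB (by
    rcases n with _ | n
    · rw [pow_zero] at hn; exact absurd hn one_ne_zero
    · rwa [(show IsIdempotentElem e from hee).pow_succ_eq] at hn)

/-- An idempotent commuting with a `p`-subgroup `S` is not killed by the sum of `S`. -/
theorem eq_zero_of_mul_sum (hSp : IsPGroup p S) {E : MonoidAlgebra (Residue hM) G}
    (hidem : IsIdempotentElem E) (hEs : ∀ s ∈ S, Commute (sg hM s) E)
    (h0 : E * ∑ s : S, sg hM (s : G) = 0) : E = 0 := by
  haveI := Fact.mk hM.1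
  haveI := TwoCharacters.charP_residue hM
  let k := Residue hM
  let Ssum : MonoidAlgebra k G := ∑ s : S, sg hM (s : G)
  let crd : (G ⧸ S) → MonoidAlgebra k G → k := fun q z => ∑ s : S, z.coeff (q.out * (s : G))
  have hker : ∀ q, crd q E = 0 := fun q => by
    have h1 := congrArg (fun z : MonoidAlgebra k G => z.coeff q.out) h0
    simp only [Ssum, Finset.mul_sum, MonoidAlgebra.coeff_sum, Finsupp.finsetSum_apply] at h1
    rw [MonoidAlgebra.coeff_zero, Finsupp.zero_apply] at h1
    refine (Fintype.sum_equiv (Equiv.inv S) _ _ fun s => ?_).trans h1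
    rw [coeff_mul_sum, Finset.sum_eq_single (q.out * (s : G))]
    · simp [sg]
    · intro x _ hx
      have : ((s⁻¹ : S) : G) ≠ x⁻¹ * q.out := fun h => hx (by
        have h' : x * (s : G)⁻¹ = q.out := by
          rw [← eq_inv_mul_iff_mul_eq]; exact h
        rw [← h', inv_mul_cancel_right])
      simp only [Subgroup.coe_inv] at this
      simp [sg, MonoidAlgebra.coeff_single, Finsupp.single_apply, this]
    · simp
  -- powers of the augmentation ideal of `S`
  let Aug : Submodule k (MonoidAlgebra k G) :=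
    Submodule.span k (Set.range fun y : MonoidAlgebra k G × S => y.1 * (sg hM (y.2 : G) - 1))
  have hmemAug : E ∈ Aug := by
    suffices h : ∑ g : G, MonoidAlgebra.single g (E.coeff g) ∈ Aug by rwa [sum_single_eq hM E] at h
    have h2 : ∀ g : G, MonoidAlgebra.single g (E.coeff g)
        - MonoidAlgebra.single ((g : G ⧸ S).out) (E.coeff g) ∈ Aug := fun g => by
      have hmem : ((g : G ⧸ S).out)⁻¹ * g ∈ S := QuotientGroup.eq.1 (QuotientGroup.out_eq' _)
      refine Submodule.subset_span ⟨(MonoidAlgebra.single ((g : G ⧸ S).out) (E.coeff g),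
        ⟨_, hmem⟩), ?_⟩
      show _ * (sg hM (((g : G ⧸ S).out)⁻¹ * g) - 1) = _
      rw [mul_sub, mul_one, MonoidAlgebra.single_mul_single, mul_inv_cancel_left, mul_one]
    have h3 : ∑ g : G, MonoidAlgebra.single ((g : G ⧸ S).out) (E.coeff g) = 0 := by
      rw [← Finset.sum_fiberwise (g := (QuotientGroup.mk : G → G ⧸ S))]
      refine Finset.sum_eq_zero fun q _ => ?_
      rw [Finset.sum_congr rfl (g := fun g => MonoidAlgebra.single q.out (E.coeff g)) fun g hg => by
        rw [(Finset.mem_filter.1 hg).2]]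
      show ∑ g ∈ _, MonoidAlgebra.singleAddHom q.out (E.coeff g) = 0
      rw [← map_sum]
      have h4 : ∑ g ∈ Finset.univ.filter (fun g => (QuotientGroup.mk g : G ⧸ S) = q), E.coeff g = crd q E := by
        refine (Finset.sum_bij (fun (s : S) _ => q.out * (s : G)) (fun s _ => ?_)
          (fun s _ s' _ h => Subtype.ext (mul_left_cancel h)) (fun g hg => ?_) (fun s _ => rfl)).symm
        · refine Finset.mem_filter.2 ⟨Finset.mem_univ _, ?_⟩
          rw [QuotientGroup.mk_mul_of_mem _ s.2, QuotientGroup.out_eq']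
        · have := (Finset.mem_filter.1 hg).2
          refine ⟨⟨q.out⁻¹ * g, QuotientGroup.eq.1 ((QuotientGroup.out_eq' q).trans this.symm)⟩,
            Finset.mem_univ _, mul_inv_cancel_left _ _⟩
      rw [h4, hker q, map_zero]
    have h5 := Submodule.sum_mem Aug fun g (_ : g ∈ Finset.univ) => h2 g
    rwa [Finset.sum_sub_distrib, h3, sub_zero] at h5
  have hAugl : ∀ (g : G), ∀ z ∈ Aug, sg hM g * z ∈ Aug := fun g z hz => by
    induction hz using Submodule.span_induction with
    | mem z hz =>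
      obtain ⟨⟨y, s⟩, rfl⟩ := hz
      exact Submodule.subset_span ⟨(sg hM g * y, s), mul_assoc _ _ _⟩
    | zero => rw [mul_zero]; exact Submodule.zero_mem _
    | add z z' _ _ hz hz' => rw [mul_add]; exact add_mem hz hz'
    | smul c z _ hz => rw [mul_smul_comm]; exact Submodule.smul_mem _ c hz
  -- an invariant functional on `A E`
  let hat : (G → k) → (MonoidAlgebra k G →ₗ[k] k) := fun φ =>
    { toFun := fun z => ∑ g, z.coeff g * φ g
      map_add' := fun z z' => by simp [add_mul, Finset.sum_add_distrib]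
      map_smul' := fun c z => by
        show ∑ g, (c • z).coeff g * φ g = c • ∑ g, z.coeff g * φ g
        rw [smul_eq_mul, Finset.mul_sum]
        exact Finset.sum_congr rfl fun g _ => by simp [mul_assoc] }
  let Tφ : (G → k) →ₗ[k] (G → k) :=
    { toFun := fun φ g => hat φ (sg hM g * E)
      map_add' := fun φ φ' => funext fun g => by simp [hat, mul_add, Finset.sum_add_distrib]
      map_smul' := fun c φ => funext fun g => by
        show ∑ h, (sg hM g * E).coeff h * (c * φ h) = c • ∑ h, (sg hM g * E).coeff h * φ h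
        rw [smul_eq_mul, Finset.mul_sum]
        exact Finset.sum_congr rfl fun h _ => by ring }
  letI actG : MulAction S G :=
    { smul := fun s g => g * (s : G)⁻¹
      one_smul := fun g => show g * ((1 : S) : G)⁻¹ = g by simp
      mul_smul := fun s t g => show g * ((s * t : S) : G)⁻¹ = g * (t : G)⁻¹ * (s : G)⁻¹ by
        simp [mul_assoc] }
  by_contra hE0
  obtain ⟨f, ⟨φ, hφ⟩, hf0, hfix⟩ := exists_fixed_of_invariant (p := p) hSp (LinearMap.range Tφ)
    (fun s f ⟨φ, hφ⟩ => ⟨fun g => φ (g * (s : G)⁻¹⁻¹), funext fun g => by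
      rw [← hφ]
      show hat _ (sg hM g * E) = hat φ (sg hM (g * ((s⁻¹ : S) : G)⁻¹) * E)
      rw [show ((s⁻¹ : S) : G)⁻¹ = (s : G) from inv_inv _, ← sg_mul, mul_assoc (sg hM g),
        (hEs _ s.2).eq, ← mul_assoc (sg hM g) E]
      refine Fintype.sum_equiv (Equiv.mulRight (s : G)) _ _ fun h => ?_
      simp only [Equiv.coe_mulRight, inv_inv]
      show _ = (_ * MonoidAlgebra.single (s : G) (1 : k)).coeff (h * (s : G)) * _
      rw [MonoidAlgebra.coeff_mul_single_apply, mul_inv_cancel_right, mul_one]⟩)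
    (by
      intro hbot
      refine hE0 (ext_coeff fun h => ?_)
      have h1 : Tφ (Pi.single h 1) = 0 := by
        rw [← Submodule.mem_bot k, ← hbot]; exact LinearMap.mem_range_self _ _
      have h2 : hat (Pi.single h 1) (sg hM 1 * E) = 0 := congrFun h1 1
      rw [sg_one, one_mul] at h2
      simpa [hat, Pi.single_apply] using h2)
  refine hf0 (funext fun g => ?_)
  have hTf : hat f (sg hM g * E) = f g := by
    have h1 : ∀ z, hat f z = hat φ (z * E) := fun z => by
      conv_rhs => rw [← sum_single_eq hM z, Finset.sum_mul, map_sum]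
      refine Finset.sum_congr rfl fun h _ => ?_
      rw [show MonoidAlgebra.single h (z.coeff h) = z.coeff h • sg hM h by simp [sg],
        smul_mul_assoc, map_smul, smul_eq_mul, ← hφ]
      rfl
    rw [h1, mul_assoc, show E * E = E from hidem.eq, ← hφ]
    rfl
  have hkill : ∀ z ∈ Aug, hat f z = 0 := fun z hz => by
    induction hz using Submodule.span_induction with
    | mem z hz =>
      obtain ⟨⟨y, s⟩, rfl⟩ := hz
      show hat f (y * (sg hM (s : G) - 1)) = 0
      rw [mul_sub, mul_one, map_sub, sub_eq_zero]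
      refine (Fintype.sum_equiv (Equiv.mulRight (s : G)) _ _ fun h => ?_).symm
      simp only [Equiv.coe_mulRight]
      rw [sg, MonoidAlgebra.coeff_mul_single_apply, mul_inv_cancel_right, mul_one]
      congr 1
      have := hfix s (h * (s : G))
      rw [show s • (h * (s : G)) = h * (s : G) * (s : G)⁻¹ from rfl, mul_inv_cancel_right] at this
      exact this
    | zero => exact map_zero _
    | add z z' _ _ hz hz' => rw [map_add, hz, hz', add_zero]
    | smul c z _ hz => rw [map_smul, hz, smul_zero]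
  rw [← hTf]
  exact hkill _ (hAugl g E hmemAug)

/-- A basis of translates of `b₁` makes normalisers of `p`-subgroups act as `S`. -/
theorem fusion (hB : IsPBlock M B) (hSp : IsPGroup p S) {R : Subgroup S}
    {b₁ : MonoidAlgebra (Residue hM) G} (hb₁loc : Loc hM B R b₁) {E : MonoidAlgebra (Residue hM) G}
    (hE : trS hM R b₁ = E) (hidem : IsIdempotentElem E) (hne : E ≠ 0)
    (hdimX : Module.finrank (Residue hM) (LinearMap.range (mulLeft (Residue hM) (idem hM B)))
      ≤ Nat.card (S ⧸ R) * Nat.card S) :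
    ∀ (Q : Subgroup G), Q ≤ S → ∀ x : G, x ∈ Subgroup.normalizer (Q : Set G) →
      ∀ c : G, c ∈ Subgroup.centralizer (Q : Set G) → ¬ MemLocalIdeal M (blockCoeff B c) →
        ∃ w ∈ S, ∀ q ∈ Q, x⁻¹ * q * x = w⁻¹ * q * w := by
  haveI := Fact.mk hM.1
  haveI := TwoCharacters.charP_residue hM
  let k := Residue hM
  haveI : Module.Finite k (MonoidAlgebra k G) := Module.Finite.equiv (coord hM (G := G)).symm
  set e := idem hM B with hedef
  have hec := idem_commute hM (B := B)
  have hEs : ∀ s ∈ S, Commute (sg hM s) E := fun s hs => hE ▸ commute_trS hM hb₁loc hs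
  let X := (S ⧸ R) × S
  letI : MulAction (S × S) X :=
    { smul := fun g x => (g.1 • x.1, g.1 * x.2 * g.2⁻¹)
      one_smul := fun x => Prod.ext (one_smul S x.1) (show 1 * x.2 * 1⁻¹ = x.2 by simp)
      mul_smul := fun g h x => Prod.ext (mul_smul g.1 h.1 x.1)
        (show g.1 * h.1 * x.2 * (g.2 * h.2)⁻¹ = g.1 * (h.1 * x.2 * h.2⁻¹) * g.2⁻¹ by simp [mul_assoc]) }
  have hSS : IsPGroup p (S × S) := by
    obtain ⟨n, hn⟩ := hSp.exists_card_eq
    exact IsPGroup.of_card (n := n + n) (by rw [Nat.card_prod, hn, pow_add])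
  have htr : ∀ x y : X, ∃ g : S × S, g • x = y := fun x y => by
    obtain ⟨s, hs⟩ := MulAction.exists_smul_eq S x.1 y.1
    exact ⟨(s, y.2⁻¹ * (s * x.2)), Prod.ext hs (show s * x.2 * (y.2⁻¹ * (s * x.2))⁻¹ = y.2 by group)⟩
  let v : X → MonoidAlgebra k G := fun x =>
    sg hM (x.1.out : G) * b₁ * sg hM (x.1.out : G)⁻¹ * sg hM (x.2 : G)
  have hv : ∀ (g : S × S) x, v (g • x) = sg hM (g.1 : G) * v x * sg hM ((g.2 : G)⁻¹) := fun g x => by
    have h1 : ((g.1 * x.1.out : S) : S ⧸ R) = g.1 • x.1 := by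
      conv_rhs => rw [← QuotientGroup.out_eq' x.1]
      rfl
    show sg hM (((g.1 • x.1).out : S) : G) * b₁ * sg hM (((g.1 • x.1).out : S) : G)⁻¹
      * sg hM (((g.1 * x.2 * g.2⁻¹ : S)) : G) = _
    rw [← h1, ← conj_out hM hb₁loc (g.1 * x.1.out)]
    show sg hM ((g.1 : G) * (x.1.out : G)) * b₁ * sg hM ((g.1 : G) * (x.1.out : G))⁻¹
      * sg hM ((g.1 : G) * (x.2 : G) * (g.2 : G)⁻¹) = _
    rw [mul_inv_rev, mul_assoc _ (sg hM ((x.1.out : G)⁻¹ * (g.1 : G)⁻¹)), sg_mul,
      show (x.1.out : G)⁻¹ * (g.1 : G)⁻¹ * ((g.1 : G) * (x.2 : G) * (g.2 : G)⁻¹)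
        = (x.1.out : G)⁻¹ * ((x.2 : G) * (g.2 : G)⁻¹) by group]
    simp only [v, ← sg_mul, mul_assoc]
  let Φ : (X → k) →ₗ[k] MonoidAlgebra k G := Fintype.linearCombination k v
  have hΦ : ∀ f, Φ f = ∑ x, f x • v x := fun f => Fintype.linearCombination_apply k v f
  have hΦeq : ∀ (g : S × S) f, Φ (fun x => f (g⁻¹ • x))
      = sg hM (g.1 : G) * Φ f * sg hM ((g.2 : G)⁻¹) := fun g f => by
    rw [hΦ, hΦ, Finset.mul_sum, Finset.sum_mul]
    refine (Fintype.sum_equiv (MulAction.toPerm g) _ _ fun x => ?_).symm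
    rw [MulAction.toPerm_apply, inv_smul_smul, hv, mul_smul_comm, smul_mul_assoc]
  have hΦinj : Function.Injective Φ := by
    rw [← LinearMap.ker_eq_bot]
    by_contra hker
    have h1 := one_mem_of_invariant hSS htr (LinearMap.ker Φ) (fun g f hf => LinearMap.mem_ker.2 (by
      rw [hΦeq, LinearMap.mem_ker.1 hf, mul_zero, zero_mul])) hker
    rw [LinearMap.mem_ker, hΦ] at h1
    simp only [one_smul] at h1
    refine hne (eq_zero_of_mul_sum hM hSp hidem hEs ?_)
    rw [← hE, ← h1, Fintype.sum_prod_type]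
    simp only [trS, v, Finset.sum_mul, Finset.mul_sum]
    exact Finset.sum_comm
  have hrange : LinearMap.range Φ ≤ LinearMap.range (mulLeft k e) := by
    rintro _ ⟨f, rfl⟩
    refine ⟨Φ f, ?_⟩
    rw [LinearMap.mulLeft_apply, hΦ, Finset.mul_sum]
    refine Finset.sum_congr rfl fun x _ => ?_
    rw [mul_smul_comm]
    congr 1
    show e * (_ * b₁ * _ * _) = _
    rw [← mul_assoc, ← mul_assoc, ← mul_assoc, hec, mul_assoc _ e b₁, hb₁loc.1]
  have hrk : Module.finrank k (LinearMap.range Φ) = Nat.card (S ⧸ R) * Nat.card S := by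
    rw [LinearMap.finrank_range_of_inj hΦinj, Module.finrank_pi, ← Nat.card_eq_fintype_card,
      ← Nat.card_prod]
  have hsurj : LinearMap.range Φ = LinearMap.range (mulLeft k e) :=
    Submodule.eq_of_le_of_finrank_le hrange (by rw [hrk]; exact hdimX)
  intro Q hQS x hx c hc hcI
  obtain ⟨f, hf⟩ : e * sg hM x ∈ LinearMap.range Φ := hsurj ▸ ⟨sg hM x, rfl⟩
  have hxq : ∀ q ∈ Q, x⁻¹ * q * x ∈ Q := fun q hq => by
    have := (Subgroup.mem_normalizer_iff.1 ((Subgroup.normalizer (Q : Set G)).inv_mem hx) q).1 hq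
    simpa using this
  let h : Q →* S × S :=
    { toFun := fun q => (⟨q, hQS q.2⟩, ⟨x⁻¹ * (q : G) * x, hQS (hxq q q.2)⟩)
      map_one' := Prod.ext (Subtype.ext rfl) (Subtype.ext (by simp))
      map_mul' := fun q r => Prod.ext (Subtype.ext rfl) (Subtype.ext (by simp [mul_assoc])) }
  letI : MulAction Q X := MulAction.compHom X h
  have hfix : ∀ (q : Q) ξ, f (q • ξ) = f ξ := fun q ξ => by
    have h1 : (fun y => f ((h q)⁻¹ • y)) = f := hΦinj (by
      rw [hΦeq, hf]
      show sg hM (q : G) * (e * sg hM x) * sg hM (x⁻¹ * (q : G) * x)⁻¹ = _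
      rw [← mul_assoc, ← hec, mul_assoc e, mul_assoc e, sg_mul, sg_mul]
      congr 2
      group)
    have h2 := congrFun h1 (q • ξ)
    rw [show (h q)⁻¹ • (q • ξ) = ξ from inv_smul_smul (h q) ξ] at h2
    exact h2.symm
  let F : X → k := fun ξ => f ξ * (v ξ).coeff (c * x)
  have hFfix : ∀ (q : Q) ξ, F (q • ξ) = F ξ := fun q ξ => by
    show f (q • ξ) * (v (q • ξ)).coeff (c * x) = _
    rw [hfix]
    congr 1
    rw [show v (q • ξ) = v ((h q) • ξ) from rfl, hv]
    show (sg hM (q : G) * v ξ * sg hM (x⁻¹ * (q : G) * x)⁻¹).coeff (c * x) = _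
    rw [sg, sg, MonoidAlgebra.coeff_mul_single_apply, MonoidAlgebra.coeff_single_mul_apply, one_mul, mul_one]
    congr 1
    have hcq : (q : G) * c = c * q := Subgroup.mem_centralizer_iff.1 hc q q.2
    have : (q : G)⁻¹ * c * q = c := by rw [mul_assoc, ← hcq, inv_mul_cancel_left]
    calc (q : G)⁻¹ * (c * x * (x⁻¹ * (q : G) * x)⁻¹⁻¹) = (q : G)⁻¹ * c * q * x := by
          rw [inv_inv]; group
      _ = c * x := by rw [this]
  have hsumF : ∑ ξ, F ξ = (e * sg hM x).coeff (c * x) := by
    rw [← hf, hΦ, MonoidAlgebra.coeff_sum, Finsupp.finsetSum_apply]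
    exact Finset.sum_congr rfl fun ξ _ => by simp [F]
  obtain ⟨ξ, hξ⟩ : ∃ ξ : X, ∀ q : Q, q • ξ = ξ := by
    by_contra hno
    push Not at hno
    have h0 := sum_eq_zero_of_no_fixed (p := p) (hSp.to_le hQS) F hFfix hno
    rw [hsumF, sg, MonoidAlgebra.coeff_mul_single_apply, mul_one, mul_inv_cancel_right,
      hedef, coeff_idem, resid_eq_zero_iff hM (blockCoeff_LR hM hB c)] at h0
    exact hcI h0
  refine ⟨(ξ.2 : G), ξ.2.2, fun q hq => ?_⟩
  have h3 : (q : G) * (ξ.2 : G) * (x⁻¹ * q * x)⁻¹ = (ξ.2 : G) :=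
    congrArg (fun y : X => (y.2 : G)) (hξ ⟨q, hq⟩)
  rw [mul_inv_eq_iff_eq_mul] at h3
  rw [mul_assoc (ξ.2 : G)⁻¹, h3, inv_mul_cancel_left]

theorem main (hM : IsPModular p M) {B : Set (IrrCharacter G)} (hB : IsPBlock M B) {D : Subgroup G}
    (hD : IsDefectGroup p M B D) {a d : ℕ} (ha : (Nat.card G).factorization p = a)
    (hd : Nat.card D = p ^ d) (hmin : ∑ᶠ χ ∈ B, charDegree (χ : G → ℂ) ^ 2 = p ^ (2 * a - d)) :
    IsNilpotentBlock p M B := by
  haveI := Fact.mk hM.1
  haveI := TwoCharacters.charP_residue hM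
  let k := Residue hM
  haveI : Module.Finite k (MonoidAlgebra k G) := Module.Finite.equiv (coord hM (G := G)).symm
  obtain ⟨Sy⟩ : Nonempty (Sylow p G) := inferInstance
  set S : Subgroup G := (Sy : Subgroup G) with hSdef
  have hSp : IsPGroup p S := Sy.2
  have hScard : Nat.card S = p ^ a := by rw [hSdef, Sy.card_eq_multiplicity, ha]
  obtain ⟨a₀, ha₀e, ha₀D, ha₀tr⟩ := BlockTrace.exists_trace hM hB hD
  obtain ⟨R, b, hb, hnn, hRD⟩ := exists_trace_ideal hM (S := S) hB a₀ ha₀e ha₀D ha₀tr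
  obtain ⟨q, hidem, hne⟩ := exists_idem_multiple (k := k) hnn
  have hws : ∀ s ∈ S, Commute (sg hM s) (Polynomial.aeval (trS hM R b) q) := fun s hs => by
    rw [Polynomial.aeval_eq_sum_range]
    exact Commute.sum_right _ _ _ fun i _ => ((commute_trS hM hb hs).pow_right i).smul_right _
  have hdim : Module.finrank k (LinearMap.range (mulLeft k (idem hM B))) = p ^ (2 * a - d) := by
    apply Nat.cast_injective (R := ℂ)
    rw [finrank_range_mulLeft hM hB, ← hmin, finsum_mem_eq_toFinset_sum, Nat.cast_sum]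
    exact Finset.sum_congr rfl fun χ _ => by rw [irr_one_eq]; push_cast; rfl
  have hXge : p ^ (2 * a - d) ≤ Nat.card (S ⧸ R) * Nat.card S := by
    have hXcard : Nat.card (S ⧸ R) * Nat.card S * Nat.card R = p ^ a * p ^ a := by
      rw [mul_right_comm, ← Subgroup.card_eq_card_quotient_mul_card_subgroup, hScard]
    have hda : d ≤ a := by
      rw [← ha]
      refine (Nat.Prime.pow_dvd_iff_le_factorization hM.1 Nat.card_pos.ne').1 ?_
      rw [← hd]
      exact Subgroup.card_subgroup_dvd_card D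
    refine Nat.le_of_mul_le_mul_right ?_ (pow_pos hM.1.pos d)
    rw [← pow_add, show 2 * a - d + d = a + a by omega, pow_add, ← hXcard]
    exact Nat.mul_le_mul_left _ (hd ▸ hRD)
  have key := fusion hM hB hSp (R := R) (b₁ := b * Polynomial.aeval (trS hM R b) q)
    ⟨by rw [← mul_assoc, hb.1], fun r hr => (hb.2 r hr).mul_right (hws _ r.2)⟩
    (trS_mul hM b hws).symm hidem hne (hdim.trans_le hXge)
  refine ⟨hB, fun Q f hQf x hxN hxs hxr => ?_⟩
  obtain ⟨c, hc, hcI⟩ : ∃ c ∈ Subgroup.centralizer (Q : Set G), ¬ MemLocalIdeal M (blockCoeff B c) := by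
    by_contra hno
    push Not at hno
    obtain ⟨ξ, hξ⟩ := IsPBlock.nonempty hM hQf.1.2
    have h1 := hQf.2.2 ξ hξ
    rw [brauerOmega_eq_omega] at h1
    have h2 := omega_LI hM ξ
      (fun u w => blockCoeff_isClassFunction B (u : G) (w : G))
      (f := fun u : Subgroup.centralizer (Q : Set G) => blockCoeff B (u : G)) fun u => hno _ u.2
    exact LI.not_one hM (by simpa using LI.sub hM h2 h1)
  obtain ⟨S', hS'⟩ := hQf.1.1.exists_le_sylow
  obtain ⟨g, hg⟩ := MulAction.exists_smul_eq G S' Sy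
  set Q' := Q.map (MulAut.conj g).toMonoidHom with hQ'
  have hQ'S : Q' ≤ S := by
    rintro _ ⟨q, hq, rfl⟩
    rw [hSdef, ← hg]
    exact ⟨q, hS' hq, rfl⟩
  have hmem : ∀ {q : G}, q ∈ Q → g * q * g⁻¹ ∈ Q' := fun {q} hq => ⟨q, hq, rfl⟩
  obtain ⟨w, hwS, hw⟩ := key Q' hQ'S (g * x * g⁻¹) (by
      refine Subgroup.mem_normalizer_iff.2 fun y => ⟨?_, ?_⟩
      · rintro ⟨q, hq, rfl⟩
        exact ⟨x * q * x⁻¹, (Subgroup.mem_normalizer_iff.1 hxN q).1 hq, by simp [mul_assoc]⟩
      · rintro ⟨q, hq, he⟩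
        refine ⟨x⁻¹ * q * x, (Subgroup.mem_normalizer_iff.1 hxN _).2 (by simpa [mul_assoc] using hq), ?_⟩
        have he' : g * q * g⁻¹ = g * x * g⁻¹ * y * (g * x * g⁻¹)⁻¹ := he
        show g * (x⁻¹ * q * x) * g⁻¹ = y
        have : y = (g * x * g⁻¹)⁻¹ * (g * q * g⁻¹) * (g * x * g⁻¹) := by rw [he']; group
        rw [this]; group)
    (g * c * g⁻¹) (Subgroup.mem_centralizer_iff.2 (by
      rintro _ ⟨q, hq, rfl⟩
      show g * q * g⁻¹ * (g * c * g⁻¹) = g * c * g⁻¹ * (g * q * g⁻¹)
      have hqc : q * c = c * q := Subgroup.mem_centralizer_iff.1 hc q hq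
      calc g * q * g⁻¹ * (g * c * g⁻¹) = g * (q * c) * g⁻¹ := by group
        _ = _ := by rw [hqc]; group))
    (by
      have h9 : blockCoeff B (g * c * g⁻¹) = blockCoeff B c := blockCoeff_isClassFunction B c g
      rwa [h9])
  -- `x` and `w` act alike, with coprime orders
  set y := g * x * g⁻¹ with hy
  have hpw : ∀ (i : ℕ), ∀ q ∈ Q', (y ^ i)⁻¹ * q * y ^ i = (w ^ i)⁻¹ * q * w ^ i := fun i => by
    induction i with
    | zero => intro q _; simp
    | succ i ih =>
      intro q hq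
      have hq1 : y⁻¹ * q * y ∈ Q' := by
        obtain ⟨q₀, hq₀, rfl⟩ := hq
        refine ⟨x⁻¹ * q₀ * x, ?_, ?_⟩
        · have := (Subgroup.mem_normalizer_iff.1 ((Subgroup.normalizer (Q : Set G)).inv_mem hxN) q₀).1 hq₀
          simpa using this
        · show g * (x⁻¹ * q₀ * x) * g⁻¹ = y⁻¹ * (g * q₀ * g⁻¹) * y
          rw [hy]; group
      calc (y ^ (i + 1))⁻¹ * q * y ^ (i + 1) = (y ^ i)⁻¹ * (y⁻¹ * q * y) * y ^ i := by
            rw [pow_succ']; group
        _ = (w ^ i)⁻¹ * (y⁻¹ * q * y) * w ^ i := ih _ hq1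
        _ = (w ^ i)⁻¹ * (w⁻¹ * q * w) * w ^ i := by rw [hw q hq]
        _ = _ := by rw [pow_succ']; group
  obtain ⟨j, hj⟩ := hSp ⟨w, hwS⟩
  have hwj : w ^ p ^ j = 1 := congrArg Subtype.val hj
  have hyr : ¬ p ∣ orderOf y := by
    rw [hy, ← MulAut.conj_apply, MulEquiv.orderOf_eq]; exact hxr
  obtain ⟨i, hi⟩ := Nat.chineseRemainder
    (((Fact.out : p.Prime).coprime_iff_not_dvd.2 hyr).pow_left j) 0 1
  have hwi : w ^ i = 1 := by
    have h0 : i % p ^ j = 0 % p ^ j := hi.1
    rw [Nat.zero_mod] at h0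
    obtain ⟨t, ht⟩ := Nat.dvd_of_mod_eq_zero h0
    rw [ht, pow_mul, hwj, one_pow]
  have hyi : y ^ i = y := (pow_eq_pow_iff_modEq.2 hi.2).trans (pow_one y)
  refine Subgroup.mem_centralizer_iff.2 fun q hq => ?_
  have h4 := hpw i _ (hmem hq)
  rw [hwi, hyi, inv_one, one_mul, mul_one, hy] at h4
  have h5 : g * (x⁻¹ * q * x) * g⁻¹ = g * q * g⁻¹ := by
    rw [← h4]; group
  have h6 : x⁻¹ * q * x = q := mul_left_cancel (mul_right_cancel h5)
  calc q * x = x * (x⁻¹ * q * x) := by group
    _ = x * q := by rw [h6]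

end CfsgLib.Blocks.MinimalDimension
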