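import Cfsg.Agent.Lib.Blocks.SimpleCount
import Cfsg.Agent.Lib.Blocks.MinimalDimension
import Mathlib.RepresentationTheory.AlgebraRepresentation.Basic
import Mathlib.RingTheory.RootsOfUnity.AlgebraicallyClosed
import Mathlib.LinearAlgebra.Basis.VectorSpace
import Mathlib.GroupTheory.GroupAction.Quotient

/-!
# Stable restriction to the normalizer of a trivial intersection subgroup

`K` is the centralizer of an element `z` of the `p`-group `P`, the block idempotent `b` of `K` cuts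
out a matrix algebra over a uniserial corner generated by `X`, and the stabilizer of `b` in `H` is
generated over `K` by `t`.  For a module `V` the kernel of `X` on `bV` modulo the image of the
top power of `X` is then a functor, exact in the middle, on which the trace from `K` to `G` is the
average over the powers of `t`.  A simple module therefore sees one eigenvalue of the twisted
operator, and every eigenvalue occurs.
-/

set_option autoImplicit false
set_option linter.unusedSectionVars false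
set_option maxHeartbeats 1000000
set_option synthInstance.maxHeartbeats 200000

namespace CfsgLib.Blocks.CyclicStable

open Cfsg CfsgLib.Blocks CfsgLib.Blocks.ResidueAlgebra CfsgLib.Blocks.TwoCharacters
open scoped Classical

universe u

variable {G : Type u} [Group G] [Fintype G] {p : ℕ} {M : Ideal AlgInt}

/-- The group algebra over the residue field. -/
abbrev RA (hM : IsPModular p M) (G : Type u) : Type u := MonoidAlgebra (Residue hM) G

/-- A group element in it. -/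
noncomputable abbrev g1 (hM : IsPModular p M) (g : G) : RA hM G := MonoidAlgebra.single g 1

theorem g1_mul (hM : IsPModular p M) (g h : G) : g1 hM g * g1 hM h = g1 hM (g * h) := by
  simp [g1]

theorem g1_one (hM : IsPModular p M) : g1 hM (1 : G) = 1 := MonoidAlgebra.one_def.symm

theorem g1_pow (hM : IsPModular p M) (g : G) (i : ℕ) : g1 hM g ^ i = g1 hM (g ^ i) := by
  simp [g1]

/-- Supported in a set. -/
def Supp (hM : IsPModular p M) (S : Set G) (x : RA hM G) : Prop := ∀ g ∉ S, x.coeff g = 0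

section Supp

variable {hM : IsPModular p M} {K : Subgroup G} {x y : RA hM G}

theorem Supp.mul (hx : Supp hM K x) (hy : Supp hM K y) : Supp hM K (x * y) := fun g hg => by
  rw [coeff_mul_sum]
  refine Finset.sum_eq_zero fun a _ => ?_
  by_cases ha : a ∈ K
  · rw [hy (a⁻¹ * g) fun h => hg (by simpa using K.mul_mem ha h), mul_zero]
  · rw [hx a ha, zero_mul]

theorem supp_g1 {g : G} {S : Set G} (hg : g ∈ S) : Supp hM S (g1 hM g) := fun h hh => by
  simp only [g1, MonoidAlgebra.coeff_single, Finsupp.single_apply]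
  rw [if_neg]
  rintro rfl
  exact hh hg

theorem supp_one : Supp hM (K : Set G) 1 := by rw [← g1_one hM]; exact supp_g1 K.one_mem

theorem Supp.sum {S : Set G} {ι : Type*} {s : Finset ι} {f : ι → RA hM G}
    (h : ∀ i ∈ s, Supp hM S (f i)) : Supp hM S (∑ i ∈ s, f i) := fun g hg => by
  rw [MonoidAlgebra.coeff_sum, Finsupp.finsetSum_apply]
  exact Finset.sum_eq_zero fun i hi => h i hi g hg

theorem Supp.smul {S : Set G} (hx : Supp hM S x) (c : Residue hM) : Supp hM S (c • x) := fun g hg => by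
  simp [hx g hg]

theorem Supp.pow (hx : Supp hM K x) : ∀ i : ℕ, Supp hM K (x ^ i)
  | 0 => by rw [pow_zero]; exact supp_one
  | i + 1 => by rw [pow_succ]; exact (hx.pow i).mul hx

theorem Supp.conj (hx : Supp hM K x) {g : G} (hg : ∀ k ∈ K, g * k * g⁻¹ ∈ K) :
    Supp hM K (g1 hM g * x * g1 hM g⁻¹) := fun h hh => by
  rw [g1, g1, MonoidAlgebra.coeff_mul_single_apply, MonoidAlgebra.coeff_single_mul_apply, inv_inv,
    hx _ (fun h' => hh (by simpa [mul_assoc] using hg _ h')), mul_zero, zero_mul]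

theorem conj_mul (g : G) (x y : RA hM G) :
    g1 hM g * (x * y) * g1 hM g⁻¹ = g1 hM g * x * g1 hM g⁻¹ * (g1 hM g * y * g1 hM g⁻¹) := by
  simp only [← mul_assoc]
  rw [mul_assoc _ (g1 hM g⁻¹) (g1 hM g), g1_mul, inv_mul_cancel, g1_one, mul_one]

theorem sum_g1 (x : RA hM G) : ∑ g, x.coeff g • g1 hM g = x := by
  conv_rhs => rw [← sum_single_eq hM x]
  exact Finset.sum_congr rfl fun g _ => by simp [g1]

end Supp

/-- The data at the centralizer of `z`. -/
structure Loc (hM : IsPModular p M) (K H P : Subgroup G) where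
  q : ℕ
  n : ℕ
  m : ℕ
  b : RA hM G
  a : RA hM G
  e : RA hM G
  E : RA hM G
  X : RA hM G
  Pm : Fin m → RA hM G
  Qm : Fin m → RA hM G
  z : G
  t : G
  hPK : P ≤ K
  hKH : K ≤ H
  hHn : ∀ h ∈ H, ∀ g ∈ K, h * g * h⁻¹ ∈ K
  bK : Supp hM K b
  bb : b * b = b
  bc : ∀ w, Supp hM K w → Commute b w
  ha : ∀ u ∈ P, Commute (g1 hM u) a
  aK : Supp hM K a
  htr : ∑ r : K ⧸ P.subgroupOf K, g1 hM (r.out : G) * a * g1 hM (r.out : G)⁻¹ = b
  EK : Supp hM K E
  EE : E * E = E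
  PK : ∀ l, Supp hM K (Pm l)
  QK : ∀ l, Supp hM K (Qm l)
  hQP : ∀ l j, Qm l * Pm j = if l = j then E else 0
  hsum : ∑ l, Pm l * Qm l = b
  hPE : ∀ l, Pm l * E = Pm l
  hEQ : ∀ l, E * Qm l = Qm l
  bE : b * E = E
  XK : Supp hM K X
  bX : b * X = X
  Xc : ∀ w, Supp hM K w → Commute X w
  corner : ∀ w, Supp hM K w → E * w * E ∈ Submodule.span (Residue hM) (Set.range fun i : ℕ => X ^ i * E)
  Xq : X ^ q = 0
  two_le : 2 ≤ q
  kerX : ∀ w, Supp hM K w → b * w = w → X * w = 0 → ∃ w', Supp hM K w' ∧ w = X ^ (q - 1) * w'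
  ne : X ^ (q - 1) * E ≠ 0
  zK : z ∈ K
  zP : IsPGroup p (Subgroup.zpowers z)
  zX : ∃ w, Supp hM K w ∧ (g1 hM z - 1) * b = X * w
  zfix : ∀ g ∈ H, z * g = g * z → g ∈ K
  free : ∀ y ∉ H, ∀ u ∈ P, y⁻¹ * u * y ∈ P → u = 1
  tH : t ∈ H
  tb : Commute (g1 hM t) b
  tn : t ^ n ∈ K
  cosets : ∀ h ∈ H, b * g1 hM h * b ≠ 0 → ∃ i < n, (t ^ i)⁻¹ * h ∈ K
  inj : ∀ i < n, t ^ i ∈ K → i = 0
  npos : 0 < n
  nk : (n : Residue hM) ≠ 0
  ec : ∀ x, Commute e x
  ee : e * e = e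
  eclass : ∀ g h, e.coeff (h * g * h⁻¹) = e.coeff g
  eb : b * (∑ g : G, if g ∈ K then MonoidAlgebra.single g (e.coeff g) else 0) = b

namespace Loc

variable {hM : IsPModular p M} {K H P : Subgroup G} (D : Loc hM K H P)

theorem PQK (l j : Fin D.m) : Supp hM K (D.Pm l * D.Qm j) := (D.PK l).mul (D.QK j)

theorem qsucc : D.q - 1 + 1 = D.q := Nat.sub_add_cancel (le_of_lt D.two_le)

theorem bP (l : Fin D.m) : D.b * D.Pm l = D.Pm l := by
  rw [(D.bc _ (D.PK l)).eq]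
  conv_lhs => rw [← D.hPE l]
  rw [mul_assoc, ← (D.bc _ D.EK).eq, D.bE, D.hPE]

theorem Qb (l : Fin D.m) : D.Qm l * D.b = D.Qm l := by
  rw [← (D.bc _ (D.QK l)).eq]
  conv_lhs => rw [← D.hEQ l]
  rw [← mul_assoc, D.bE, D.hEQ]

theorem Xb : D.X * D.b = D.X := by rw [← (D.bc _ D.XK).eq, D.bX]

theorem Xpow_c {w : RA hM G} (hw : Supp hM K w) (i : ℕ) : Commute (D.X ^ i) w :=
  (D.Xc w hw).pow_left i

theorem bXpow : D.b * D.X ^ (D.q - 1) = D.X ^ (D.q - 1) := by
  obtain ⟨i, hi⟩ : ∃ i, D.q - 1 = i + 1 := ⟨D.q - 2, by have := D.two_le; omega⟩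
  rw [hi, pow_succ', ← mul_assoc, D.bX]

/-! ### Residues of corner elements -/

theorem exists_gam {w : RA hM G} (hw : Supp hM K w) :
    ∃ c : Residue hM, ∃ r, Supp hM K r ∧ D.E * w * D.E = c • D.E + D.X * r := by
  have h := D.corner w hw
  generalize D.E * w * D.E = v at h ⊢
  induction h using Submodule.span_induction with
  | mem y hy =>
    obtain ⟨i, rfl⟩ := hy
    rcases i with _ | i
    · exact ⟨1, 0, fun g _ => by simp, by simp⟩
    · exact ⟨0, D.X ^ i * D.E, (D.XK.pow i).mul D.EK, by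
        rw [zero_smul, zero_add, ← mul_assoc, ← pow_succ']⟩
  | zero => exact ⟨0, 0, fun g _ => by simp, by simp⟩
  | add y y' _ _ hy hy' =>
    obtain ⟨c, r, hr, rfl⟩ := hy
    obtain ⟨c', r', hr', rfl⟩ := hy'
    exact ⟨c + c', r + r', fun g hg => by simp [hr g hg, hr' g hg], by rw [add_smul, mul_add]; abel⟩
  | smul a y _ hy =>
    obtain ⟨c, r, hr, rfl⟩ := hy
    exact ⟨a * c, a • r, hr.smul a, by rw [smul_add, smul_smul, mul_smul_comm]⟩

/-- The residue. -/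
noncomputable def gam (w : RA hM G) : Residue hM :=
  if hw : Supp hM K w then (D.exists_gam hw).choose else 0

theorem gam_spec {w : RA hM G} (hw : Supp hM K w) :
    ∃ r, Supp hM K r ∧ D.E * w * D.E = D.gam w • D.E + D.X * r := by
  rw [gam, dif_pos hw]
  exact (D.exists_gam hw).choose_spec

theorem eq_zero_of_smul {c : Residue hM} {r : RA hM G} (h : c • D.E + D.X * r = 0) : c = 0 := by
  by_contra hc
  have h1 := congrArg (D.X ^ (D.q - 1) * ·) h
  simp only [mul_add, mul_smul_comm, mul_zero] at h1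
  rw [← mul_assoc, ← pow_succ, D.qsucc, D.Xq, zero_mul, add_zero, smul_eq_zero] at h1
  exact D.ne (h1.resolve_left hc)

theorem gam_of_mul_eq_zero {w : RA hM G} (hw : Supp hM K w) (h : w * D.X ^ (D.q - 1) = 0) :
    D.gam w = 0 := by
  obtain ⟨r, hr, hr'⟩ := D.gam_spec hw
  have h1 : D.X ^ (D.q - 1) * (D.E * w * D.E) = 0 := by
    rw [← mul_assoc, ← mul_assoc, (D.Xpow_c D.EK _).eq, mul_assoc D.E, (D.Xpow_c hw _).eq, h,
      mul_zero, zero_mul]
  rw [hr', mul_add, mul_smul_comm, ← mul_assoc, ← pow_succ, D.qsucc, D.Xq, zero_mul, add_zero,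
    smul_eq_zero] at h1
  exact h1.resolve_right D.ne

/-- Elements normalizing `b` send `X` to a multiple of itself. -/
theorem conj_X {g : G} (hg : g ∈ H) (hgb : Commute (g1 hM g) D.b) :
    ∃ r, Supp hM K r ∧ g1 hM g * D.X * g1 hM g⁻¹ = D.X * r := by
  set Y := g1 hM g * D.X * g1 hM g⁻¹ with hY
  have hgK : ∀ k ∈ K, g * k * g⁻¹ ∈ K := fun k hk => D.hHn g hg k hk
  have hgK' : ∀ k ∈ K, g⁻¹ * k * g⁻¹⁻¹ ∈ K := fun k hk => D.hHn _ (H.inv_mem hg) k hk
  have hYK : Supp hM K Y := D.XK.conj hgK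
  have hb : g1 hM g * D.b * g1 hM g⁻¹ = D.b := by
    rw [hgb.eq, mul_assoc, g1_mul, mul_inv_cancel, g1_one, mul_one]
  have hbY : D.b * Y = Y := by rw [← hb, hY, ← conj_mul, D.bX]
  have hYc : ∀ w, Supp hM K w → Commute Y w := fun w hw => by
    have hw' := hw.conj hgK'
    have h0 : g1 hM g * (g1 hM g⁻¹ * w * g1 hM g⁻¹⁻¹) * g1 hM g⁻¹ = w := by
      rw [inv_inv]
      simp only [← mul_assoc, g1_mul, mul_inv_cancel, g1_one, one_mul]
      rw [mul_assoc, g1_mul, mul_inv_cancel, g1_one, mul_one]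
    show Y * w = w * Y
    conv_lhs => rw [← h0, hY, ← conj_mul, (D.Xc _ hw').eq, conj_mul, h0]
  have hYq : Y ^ D.q = 0 := by
    have : ∀ i, Y ^ i = g1 hM g * D.X ^ i * g1 hM g⁻¹ := fun i => by
      induction i with
      | zero => rw [pow_zero, pow_zero, mul_one, g1_mul, mul_inv_cancel, g1_one]
      | succ i ih => rw [pow_succ, ih, hY, ← conj_mul, ← pow_succ]
    rw [this, D.Xq, mul_zero, zero_mul]
  have hdiag : D.E * Y * D.E = D.E * Y := by
    rw [mul_assoc, (hYc _ D.EK).eq, ← mul_assoc, D.EE]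
  obtain ⟨r, hr, hr'⟩ := D.gam_spec hYK
  rw [hdiag] at hr'
  have hc : D.gam Y = 0 := by
    have h1 : ∀ i : ℕ, ∃ s, D.E * Y ^ i = D.gam Y ^ i • D.E + D.X * s := fun i => by
      induction i with
      | zero => exact ⟨0, by simp⟩
      | succ i ih =>
        obtain ⟨s, hs⟩ := ih
        refine ⟨s * Y + D.gam Y ^ i • r, ?_⟩
        rw [pow_succ Y, ← mul_assoc, hs, add_mul, smul_mul_assoc, hr', smul_add, smul_smul,
          ← pow_succ, mul_assoc D.X s Y, mul_add, mul_smul_comm]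
        abel
    obtain ⟨s, hs⟩ := h1 D.q
    rw [hYq, mul_zero] at hs
    exact pow_eq_zero_iff (by have := D.two_le; omega) |>.1 (D.eq_zero_of_smul hs.symm)
  rw [hc, zero_smul, zero_add] at hr'
  refine ⟨∑ l, D.Pm l * r * D.Qm l,
    Supp.sum fun l _ => ((D.PK l).mul hr).mul (D.QK l), ?_⟩
  rw [Finset.mul_sum]
  conv_lhs => rw [← hbY, ← D.hsum, Finset.sum_mul]
  refine Finset.sum_congr rfl fun l _ => ?_
  calc D.Pm l * D.Qm l * Y = D.Pm l * (D.E * Y) * D.Qm l := by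
        rw [← mul_assoc (D.Pm l) D.E Y, D.hPE, mul_assoc (D.Pm l) (D.Qm l) Y,
          mul_assoc (D.Pm l) Y, (hYc _ (D.QK l)).eq]
    _ = D.X * (D.Pm l * r * D.Qm l) := by
        rw [hr', ← mul_assoc (D.Pm l) D.X r, ← (D.Xc _ (D.PK l)).eq]
        simp only [mul_assoc]

theorem mul_X_swap {g : G} (hg : g ∈ H) (hgb : Commute (g1 hM g) D.b) :
    ∃ r, Supp hM K r ∧ g1 hM g * D.X = D.X * r * g1 hM g := by
  obtain ⟨r, hr, h⟩ := D.conj_X hg hgb
  refine ⟨r, hr, ?_⟩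
  rw [← h, mul_assoc, g1_mul, inv_mul_cancel, g1_one, mul_one]

theorem commute_b_inv {g : G} (hgb : Commute (g1 hM g) D.b) : Commute (g1 hM g⁻¹) D.b := by
  show _ * _ = _ * _
  conv_rhs => rw [← one_mul D.b, ← g1_one hM, ← inv_mul_cancel g, ← g1_mul, mul_assoc _ (g1 hM g),
    hgb.eq]
  rw [mul_assoc (g1 hM g⁻¹), mul_assoc D.b, g1_mul, mul_inv_cancel, g1_one, mul_one]

theorem tpow_b (i : ℕ) : Commute (g1 hM (D.t ^ i)) D.b := g1_pow hM D.t i ▸ D.tb.pow_left i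

theorem mul_X_pow_swap {g : G} (hg : g ∈ H) (hgb : Commute (g1 hM g) D.b) (i : ℕ) :
    ∃ r, Supp hM K r ∧ g1 hM g * D.X ^ i = D.X ^ i * r * g1 hM g := by
  induction i with
  | zero => exact ⟨1, supp_one, by simp⟩
  | succ i ih =>
    obtain ⟨r, hr, h⟩ := ih
    obtain ⟨r', hr', h'⟩ := D.mul_X_swap hg hgb
    refine ⟨r * r', hr.mul hr', ?_⟩
    rw [pow_succ, ← mul_assoc, h, mul_assoc (D.X ^ i * r), h', ← mul_assoc (D.X ^ i * r),
      ← mul_assoc (D.X ^ i * r) D.X, mul_assoc (D.X ^ i) r D.X, ← (D.Xc r hr).eq, ← mul_assoc]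
    simp only [mul_assoc]

/-! ### The twisted operator -/

/-- `x` and `y` agree on every kernel of `X`. -/
def Cong (x y : RA hM G) : Prop := ∃ r, x - y = r * D.X

theorem Cong.refl (x : RA hM G) : D.Cong x x := ⟨0, by simp⟩

theorem Cong.trans {x y w : RA hM G} (h : D.Cong x y) (h' : D.Cong y w) : D.Cong x w := by
  obtain ⟨r, hr⟩ := h
  obtain ⟨r', hr'⟩ := h'
  exact ⟨r + r', by rw [add_mul, ← hr, ← hr']; abel⟩

theorem Cong.symm {x y : RA hM G} (h : D.Cong x y) : D.Cong y x := by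
  obtain ⟨r, hr⟩ := h
  exact ⟨-r, by rw [neg_mul, ← hr, neg_sub]⟩

theorem Cong.mul_left {x y : RA hM G} (h : D.Cong x y) (w : RA hM G) : D.Cong (w * x) (w * y) := by
  obtain ⟨r, hr⟩ := h
  exact ⟨w * r, by rw [← mul_sub, hr, mul_assoc]⟩

theorem Cong.mul_right {x y w : RA hM G} (h : D.Cong x y) (hw : Supp hM K w) :
    D.Cong (x * w) (y * w) := by
  obtain ⟨r, hr⟩ := h
  exact ⟨r * w, by rw [← sub_mul, hr, mul_assoc, (D.Xc w hw).eq, mul_assoc]⟩

theorem Cong.sum {ι : Type*} {s : Finset ι} {f f' : ι → RA hM G}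
    (h : ∀ i ∈ s, D.Cong (f i) (f' i)) : D.Cong (∑ i ∈ s, f i) (∑ i ∈ s, f' i) := by
  refine ⟨∑ i ∈ s.attach, (h i.1 i.2).choose, ?_⟩
  rw [← Finset.sum_sub_distrib, Finset.sum_mul, ← Finset.sum_attach]
  exact Finset.sum_congr rfl fun i _ => (h i.1 i.2).choose_spec

theorem cong_gam {w : RA hM G} (hw : Supp hM K w) :
    D.Cong (D.E * w * D.E) (D.gam w • D.E) := by
  obtain ⟨r, hr, h⟩ := D.gam_spec hw
  exact ⟨r, by rw [h, add_sub_cancel_left, (D.Xc r hr).eq]⟩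

theorem corner_mat {w : RA hM G} (hw : Supp hM K w) (j l : Fin D.m) :
    D.Cong (D.Qm j * w * D.Pm l) (D.gam (D.Qm j * w * D.Pm l) • D.E) := by
  have h := D.cong_gam ((D.QK j).mul hw |>.mul (D.PK l))
  rwa [← mul_assoc, ← mul_assoc, D.hEQ, mul_assoc (D.Qm j * w) (D.Pm l), D.hPE] at h

/-- Conjugation by `t`. -/
noncomputable def cj (w : RA hM G) : RA hM G := g1 hM D.t * w * g1 hM D.t⁻¹

theorem cjK {w : RA hM G} (hw : Supp hM K w) : Supp hM K (D.cj w) :=
  hw.conj fun g hg => D.hHn _ D.tH g hg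

theorem cj_mul (x y : RA hM G) : D.cj (x * y) = D.cj x * D.cj y := conj_mul D.t x y

theorem cj_add (x y : RA hM G) : D.cj (x + y) = D.cj x + D.cj y := by
  rw [cj, cj, cj, mul_add, add_mul]

theorem cj_smul (a : Residue hM) (x : RA hM G) : D.cj (a • x) = a • D.cj x := by
  rw [cj, cj, mul_smul_comm, smul_mul_assoc]

theorem cj_zero : D.cj 0 = 0 := by rw [cj, mul_zero, zero_mul]

theorem cj_sum {ι : Type*} (s : Finset ι) (f : ι → RA hM G) :
    D.cj (∑ i ∈ s, f i) = ∑ i ∈ s, D.cj (f i) := by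
  simp only [cj]
  rw [Finset.mul_sum, Finset.sum_mul]

theorem cj_b : D.cj D.b = D.b := by
  rw [cj, D.tb.eq, mul_assoc, g1_mul, mul_inv_cancel, g1_one, mul_one]

theorem g1t_mul (x : RA hM G) : g1 hM D.t * x = D.cj x * g1 hM D.t := by
  rw [cj, mul_assoc, g1_mul, inv_mul_cancel, g1_one, mul_one]

theorem tinv_mul_cj (x : RA hM G) : g1 hM D.t⁻¹ * D.cj x = x * g1 hM D.t⁻¹ := by
  rw [cj, ← mul_assoc, ← mul_assoc, g1_mul, inv_mul_cancel, g1_one, one_mul]

theorem exists_primitive_pair : ∃ j l, D.gam (D.Qm j * D.cj D.E * D.Pm l) ≠ 0 := by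
  by_contra hno
  push Not at hno
  have h1 : D.Cong (D.cj D.E) 0 := by
    have h2 : D.b * D.cj D.E * D.b
        = ∑ j, ∑ l, D.Pm j * (D.Qm j * D.cj D.E * D.Pm l) * D.Qm l := by
      rw [← D.hsum, Finset.sum_mul, Finset.sum_mul]
      refine Finset.sum_congr rfl fun j _ => ?_
      rw [Finset.mul_sum]
      exact Finset.sum_congr rfl fun l _ => by simp only [mul_assoc]
    have h3 : D.b * D.cj D.E * D.b = D.cj D.E := by
      rw [(D.bc _ (D.cjK D.EK)).eq, mul_assoc, D.bb, ← (D.bc _ (D.cjK D.EK)).eq, ← D.cj_b, ← D.cj_mul, D.bE]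
    rw [← h3, h2, ← (Finset.sum_eq_zero fun j _ => Finset.sum_eq_zero fun l _ => rfl :
      ∑ j : Fin D.m, ∑ l : Fin D.m, (0 : RA hM G) = 0)]
    refine Cong.sum D fun j _ => Cong.sum D fun l _ => ?_
    have h4 := D.corner_mat (D.cjK D.EK) j l
    rw [hno j l, zero_smul] at h4
    have h5 := (Cong.mul_left D h4 (D.Pm j)).mul_right D (D.QK l)
    rwa [mul_zero, zero_mul] at h5
  obtain ⟨r, hr⟩ := h1
  rw [sub_zero] at hr
  have h6 : D.cj D.E * D.X ^ (D.q - 1) = 0 := by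
    rw [hr, mul_assoc, ← pow_succ', D.qsucc, D.Xq, mul_zero]
  obtain ⟨s, hsK', hs⟩ := D.mul_X_pow_swap D.tH D.tb (D.q - 1)
  refine D.ne ?_
  have h7 : g1 hM D.t * (D.X ^ (D.q - 1) * D.E) = 0 := by
    rw [← mul_assoc, hs, mul_assoc _ (g1 hM D.t) D.E,
      show g1 hM D.t * D.E = D.cj D.E * g1 hM D.t by
        show _ = _ * _ * _ * _
        rw [mul_assoc, g1_mul, inv_mul_cancel, g1_one, mul_one], ← mul_assoc,
      mul_assoc (D.X ^ (D.q - 1)) s (D.cj D.E),
      show D.X ^ (D.q - 1) * (s * D.cj D.E) = D.X ^ (D.q - 1) * s * D.cj D.E from (mul_assoc _ _ _).symm,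
      show D.X ^ (D.q - 1) * s * D.cj D.E = s * (D.cj D.E * D.X ^ (D.q - 1)) by
        rw [(D.Xpow_c hsK' _).eq, mul_assoc, (D.Xpow_c (D.cjK D.EK) _).eq], h6, mul_zero,
      zero_mul]
  rw [← one_mul (D.X ^ (D.q - 1) * D.E), ← g1_one hM, ← inv_mul_cancel D.t, ← g1_mul, mul_assoc,
    h7, mul_zero]

/-- An element of `K` intertwining `b` with its conjugate. -/
theorem exists_intertwiner : ∃ s, Supp hM K s ∧ D.b * s = s ∧
    (∀ w, Supp hM K w → D.Cong (D.cj w * s) (s * w)) ∧ ∃ s', D.Cong (s' * s) D.b := by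
  obtain ⟨j', l₀, hγ⟩ := D.exists_primitive_pair
  obtain ⟨rX, hrX, hcX⟩ := D.conj_X D.tH D.tb
  set u := D.cj D.E * D.Pm l₀ with hu
  have huK : Supp hM K u := (D.cjK D.EK).mul (D.PK l₀)
  have hcEu : D.cj D.E * u = u := by rw [hu, ← mul_assoc, ← D.cj_mul, D.EE]
  have huE : u * D.E = u := by rw [hu, mul_assoc, D.hPE]
  set s := ∑ l, D.cj (D.Pm l) * u * D.Qm l with hs
  have hsK : Supp hM K s := Supp.sum fun l _ => ((D.cjK (D.PK l)).mul huK).mul (D.QK l)
  have hint : ∀ w, Supp hM K w → D.Cong (D.cj w * s) (s * w) := by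
    intro w hw
    have hl : D.cj w * s = ∑ l, ∑ j, D.cj (D.Pm j) * (D.cj (D.Qm j * w * D.Pm l) * u) * D.Qm l := by
      rw [hs, Finset.mul_sum]
      refine Finset.sum_congr rfl fun l _ => ?_
      have h1 : w * D.Pm l = ∑ j, D.Pm j * (D.Qm j * w * D.Pm l) := by
        conv_lhs => rw [← D.bP l, ← mul_assoc, ← (D.bc w hw).eq, ← D.hsum, Finset.sum_mul,
          Finset.sum_mul]
        exact Finset.sum_congr rfl fun j _ => by simp only [mul_assoc]
      rw [← mul_assoc, ← mul_assoc, ← D.cj_mul, h1]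
      have h2 : D.cj (∑ j, D.Pm j * (D.Qm j * w * D.Pm l))
          = ∑ j, D.cj (D.Pm j) * D.cj (D.Qm j * w * D.Pm l) := by
        rw [D.cj_sum]
        exact Finset.sum_congr rfl fun j _ => D.cj_mul _ _
      rw [h2, Finset.sum_mul, Finset.sum_mul]
      exact Finset.sum_congr rfl fun j _ => by simp only [mul_assoc]
    have hr : s * w = ∑ l, ∑ j, D.cj (D.Pm j) * (u * (D.Qm j * w * D.Pm l)) * D.Qm l := by
      rw [hs, Finset.sum_mul, Finset.sum_comm]
      refine Finset.sum_congr rfl fun j _ => ?_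
      have h1 : D.Qm j * w = ∑ l, D.Qm j * w * D.Pm l * D.Qm l := by
        conv_lhs => rw [← D.Qb j, mul_assoc, (D.bc w hw).eq, ← D.hsum, Finset.mul_sum,
          Finset.mul_sum]
        exact Finset.sum_congr rfl fun l _ => by simp only [mul_assoc]
      rw [mul_assoc _ (D.Qm j) w]
      conv_lhs => rw [h1]
      rw [Finset.mul_sum]
      exact Finset.sum_congr rfl fun l _ => by simp only [mul_assoc]
    rw [hl, hr]
    refine Cong.sum D fun l _ => Cong.sum D fun j _ => ?_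
    refine Cong.mul_right D (Cong.mul_left D ?_ _) (D.QK l)
    have hK := (D.QK j).mul hw |>.mul (D.PK l)
    obtain ⟨r, hr, hwv⟩ := D.gam_spec hK
    rw [← mul_assoc, ← mul_assoc, D.hEQ, mul_assoc (D.Qm j * w) (D.Pm l), D.hPE] at hwv
    refine ⟨rX * D.cj r * u - u * r, ?_⟩
    generalize D.gam (D.Qm j * w * D.Pm l) = γ at hwv
    rw [hwv, D.cj_add, D.cj_smul, D.cj_mul, show D.cj D.X = D.X * rX from hcX, add_mul,
      smul_mul_assoc, hcEu, sub_mul, mul_add, mul_smul_comm, huE, add_sub_add_left_eq_sub]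
    congr 1
    · rw [mul_assoc D.X rX, mul_assoc D.X]
      exact (D.Xc _ ((hrX.mul (D.cjK hr)).mul huK)).eq
    · rw [(D.Xc r hr).eq]
      exact (mul_assoc _ _ _).symm
  set γ₀ := D.gam (D.Qm j' * D.cj D.E * D.Pm l₀) with hγ₀
  set s' := ∑ j, D.Pm j * (γ₀⁻¹ • (D.Qm j' * D.cj D.E)) * D.cj (D.Qm j) with hs'
  have hs's : D.Cong (s' * s) D.b := by
    have h1 : s' * s = ∑ j, γ₀⁻¹ • (D.Pm j * (D.Qm j' * u) * D.Qm j) := by
      rw [hs', hs, Finset.sum_mul]
      refine Finset.sum_congr rfl fun j _ => ?_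
      rw [Finset.mul_sum, Finset.sum_eq_single j (fun l _ hl => ?_) (by simp)]
      · rw [mul_smul_comm, smul_mul_assoc, smul_mul_assoc, show D.Qm j' * u = D.Qm j' * D.cj D.E * (D.cj D.E * u) by
          rw [mul_assoc, hcEu, hcEu]]
        congr 1
        rw [show D.cj D.E * u = D.cj (D.Qm j * D.Pm j) * u by rw [D.hQP, if_pos rfl], D.cj_mul]
        simp only [mul_assoc]
      · rw [← mul_assoc, ← mul_assoc, mul_assoc _ (D.cj (D.Qm j)) (D.cj (D.Pm l)), ← D.cj_mul, D.hQP,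
          if_neg (Ne.symm hl), D.cj_zero]
        simp
    rw [h1, ← D.hsum]
    refine Cong.sum D fun j _ => ?_
    have h2 := D.corner_mat (D.cjK D.EK) j' l₀
    rw [mul_assoc, ← hu] at h2
    obtain ⟨r, hr⟩ := (Cong.mul_left D h2 (D.Pm j)).mul_right D (D.QK j)
    refine ⟨γ₀⁻¹ • r, ?_⟩
    rw [show D.gam (D.Qm j' * u) = γ₀ by rw [hγ₀, hu, mul_assoc], mul_smul_comm, smul_mul_assoc,
      D.hPE] at hr
    rw [smul_mul_assoc, ← hr, smul_sub, smul_smul, inv_mul_cancel₀ hγ, one_smul]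
  have hbs : D.b * s = s := by
    rw [hs, Finset.mul_sum]
    exact Finset.sum_congr rfl fun l _ => by rw [← mul_assoc, ← mul_assoc, ← D.cj_b, ← D.cj_mul, D.bP]
  exact ⟨s, hsK, hbs, hint, s', hs's⟩

theorem exists_tau [Fact p.Prime] : ∃ τ : RA hM G,
    (∀ i : ℕ, ∃ S, Supp hM K S ∧ τ ^ i = g1 hM (D.t⁻¹ ^ i) * S) ∧ D.b * τ = τ ∧
    (∀ w, Supp hM K w → D.Cong (τ * w) (w * τ)) ∧ D.Cong (τ ^ D.n) D.b ∧
    (∃ r, D.X * τ = r * D.X) ∧ (∀ i : ℕ, ∃ r, τ * D.X ^ i = D.X ^ i * r) := by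
  haveI : IsAlgClosed (Residue hM) := isAlgClosed_residue hM
  obtain ⟨rX, hrX, hcX⟩ := D.conj_X D.tH D.tb
  obtain ⟨s, hsK, hbs, hint, s', hs's⟩ := D.exists_intertwiner
  obtain ⟨τ0, hτ0⟩ : ∃ x, x = g1 hM D.t⁻¹ * s := ⟨_, rfl⟩
  have htb' : Commute (g1 hM D.t⁻¹) D.b := D.commute_b_inv D.tb
  have hbτ : D.b * τ0 = τ0 := by rw [hτ0, ← mul_assoc, ← htb'.eq, mul_assoc, hbs]
  have hcom0 : ∀ w, Supp hM K w → D.Cong (τ0 * w) (w * τ0) := fun w hw => by
    have h1 : w * τ0 = g1 hM D.t⁻¹ * (D.cj w * s) := by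
      rw [← mul_assoc (g1 hM D.t⁻¹), D.tinv_mul_cj, hτ0, mul_assoc]
    rw [h1, hτ0, mul_assoc]
    exact Cong.mul_left D (Cong.symm D (hint w hw)) _
  have hpowK : ∀ i : ℕ, ∃ S, Supp hM K S ∧ τ0 ^ i = g1 hM (D.t⁻¹ ^ i) * S := fun i => by
    induction i with
    | zero => exact ⟨1, supp_one, by rw [pow_zero, pow_zero, g1_one, mul_one]⟩
    | succ i ih =>
      obtain ⟨S, hS, hi⟩ := ih
      refine ⟨g1 hM D.t * S * g1 hM D.t⁻¹ * s, (D.cjK hS).mul hsK, ?_⟩
      rw [pow_succ, hi, hτ0, pow_succ, ← g1_mul]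
      simp only [← mul_assoc]
      rw [mul_assoc _ (g1 hM D.t⁻¹) (g1 hM D.t), g1_mul hM D.t⁻¹, inv_mul_cancel, g1_one, mul_one]
  obtain ⟨S, hS, hωn⟩ := hpowK D.n
  have hωK : Supp hM K (τ0 ^ D.n) := by
    rw [hωn]
    exact (supp_g1 (by rw [inv_pow]; exact K.inv_mem D.tn)).mul hS
  have hmr : ∀ {x y : RA hM G}, D.Cong x y → D.Cong (x * τ0) (y * τ0) := fun {x y} h => by
    obtain ⟨r, hr⟩ := h
    refine ⟨r * (g1 hM D.t⁻¹ * (rX * s)), ?_⟩
    have h1 : D.X * g1 hM D.t⁻¹ = g1 hM D.t⁻¹ * D.cj D.X := (D.tinv_mul_cj _).symm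
    rw [← sub_mul, hr, hτ0, mul_assoc r, ← mul_assoc D.X, h1, show D.cj D.X = D.X * rX from hcX]
    simp only [mul_assoc]
    rw [(D.Xc _ (hrX.mul hsK)).eq, mul_assoc]
  have hωc : ∀ i, ∀ w, Supp hM K w → D.Cong (τ0 ^ i * w) (w * τ0 ^ i) := fun i => by
    induction i with
    | zero => intro w _; rw [pow_zero, one_mul, mul_one]; exact Cong.refl D w
    | succ i ih =>
      intro w hw
      rw [pow_succ, mul_assoc]
      refine Cong.trans D (Cong.mul_left D (hcom0 w hw) _) ?_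
      rw [← mul_assoc, ← mul_assoc]
      exact hmr (ih w hw)
  obtain ⟨a₀⟩ : Nonempty (Fin D.m) := by
    by_contra h0
    haveI := not_nonempty_iff.1 h0
    refine D.ne ?_
    rw [← D.bE, ← D.hsum, Finset.univ_eq_empty, Finset.sum_empty, zero_mul, mul_zero]
  set ω := τ0 ^ D.n with hω
  have hbω : D.b * ω = ω := by
    rw [hω, ← Nat.succ_pred_eq_of_pos D.npos, pow_succ', ← mul_assoc, hbτ]
  set c₀ := D.gam (D.Qm a₀ * ω * D.Pm a₀) with hc₀
  have hscal : D.Cong ω (c₀ • D.b) := by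
    have hd : ∀ j a l : Fin D.m, D.gam (D.Qm j * ω * D.Pm a)
        = if j = a then D.gam (D.Qm l * ω * D.Pm l) else 0 := fun j a l => by
      obtain ⟨r₁, h₁⟩ := D.corner_mat hωK j a
      obtain ⟨r₂, h₂⟩ := D.corner_mat hωK l l
      have h3 := (Cong.mul_left D (hωc D.n (D.Pm a * D.Qm l) (D.PQK a l)) (D.Qm j)).mul_right D (D.PK l)
      rw [show D.Qm j * (ω * (D.Pm a * D.Qm l)) * D.Pm l
          = (D.Qm j * ω * D.Pm a) * (D.Qm l * D.Pm l) by simp only [mul_assoc],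
        show D.Qm j * (D.Pm a * D.Qm l * ω) * D.Pm l
          = (D.Qm j * D.Pm a) * (D.Qm l * ω * D.Pm l) by simp only [mul_assoc],
        D.hQP, D.hQP, if_pos rfl, mul_assoc (D.Qm j * ω), D.hPE] at h3
      have h4 : D.Cong (D.gam (D.Qm j * ω * D.Pm a) • D.E)
          ((if j = a then D.gam (D.Qm l * ω * D.Pm l) else 0) • D.E) := by
        refine Cong.trans D (Cong.symm D (D.corner_mat hωK j a)) (Cong.trans D h3 ?_)
        split
        · rw [← mul_assoc, ← mul_assoc, D.hEQ]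
          exact D.corner_mat hωK l l
        · rw [zero_mul, zero_smul]
          exact Cong.refl D 0
      obtain ⟨r, hr⟩ := h4
      rw [← sub_smul] at hr
      refine sub_eq_zero.1 (by_contra fun hne => D.ne ?_)
      have h5 := congrArg (· * D.X ^ (D.q - 1)) hr
      simp only [smul_mul_assoc] at h5
      rw [mul_assoc r, ← pow_succ', D.qsucc, D.Xq, mul_zero, ← (D.Xpow_c D.EK _).eq] at h5
      exact (smul_eq_zero.1 h5).resolve_left hne
    have h1 : ω = ∑ j, ∑ l, D.Pm j * (D.Qm j * ω * D.Pm l) * D.Qm l := by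
      conv_lhs => rw [← hbω, ← D.bb, mul_assoc, (D.bc ω hωK).eq, ← D.hsum, Finset.sum_mul]
      refine Finset.sum_congr rfl fun j _ => ?_
      rw [Finset.mul_sum, Finset.mul_sum]
      exact Finset.sum_congr rfl fun l _ => by simp only [mul_assoc]
    have h2 : c₀ • D.b = ∑ j, ∑ l, D.Pm j * (D.gam (D.Qm j * ω * D.Pm l) • D.E) * D.Qm l := by
      rw [← D.hsum, Finset.smul_sum]
      refine Finset.sum_congr rfl fun j _ => ?_
      rw [Finset.sum_eq_single j (fun l _ hl => by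
        rw [hd j l a₀, if_neg (Ne.symm hl), zero_smul, mul_zero, zero_mul]) (by simp), hd j j a₀,
        if_pos rfl, mul_smul_comm, D.hPE, smul_mul_assoc]
    rw [h1, h2]
    exact Cong.sum D fun j _ => Cong.sum D fun l _ =>
      Cong.mul_right D (Cong.mul_left D (D.corner_mat hωK j l) _) (D.QK l)
  set w₀ := s' * g1 hM D.t with hw₀
  have hleft : ∀ i : ℕ, D.Cong (w₀ ^ (i + 1) * τ0 ^ (i + 1)) D.b := fun i => by
    have hone : D.Cong (w₀ * τ0) D.b := by
      rw [hw₀, hτ0, mul_assoc, ← mul_assoc (g1 hM D.t), g1_mul, mul_inv_cancel, g1_one, one_mul]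
      exact hs's
    induction i with
    | zero => simpa using hone
    | succ i ih =>
      rw [pow_succ' w₀, pow_succ τ0 (i + 1),
        show w₀ * w₀ ^ (i + 1) * (τ0 ^ (i + 1) * τ0) = w₀ * (w₀ ^ (i + 1) * τ0 ^ (i + 1)) * τ0 by
          simp only [mul_assoc]]
      refine Cong.trans D (hmr (Cong.mul_left D ih _)) ?_
      rwa [mul_assoc, hbτ]
  have hc₀0 : c₀ ≠ 0 := fun h0 => by
    have h1 := hleft (D.n - 1)
    rw [Nat.sub_add_cancel D.npos, ← hω] at h1
    rw [h0, zero_smul] at hscal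
    obtain ⟨r, hr⟩ := Cong.trans D (Cong.symm D h1) (Cong.mul_left D hscal _)
    rw [mul_zero, sub_zero] at hr
    refine D.ne ?_
    rw [← D.bXpow, hr, mul_assoc r, ← pow_succ', D.qsucc, D.Xq, mul_zero, zero_mul]
  obtain ⟨μ, hμ⟩ := IsAlgClosed.exists_pow_nat_eq c₀⁻¹ D.npos
  refine ⟨μ • τ0, fun i => ?_, by rw [mul_smul_comm, hbτ], fun w hw => ?_, ?_, ?_, ?_⟩
  · obtain ⟨S, hS, hi⟩ := hpowK i
    exact ⟨μ ^ i • S, hS.smul _, by rw [smul_pow, hi, mul_smul_comm]⟩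
  · obtain ⟨r, hr⟩ := hcom0 w hw
    exact ⟨μ • r, by rw [smul_mul_assoc, mul_smul_comm, ← smul_sub, hr, smul_mul_assoc]⟩
  · obtain ⟨r, hr⟩ := hscal
    refine ⟨μ ^ D.n • r, ?_⟩
    rw [smul_pow, smul_mul_assoc, ← hr, smul_sub, smul_smul, hμ, inv_mul_cancel₀ hc₀0, one_smul, hω]
  · refine ⟨μ • (g1 hM D.t⁻¹ * (rX * s)), ?_⟩
    have h1 : D.X * g1 hM D.t⁻¹ = g1 hM D.t⁻¹ * D.cj D.X := (D.tinv_mul_cj _).symm
    rw [mul_smul_comm, hτ0, ← mul_assoc D.X, h1, show D.cj D.X = D.X * rX from hcX, smul_mul_assoc]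
    congr 1
    simp only [mul_assoc]
    rw [(D.Xc _ (hrX.mul hsK)).eq, mul_assoc]
  · intro i
    obtain ⟨r, hr, h⟩ := D.mul_X_pow_swap (g := D.t⁻¹) (H.inv_mem D.tH) htb' i
    refine ⟨μ • (r * τ0), ?_⟩
    rw [smul_mul_assoc, mul_smul_comm, hτ0, mul_assoc, ← (D.Xpow_c hsK _).eq, ← mul_assoc, h]
    simp only [mul_assoc]

end Loc

end CfsgLib.Blocks.CyclicStable
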