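import Cfsg.Agent.Lib.Blocks.CyclicData

/-!
# The cyclic defect data for a block of the centralizer inducing the block
-/

set_option autoImplicit false

namespace CfsgLib.Blocks.CyclicDecomp

open Cfsg CfsgLib.Blocks CfsgLib.BrauerPairs CfsgLib.BrouePuig
open scoped Classical

universe u

variable {G : Type u} [Group G] [Fintype G] {p : ℕ} [Fact p.Prime] {M : Ideal AlgInt}

/-- The stabilizer described by conjugate characters is the stabilizer of the pair. -/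
theorem eq_pairStab {D T : Subgroup G} {b : Set (IrrCharacter (Subgroup.centralizer (D : Set G)))}
    (hT : ∀ g : G, g ∈ T ↔ (g ∈ Subgroup.normalizer (D : Set G) ∧
      ∀ θ ∈ b, ∀ θ' : IrrCharacter (Subgroup.centralizer (D : Set G)),
        (∀ h h' : Subgroup.centralizer (D : Set G), (h' : G) = g * h * g⁻¹ →
          (θ' : Subgroup.centralizer (D : Set G) → ℂ) h'
            = (θ : Subgroup.centralizer (D : Set G) → ℂ) h) → θ' ∈ b)) :
    T = pairStab D b := by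
  ext g
  rw [hT, mem_pairStab]
  refine and_congr_right fun hg => ?_
  have hgC : g ∈ Subgroup.normalizer (Subgroup.centralizer (D : Set G) : Set G) :=
    normalizer_le_normalizer_centralizer D hg
  have hiff := mem_iff_of_normalizer (Subgroup.inv_mem _ hgC)
  constructor
  · intro h
    refine ⟨hgC, fun θ hθ => ⟨irrEquiv (conjIso g⁻¹ hiff) θ, h θ hθ _ ?_, ?_⟩⟩ <;>
    · intro k k' hk
      rw [irrEquiv_apply]
      refine congrArg (θ : Subgroup.centralizer (D : Set G) → ℂ) (Subtype.ext ?_)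
      show g⁻¹ * (k' : G) * g⁻¹⁻¹ = k
      rw [hk]; group
  · rintro ⟨-, h⟩ θ hθ θ' hθ'
    obtain ⟨θ'', hθ'', hconj⟩ := h θ hθ
    have : θ' = θ'' := Subtype.ext (funext fun k' => by
      have hmem : g⁻¹ * (k' : G) * g⁻¹⁻¹ ∈ Subgroup.centralizer (D : Set G) := (hiff _).2 k'.2
      rw [hθ' ⟨_, hmem⟩ k' (by show (k' : G) = g * (g⁻¹ * k' * g⁻¹⁻¹) * g⁻¹; group),
        hconj ⟨_, hmem⟩ k' (by show (k' : G) = g * (g⁻¹ * k' * g⁻¹⁻¹) * g⁻¹; group)])
    exact this ▸ hθ''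

/-- The statement of the cyclic defect theorem. -/
theorem cyclic_defect (hM : IsPModular p M) {D : Subgroup G} (hD : IsCyclic D) {a : ℕ} (ha : 1 ≤ a)
    (hDa : Nat.card D = p ^ a) {B : Set (IrrCharacter G)} (hBD : IsDefectGroup p M B D)
    {b : Set (IrrCharacter (Subgroup.centralizer (D : Set G)))}
    (hind : IsInducedBlock M (Subgroup.centralizer (D : Set G)) b B) {T : Subgroup G}
    (hT : ∀ g : G, g ∈ T ↔ (g ∈ Subgroup.normalizer (D : Set G) ∧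
      ∀ θ ∈ b, ∀ θ' : IrrCharacter (Subgroup.centralizer (D : Set G)),
        (∀ h h' : Subgroup.centralizer (D : Set G), (h' : G) = g * h * g⁻¹ →
          (θ' : Subgroup.centralizer (D : Set G) → ℂ) h'
            = (θ : Subgroup.centralizer (D : Set G) → ℂ) h) → θ' ∈ b))
    {e : ℕ} (he : (Subgroup.centralizer (D : Set G)).relIndex T = e) :
    blockRank p B = e ∧ e ∣ p - 1 ∧ (∀ χ ∈ B, blockHeight p B (χ : G → ℂ) = 0) ∧
      ∃ X Y : Set (IrrCharacter G), B = X ∪ Y ∧ Disjoint X Y ∧ Nat.card X = e ∧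
        Nat.card Y = (p ^ a - 1) / e ∧
        (∀ ψ ∈ Y, ∀ ψ' ∈ Y, ∀ g : G, ¬ p ∣ orderOf g → (ψ : G → ℂ) g = (ψ' : G → ℂ) g) ∧
        ∃ (δ : IrrCharacter G → ℤ) (δ₀ : ℤ), (∀ χ ∈ X, δ χ = 1 ∨ δ χ = -1) ∧ (δ₀ = 1 ∨ δ₀ = -1) ∧
          (∀ ψ ∈ Y, ∀ g : G, ¬ p ∣ orderOf g →
            (δ₀ : ℂ) * (ψ : G → ℂ) g + ∑ᶠ χ ∈ X, (δ χ : ℂ) * (χ : G → ℂ) g = 0) ∧
          (∀ χ ∈ X, ∀ χ' ∈ X, δ χ * (charDegree (χ : G → ℂ) : ℤ)
            ≡ δ χ' * (charDegree (χ' : G → ℂ) : ℤ) [ZMOD (p : ℤ) ^ a]) ∧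
          (∀ ψ ∈ Y, ∀ χ ∈ X, (charDegree (ψ : G → ℂ) : ℤ)
            ≡ -((e : ℤ) * δ₀ * δ χ * (charDegree (χ : G → ℂ) : ℤ)) [ZMOD (p : ℤ) ^ a]) := by
  have hmax := maximal_of_induced hM hBD (IsPGroup.of_card hDa) hind
  have hP1 : D ≠ ⊥ := fun h => by
    rw [h, Subgroup.card_bot] at hDa
    exact (Nat.one_lt_pow (by omega) (Fact.out : p.Prime).one_lt).ne hDa
  rw [eq_pairStab hT] at he
  subst he
  exact main hM hmax hD hP1 hDa

end CfsgLib.Blocks.CyclicDecomp
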