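import Cfsg.Agent.Lib.Blocks.CyclotomicSum

/-!
# Sums of totally positive cyclotomic integers
-/

set_option autoImplicit false

namespace CfsgLib.Blocks

open Polynomial
open scoped ComplexConjugate

/-- `k` nonzero integers of a cyclotomic field that are, up to a positive rational factor `c`, sums
of squared absolute values, and whose total is rational, sum up to at least `k`. -/
theorem card_le_of_sum_pos {ι κ : Type*} [Fintype κ] (s : Finset ι) {ζ : ℂ} {N : ℕ} (hN : 0 < N)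
    (hζ : ζ ^ N = 1) (x : ι → ℂ) (w : ι → κ → ℂ)
    (hx : ∀ i ∈ s, x i ∈ Algebra.adjoin ℤ ({ζ} : Set ℂ))
    (hw : ∀ i ∈ s, ∀ j, w i j ∈ Algebra.adjoin ℤ ({ζ} : Set ℂ))
    {c : ℕ} (hc : 0 < c) (hpos : ∀ i ∈ s, (c : ℂ) * x i = ∑ j, w i j * conj (w i j))
    (h0 : ∀ i ∈ s, x i ≠ 0) {r : ℚ} (hr : ∑ i ∈ s, x i = (r : ℂ)) :
    (s.card : ℚ) ≤ r := by
  classical
  have hζint : IsIntegral ℤ ζ := IsIntegral.of_pow hN (hζ ▸ isIntegral_one)
  haveI : FiniteDimensional ℚ (IntermediateField.adjoin ℚ ({ζ} : Set ℂ)) :=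
    IntermediateField.adjoin.finiteDimensional hζint.tower_top
  set K := IntermediateField.adjoin ℚ ({ζ} : Set ℂ)
  let g : K := ⟨ζ, IntermediateField.mem_adjoin_simple_self ℚ ζ⟩
  have hgN : g ^ N = 1 := Subtype.ext (by simpa [g] using hζ)
  have hrep : ∀ a ∈ Algebra.adjoin ℤ ({ζ} : Set ℂ),
      ∃ P : ℤ[X], ((aeval g P : K) : ℂ) = a := fun a ha => by
    obtain ⟨P, hP⟩ := (Algebra.adjoin_singleton_eq_range_aeval ℤ ζ ▸ ha :)
    exact ⟨P, hP ▸ (Polynomial.aeval_algHom_apply ((K.val).restrictScalars ℤ) g P).symm⟩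
  have hconj : ∀ (σ : K →+* ℂ) (P : ℤ[X]), σ (aeval g⁻¹ P) = conj (σ (aeval g P)) := by
    intro σ P
    have hunit : ‖σ g‖ = 1 :=
      Complex.norm_eq_one_of_pow_eq_one (by rw [← map_pow, hgN, map_one]) hN.ne'
    have hg : σ g⁻¹ = conj (σ g) := by rw [map_inv₀, ← Complex.inv_eq_conj hunit]
    simp only [aeval_def, Polynomial.hom_eval₂, hg]
    congr 1
    exact RingHom.ext_int _ _
  have hP : ∀ i, ∃ P : ℤ[X], i ∈ s → ((aeval g P : K) : ℂ) = x i := fun i => by
    by_cases hi : i ∈ s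
    · obtain ⟨P, hP⟩ := hrep _ (hx i hi)
      exact ⟨P, fun _ => hP⟩
    · exact ⟨0, fun h => absurd h hi⟩
  choose P hP using hP
  have hW : ∀ i j, ∃ Q : ℤ[X], i ∈ s → ((aeval g Q : K) : ℂ) = w i j := fun i j => by
    by_cases hi : i ∈ s
    · obtain ⟨Q, hQ⟩ := hrep _ (hw i hi j)
      exact ⟨Q, fun _ => hQ⟩
    · exact ⟨0, fun h => absurd h hi⟩
  choose W hW using hW
  let z : ι → K := fun i => aeval g (P i)
  have hz0 : ∀ i ∈ s, z i ≠ 0 := fun i hi h => h0 i hi (by rw [← hP i hi]; exact congrArg _ h)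
  have hsq : ∀ i ∈ s, (c : K) * z i = ∑ j, aeval g (W i j) * aeval g⁻¹ (W i j) := by
    intro i hi
    apply (algebraMap K ℂ).injective
    rw [map_mul, map_natCast, map_sum]
    refine Eq.trans ?_ (Eq.trans (hpos i hi) (Finset.sum_congr rfl fun j _ => ?_))
    · exact congrArg ((c : ℂ) * ·) (hP i hi)
    · rw [map_mul, hconj (algebraMap K ℂ), ← hW i j hi]
      rfl
  -- every embedding sends `z i` to a positive real number
  have hreal : ∀ (σ : K →ₐ[ℚ] ℂ), ∀ i ∈ s, ∃ t : ℝ, 0 < t ∧ σ (z i) = (t : ℂ) := by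
    intro σ i hi
    have h := congrArg σ.toRingHom (hsq i hi)
    rw [map_mul, map_natCast, map_sum] at h
    set T : ℝ := ∑ j, Complex.normSq (σ (aeval g (W i j))) with hT
    have h' : (c : ℂ) * σ (z i) = (T : ℂ) := by
      refine h.trans ?_
      rw [hT, Complex.ofReal_sum]
      exact Finset.sum_congr rfl fun j _ => by
        rw [map_mul, hconj σ.toRingHom, Complex.mul_conj]
        rfl
    have hc0 : (c : ℂ) ≠ 0 := Nat.cast_ne_zero.2 hc.ne'
    have he : σ (z i) = ((T / c : ℝ) : ℂ) := by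
      rw [Complex.ofReal_div, Complex.ofReal_natCast, ← h', mul_div_cancel_left₀ _ hc0]
    refine ⟨T / c, lt_of_le_of_ne ?_ fun h0' => hz0 i hi (σ.toRingHom.injective ?_), he⟩
    · exact div_nonneg (Finset.sum_nonneg fun j _ => Complex.normSq_nonneg _) (Nat.cast_nonneg c)
    · rw [map_zero]
      exact he.trans (by rw [← h0', Complex.ofReal_zero])
  choose! t ht0 ht using hreal
  have hrK : ∑ i ∈ s, z i = algebraMap ℚ K r := by
    apply (algebraMap K ℂ).injective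
    rw [map_sum, ← IsScalarTower.algebraMap_apply, eq_ratCast, ← hr]
    exact Finset.sum_congr rfl fun i hi => hP i hi
  have hσ : ∀ σ : K →ₐ[ℚ] ℂ, ∑ i ∈ s, t σ i = (r : ℝ) := by
    intro σ
    apply Complex.ofReal_injective
    have h := congrArg σ hrK
    rw [map_sum, AlgHom.commutes, eq_ratCast] at h
    push_cast
    rw [← h]
    exact Finset.sum_congr rfl fun i hi => (ht σ i hi).symm
  have hnorm : ∀ i ∈ s, 1 ≤ ∏ σ : K →ₐ[ℚ] ℂ, t σ i := by
    intro i hi
    have hint : IsIntegral ℤ (z i) := by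
      have : IsIntegral ℤ ((z i : ℂ)) := by
        rw [hP i hi]
        exact adjoin_le_integralClosure hζint (hx i hi)
      exact (isIntegral_algebraMap_iff (A := K) (B := ℂ) (algebraMap K ℂ).injective).1 this
    obtain ⟨m, hm⟩ := (IsIntegrallyClosed.isIntegral_iff (R := ℤ) (K := ℚ)).1
      (Algebra.isIntegral_norm ℚ hint)
    have h := Algebra.norm_eq_prod_embeddings ℚ ℂ (z i)
    rw [Finset.prod_congr rfl fun σ _ => ht σ i hi, ← hm, ← Complex.ofReal_prod] at h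
    have h2 : (m : ℝ) = ∏ σ : K →ₐ[ℚ] ℂ, t σ i := by
      apply Complex.ofReal_injective
      rw [← h]
      simp
    have hp : 0 < ∏ σ : K →ₐ[ℚ] ℂ, t σ i := Finset.prod_pos fun σ _ => ht0 σ i hi
    rw [← h2] at hp ⊢
    exact_mod_cast hp
  have hcard : ∀ i ∈ s, (Fintype.card (K →ₐ[ℚ] ℂ) : ℝ) ≤ ∑ σ : K →ₐ[ℚ] ℂ, t σ i := fun i hi =>
    card_le_sum_of_one_le_prod Finset.univ _ (fun σ _ => ht0 σ i hi) (hnorm i hi)
  have := Finset.sum_le_sum hcard
  rw [Finset.sum_comm, Finset.sum_congr rfl fun σ _ => hσ σ, Finset.sum_const, Finset.sum_const,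
    nsmul_eq_mul, nsmul_eq_mul, Finset.card_univ, mul_comm] at this
  have hn : (0 : ℝ) < Fintype.card (K →ₐ[ℚ] ℂ) := by
    exact_mod_cast Fintype.card_pos_iff.2 ⟨K.val⟩
  exact_mod_cast le_of_mul_le_mul_left this hn

end CfsgLib.Blocks
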