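import Cfsg.Agent.Lib.Blocks.DefectGroup

/-!
# The centre of a defect group of an induced block
-/

set_option autoImplicit false

namespace CfsgLib.Blocks

open Cfsg
open scoped Classical ComplexConjugate

variable {G : Type*} [Group G] [Fintype G] {p : ℕ} {M : Ideal AlgInt} {B : Set (IrrCharacter G)}

/-- `x` central in a defect group `P` lifts to a unit central character at `x y`. -/
theorem exists_defectClass_mul (hM : IsPModular p M) (hB : IsPBlock M B) {P : Subgroup G}
    (hP : IsDefectGroup p M B P) {x : G} (hx : x ∈ P) (hxc : ∀ w ∈ P, x * w = w * x) :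
    ∃ y : G, IsDefectClass M B y ∧ Commute x y ∧ (∃ k, orderOf x = p ^ k) ∧
      ∀ χ ∈ B, ¬ MemLocalIdeal M (centralChar (χ : G → ℂ) (x * y)) := by
  haveI := Fact.mk hM.1
  obtain ⟨y, hy, S, rfl⟩ := hP
  have hcomm : ∀ u ∈ (S : Subgroup _).map (Subgroup.centralizer ({y} : Set G)).subtype,
      Commute u y := by
    rintro _ ⟨⟨v, hv⟩, -, rfl⟩
    exact Subgroup.mem_centralizer_singleton_iff.1 hv
  have hxy : Commute x y := hcomm x hx
  obtain ⟨k, hk⟩ := (IsPGroup.iff_orderOf.1
    (IsPGroup.map S.isPGroup' (Subgroup.centralizer ({y} : Set G)).subtype)) ⟨x, hx⟩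
  rw [← Subgroup.orderOf_coe] at hk
  refine ⟨y, hy, hxy, ⟨k, hk⟩, fun χ hχ =>
    not_LI_centralChar_mul_defectClass hM hB hy hxy hk ?_ hχ⟩
  have hle : (S : Subgroup _).map (Subgroup.centralizer ({y} : Set G)).subtype
      ≤ Subgroup.centralizer ({x * y} : Set G) := fun u hu => by
    refine Subgroup.mem_centralizer_singleton_iff.2 ?_
    exact (Commute.mul_right (show Commute u x from (hxc u hu).symm) (hcomm u hu)).eq
  have h1 := Subgroup.card_dvd_of_le hle
  rw [Subgroup.card_map_of_injective (Subgroup.subtype_injective _), S.card_eq_multiplicity] at h1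
  exact (hM.1.pow_dvd_iff_le_factorization Nat.card_pos.ne').1 h1

/-- Every element of the centre of a defect group of the induced block is conjugate into the centre
of a defect group of the inducing block. -/
theorem exists_conj_mem_center_of_induced (hM : IsPModular p M) {H : Subgroup G}
    {b : Set (IrrCharacter H)} (h : IsInducedBlock M H b B) {D : Subgroup H}
    (hD : IsDefectGroup p M b D) {P : Subgroup G} (hP : IsDefectGroup p M B P) {x : G}
    (hx : x ∈ P) (hxc : ∀ w ∈ P, x * w = w * x) :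
    ∃ g : G, g * x * g⁻¹ ∈ D.map H.subtype ∧
      ∀ w ∈ D.map H.subtype, (g * x * g⁻¹) * w = w * (g * x * g⁻¹) := by
  obtain ⟨y, hy, hxy, ⟨k, hk⟩, hω⟩ := exists_defectClass_mul hM h.2.1 hP hx hxc
  obtain ⟨ξ, hξ⟩ := IsPBlock.nonempty hM h.1
  obtain ⟨χ, hχ⟩ := IsPBlock.nonempty hM h.2.1
  have h1 : ¬ MemLocalIdeal M (omega (ξ : H → ℂ) fun m : H => classInd (x * y) (m : G)) :=
    fun hI => by
      rw [← inducedCentralChar_eq] at hI
      have := LI.sub hM hI (h.2.2 ξ hξ χ hχ (x * y))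
      rw [sub_sub_cancel] at this
      exact hω χ hχ this
  obtain ⟨l, hl1, hl2⟩ := exists_classInd_of_not_LI hM ξ (classInd_isClassFunction (x * y))
    (classInd_LR hM (x * y)) h1
  obtain ⟨l', hll', hl'D, hpart⟩ := exists_conj_pPart_mem hM h.1 hD hξ hl2
  obtain ⟨g, hg⟩ := isConj_iff.1
    ((isConj_of_not_LI_classInd hM hl1).trans (MonoidHom.map_isConj H.subtype hll'))
  obtain ⟨z, w, hz, he, hc, hw, ⟨j, hj⟩, -, -⟩ := exists_isPPart (G := H) hM.1 l'
  obtain ⟨hzD, hzC⟩ := hpart z hz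
  have hyreg : ¬ p ∣ orderOf y := isPRegular_of_not_LI hM h.2.1 hy.2.1
  have hxp : IsPPart p (H.subtype l') (g * x * g⁻¹) := by
    have h2 := isPPart_conj (isPPart_mul hxy hk hyreg) g
    rwa [hg] at h2
  have hzp : IsPPart p (H.subtype l') (z : G) :=
    ⟨(w : G), congrArg Subtype.val he, congrArg Subtype.val hc.eq,
      ⟨j, by rw [Subgroup.orderOf_coe, hj]⟩, by rwa [Subgroup.orderOf_coe]⟩
  have hzx := isPPart_unique hM.1 hxp hzp
  refine ⟨g, hzx ▸ ⟨z, hzD, rfl⟩, ?_⟩
  rintro _ ⟨u, hu, rfl⟩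
  rw [hzx]
  exact (congrArg Subtype.val (Subgroup.mem_centralizer_iff.1 hzC u hu)).symm

theorem blockDefect_eq_zero_iff_of_induced (hM : IsPModular p M) {H : Subgroup G}
    {b : Set (IrrCharacter H)} (h : IsInducedBlock M H b B) :
    blockDefect p b = 0 ↔ blockDefect p B = 0 := by
  haveI := Fact.mk hM.1
  refine ⟨fun hb => ?_, fun hB => by have := blockDefect_le_of_induced hM h; omega⟩
  obtain ⟨D, hD⟩ := exists_isDefectGroup hM h.1
  obtain ⟨P, hP⟩ := exists_isDefectGroup hM h.2.1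
  by_contra hne
  have hcard := card_defectGroup hM h.2.1 hP
  haveI : Nontrivial P := by
    rw [← Finite.one_lt_card_iff_nontrivial, hcard]
    exact Nat.one_lt_pow hne hM.1.one_lt
  haveI := IsPGroup.center_nontrivial (isPGroup_defectGroup hP)
  obtain ⟨x, hx⟩ := exists_ne (1 : Subgroup.center P)
  obtain ⟨g, hg, -⟩ := exists_conj_mem_center_of_induced hM h hD hP (x : P).2
    (fun w hw => congrArg Subtype.val (Subgroup.mem_center_iff.1 x.2 ⟨w, hw⟩).symm)
  have hDbot : D = ⊥ := Subgroup.card_eq_one.1 (by rw [card_defectGroup hM h.1 hD, hb, pow_zero])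
  rw [hDbot, Subgroup.map_bot, Subgroup.mem_bot, conj_eq_one_iff] at hg
  exact hx (Subtype.ext (Subtype.ext hg))

end CfsgLib.Blocks
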