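import Cfsg.Agent.Lib.Blocks.Defect2
import Cfsg.Agent.Lib.Blocks.Local
import Cfsg.Agent.Lib.Blocks.Section
import Cfsg.Agent.Lib.Blocks.SectionGram
import Cfsg.Agent.Lib.Blocks.InducedBlock
import Cfsg.Agent.Lib.Blocks.ResidueAlgebra
import Mathlib.LinearAlgebra.Matrix.Rank
import Mathlib.RingTheory.Ideal.Quotient.Basic
import Mathlib.LinearAlgebra.Matrix.ToLin

/-!
# Counting blocks with a given normal defect group as the rank of a class matrix
-/

set_option autoImplicit false
set_option maxHeartbeats 1000000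

namespace CfsgLib.Blocks

open Cfsg CfsgLib.Blocks.ResidueAlgebra
open scoped Classical ComplexConjugate

/-- The rank of a matrix does not change under an extension of fields. -/
theorem matrix_rank_map_field {F k : Type*} [Field F] [Field k] {m n : Type*} [Fintype m]
    [Fintype n] (φ : F →+* k) (A : Matrix m n F) : (A.map φ).rank = A.rank := by
  set r := A.rank with hr
  let b : Module.Basis (Fin r) F (LinearMap.range A.mulVecLin) := Module.finBasisOfFinrankEq F _ rfl
  have hv : ∀ l : Fin r, ∃ v : n → F, A.mulVecLin v = (b l : m → F) := fun l => (b l).2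
  choose v hv using hv
  let B : Matrix m (Fin r) F := Matrix.of fun i l => (b l : m → F) i
  let C : Matrix (Fin r) n F := Matrix.of fun l j =>
    b.repr ⟨A.mulVecLin (Pi.single j 1), LinearMap.mem_range_self _ _⟩ l
  let R : Matrix n (Fin r) F := Matrix.of fun j l => v l j
  have hA : A = B * C := by
    ext i j
    have h := b.sum_repr ⟨A.mulVecLin (Pi.single j 1), LinearMap.mem_range_self _ _⟩
    have h2 := congrFun (congrArg Subtype.val h) i
    rw [Submodule.coe_sum, Finset.sum_apply] at h2
    simp only [Submodule.coe_smul, Pi.smul_apply, smul_eq_mul, Matrix.mulVecLin_apply,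
      Matrix.mulVec_single_one] at h2
    rw [Matrix.mul_apply, show A i j = A.col j i from rfl, ← h2]
    exact Finset.sum_congr rfl fun l _ => by simp [B, C, mul_comm]
  have hinj : Function.Injective B.mulVecLin := by
    rw [Matrix.coe_mulVecLin, Matrix.mulVec_injective_iff]
    exact b.linearIndependent.map' (LinearMap.range A.mulVecLin).subtype (Submodule.ker_subtype _)
  obtain ⟨g, hg⟩ := LinearMap.exists_leftInverse_of_injective B.mulVecLin
    (LinearMap.ker_eq_bot.2 hinj)
  let L : Matrix (Fin r) m F := LinearMap.toMatrix' g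
  have hLB : L * B = 1 := by
    rw [← LinearMap.toMatrix'_id (R := F), ← hg, LinearMap.toMatrix'_comp]
    congr 1
    exact (LinearMap.toMatrix'_toLin' B).symm
  have hAR : A * R = B := by
    ext i l
    exact congrFun (hv l) i
  have hCR : C * R = 1 := by
    calc C * R = L * B * (C * R) := by rw [hLB, Matrix.one_mul]
      _ = L * (A * R) := by rw [hA]; simp only [Matrix.mul_assoc]
      _ = 1 := by rw [hAR, hLB]
  refine le_antisymm ?_ ?_
  · rw [hA, Matrix.map_mul]
    exact ((Matrix.rank_mul_le_left _ _).trans (Matrix.rank_le_card_width _)).trans (by simp)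
  · have h1 : L.map φ * A.map φ * R.map φ = 1 := by
      rw [← Matrix.map_mul, ← Matrix.map_mul, Matrix.mul_assoc, hAR, hLB,
        Matrix.map_one φ φ.map_zero φ.map_one]
    calc r = (1 : Matrix (Fin r) (Fin r) k).rank := by rw [Matrix.rank_one]; simp
      _ = _ := by rw [h1]
      _ ≤ (L.map φ * A.map φ).rank := Matrix.rank_mul_le_left _ _
      _ ≤ (A.map φ).rank := Matrix.rank_mul_le_right _ _

variable {G : Type*} [Group G] [Fintype G] {p : ℕ} {M : Ideal AlgInt}

theorem isMaximal_localMaxIdeal (hM : IsPModular p M) : (localMaxIdeal hM).IsMaximal := by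
  refine Ideal.isMaximal_iff.2 ⟨fun h => LI.not_one hM (by simpa [mem_localMaxIdeal] using h),
    fun J x hIJ hx hxJ => ?_⟩
  have hn : ¬ MemLocalIdeal M (x : ℂ) := hx
  let y : localSubring hM := ⟨(x : ℂ)⁻¹, LR.inv hM x.2 hn⟩
  have e : y * x = 1 := Subtype.ext (inv_mul_cancel₀ (ne_zero_of_not_LI hM hn))
  exact e ▸ J.mul_mem_left y hxJ

theorem resid_natCast (hM : IsPModular p M) (n : ℕ) : resid hM (n : ℂ) = (n : Residue hM) := by
  have := resid_mk hM (n : localSubring hM)
  simpa using this

theorem resid_congr (hM : IsPModular p M) {x y : ℂ} (hy : MemLocalRing M y)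
    (h : MemLocalIdeal M (x - y)) : resid hM x = resid hM y := by
  have e : x = (x - y) + y := by ring
  rw [e, resid_add hM (LI.memLocalRing h) hy, resid_eq_zero hM h, zero_add]

theorem isClassFunction_inv (χ : IrrCharacter G) :
    IsClassFunction G fun y => (χ : G → ℂ) y⁻¹ := fun y g => by
  show (χ : G → ℂ) (g * y * g⁻¹)⁻¹ = _
  rw [show (g * y * g⁻¹)⁻¹ = g * y⁻¹ * g⁻¹ by simp [mul_assoc], irr_conj_apply]

/-- Pairs from two classes with quotient in a subgroup, through characters. -/
theorem card_pairs_eq (S : Subgroup G) (x z : G) :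
    (Nat.card {yz : G × G // yz.1 ∈ (ConjClasses.mk x).carrier ∧
        yz.2 ∈ (ConjClasses.mk z).carrier ∧ yz.2 * yz.1⁻¹ ∈ S} : ℂ)
      = (S.index : ℂ)⁻¹ * ∑ χ : IrrCharacter G,
          classInner (indFun S fun _ => (1 : ℂ)) (χ : G → ℂ) * (χ : G → ℂ) 1 *
            (centralChar (χ : G → ℂ) z * centralChar (χ : G → ℂ) x⁻¹) := by
  let T : (G → ℂ) → ℂ := fun f => ∑ y : G, classInd x y * ∑ w : G, classInd z w * f (w * y⁻¹)
  let i₁ : G → ℂ := fun u => if u ∈ S then 1 else 0
  have h0 : (Nat.card {yz : G × G // yz.1 ∈ (ConjClasses.mk x).carrier ∧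
      yz.2 ∈ (ConjClasses.mk z).carrier ∧ yz.2 * yz.1⁻¹ ∈ S} : ℂ) = T i₁ := by
    have hm : ∀ a b : G, b ∈ (ConjClasses.mk a).carrier ↔ IsConj a b := fun a b => by
      rw [ConjClasses.mem_carrier_iff_mk_eq, ConjClasses.mk_eq_mk_iff_isConj, isConj_comm]
    rw [Nat.card_eq_fintype_card, Fintype.card_subtype, Finset.natCast_card_filter,
      Fintype.sum_prod_type]
    simp only [T, i₁, Finset.mul_sum, hm]
    refine Finset.sum_congr rfl fun y _ => Finset.sum_congr rfl fun w _ => ?_
    unfold classInd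
    by_cases h1 : IsConj x y <;> by_cases h2 : IsConj z w <;> by_cases h3 : w * y⁻¹ ∈ S <;>
      (simp only [isConj_iff] at h1 h2; simp [h1, h2, h3])
  have hconj : ∀ g : G, T (fun u => i₁ (g⁻¹ * u * g)) = T i₁ := by
    intro g
    refine Fintype.sum_equiv (MulAut.conj g⁻¹).toEquiv _ _ fun y => ?_
    have ey : classInd x ((MulAut.conj g⁻¹).toEquiv y) = classInd x y :=
      classInd_isClassFunction x y g⁻¹
    rw [ey]
    congr 1
    refine Fintype.sum_equiv (MulAut.conj g⁻¹).toEquiv _ _ fun w => ?_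
    have ew : classInd z ((MulAut.conj g⁻¹).toEquiv w) = classInd z w :=
      classInd_isClassFunction z w g⁻¹
    rw [ew]
    simp [mul_assoc]
  have hπ : T (indFun S fun _ => (1 : ℂ)) = (S.index : ℂ) * T i₁ := by
    have e : (indFun S fun _ => (1 : ℂ))
        = fun u => (Nat.card S : ℂ)⁻¹ * ∑ g : G, i₁ (g⁻¹ * u * g) := funext fun u => by
      show (Nat.card S : ℂ)⁻¹ * _ = _
      congr 1
      refine Finset.sum_congr rfl fun g _ => ?_
      by_cases hg : g⁻¹ * u * g ∈ S
      · rw [CfsgLib.Char.extendByZero_apply_mem S _ hg]; simp [i₁, hg]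
      · rw [CfsgLib.Char.extendByZero_apply_notMem S _ hg]; simp [i₁, hg]
    rw [e]
    have e2 : T (fun u => (Nat.card S : ℂ)⁻¹ * ∑ g : G, i₁ (g⁻¹ * u * g))
        = (Nat.card S : ℂ)⁻¹ * ∑ g : G, T (fun u => i₁ (g⁻¹ * u * g)) := by
      simp only [T, Finset.mul_sum]
      rw [Finset.sum_comm (γ := G) (s := Finset.univ) (t := Finset.univ) (f := fun (g : G) (y : G) =>
        ∑ w : G, (Nat.card S : ℂ)⁻¹ * (classInd x y * (classInd z w * i₁ (g⁻¹ * (w * y⁻¹) * g))))]
      refine Finset.sum_congr rfl fun y _ => ?_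
      rw [Finset.sum_comm]
      exact Finset.sum_congr rfl fun w _ => Finset.sum_congr rfl fun g _ => by ring
    rw [e2, Finset.sum_congr rfl fun g _ => hconj g, Finset.sum_const, nsmul_eq_mul,
      Finset.card_univ, Fintype.card_eq_nat_card, ← Subgroup.card_mul_index S, Nat.cast_mul]
    rw [mul_assoc, inv_mul_cancel_left₀ CfsgLib.Char.card_ne_zero]
  have hχ : ∀ χ : IrrCharacter G, T (χ : G → ℂ)
      = (χ : G → ℂ) 1 * (centralChar (χ : G → ℂ) z * centralChar (χ : G → ℂ) x⁻¹) := by
    intro χ
    have e : ∀ y : G, ∑ w : G, classInd z w * (χ : G → ℂ) (w * y⁻¹)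
        = centralChar (χ : G → ℂ) z * (χ : G → ℂ) y⁻¹ := by
      intro y
      rw [← omega_classInd, ← sum_classFun_mul_char χ (classInd_isClassFunction z)]
      refine Finset.sum_congr rfl fun w _ => ?_
      congr 1
      have := irr_conj_apply χ (y⁻¹ * w) y
      simpa [mul_assoc] using this
    simp only [T, e]
    rw [show ∑ y : G, classInd x y * (centralChar (χ : G → ℂ) z * (χ : G → ℂ) y⁻¹)
      = centralChar (χ : G → ℂ) z * ∑ y : G, classInd x y * (χ : G → ℂ) y⁻¹ by
        rw [Finset.mul_sum]; exact Finset.sum_congr rfl fun y _ => by ring,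
      sum_class_mul x (isClassFunction_inv χ)]
    simp only [centralChar, centralizer_singleton_inv]
    field_simp [irr_one_ne_zero χ]
  rw [h0, eq_inv_mul_iff_mul_eq₀ (Nat.cast_ne_zero.2 Subgroup.index_ne_zero_of_finite), ← hπ]
  conv_lhs => rw [CfsgLib.Char.IsClassFunction.eq_sum_irr
    (CfsgLib.Char.indFun_isClassFunction (G := G) S (fun _ => (1 : ℂ)))]
  simp only [mul_assoc, ← hχ]
  simp only [T, Finset.mul_sum, Finset.sum_apply, Pi.smul_apply, smul_eq_mul]
  rw [Finset.sum_comm (γ := IrrCharacter G) (α := G)]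
  refine Finset.sum_congr rfl fun y _ => ?_
  rw [Finset.sum_comm (γ := IrrCharacter G) (α := G)]
  exact Finset.sum_congr rfl fun w _ => Finset.sum_congr rfl fun χ _ => by ring

variable [Fact p.Prime]

theorem le_blockDefect_of_normal (hM : IsPModular p M) {D : Subgroup G} [D.Normal]
    (hD : IsPGroup p D) {d : ℕ} (hd : Nat.card D = p ^ d) {B : Set (IrrCharacter G)}
    (hB : IsPBlock M B) : d ≤ blockDefect p B := by
  obtain ⟨E, hE⟩ := exists_isDefectGroup hM hB
  have h := Nat.le_of_dvd Nat.card_pos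
    (Subgroup.card_dvd_of_le (le_defectGroup_of_normal hM hB hD hE))
  rw [hd, card_defectGroup hM hB hE] at h
  exact (Nat.pow_le_pow_iff_right hM.1.one_lt).1 h

theorem isDefectGroup_normal_iff (hM : IsPModular p M) {D : Subgroup G} [D.Normal]
    (hD : IsPGroup p D) {d : ℕ} (hd : Nat.card D = p ^ d) {B : Set (IrrCharacter G)}
    (hB : IsPBlock M B) : IsDefectGroup p M B D ↔ blockDefect p B = d := by
  constructor
  · intro h
    exact Nat.pow_right_injective hM.1.two_le ((card_defectGroup hM hB h).symm.trans hd)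
  · intro h
    obtain ⟨E, hE⟩ := exists_isDefectGroup hM hB
    have hle := le_defectGroup_of_normal hM hB hD hE
    rwa [Subgroup.eq_of_le_of_card_ge hle (by rw [hd, card_defectGroup hM hB hE, h])]

/-- Class representatives of the given defect split off the blocks of that defect. -/
theorem sum_reps_congr (hM : IsPModular p M) {D : Subgroup G} [D.Normal] (hD : IsPGroup p D)
    {d : ℕ} (hd : Nat.card D = p ^ d) {ι : Type*} [Fintype ι] (g : ι → G)
    (hinj : Function.Injective fun i => ConjClasses.mk (g i))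
    (hcov : ∀ x : G, ¬ p ∣ orderOf x → centExp p x = d → x ∈ Subgroup.centralizer (D : Set G) →
      ∃ i, IsConj x (g i))
    {B : Set (IrrCharacter G)} (hB : IsPBlock M B) (hBd : blockDefect p B = d)
    (χ : IrrCharacter G) :
    MemLocalIdeal M (∑ i, blockCoeff B (g i) * centralChar (χ : G → ℂ) (g i) - blockInd B χ) := by
  have hcl : ∀ x : G, blockCoeff B x * centralChar (χ : G → ℂ) x
      = blockCoeff B (ConjClasses.mk x).out * centralChar (χ : G → ℂ) (ConjClasses.mk x).out := by
    intro x
    obtain ⟨c, hc⟩ := isConj_iff.1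
      (ConjClasses.mk_eq_mk_iff_isConj.1 (Quotient.out_eq (ConjClasses.mk x)))
    have h1 := blockCoeff_isClassFunction B (ConjClasses.mk x).out c
    have h2 := centralChar_isClassFunction χ (ConjClasses.mk x).out c
    rw [hc] at h1 h2
    simp only at h1 h2
    rw [h1, h2]
  rw [← sum_blockCoeff_centralChar,
    ← Finset.sum_add_sum_compl (s := (Finset.univ : Finset ι).image fun i => ConjClasses.mk (g i))
      (fun C : ConjClasses G => blockCoeff B C.out * centralChar (χ : G → ℂ) C.out),
    Finset.sum_image hinj.injOn, Finset.sum_congr rfl fun i _ => hcl (g i), sub_add_eq_sub_sub,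
    sub_self, zero_sub]
  refine LI.neg (LI.sum hM fun C hC => ?_)
  by_contra hn
  have ha : ¬ MemLocalIdeal M (blockCoeff B C.out) := fun h =>
    hn (LI.mul_right hM h (centralChar_LR hM _ _))
  have hmem : C.out ∈ Subgroup.centralizer (D : Set G) := by
    by_contra hc
    exact ha (by rw [blockCoeff_eq_zero_of_notMem_centralizer hM hD hB hc]; exact LI.zero hM)
  have hge : d ≤ centExp p C.out := by
    have hle : D ≤ Subgroup.centralizer ({C.out} : Set G) := fun u hu =>
      Subgroup.mem_centralizer_singleton_iff.2 (Subgroup.mem_centralizer_iff.1 hmem u hu)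
    have h := Subgroup.card_dvd_of_le hle
    rw [hd] at h
    exact (hM.1.pow_dvd_iff_le_factorization Nat.card_pos.ne').1 h
  obtain ⟨i, hi⟩ := hcov C.out (isPRegular_of_not_LI hM hB ha)
    (le_antisymm (hBd ▸ centExp_le_blockDefect hM hB ha) hge) hmem
  simp only [Finset.mem_compl, Finset.mem_image, Finset.mem_univ, true_and, not_exists] at hC
  exact hC i ((ConjClasses.mk_eq_mk_iff_isConj.2 hi.symm).trans (Quotient.out_eq C))

/-- Blocks with normal defect group `D` are counted by the rank of the class matrix. -/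
theorem card_blocks_eq_rank (hM : IsPModular p M) {D : Subgroup G} [D.Normal] (hD : IsPGroup p D)
    {d : ℕ} (hd : Nat.card D = p ^ d) (S : Sylow p G) {ι : Type*} [Fintype ι] [DecidableEq ι]
    (g : ι → G) (hinj : Function.Injective fun i => ConjClasses.mk (g i))
    (hreg : ∀ i, ¬ p ∣ orderOf (g i)) (hexp : ∀ i, centExp p (g i) = d)
    (hcov : ∀ x : G, ¬ p ∣ orderOf x → centExp p x = d → x ∈ Subgroup.centralizer (D : Set G) →
      ∃ i, IsConj x (g i)) :
    Nat.card {B : Set (IrrCharacter G) // IsPBlock M B ∧ IsDefectGroup p M B D}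
      = (Matrix.of fun i j : ι =>
        ((Nat.card {yz : G × G // yz.1 ∈ (ConjClasses.mk (g i)).carrier ∧
          yz.2 ∈ (ConjClasses.mk (g j)).carrier ∧ yz.2 * yz.1⁻¹ ∈ (S : Subgroup G)} /
            p ^ ((Nat.card G).factorization p - d) : ℕ) : ZMod p)).rank := by
  set a := (Nat.card G).factorization p
  set e := a - d with he
  have hda : d ≤ a := by
    have h := D.card_subgroup_dvd_card
    rw [hd] at h
    exact (hM.1.pow_dvd_iff_le_factorization Nat.card_pos.ne').1 h
  set h := (S : Subgroup G).index with hh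
  have hhp : h.factorization p = 0 := Nat.factorization_eq_zero_of_not_dvd S.not_dvd_index
  have hh0 : h ≠ 0 := Subgroup.index_ne_zero_of_finite
  set π := indFun (S : Subgroup G) fun _ => (1 : ℂ)
  have hπc : IsCharacter G π :=
    CfsgLib.Char.IsCharacter.indFun (S : Subgroup G) (CfsgLib.Char.IsIrrCharacter.isCharacter
      (trivChar (S : Subgroup G)).2)
  let c : IrrCharacter G → ℂ := fun χ =>
    classInner π (χ : G → ℂ) * (χ : G → ℂ) 1 / ((h : ℂ) * (p : ℂ) ^ e)
  have hden : ((h * p ^ e : ℕ) : ℂ) = (h : ℂ) * (p : ℂ) ^ e := by push_cast; ring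
  have hden0 : h * p ^ e ≠ 0 := mul_ne_zero hh0 (pow_ne_zero _ hM.1.ne_zero)
  have hdenf : (h * p ^ e).factorization p = e := by
    rw [Nat.factorization_mul hh0 (pow_ne_zero _ hM.1.ne_zero), Finsupp.add_apply, hhp,
      hM.1.factorization_pow, Finsupp.single_eq_same, zero_add]
  have hexp' : ∀ i, centExp p (g i)⁻¹ = d := fun i => by
    rw [centExp, centralizer_singleton_inv]; exact hexp i
  -- the terms of one block
  let ccR : IrrCharacter G → ι → ι → ℂ := fun χ i j =>
    centralChar (χ : G → ℂ) (g j) * centralChar (χ : G → ℂ) (g i)⁻¹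
  have hbig : ∀ χ : IrrCharacter G, d < blockDefect p (blockOf M (χ : G → ℂ)) → ∀ i j,
      MemLocalIdeal M (c χ * ccR χ i j) := by
    intro χ hχ i j
    obtain ⟨m, hm⟩ := CfsgLib.Char.IsCharacter.classInner_nat hπc
      (CfsgLib.Char.IsIrrCharacter.isCharacter χ.2)
    have hli : MemLocalIdeal M (centralChar (χ : G → ℂ) (g i)⁻¹) := by
      by_contra hn
      have := blockDefect_le_centExp hM (isPBlock_blockOf χ) (SameBlock_refl hM _) hn
      rw [hexp'] at this
      omega
    have e1 : c χ * ccR χ i j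
        = (((m * (Subgroup.centralizer ({g j} : Set G)).index : ℕ) : ℂ) / ((h * p ^ e : ℕ) : ℂ))
          * (χ : G → ℂ) (g j) * centralChar (χ : G → ℂ) (g i)⁻¹ := by
      simp only [c, ccR, hm, hden]
      conv_lhs => arg 2; arg 1; rw [centralChar]
      push_cast
      field_simp [irr_one_ne_zero χ]
    rw [e1]
    refine LI.mul_left hM (LR.mul hM (natCast_div_LR hM hden0 ?_)
      (LR.of_isIntegral hM (irr_isIntegral χ _))) hli
    rw [hdenf]
    refine Dvd.dvd.mul_left ?_ _
    have h1 := index_factorization_add (p := p) (g j)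
    rw [hexp j] at h1
    exact (hM.1.pow_dvd_iff_le_factorization Subgroup.index_ne_zero_of_finite).2 (by omega)
  have hsmall : ∀ B : Set (IrrCharacter G), IsPBlock M B → blockDefect p B = d →
      ∀ χ ∈ B, MemLocalRing M (c χ) := by
    intro B hB hBd χ hχ
    obtain ⟨m, hm⟩ := CfsgLib.Char.IsCharacter.classInner_nat hπc
      (CfsgLib.Char.IsIrrCharacter.isCharacter χ.2)
    have e1 : c χ = ((m * charDegree (χ : G → ℂ) : ℕ) : ℂ) / ((h * p ^ e : ℕ) : ℂ) := by
      simp only [c, hm, ← hden, Nat.cast_mul, irr_one_eq]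
    rw [e1]
    refine natCast_div_LR hM hden0 ?_
    rw [hdenf]
    refine Dvd.dvd.mul_left ?_ _
    have h1 := minDegVal_le (p := p) hχ
    have h2 := blockDefect_add_min (p := p) (IsPBlock.nonempty hM hB)
    rw [hBd] at h2
    exact (hM.1.pow_dvd_iff_le_factorization (charDegree_pos χ).ne').2 (by
      show e ≤ degVal p χ; omega)
  let γ : Set (IrrCharacter G) → ℂ := fun B => ∑ χ : IrrCharacter G, blockInd B χ * c χ
  have hγLR : ∀ B : Set (IrrCharacter G), IsPBlock M B → blockDefect p B = d →
      MemLocalRing M (γ B) := by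
    intro B hB hBd
    refine LR.sum hM fun χ _ => ?_
    by_cases hχ : χ ∈ B
    · rw [blockInd_of_mem hχ, one_mul]; exact hsmall B hB hBd χ hχ
    · rw [blockInd_of_notMem hχ, zero_mul]; exact LR.zero hM
  have hγ : ∀ B : Set (IrrCharacter G), IsPBlock M B → blockDefect p B = d →
      ¬ MemLocalIdeal M (γ B) := by
    intro B hB hBd hLI
    have e1 : γ B = blockPart B π 1 / ((h : ℂ) * (p : ℂ) ^ e) := by
      rw [blockPart_eq_sum, Finset.sum_div]
      exact Finset.sum_congr rfl fun χ _ => by simp only [c]; ring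
    have e2 : blockPart B π 1 = (h : ℂ) * blockCoeff B 1 := by
      have := blockPart_indFun_one B (trivChar (S : Subgroup G))
      simp only [trivChar_apply, mul_one] at this
      rw [show π = indFun (S : Subgroup G) ((trivChar (S : Subgroup G) : _) : _ → ℂ) from rfl,
        this]
      congr 1
      rw [omega]
      simp only [trivChar_apply, mul_one, div_one]
      rw [Finset.sum_eq_single (1 : (S : Subgroup G))]
      · rfl
      · intro s _ hs
        refine IsPBlock.blockCoeff_eq_zero hM hB ?_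
        rw [Subgroup.orderOf_coe]
        obtain ⟨k, hk⟩ := IsPGroup.iff_orderOf.1 S.isPGroup' s
        rw [hk]
        exact dvd_pow_self p fun hk0 => hs (orderOf_eq_one_iff.1 (by rw [hk, hk0, pow_zero]))
      · exact fun hn => absurd (Finset.mem_univ _) hn
    have hh' : (h : ℂ) ≠ 0 := Nat.cast_ne_zero.2 hh0
    rw [e2, mul_div_mul_left _ _ hh'] at e1
    set N := ∑ ψ ∈ B.toFinset, charDegree (ψ : G → ℂ) ^ 2 with hN
    have hNc : (Nat.card G : ℂ) * blockCoeff B 1 = (N : ℂ) := by
      rw [sum_sq_blockInd, hN, Nat.cast_sum]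
      refine ((Finset.sum_congr rfl fun ψ hψ => ?_).trans
        (Finset.sum_subset (Finset.subset_univ _) fun ψ _ hψ => ?_)).symm
      · rw [blockInd_of_mem (Set.mem_toFinset.1 hψ), one_mul, inv_one, Nat.cast_pow,
          ← irr_one_eq, sq]
      · rw [blockInd_of_notMem (by simpa using hψ), zero_mul]
    have hD0 : Nat.card G * p ^ e ≠ 0 := mul_ne_zero Nat.card_pos.ne' (pow_ne_zero _ hM.1.ne_zero)
    have e3 : ((N : ℤ) : ℂ) = ((Nat.card G * p ^ e : ℕ) : ℂ) * γ B := by
      rw [Int.cast_natCast, ← hNc, e1]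
      have hp0 : (p : ℂ) ^ e ≠ 0 := pow_ne_zero _ (Nat.cast_ne_zero.2 hM.1.ne_zero)
      push_cast
      field_simp
    have hdvd := ((dvd_of_eq_natCast_mul hM hD0 (hγLR B hB hBd) e3).2).1 hLI
    rw [Nat.factorization_mul Nat.card_pos.ne' (pow_ne_zero _ hM.1.ne_zero), Finsupp.add_apply,
      hM.1.factorization_pow, Finsupp.single_eq_same] at hdvd
    have hNd : p ^ (a + e + 1) ∣ N := by exact_mod_cast hdvd
    have hN0 : N ≠ 0 := by
      obtain ⟨χ, hχ⟩ := IsPBlock.nonempty hM hB
      exact (Finset.sum_pos (fun ψ _ => pow_pos (charDegree_pos ψ) 2)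
        ⟨χ, Set.mem_toFinset.2 hχ⟩).ne'
    have := (hM.1.pow_dvd_iff_le_factorization hN0).1 hNd
    rw [hN, factorization_sum_sq hM hB, hBd] at this
    omega
  let ι' := {B : Set (IrrCharacter G) // IsPBlock M B ∧ IsDefectGroup p M B D}
  have hι' : ∀ B : ι', blockDefect p B.1 = d := fun B =>
    (isDefectGroup_normal_iff hM hD hd B.2.1).1 B.2.2
  have hrep : ∀ B : ι', ∃ χ, χ ∈ B.1 := fun B => IsPBlock.nonempty hM B.2.1
  choose χB hχB using hrep
  let q : ι → ι → ℕ := fun i j =>
    Nat.card {yz : G × G // yz.1 ∈ (ConjClasses.mk (g i)).carrier ∧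
      yz.2 ∈ (ConjClasses.mk (g j)).carrier ∧ yz.2 * yz.1⁻¹ ∈ (S : Subgroup G)}
  have hq : ∀ i j, MemLocalRing M ((q i j : ℂ) / (p : ℂ) ^ e) ∧
      MemLocalIdeal M ((q i j : ℂ) / (p : ℂ) ^ e - ∑ B : ι', γ B.1 * ccR (χB B) i j) := by
    intro i j
    have e1 : (q i j : ℂ) / (p : ℂ) ^ e = ∑ χ : IrrCharacter G, c χ * ccR χ i j := by
      simp only [q]
      rw [card_pairs_eq, Finset.mul_sum, Finset.sum_div]
      exact Finset.sum_congr rfl fun χ _ => by simp only [c, ccR, π]; ring
    have e2 := sum_eq_sum_blocks hM (fun _ : Set (IrrCharacter G) => (1 : ℂ))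
      (fun χ => c χ * ccR χ i j)
    simp only [one_mul] at e2
    have hblock : ∀ B : ι', MemLocalIdeal M
        ((∑ χ : IrrCharacter G, blockInd B.1 χ * (c χ * ccR χ i j)) - γ B.1 * ccR (χB B) i j) := by
      intro B
      simp only [γ, Finset.sum_mul]
      rw [← Finset.sum_sub_distrib]
      refine LI.sum hM fun χ _ => ?_
      by_cases hχ : χ ∈ B.1
      · rw [blockInd_of_mem hχ, one_mul, one_mul, ← mul_sub]
        refine LI.mul_left hM (hsmall _ B.2.1 (hι' B) χ hχ) ?_
        have hsb := IsPBlock.sameBlock hM B.2.1 hχ (hχB B)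
        have e3 : ccR χ i j - ccR (χB B) i j
            = (centralChar (χ : G → ℂ) (g j) - centralChar (χB B : G → ℂ) (g j))
              * centralChar (χ : G → ℂ) (g i)⁻¹
            + centralChar (χB B : G → ℂ) (g j)
              * (centralChar (χ : G → ℂ) (g i)⁻¹ - centralChar (χB B : G → ℂ) (g i)⁻¹) := by
          simp only [ccR]; ring
        rw [e3]
        exact LI.add hM (LI.mul_right hM (hsb _) (centralChar_LR hM _ _))
          (LI.mul_left hM (centralChar_LR hM _ _) (hsb _))
      · rw [blockInd_of_notMem hχ, zero_mul, zero_mul, zero_mul, sub_zero]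
        exact LI.zero hM
    have hR : MemLocalRing M (∑ B : ι', γ B.1 * ccR (χB B) i j) :=
      LR.sum hM fun B _ => LR.mul hM (hγLR _ B.2.1 (hι' B))
        (LR.mul hM (centralChar_LR hM _ _) (centralChar_LR hM _ _))
    have hI : MemLocalIdeal M
        ((q i j : ℂ) / (p : ℂ) ^ e - ∑ B : ι', γ B.1 * ccR (χB B) i j) := by
      rw [e1, e2, ← Finset.sum_filter_add_sum_filter_not (blockFinset M G)
        (fun B => blockDefect p B = d),
        Finset.sum_subtype ((blockFinset M G).filter fun B => blockDefect p B = d)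
          (p := fun B => IsPBlock M B ∧ IsDefectGroup p M B D) (fun B => by
            simp only [Finset.mem_filter, mem_blockFinset]
            exact and_congr_right fun hB => (isDefectGroup_normal_iff hM hD hd hB).symm),
        add_sub_right_comm, ← Finset.sum_sub_distrib]
      refine LI.add hM (LI.sum hM fun B _ => hblock B) (LI.sum hM fun B hB => LI.sum hM fun χ _ => ?_)
      obtain ⟨hB, hne⟩ := Finset.mem_filter.1 hB
      rw [mem_blockFinset] at hB
      by_cases hχ : χ ∈ B
      · rw [blockInd_of_mem hχ, one_mul]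
        refine hbig χ ?_ i j
        rw [← IsPBlock.eq_blockOf hM hB hχ]
        exact lt_of_le_of_ne (le_blockDefect_of_normal hM hD hd hB) (Ne.symm hne)
      · rw [blockInd_of_notMem hχ, zero_mul]; exact LI.zero hM
    refine ⟨?_, hI⟩
    have := LR.add hM (LI.memLocalRing hI) hR
    rwa [sub_add_cancel] at this
  -- to the residue field
  haveI := isMaximal_localMaxIdeal hM
  letI : Field (Residue hM) := Ideal.Quotient.field _
  have hp0 : (p : Residue hM) = 0 := by
    rw [← resid_natCast]; exact resid_eq_zero hM (LI.natCast_prime hM)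
  haveI : CharP (Residue hM) p := (CharP.charP_iff_prime_eq_zero hM.1).2 hp0
  let φ : ZMod p →+* Residue hM := ZMod.castHom dvd_rfl _
  rw [← matrix_rank_map_field φ]
  let U : Matrix ι' ι (Residue hM) := Matrix.of fun B i =>
    resid hM (centralChar (χB B : G → ℂ) (g i)⁻¹)
  let V : Matrix ι' ι (Residue hM) := Matrix.of fun B i =>
    resid hM (centralChar (χB B : G → ℂ) (g i))
  let Γ : Matrix ι' ι' (Residue hM) := Matrix.diagonal fun B => resid hM (γ B.1)
  let W : Matrix ι ι' (Residue hM) := Matrix.of fun i B => resid hM (blockCoeff B.1 (g i))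
  let W' : Matrix ι ι' (Residue hM) := Matrix.of fun i B => resid hM (blockCoeff B.1 (g i)⁻¹)
  have hinv : ∀ (g' : ι → G), Function.Injective (fun i => ConjClasses.mk (g' i)) →
      (∀ x : G, ¬ p ∣ orderOf x → centExp p x = d → x ∈ Subgroup.centralizer (D : Set G) →
        ∃ i, IsConj x (g' i)) →
      (Matrix.of fun (B : ι') i => resid hM (centralChar (χB B : G → ℂ) (g' i))) *
        (Matrix.of fun i (B : ι') => resid hM (blockCoeff B.1 (g' i))) = 1 := by
    intro g' hi' hc'
    ext B B'
    rw [Matrix.mul_apply]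
    simp only [Matrix.of_apply]
    rw [Finset.sum_congr rfl fun i _ => (resid_mul hM (centralChar_LR hM _ _)
        (blockCoeff_LR hM B'.2.1 _)).symm,
      ← resid_sum hM _ fun i _ => LR.mul hM (centralChar_LR hM _ _) (blockCoeff_LR hM B'.2.1 _)]
    have h1 : MemLocalIdeal M
        (∑ i, centralChar (χB B : G → ℂ) (g' i) * blockCoeff B'.1 (g' i)
          - blockInd B'.1 (χB B)) := by
      rw [Finset.sum_congr rfl fun i _ => mul_comm _ _]
      exact sum_reps_congr hM hD hd g' hi' hc' B'.2.1 (hι' B') (χB B)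
    by_cases hBB : B = B'
    · subst hBB
      rw [blockInd_of_mem (hχB B)] at h1
      rw [Matrix.one_apply_eq, resid_congr hM (LR.one hM) h1, resid_one]
    · rw [blockInd_of_notMem fun hm => hBB (Subtype.ext
        (IsPBlock.eq_of_mem hM B.2.1 B'.2.1 (hχB B) hm))] at h1
      rw [Matrix.one_apply_ne hBB, resid_congr hM (LR.zero hM) h1, resid_zero]
  have hV : V * W = 1 := hinv g hinj hcov
  have hU : U * W' = 1 := hinv (fun i => (g i)⁻¹)
    (fun i j hij => hinj (ConjClasses.mk_eq_mk_iff_isConj.2 (by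
      obtain ⟨u, hu⟩ := isConj_iff.1 (ConjClasses.mk_eq_mk_iff_isConj.1 hij)
      refine isConj_iff.2 ⟨u, inv_injective ?_⟩
      rw [← hu]; group)))
    (fun x hr hx hc => by
      obtain ⟨i, hi⟩ := hcov x⁻¹ (by rwa [orderOf_inv])
        (by rw [centExp, centralizer_singleton_inv]; exact hx) (inv_mem hc)
      refine ⟨i, ?_⟩
      obtain ⟨u, hu⟩ := isConj_iff.1 hi
      refine isConj_iff.2 ⟨u, inv_injective ?_⟩
      rw [inv_inv, ← hu]; group)
  have hA : ((Matrix.of fun i j : ι => ((q i j / p ^ e : ℕ) : ZMod p)).map φ)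
      = U.transpose * Γ * V := by
    ext i j
    obtain ⟨hR, hI⟩ := hq i j
    have hdvd : p ^ e ∣ q i j := by
      have := prime_pow_dvd_of_LR hM e (q i j) _ hR (by
        rw [Int.cast_natCast, mul_div_cancel₀]
        exact pow_ne_zero _ (Nat.cast_ne_zero.2 hM.1.ne_zero))
      exact_mod_cast this
    rw [Matrix.map_apply, Matrix.of_apply, map_natCast, ← resid_natCast,
      Nat.cast_div hdvd (by exact_mod_cast (pow_ne_zero e hM.1.ne_zero)), Nat.cast_pow,
      resid_congr hM (LR.sum hM fun B _ => LR.mul hM (hγLR _ B.2.1 (hι' B))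
        (LR.mul hM (centralChar_LR hM _ _) (centralChar_LR hM _ _))) hI,
      resid_sum hM _ fun B _ => LR.mul hM (hγLR _ B.2.1 (hι' B))
        (LR.mul hM (centralChar_LR hM _ _) (centralChar_LR hM _ _)),
      Matrix.mul_apply]
    refine Finset.sum_congr rfl fun B _ => ?_
    rw [resid_mul hM (hγLR _ B.2.1 (hι' B))
        (LR.mul hM (centralChar_LR hM _ _) (centralChar_LR hM _ _)),
      resid_mul hM (centralChar_LR hM _ _) (centralChar_LR hM _ _), Matrix.mul_diagonal,
      Matrix.transpose_apply]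
    simp only [U, V, Matrix.of_apply]
    ring
  rw [hA, Nat.card_eq_fintype_card]
  refine le_antisymm ?_ ((Matrix.rank_mul_le_right _ _).trans (Matrix.rank_le_card_height _))
  have hdet : Γ.rank = Fintype.card ι' := by
    refine Matrix.rank_of_isUnit _ ((Matrix.isUnit_iff_isUnit_det _).2 (isUnit_iff_ne_zero.2 ?_))
    rw [Matrix.det_diagonal]
    exact Finset.prod_ne_zero_iff.2 fun B _ => fun h0 =>
      hγ _ B.2.1 (hι' B) ((resid_eq_zero_iff hM (hγLR _ B.2.1 (hι' B))).1 h0)
  rw [← hdet]
  calc Γ.rank = (W'.transpose * (U.transpose * Γ * V) * W).rank := by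
        rw [Matrix.mul_assoc, Matrix.mul_assoc, Matrix.mul_assoc, hV, Matrix.mul_one,
          ← Matrix.mul_assoc, ← Matrix.transpose_mul, hU, Matrix.transpose_one, Matrix.one_mul]
    _ ≤ (W'.transpose * (U.transpose * Γ * V)).rank := Matrix.rank_mul_le_left _ _
    _ ≤ _ := Matrix.rank_mul_le_right _ _

end CfsgLib.Blocks
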