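import Cfsg.Agent.Lib.Blocks.Twist

/-!
# Central idempotents over the local ring vanish at singular elements

If `e` is a class function with local-integer values which is an idempotent for convolution, then
`∑ x, e (x g x⁻¹ h) = 0` whenever `g` is `p`-singular and `h` is `p`-regular; in particular
`e g = 0`.  (For a block idempotent this is block orthogonality.)
-/

namespace CfsgLib.Blocks

open Cfsg

variable {p : ℕ} {M : Ideal AlgInt} {G : Type*} [Group G] [Fintype G]

theorem sum_conj_mul_eq_zero (hM : IsPModular p M) {e : G → ℂ}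
    (hR : ∀ x, MemLocalRing M (e x)) (he : ∀ g, ∑ x, e x * e (x⁻¹ * g) = e g)
    (hcl : ∀ x y, e (y * x * y⁻¹) = e x) {g h : G} (hg : p ∣ orderOf g) (hh : ¬ p ∣ orderOf h) :
    ∑ x : G, e (x * g * x⁻¹ * h) = 0 := by
  classical
  let S := Subgroup.zpowers h
  set m := Nat.card S with hm
  have hm0 : (m : ℂ) ≠ 0 := by exact_mod_cast Nat.card_pos.ne'
  have hminv : MemLocalRing M ((m : ℂ))⁻¹ := by
    refine LR.inv hM (LR.natCast hM m) fun hLI => hh ?_
    rw [← Nat.card_zpowers h]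
    exact (LI.natCast_iff hM m).1 hLI
  let a : G × S → ℂ := fun w => (m : ℂ)⁻¹ * e (w.1 * (w.2 : G))
  have ha : ∀ w : G × S, ∑ x, a x * a (x⁻¹ * w) = a w := by
    rintro ⟨z, u⟩
    rw [Fintype.sum_prod_type, Finset.sum_comm]
    have key : ∀ t : S, ∑ y : G, a (y, t) * a ((y, t)⁻¹ * (z, u))
        = (m : ℂ)⁻¹ * ((m : ℂ)⁻¹ * e (z * u)) := by
      intro t
      rw [← he (z * u), Finset.mul_sum, Finset.mul_sum]
      refine Fintype.sum_equiv (Equiv.mulRight (t : G)) _ _ fun y => ?_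
      simp only [a, Prod.inv_mk, Prod.mk_mul_mk, Equiv.coe_mulRight, Subgroup.coe_mul,
        Subgroup.coe_inv]
      have hcomm : (u : G) * (t : G)⁻¹ = (t : G)⁻¹ * u := by
        have := Subgroup.mem_zpowers_iff.1 u.2
        obtain ⟨i, hi⟩ := this
        obtain ⟨j, hj⟩ := Subgroup.mem_zpowers_iff.1 t.2
        rw [← hi, ← hj, ← zpow_neg, ← zpow_add, ← zpow_add, add_comm]
      have h1 : (y * (t : G))⁻¹ * (z * (u : G))
          = (t : G)⁻¹ * (y⁻¹ * z * ((t : G)⁻¹ * u)) * ((t : G)⁻¹)⁻¹ := by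
        simp only [mul_inv_rev, inv_inv, mul_assoc]
        rw [← mul_assoc ((t : G)⁻¹) (u : G) (t : G), ← hcomm, inv_mul_cancel_right]
      rw [h1, hcl]
      ring
    rw [Finset.sum_congr rfl fun t _ => key t, Finset.sum_const, Finset.card_univ,
      Fintype.card_eq_nat_card, ← hm, nsmul_eq_mul]
    simp only [a]
    field_simp
  have hw : p ∣ orderOf (g, (⟨h, Subgroup.mem_zpowers h⟩ : S)) := by
    rw [Prod.orderOf]
    exact hg.trans (Nat.dvd_lcm_left _ _)
  have h0 := sum_conj_eq_zero_of_idempotent hM (a := a)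
    (fun w => LR.mul hM hminv (hR _)) ha hw
  rw [Fintype.sum_prod_type, Finset.sum_comm] at h0
  have key : ∀ t : S, ∑ y : G, a ((y, t) * (g, ⟨h, Subgroup.mem_zpowers h⟩) * (y, t)⁻¹)
      = (m : ℂ)⁻¹ * ∑ y : G, e (y * g * y⁻¹ * h) := by
    intro t
    rw [Finset.mul_sum]
    refine Finset.sum_congr rfl fun y _ => ?_
    simp only [a, Prod.inv_mk, Prod.mk_mul_mk, Subgroup.coe_mul, Subgroup.coe_inv]
    obtain ⟨j, hj⟩ := Subgroup.mem_zpowers_iff.1 t.2
    have : (t : G) * h * (t : G)⁻¹ = h := by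
      rw [← hj, mul_inv_eq_iff_eq_mul]
      exact ((Commute.refl h).zpow_left j).eq
    rw [this]
  rw [Finset.sum_congr rfl fun t _ => key t, Finset.sum_const, Finset.card_univ,
    Fintype.card_eq_nat_card, ← hm, nsmul_eq_mul, mul_inv_cancel_left₀ hm0] at h0
  exact h0

theorem eq_zero_of_singular (hM : IsPModular p M) {e : G → ℂ}
    (hR : ∀ x, MemLocalRing M (e x)) (he : ∀ g, ∑ x, e x * e (x⁻¹ * g) = e g)
    (hcl : ∀ x y, e (y * x * y⁻¹) = e x) {g : G} (hg : p ∣ orderOf g) : e g = 0 := by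
  have h := sum_conj_mul_eq_zero hM hR he hcl hg (h := 1)
    (by simp [hM.1.ne_one])
  simp only [mul_one, hcl, Finset.sum_const, nsmul_eq_mul] at h
  exact (mul_eq_zero.1 h).resolve_left (by simp)

end CfsgLib.Blocks
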