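import Cfsg.Agent.Lib.Blocks.Basic
import Cfsg.Agent.Lib.Blocks.RegularVanish

/-!
# Block idempotents are local integral

`IsLocalOn M C F`: the central element with central character values `F` has coefficients in the
local ring and supported on `C`.  The indicator of any set of irreducible characters separated
modulo `M` by central characters at elements of a normal subgroup `C` is of this kind.  In
particular block idempotents are local integral, and block orthogonality holds.
-/

set_option autoImplicit false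

namespace CfsgLib.Blocks

open Cfsg
open scoped Classical ComplexConjugate

variable {G : Type*} [Group G] [Fintype G] {p : ℕ} {M : Ideal AlgInt}

/-- The central element with central character values `F` has local integral coefficients
supported on `C`. -/
def IsLocalOn (M : Ideal AlgInt) (C : Subgroup G) (F : IrrCharacter G → ℂ) : Prop :=
  ∀ g, MemLocalRing M (fourierInv F g) ∧ (g ∉ C → fourierInv F g = 0)

/-- The indicator function of a set of irreducible characters. -/
noncomputable def blockInd (S : Set (IrrCharacter G)) : IrrCharacter G → ℂ :=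
  fun ψ => if ψ ∈ S then 1 else 0

theorem blockInd_of_mem {S : Set (IrrCharacter G)} {ψ : IrrCharacter G} (h : ψ ∈ S) :
    blockInd S ψ = 1 := if_pos h

theorem blockInd_of_notMem {S : Set (IrrCharacter G)} {ψ : IrrCharacter G} (h : ψ ∉ S) :
    blockInd S ψ = 0 := if_neg h

theorem blockInd_mul_self (S : Set (IrrCharacter G)) (ψ : IrrCharacter G) :
    blockInd S ψ * blockInd S ψ = blockInd S ψ := by
  by_cases h : ψ ∈ S <;> simp [blockInd, h]

theorem blockCoeff_eq_fourierInv (B : Set (IrrCharacter G)) (g : G) :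
    blockCoeff B g = fourierInv (blockInd B) g := by
  rw [blockCoeff, fourierInv, finsum_eq_sum_of_fintype]
  congr 1
  refine Finset.sum_congr rfl fun ψ _ => ?_
  by_cases h : ψ ∈ B
  · rw [finsum_eq_if, if_pos h, blockInd_of_mem h, one_mul, conj_irr]
  · rw [finsum_eq_if, if_neg h, blockInd_of_notMem h, zero_mul]

theorem fourierInv_one :
    fourierInv (fun _ : IrrCharacter G => (1 : ℂ)) = fun g => if g = 1 then 1 else 0 := by
  have hcl : IsClassFunction G (fun g : G => if g = 1 then (1 : ℂ) else 0) := fun x y => by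
    simp only [conj_eq_one_iff]
  conv_rhs => rw [← fourierInv_omega hcl]
  congr 1
  funext ψ
  rw [omega, Finset.sum_eq_single (1 : G)]
  · simp [irr_one_ne_zero ψ]
  · intro x _ hx; simp [hx]
  · simp

namespace IsLocalOn

variable {C : Subgroup G}

theorem congr {F F' : IrrCharacter G → ℂ} (h : IsLocalOn M C F) (he : ∀ ψ, F ψ = F' ψ) :
    IsLocalOn M C F' := (funext he : F = F') ▸ h

theorem add (hM : IsPModular p M) {F F' : IrrCharacter G → ℂ} (h : IsLocalOn M C F)
    (h' : IsLocalOn M C F') : IsLocalOn M C (fun ψ => F ψ + F' ψ) := by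
  intro g
  have : fourierInv (fun ψ => F ψ + F' ψ) g = fourierInv F g + fourierInv F' g := by
    simp only [fourierInv, add_mul, Finset.sum_add_distrib, mul_add]
  rw [this]
  exact ⟨LR.add hM (h g).1 (h' g).1, fun hg => by rw [(h g).2 hg, (h' g).2 hg, add_zero]⟩

theorem const_mul (hM : IsPModular p M) {c : ℂ} (hc : MemLocalRing M c)
    {F : IrrCharacter G → ℂ} (h : IsLocalOn M C F) : IsLocalOn M C (fun ψ => c * F ψ) := by
  intro g
  have : fourierInv (fun ψ => c * F ψ) g = c * fourierInv F g := by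
    simp only [fourierInv, Finset.mul_sum]
    exact Finset.sum_congr rfl fun ψ _ => by ring
  rw [this]
  exact ⟨LR.mul hM hc (h g).1, fun hg => by rw [(h g).2 hg, mul_zero]⟩

theorem one (hM : IsPModular p M) : IsLocalOn M C (fun _ : IrrCharacter G => (1 : ℂ)) := by
  intro g
  rw [fourierInv_one]
  constructor
  · by_cases h : g = 1 <;> simp only [h, if_true, if_false]
    · exact LR.one hM
    · exact LR.zero hM
  · intro hg
    exact if_neg fun h : g = 1 => hg (h ▸ C.one_mem)

theorem const (hM : IsPModular p M) {c : ℂ} (hc : MemLocalRing M c) :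
    IsLocalOn M C (fun _ : IrrCharacter G => c) :=
  (const_mul hM hc (one hM)).congr fun _ => mul_one c

theorem sub (hM : IsPModular p M) {F F' : IrrCharacter G → ℂ} (h : IsLocalOn M C F)
    (h' : IsLocalOn M C F') : IsLocalOn M C (fun ψ => F ψ - F' ψ) :=
  (add hM h (const_mul hM (LR.neg (LR.one hM)) h')).congr fun _ => by ring

theorem mul (hM : IsPModular p M) {F F' : IrrCharacter G → ℂ} (h : IsLocalOn M C F)
    (h' : IsLocalOn M C F') : IsLocalOn M C (fun ψ => F ψ * F' ψ) := by
  intro g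
  rw [← fourierInv_mul]
  refine ⟨LR.sum hM fun x _ => LR.mul hM (h x).1 (h' _).1, fun hg =>
    Finset.sum_eq_zero fun x _ => ?_⟩
  by_cases hx : x ∈ C
  · rw [(h' _).2 fun hy => hg (by simpa using C.mul_mem hx hy), mul_zero]
  · rw [(h x).2 hx, zero_mul]

theorem prod (hM : IsPModular p M) {ι : Type*} (s : Finset ι) {F : ι → IrrCharacter G → ℂ}
    (h : ∀ i ∈ s, IsLocalOn M C (F i)) : IsLocalOn M C (fun ψ => ∏ i ∈ s, F i ψ) := by
  induction s using Finset.induction_on with
  | empty => exact (one hM).congr fun ψ => by simp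
  | insert a s ha ih =>
    exact (mul hM (h a (Finset.mem_insert_self a s))
      (ih fun i hi => h i (Finset.mem_insert_of_mem hi))).congr fun ψ => by
        rw [Finset.prod_insert ha]

theorem centralChar (hM : IsPModular p M) [C.Normal] {g : G} (hg : g ∈ C) :
    IsLocalOn M C (fun ψ : IrrCharacter G => Cfsg.centralChar (ψ : G → ℂ) g) := by
  intro x
  simp only [← omega_classInd, fourierInv_omega (classInd_isClassFunction g)]
  by_cases hx : IsConj g x
  · refine ⟨by rw [classInd, if_pos hx]; exact LR.one hM, fun hxC => absurd ?_ hxC⟩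
    obtain ⟨c, rfl⟩ := isConj_iff.1 hx
    exact Subgroup.Normal.conj_mem inferInstance g hg c
  · exact ⟨by rw [classInd, if_neg hx]; exact LR.zero hM,
      fun _ => by rw [classInd, if_neg hx]⟩

/-- The indicator of a separated set of characters is local integral. -/
theorem blockInd_of_separated (hM : IsPModular p M) [C.Normal] {S : Set (IrrCharacter G)}
    (hS : ∀ χ ∈ S, ∀ ψ ∉ S, ∃ g ∈ C,
      ¬ MemLocalIdeal M (Cfsg.centralChar (χ : G → ℂ) g - Cfsg.centralChar (ψ : G → ℂ) g)) :
    IsLocalOn M C (blockInd S) := by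
  have hz : ∀ χ ∈ S, ∃ F : IrrCharacter G → ℂ,
      IsLocalOn M C F ∧ F χ = 1 ∧ ∀ φ ∉ S, F φ = 0 := by
    intro χ hχ
    choose g hg hne using hS χ hχ
    let d : {ψ : IrrCharacter G // ψ ∉ S} → ℂ := fun ψ =>
      Cfsg.centralChar (χ : G → ℂ) (g ψ.1 ψ.2) -
        Cfsg.centralChar ((ψ.1 : IrrCharacter G) : G → ℂ) (g ψ.1 ψ.2)
    refine ⟨fun φ => ∏ ψ : {ψ : IrrCharacter G // ψ ∉ S}, (d ψ)⁻¹ *
      (Cfsg.centralChar (φ : G → ℂ) (g ψ.1 ψ.2) -
        Cfsg.centralChar ((ψ.1 : IrrCharacter G) : G → ℂ) (g ψ.1 ψ.2)), ?_, ?_, ?_⟩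
    · exact prod hM _ fun ψ _ => const_mul hM
        (LR.inv hM (LR.sub hM (centralChar_LR hM _ _) (centralChar_LR hM _ _)) (hne ψ.1 ψ.2))
        (sub hM (IsLocalOn.centralChar hM (hg ψ.1 ψ.2)) (const hM (centralChar_LR hM _ _)))
    · exact Finset.prod_eq_one fun ψ _ =>
        inv_mul_cancel₀ (ne_zero_of_not_LI hM (hne ψ.1 ψ.2))
    · intro φ hφ
      exact Finset.prod_eq_zero (Finset.mem_univ ⟨φ, hφ⟩) (by simp)
  choose F hF h1 h0 using hz
  refine (sub hM (one hM) (prod hM Finset.univ (F := fun (χ : {χ : IrrCharacter G // χ ∈ S}) φ =>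
    1 - F χ.1 χ.2 φ) fun χ _ => sub hM (one hM) (hF χ.1 χ.2))).congr fun φ => ?_
  by_cases hφ : φ ∈ S
  · rw [blockInd_of_mem hφ, Finset.prod_eq_zero (Finset.mem_univ ⟨φ, hφ⟩)
      (by simp [h1 φ hφ]), sub_zero]
  · rw [blockInd_of_notMem hφ, Finset.prod_eq_one fun χ _ => by simp [h0 χ.1 χ.2 φ hφ], sub_self]

end IsLocalOn

theorem IsPBlock.separated (hM : IsPModular p M) {B : Set (IrrCharacter G)} (hB : IsPBlock M B)
    {χ ψ : IrrCharacter G} (hχ : χ ∈ B) (hψ : ψ ∉ B) :
    ∃ g, ¬ MemLocalIdeal M (centralChar (χ : G → ℂ) g - centralChar (ψ : G → ℂ) g) := by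
  by_contra h
  push Not at h
  exact hψ ((IsPBlock.mem_iff hM hB hχ).2 h)

theorem IsPBlock.isLocalOn (hM : IsPModular p M) {B : Set (IrrCharacter G)} (hB : IsPBlock M B) :
    IsLocalOn M (⊤ : Subgroup G) (blockInd B) :=
  IsLocalOn.blockInd_of_separated hM fun _ hχ _ hψ =>
    let ⟨g, hg⟩ := IsPBlock.separated hM hB hχ hψ
    ⟨g, Subgroup.mem_top g, hg⟩

theorem blockCoeff_LR (hM : IsPModular p M) {B : Set (IrrCharacter G)} (hB : IsPBlock M B)
    (g : G) : MemLocalRing M (blockCoeff B g) := by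
  rw [blockCoeff_eq_fourierInv]
  exact (IsPBlock.isLocalOn hM hB g).1

theorem blockCoeff_isClassFunction (B : Set (IrrCharacter G)) :
    IsClassFunction G (fun g => blockCoeff B g) := fun x y => by
  simp only [blockCoeff_eq_fourierInv]
  exact fourierInv_isClassFunction _ x y

theorem omega_blockCoeff (B : Set (IrrCharacter G)) (χ : IrrCharacter G) :
    omega (χ : G → ℂ) (fun g => blockCoeff B g) = blockInd B χ := by
  simp only [blockCoeff_eq_fourierInv]
  exact omega_fourierInv χ _

theorem blockCoeff_conv (B B' : Set (IrrCharacter G)) (g : G) :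
    ∑ x, blockCoeff B x * blockCoeff B' (x⁻¹ * g) = blockCoeff (B ∩ B') g := by
  simp only [blockCoeff_eq_fourierInv, fourierInv_mul]
  congr 1
  funext ψ
  by_cases h : ψ ∈ B <;> by_cases h' : ψ ∈ B' <;> simp [blockInd, h, h']

/-- Class functions with local integral values supported on `C` have congruent central character
values at characters with congruent central characters on `C`. -/
theorem omega_congr_on (hM : IsPModular p M) {C : Subgroup G} {χ ψ : IrrCharacter G}
    (h : ∀ g ∈ C, MemLocalIdeal M (centralChar (χ : G → ℂ) g - centralChar (ψ : G → ℂ) g))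
    {f : G → ℂ} (hf : IsClassFunction G f) (hR : ∀ x, MemLocalRing M (f x))
    (h0 : ∀ x ∉ C, f x = 0) :
    MemLocalIdeal M (omega (χ : G → ℂ) f - omega (ψ : G → ℂ) f) := by
  rw [omega_eq_sum_centralChar χ hf, omega_eq_sum_centralChar ψ hf, ← Finset.sum_sub_distrib]
  refine LI.sum hM fun K _ => ?_
  rw [← mul_sub]
  by_cases hK : K.out ∈ C
  · exact LI.mul_left hM (hR _) (h _ hK)
  · rw [h0 _ hK, zero_mul]; exact LI.zero hM

/-- A set with local integral indicator is a union of classes of congruence on `C`. -/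
theorem IsLocalOn.mem_of_congr (hM : IsPModular p M) {C : Subgroup G}
    {S : Set (IrrCharacter G)} (hS : IsLocalOn M C (blockInd S)) {χ ψ : IrrCharacter G}
    (hχ : χ ∈ S)
    (h : ∀ g ∈ C, MemLocalIdeal M (Cfsg.centralChar (χ : G → ℂ) g - Cfsg.centralChar (ψ : G → ℂ) g)) :
    ψ ∈ S := by
  by_contra hψ
  have := omega_congr_on hM h (fourierInv_isClassFunction (blockInd S)) (fun x => (hS x).1)
    fun x => (hS x).2
  rw [omega_fourierInv, omega_fourierInv, blockInd_of_mem hχ, blockInd_of_notMem hψ,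
    sub_zero] at this
  exact LI.not_one hM this

theorem IsLocalOn.mem_of_sameBlock (hM : IsPModular p M) {C : Subgroup G}
    {S : Set (IrrCharacter G)} (hS : IsLocalOn M C (blockInd S)) {χ ψ : IrrCharacter G}
    (hχ : χ ∈ S) (h : SameBlock M (χ : G → ℂ) (ψ : G → ℂ)) : ψ ∈ S :=
  hS.mem_of_congr hM hχ fun g _ => h g

/-- Orthogonality for a local integral idempotent. -/
theorem IsLocalOn.sum_mul_eq_zero (hM : IsPModular p M) {C : Subgroup G}
    {F : IrrCharacter G → ℂ} (hF : IsLocalOn M C F) (hidem : ∀ ψ, F ψ * F ψ = F ψ) {g h : G}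
    (hg : p ∣ orderOf g) (hh : ¬ p ∣ orderOf h) :
    ∑ ψ : IrrCharacter G, F ψ * ((ψ : G → ℂ) g * (ψ : G → ℂ) h) = 0 := by
  have h0 := sum_conj_mul_eq_zero hM (fun x => (hF x).1) (fun x => by
    rw [fourierInv_mul]; simp only [hidem]) (fourierInv_isClassFunction F)
    (g := g⁻¹) (h := h⁻¹) (by simpa using hg) (by simpa using hh)
  simp only [fourierInv] at h0
  rw [← Finset.mul_sum, Finset.sum_comm] at h0
  have h1 := (mul_eq_zero.1 h0).resolve_left (inv_ne_zero CfsgLib.Char.card_ne_zero)
  have key : ∀ ψ : IrrCharacter G,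
      ∑ x : G, F ψ * ((ψ : G → ℂ) 1 * (ψ : G → ℂ) (x * g⁻¹ * x⁻¹ * h⁻¹)⁻¹)
        = (Nat.card G : ℂ) * (F ψ * ((ψ : G → ℂ) g * (ψ : G → ℂ) h)) := fun ψ => by
    rw [← Finset.mul_sum, ← Finset.mul_sum]
    simp only [mul_inv_rev, inv_inv, mul_assoc]
    have := sum_conj_mul ψ h g
    simp only [mul_assoc] at this
    rw [this]
    have := irr_one_ne_zero ψ
    field_simp
  rw [Finset.sum_congr rfl fun ψ _ => key ψ, ← Finset.mul_sum] at h1
  exact (mul_eq_zero.1 h1).resolve_left CfsgLib.Char.card_ne_zero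

/-- Block orthogonality. -/
theorem IsPBlock.sum_mul_eq_zero (hM : IsPModular p M) {B : Set (IrrCharacter G)}
    (hB : IsPBlock M B) {g h : G} (hg : p ∣ orderOf g) (hh : ¬ p ∣ orderOf h) :
    ∑ ψ : IrrCharacter G, blockInd B ψ * ((ψ : G → ℂ) g * (ψ : G → ℂ) h) = 0 :=
  (IsPBlock.isLocalOn hM hB).sum_mul_eq_zero hM (blockInd_mul_self B) hg hh

theorem IsPBlock.blockCoeff_eq_zero (hM : IsPModular p M) {B : Set (IrrCharacter G)}
    (hB : IsPBlock M B) {g : G} (hg : p ∣ orderOf g) : blockCoeff B g = 0 := by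
  rw [blockCoeff_eq_fourierInv]
  exact eq_zero_of_singular hM (fun x => (IsPBlock.isLocalOn hM hB x).1)
    (fun x => by rw [fourierInv_mul]; simp only [blockInd_mul_self])
    (fourierInv_isClassFunction _) hg

end CfsgLib.Blocks
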