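import Mathlib.RingTheory.LittleWedderburn
import Mathlib.RingTheory.IntegralDomain
import Mathlib.RingTheory.RootsOfUnity.PrimitiveRoots
import Mathlib.LinearAlgebra.FreeModule.Finite.Matrix
import Mathlib.RingTheory.Finiteness.Cardinality
import Mathlib.LinearAlgebra.Dimension.Constructions
import Mathlib.Algebra.Algebra.Subalgebra.Basic
import Mathlib.Tactic.Group

/-!
# Irreducible modules of a group of order prime to the characteristic over a finite field

A module without idempotent endomorphisms, restricted to a normal subgroup with cyclic quotient,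
contains each homogeneous component at most once, once the averages of the group act by scalars.
-/

set_option autoImplicit false

namespace CfsgLib.Blocks.ModBound

open scoped Classical

variable {k : Type*} [Field k] {V : Type*} [AddCommGroup V] [Module k V] {H : Type*} [Group H] [Fintype H]
  (ρ : H →* Module.End k V)

/-- The average of an endomorphism over the group. -/
noncomputable def avgEnd (f : Module.End k V) : Module.End k V :=
  (Fintype.card H : k)⁻¹ • ∑ h : H, ρ h * f * ρ h⁻¹

theorem avgEnd_commute (f : Module.End k V) (g : H) : Commute (avgEnd ρ f) (ρ g) := by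
  rw [avgEnd]
  refine Commute.smul_left ?_ _
  rw [Commute, SemiconjBy, Finset.sum_mul, Finset.mul_sum]
  symm
  refine Fintype.sum_equiv (Equiv.mulLeft g) _ _ fun h => ?_
  simp only [Equiv.coe_mulLeft, mul_inv_rev, map_mul, mul_assoc]
  rw [← map_mul ρ g⁻¹ g, inv_mul_cancel, map_one, mul_one]

theorem avgEnd_eq_self (hH : (Fintype.card H : k) ≠ 0) {f : Module.End k V} (hf : ∀ h, Commute f (ρ h)) :
    avgEnd ρ f = f := by
  rw [avgEnd, Finset.sum_congr rfl (g := fun _ => f) fun h _ => by
    rw [← (hf h).eq, mul_assoc, ← map_mul, mul_inv_cancel, map_one, mul_one],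
    Finset.sum_const, Finset.card_univ, ← Nat.cast_smul_eq_nsmul k, smul_smul, inv_mul_cancel₀ hH, one_smul]

/-- An equivariant projection onto an invariant subspace. -/
theorem exists_proj (hH : (Fintype.card H : k) ≠ 0) (S : Submodule k V) (hS : ∀ h, ∀ v ∈ S, ρ h v ∈ S) :
    ∃ P : Module.End k V, (∀ h, Commute P (ρ h)) ∧ (∀ v, P v ∈ S) ∧ ∀ v ∈ S, P v = v := by
  obtain ⟨g, hg⟩ := LinearMap.exists_leftInverse_of_injective S.subtype S.ker_subtype
  have hgv : ∀ v (hv : v ∈ S), g v = ⟨v, hv⟩ := fun v hv =>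
    congrArg (fun F : S →ₗ[k] S => F ⟨v, hv⟩) hg
  refine ⟨avgEnd ρ (S.subtype.comp g), avgEnd_commute ρ _, fun v => ?_, fun v hv => ?_⟩
  · simp only [avgEnd, LinearMap.smul_apply, LinearMap.sum_apply, Module.End.mul_apply]
    exact S.smul_mem _ (S.sum_mem fun h _ => hS h _ (g _).2)
  · simp only [avgEnd, LinearMap.smul_apply, LinearMap.sum_apply, Module.End.mul_apply]
    rw [Finset.sum_congr rfl (g := fun _ => v) fun h _ => by
      rw [LinearMap.comp_apply, hgv _ (hS h⁻¹ v hv)]
      show ρ h (ρ h⁻¹ v) = v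
      rw [← Module.End.mul_apply, ← map_mul, mul_inv_cancel, map_one]; rfl,
      Finset.sum_const, Finset.card_univ, ← Nat.cast_smul_eq_nsmul k, smul_smul, inv_mul_cancel₀ hH, one_smul]

/-- The double centralizer. -/
theorem mem_span_of_double [FiniteDimensional k V] (hH : (Fintype.card H : k) ≠ 0) {z : Module.End k V}
    (hz : ∀ f : Module.End k V, (∀ h, Commute f (ρ h)) → Commute z f) :
    z ∈ Submodule.span k (Set.range fun h => ρ h) := by
  let b := Module.finBasis k V
  let w : Fin (Module.finrank k V) → V := fun i => b i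
  let ρ' : H →* Module.End k (Fin (Module.finrank k V) → V) :=
    { toFun := fun h => LinearMap.pi fun i => (ρ h).comp (LinearMap.proj i)
      map_one' := LinearMap.ext fun x => funext fun i => by simp
      map_mul' := fun g h => LinearMap.ext fun x => funext fun i => by simp }
  set S := Submodule.span k (Set.range fun h => ρ' h w) with hS
  have hSinv : ∀ h, ∀ v ∈ S, ρ' h v ∈ S := by
    intro h v hv
    have : S ≤ S.comap (ρ' h) := Submodule.span_le.2 (by
      rintro _ ⟨g, rfl⟩
      exact Submodule.subset_span ⟨h * g, by show ρ' (h * g) w = ρ' h (ρ' g w); rw [map_mul]; rfl⟩)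
    exact this hv
  obtain ⟨P, hP, hPS, hPfix⟩ := exists_proj ρ' hH S hSinv
  have hw : w ∈ S := Submodule.subset_span ⟨1, by show ρ' 1 w = w; rw [map_one]; rfl⟩
  let Pij : Fin (Module.finrank k V) → Fin (Module.finrank k V) → Module.End k V := fun i j =>
    (LinearMap.proj i).comp (P.comp (LinearMap.single k (fun _ => V) j))
  have hsingle : ∀ h j v, LinearMap.single k (fun _ => V) j (ρ h v) = ρ' h (LinearMap.single k (fun _ => V) j v) :=
    fun h j v => funext fun i => by
      show _ = ρ h (LinearMap.single k (fun _ => V) j v i)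
      by_cases e : i = j
      · subst e; simp
      · simp [e]
  have hPij : ∀ i j h, Commute (Pij i j) (ρ h) := fun i j h => LinearMap.ext fun v => by
    show P (LinearMap.single k (fun _ => V) j (ρ h v)) i = ρ h (P (LinearMap.single k (fun _ => V) j v) i)
    rw [hsingle, ← Module.End.mul_apply, (hP h).eq]
    rfl
  have hexp : ∀ x i, P x i = ∑ j, Pij i j (x j) := fun x i => by
    conv_lhs => rw [← Finset.univ_sum_single x]
    rw [map_sum, Finset.sum_apply]
    rfl
  have hzP : (fun i => z (w i)) = P (fun i => z (w i)) := by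
    funext i
    rw [hexp]
    conv_lhs => rw [← hPfix w hw, hexp, map_sum]
    exact Finset.sum_congr rfl fun j _ =>
      congrArg (fun F : Module.End k V => F (w j)) (hz (Pij i j) (hPij i j)).eq
  obtain ⟨a, ha⟩ := (Submodule.mem_span_range_iff_exists_fun k).1 (hzP ▸ hPS _ : (fun i => z (w i)) ∈ S)
  refine (Submodule.mem_span_range_iff_exists_fun k).2 ⟨a, b.ext fun i => ?_⟩
  have := congrFun ha i
  simp only [Finset.sum_apply, Pi.smul_apply] at this
  rw [LinearMap.sum_apply]
  simpa [ρ', w] using this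

/-- Invariant subspaces are trivial. -/
theorem invariant_eq (hH : (Fintype.card H : k) ≠ 0)
    (hidem : ∀ f : Module.End k V, (∀ h, Commute f (ρ h)) → f * f = f → f = 0 ∨ f = 1)
    (S : Submodule k V) (hS : ∀ h, ∀ v ∈ S, ρ h v ∈ S) : S = ⊥ ∨ S = ⊤ := by
  obtain ⟨P, hP, hPS, hfix⟩ := exists_proj ρ hH S hS
  rcases hidem P hP (LinearMap.ext fun v => hfix _ (hPS v)) with h | h
  · refine Or.inl ((Submodule.eq_bot_iff S).2 fun v hv => ?_)
    rw [← hfix v hv, h]; rfl
  · refine Or.inr (Submodule.eq_top_iff'.2 fun v => ?_)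
    have := hPS v
    rwa [h] at this

/-- An endomorphism with invariant kernel is zero or injective. -/
theorem eq_zero_or_injective (hH : (Fintype.card H : k) ≠ 0)
    (hidem : ∀ f : Module.End k V, (∀ h, Commute f (ρ h)) → f * f = f → f = 0 ∨ f = 1)
    (a : Module.End k V) (ha : ∀ h, ∀ v, a v = 0 → a (ρ h v) = 0) : a = 0 ∨ Function.Injective a := by
  rcases invariant_eq ρ hH hidem (LinearMap.ker a) (fun h v hv => ha h v hv) with h | h
  · exact Or.inr (LinearMap.ker_eq_bot.1 h)
  · exact Or.inl (LinearMap.ker_eq_top.1 h)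

/-- The commutant consists of scalars. -/
theorem commutant_scalar [Finite k] [FiniteDimensional k V] (hH : (Fintype.card H : k) ≠ 0)
    (hidem : ∀ f : Module.End k V, (∀ h, Commute f (ρ h)) → f * f = f → f = 0 ∨ f = 1)
    (hscal : ∀ h, ∃ r : k, avgEnd ρ (ρ h) = r • 1) {f : Module.End k V} (hf : ∀ h, Commute f (ρ h)) :
    ∃ r : k, f = r • 1 := by
  rcases subsingleton_or_nontrivial V with hV | hV
  · exact ⟨0, LinearMap.ext fun v => Subsingleton.elim _ _⟩
  haveI : Finite V := Module.finite_of_finite k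
  haveI : Finite (Module.End k V) := Finite.of_injective (fun F => (F : V → V)) DFunLike.coe_injective
  set C := Subalgebra.centralizer k (Set.range fun h => ρ h) with hC
  have hCmem : ∀ g, g ∈ C ↔ ∀ h, Commute g (ρ h) := fun g => by
    rw [hC, Subalgebra.mem_centralizer_iff]
    exact ⟨fun e h => (e _ ⟨h, rfl⟩).symm, by rintro e _ ⟨h, rfl⟩; exact (e h).eq.symm⟩
  haveI : NoZeroDivisors C := ⟨fun {a b} hab => by
    rcases eq_zero_or_injective ρ hH hidem a.1 (fun h v hv => by
      rw [← Module.End.mul_apply, ((hCmem _).1 a.2 h).eq, Module.End.mul_apply, hv, map_zero]) with e | e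
    · exact Or.inl (Subtype.ext e)
    · refine Or.inr (Subtype.ext (LinearMap.ext fun v => e ?_))
      have := congrArg (fun F : Module.End k V => F v) (congrArg Subtype.val hab)
      rw [ZeroMemClass.coe_zero, LinearMap.zero_apply, map_zero]
      simpa using this⟩
  haveI : Nontrivial C := ⟨0, 1, fun e => by
    obtain ⟨v, hv⟩ := exists_ne (0 : V)
    exact hv (congrArg (fun F : Module.End k V => F v) (congrArg Subtype.val e)).symm⟩
  haveI : IsDomain C := NoZeroDivisors.to_isDomain C
  have hcomm := (Finite.isDomain_to_isField C).mul_comm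
  have hz : f ∈ Submodule.span k (Set.range fun h => ρ h) := mem_span_of_double ρ hH fun g hg =>
    congrArg Subtype.val (hcomm ⟨f, (hCmem f).2 hf⟩ ⟨g, (hCmem g).2 hg⟩)
  obtain ⟨a, ha⟩ := (Submodule.mem_span_range_iff_exists_fun k).1 hz
  choose r hr using hscal
  refine ⟨∑ h, a h * r h, ?_⟩
  rw [Finset.sum_smul]
  conv_lhs => rw [← avgEnd_eq_self ρ hH hf, ← ha]
  simp only [avgEnd, Finset.mul_sum, Finset.sum_mul, mul_smul_comm, smul_mul_assoc]
  rw [Finset.sum_comm, Finset.smul_sum]
  refine Finset.sum_congr rfl fun h _ => ?_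
  rw [← Finset.smul_sum, smul_comm, mul_smul, ← hr h]
  rfl

/-- The bound on a homogeneous component. -/
theorem isotypic_bound [Finite k] [FiniteDimensional k V] (hH : (Fintype.card H : k) ≠ 0)
    (hidem : ∀ f : Module.End k V, (∀ h, Commute f (ρ h)) → f * f = f → f = 0 ∨ f = 1)
    (hscal : ∀ h, ∃ r : k, avgEnd ρ (ρ h) = r • 1)
    (K : Subgroup H) [K.Normal] {n₀ : H} {d : ℕ} (hd : (d : k) ≠ 0) (hnd : n₀ ^ d ∈ K)
    (hgen : ∀ h : H, ∃ i : ℕ, ∃ y ∈ K, h = n₀ ^ i * y) {ω : k} (hω : IsPrimitiveRoot ω d)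
    (E : Module.End k V) (hE : E * E = E) (hEK : ∀ y ∈ K, Commute E (ρ y))
    (hEscal : ∀ y : K, ∃ r : k, (∑ u : K, ρ ((u * y * u⁻¹ : K) : H)) * E = r • E)
    (D₀ : ℕ) (hspan : Module.finrank k (Submodule.span k (Set.range fun y : K => ρ y * E)) ≤ D₀ * D₀) :
    Module.finrank k (LinearMap.range E) ≤ D₀ := by
  rcases subsingleton_or_nontrivial V with hV | hV
  · rw [show Module.finrank k (LinearMap.range E) = 0 from Module.finrank_zero_of_subsingleton]
    exact Nat.zero_le _
  have hd0 : d ≠ 0 := fun e => hd (by rw [e, Nat.cast_zero])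
  set ρK : K →* Module.End k V := ρ.comp K.subtype with hρK
  have hK : (Fintype.card K : k) ≠ 0 := by
    obtain ⟨c, hc⟩ := K.card_subgroup_dvd_card
    intro e
    refine hH ?_
    rw [← Nat.card_eq_fintype_card, hc, Nat.cast_mul, Nat.card_eq_fintype_card, e, zero_mul]
  set n := ρ n₀ with hn
  let Hom : k → Module.End k V → Prop := fun l a => (∀ y : K, Commute a (ρK y)) ∧ n * a = l • (a * n)
  have hcomm0 : ∀ a : Module.End k V, (∀ y : K, Commute a (ρK y)) → Commute a n → ∀ h, Commute a (ρ h) := by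
    intro a h1 h2 h
    obtain ⟨i, y, hy, rfl⟩ := hgen h
    rw [map_mul, map_pow]
    exact (h2.pow_right i).mul_right (h1 ⟨y, hy⟩)
  have hinj : ∀ l a, Hom l a → a ≠ 0 → l ≠ 0 → Function.Injective a := by
    intro l a ha ha0 hl
    refine (eq_zero_or_injective ρ hH hidem a fun h v hv => ?_).resolve_left ha0
    obtain ⟨i, y, hy, rfl⟩ := hgen h
    have hpow : ∀ i v, a v = 0 → a ((n ^ i) v) = 0 := by
      intro i
      induction i with
      | zero => exact fun v hv => hv
      | succ i ih =>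
        intro v hv
        rw [pow_succ', Module.End.mul_apply]
        have e := congrArg (fun F : Module.End k V => F ((n ^ i) v)) ha.2
        simp only [Module.End.mul_apply, LinearMap.smul_apply, ih v hv, map_zero] at e
        exact (smul_eq_zero.1 e.symm).resolve_left hl
    rw [map_mul, map_pow, Module.End.mul_apply]
    refine hpow i _ ?_
    show a (ρK ⟨y, hy⟩ v) = 0
    rw [← Module.End.mul_apply, (ha.1 ⟨y, hy⟩).eq, Module.End.mul_apply, hv, map_zero]
  have hunit : ∀ l a, Hom l a → a ≠ 0 → l ≠ 0 → ∃ a' : Module.End k V, a' * a = 1 ∧ a * a' = 1 := by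
    intro l a ha ha0 hl
    have hb : Function.Bijective a := ⟨hinj l a ha ha0 hl, LinearMap.injective_iff_surjective.1 (hinj l a ha ha0 hl)⟩
    refine ⟨(LinearEquiv.ofBijective a hb).symm.toLinearMap, LinearMap.ext fun v => ?_, LinearMap.ext fun v => ?_⟩
    · exact (LinearEquiv.ofBijective a hb).symm_apply_apply v
    · exact (LinearEquiv.ofBijective a hb).apply_symm_apply v
  have hinv : ∀ l a a', Hom l a → a' * a = 1 → a * a' = 1 → l ≠ 0 → Hom l⁻¹ a' := by
    intro l a a' ha h1 h2 hl
    refine ⟨fun y => ?_, ?_⟩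
    · have e := congrArg (fun F => a' * F * a') (ha.1 y).eq
      simp only [← mul_assoc, h1, one_mul] at e
      simp only [mul_assoc, h2, mul_one] at e
      exact e.symm
    · have e := congrArg (fun F => a' * F * a') ha.2
      simp only [mul_smul_comm, smul_mul_assoc, ← mul_assoc, h1, one_mul] at e
      simp only [mul_assoc, h2, mul_one] at e
      rw [e, smul_smul, inv_mul_cancel₀ hl, one_smul]
  have hmul : ∀ l m a c, Hom l a → Hom m c → Hom (l * m) (a * c) := by
    intro l m a c ha hc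
    refine ⟨fun y => (ha.1 y).mul_left (hc.1 y), ?_⟩
    rw [← mul_assoc, ha.2, smul_mul_assoc, mul_assoc, hc.2, mul_smul_comm, smul_smul, mul_assoc]
  have hline : ∀ l a c, l ≠ 0 → a ≠ 0 → Hom l a → Hom l c → ∃ r : k, c = r • a := by
    intro l a c hl ha0 ha hc
    obtain ⟨a', h1, h2⟩ := hunit l a ha ha0 hl
    have hh := hmul _ _ _ _ (hinv l a a' ha h1 h2 hl) hc
    rw [inv_mul_cancel₀ hl] at hh
    obtain ⟨r, hr⟩ := commutant_scalar ρ hH hidem hscal
      (hcomm0 _ hh.1 (show Commute (a' * c) n from (by have := hh.2; rw [one_smul] at this; exact this.symm)))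
    refine ⟨r, ?_⟩
    have := congrArg (fun F => a * F) hr
    rwa [← mul_assoc, h2, one_mul, mul_smul_comm, mul_one] at this
  -- the degrees that occur
  let Λ : Subgroup kˣ :=
    { carrier := {l | ∃ a, a ≠ 0 ∧ Hom (l : k) a}
      one_mem' := ⟨1, one_ne_zero, fun y => Commute.one_left _, by simp⟩
      mul_mem' := by
        rintro l m ⟨a, ha0, ha⟩ ⟨c, hc0, hc⟩
        refine ⟨a * c, fun e => hc0 (LinearMap.ext fun v => hinj _ a ha ha0 l.ne_zero ?_), by
          rw [Units.val_mul]; exact hmul _ _ _ _ ha hc⟩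
        have := congrArg (fun F : Module.End k V => F v) e
        rw [LinearMap.zero_apply, map_zero]
        exact this
      inv_mem' := by
        rintro l ⟨a, ha0, ha⟩
        obtain ⟨a', h1, h2⟩ := hunit _ a ha ha0 l.ne_zero
        exact ⟨a', fun e => one_ne_zero (by rw [← h1, e, zero_mul] : (1 : Module.End k V) = 0),
          by rw [Units.val_inv_eq_inv_val]; exact hinv _ a a' ha h1 h2 l.ne_zero⟩ }
  obtain ⟨g, hg⟩ := IsCyclic.exists_generator (α := Λ)
  obtain ⟨a₀, ha₀0, ha₀⟩ := g.2
  have hhom : ∀ l c, l ≠ 0 → Hom l c → ∃ (i : ℕ) (r : k), c = r • a₀ ^ i := by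
    intro l c hl hc
    by_cases hc0 : c = 0
    · exact ⟨0, 0, by rw [hc0, zero_smul]⟩
    obtain ⟨i, hi⟩ := (Submonoid.mem_powers_iff _ _).1
      (mem_powers_iff_mem_zpowers.2 (hg ⟨Units.mk0 l hl, c, hc0, hc⟩))
    have hli : ((g : kˣ) : k) ^ i = l := by
      have := congrArg (fun z : Λ => ((z : kˣ) : k)) hi
      simpa using this
    have hpow : ∀ j : ℕ, Hom (((g : kˣ) : k) ^ j) (a₀ ^ j) ∧ Function.Injective ⇑(a₀ ^ j : Module.End k V) := by
      intro j
      induction j with
      | zero =>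
        exact ⟨⟨fun y => by rw [pow_zero]; exact Commute.one_left _, by rw [pow_zero, pow_zero]; simp⟩,
          fun u v e => by simpa using e⟩
      | succ j ih =>
        refine ⟨by rw [pow_succ, pow_succ]; exact hmul _ _ _ _ ih.1 ha₀, ?_⟩
        rw [pow_succ]
        exact ih.2.comp (hinj _ a₀ ha₀ ha₀0 (Units.ne_zero _))
    obtain ⟨v, hv⟩ := exists_ne (0 : V)
    refine ⟨i, hline l _ c hl (fun e => hv ((hpow i).2 ?_)) (hli ▸ (hpow i).1) hc⟩
    rw [e]; rfl
  -- the eigencomponents
  have hMspan : ∀ m : Module.End k V, (∀ y : K, Commute m (ρK y)) →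
      m ∈ Submodule.span k (Set.range fun i : ℕ => a₀ ^ i) := by
    intro m hm
    let cj : ℕ → Module.End k V := fun i => ρ (n₀ ^ i) * m * ρ (n₀ ^ i)⁻¹
    have hcjK : ∀ i, ∀ y : K, Commute (cj i) (ρK y) := fun i y => by
      have h1 := hm ⟨(n₀ ^ i)⁻¹ * y * n₀ ^ i, by
        simpa using Subgroup.Normal.conj_mem ‹K.Normal› (y : H) y.2 (n₀ ^ i)⁻¹⟩
      show ρ (n₀ ^ i) * m * ρ (n₀ ^ i)⁻¹ * ρ (y : H) = ρ (y : H) * (ρ (n₀ ^ i) * m * ρ (n₀ ^ i)⁻¹)
      have e1 : ρ (n₀ ^ i)⁻¹ * ρ (y : H) = ρ ((n₀ ^ i)⁻¹ * y * n₀ ^ i) * ρ (n₀ ^ i)⁻¹ := by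
        rw [← map_mul, ← map_mul]; congr 1; group
      have e2 : ρ (n₀ ^ i) * ρ ((n₀ ^ i)⁻¹ * y * n₀ ^ i) = ρ (y : H) * ρ (n₀ ^ i) := by
        rw [← map_mul, ← map_mul]; congr 1; group
      calc _ = ρ (n₀ ^ i) * (m * (ρ ((n₀ ^ i)⁻¹ * y * n₀ ^ i))) * ρ (n₀ ^ i)⁻¹ := by
            rw [mul_assoc _ _ (ρ (y : H)), e1]; simp only [mul_assoc]
        _ = ρ (n₀ ^ i) * (ρ ((n₀ ^ i)⁻¹ * y * n₀ ^ i) * m) * ρ (n₀ ^ i)⁻¹ := by
            rw [show m * ρ ((n₀ ^ i)⁻¹ * y * n₀ ^ i) = ρ ((n₀ ^ i)⁻¹ * y * n₀ ^ i) * m from h1.eq]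
        _ = _ := by rw [← mul_assoc (ρ (n₀ ^ i)), e2]; simp only [mul_assoc]
    have hcjs : ∀ i, n * cj i = cj (i + 1) * n := fun i => by
      show n * (ρ (n₀ ^ i) * m * ρ (n₀ ^ i)⁻¹) = ρ (n₀ ^ (i + 1)) * m * ρ (n₀ ^ (i + 1))⁻¹ * n
      rw [pow_succ' n₀ i, mul_inv_rev, map_mul, map_mul, hn]
      simp only [mul_assoc]
      rw [← map_mul ρ n₀⁻¹ n₀, inv_mul_cancel, map_one, mul_one]
    have hcjd : cj d = cj 0 := by
      show ρ (n₀ ^ d) * m * ρ (n₀ ^ d)⁻¹ = ρ (n₀ ^ 0) * m * ρ (n₀ ^ 0)⁻¹
      rw [show ρ (n₀ ^ d) = ρK ⟨_, hnd⟩ from rfl, ← (hm ⟨_, hnd⟩).eq, mul_assoc]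
      show m * (ρ (n₀ ^ d) * ρ (n₀ ^ d)⁻¹) = _
      rw [← map_mul, mul_inv_cancel, map_one, mul_one, pow_zero, inv_one, map_one, one_mul, mul_one]
    have hcj0 : cj 0 = m := by
      show ρ (n₀ ^ 0) * m * ρ (n₀ ^ 0)⁻¹ = m
      rw [pow_zero, inv_one, map_one, one_mul, mul_one]
    let pr : ℕ → Module.End k V := fun j => (d : k)⁻¹ • ∑ i ∈ Finset.range d, ((ω ^ j)⁻¹) ^ i • cj i
    have hω0 : ω ≠ 0 := hω.ne_zero hd0
    have hpr : ∀ j, Hom (ω ^ j) (pr j) := by
      intro j
      refine ⟨fun y => Commute.smul_left (Commute.sum_left _ _ _ fun i _ => (hcjK i y).smul_left _) _, ?_⟩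
      have hj : ((ω ^ j)⁻¹) ^ d = 1 := by
        rw [inv_pow, ← pow_mul, mul_comm, pow_mul, hω.pow_eq_one, one_pow, inv_one]
      have e : ∑ i ∈ Finset.range d, ((ω ^ j)⁻¹) ^ i • cj (i + 1)
          = ω ^ j • ∑ i ∈ Finset.range d, ((ω ^ j)⁻¹) ^ i • cj i := by
        have e1 := Finset.sum_range_succ' (fun i => ((ω ^ j)⁻¹) ^ i • cj i) d
        rw [Finset.sum_range_succ, hj, hcjd, pow_zero, add_left_inj] at e1
        rw [e1, Finset.smul_sum]
        refine Finset.sum_congr rfl fun i _ => ?_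
        rw [smul_smul, pow_succ', ← mul_assoc, mul_inv_cancel₀ (pow_ne_zero _ hω0), one_mul]
      show n * ((d : k)⁻¹ • ∑ i ∈ Finset.range d, ((ω ^ j)⁻¹) ^ i • cj i) = ω ^ j • (pr j * n)
      rw [mul_smul_comm, Finset.mul_sum, Finset.sum_congr rfl (g := fun i => (((ω ^ j)⁻¹) ^ i • cj (i + 1)) * n)
        fun i _ => by rw [mul_smul_comm, hcjs, smul_mul_assoc], ← Finset.sum_mul, e]
      simp only [pr, smul_mul_assoc, smul_smul]
      rw [mul_comm]
    have hsum : ∑ j ∈ Finset.range d, pr j = m := by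
      simp only [pr, ← Finset.smul_sum]
      rw [Finset.sum_comm, Finset.sum_eq_single 0 (fun i hi hi0 => ?_) (fun h => absurd
        (Finset.mem_range.2 (Nat.pos_of_ne_zero hd0)) h)]
      · simp only [pow_zero, one_smul, Finset.sum_const, Finset.card_range, hcj0]
        rw [← Nat.cast_smul_eq_nsmul k, smul_smul, inv_mul_cancel₀ hd, one_smul]
      · rw [← Finset.sum_smul]
        have hne : (ω ^ i)⁻¹ ≠ 1 := fun e =>
          hω.pow_ne_one_of_pos_of_lt hi0 (Finset.mem_range.1 hi) (inv_eq_one.1 e)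
        have e : ∑ j ∈ Finset.range d, ((ω ^ j)⁻¹) ^ i = 0 := by
          rw [Finset.sum_congr rfl (g := fun j => ((ω ^ i)⁻¹) ^ j) fun j _ => by
            rw [inv_pow, inv_pow, ← pow_mul, ← pow_mul, mul_comm], geom_sum_eq hne, inv_pow, ← pow_mul,
            mul_comm, pow_mul, hω.pow_eq_one, one_pow, inv_one, sub_self, zero_div]
        rw [e, zero_smul]
    rw [← hsum]
    refine Submodule.sum_mem _ fun j _ => ?_
    obtain ⟨i, r, e⟩ := hhom _ _ (pow_ne_zero _ hω0) (hpr j)
    rw [e]
    exact Submodule.smul_mem _ _ (Submodule.subset_span ⟨i, rfl⟩)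
  have hMcomm : ∀ m m' : Module.End k V, (∀ y : K, Commute m (ρK y)) → (∀ y : K, Commute m' (ρK y)) →
      Commute m m' := by
    intro m m' hm hm'
    have h1 : ∀ i : ℕ, Commute (a₀ ^ i) m' := fun i => by
      have h2 := hMspan m' hm'
      clear hm'
      induction h2 using Submodule.span_induction with
      | mem u hu =>
        obtain ⟨j, rfl⟩ := hu
        exact (Commute.refl a₀).pow_pow i j
      | zero => exact Commute.zero_right _
      | add u v _ _ hu hv => exact hu.add_right hv
      | smul r u _ hu => exact hu.smul_right r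
    have h2 := hMspan m hm
    clear hm
    induction h2 using Submodule.span_induction with
    | mem u hu =>
      obtain ⟨j, rfl⟩ := hu
      exact h1 j
    | zero => exact Commute.zero_left _
    | add u v _ _ hu hv => exact hu.add_left hv
    | smul r u _ hu => exact hu.smul_left r
  -- the commutant is scalar on the component
  have hEm : ∀ m : Module.End k V, (∀ y : K, Commute m (ρK y)) → ∃ r : k, m * E = r • E ∧ E * m = r • E := by
    intro m hm
    obtain ⟨a, ha⟩ := (Submodule.mem_span_range_iff_exists_fun k).1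
      (mem_span_of_double ρK hK fun f hf => hMcomm m f hm hf)
    choose r hr using hEscal
    refine ⟨(Fintype.card K : k)⁻¹ * ∑ y, a y * r y, ?_⟩
    have e1 : m * E = ((Fintype.card K : k)⁻¹ * ∑ y, a y * r y) • E := by
      conv_lhs => rw [← avgEnd_eq_self ρK hK hm, ← ha]
      rw [avgEnd, smul_mul_assoc, mul_smul]
      congr 1
      simp only [Finset.mul_sum, Finset.sum_mul, mul_smul_comm, smul_mul_assoc]
      rw [Finset.sum_comm, Finset.sum_smul]
      refine Finset.sum_congr rfl fun y _ => ?_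
      rw [mul_smul, ← hr y, ← Finset.smul_sum, Finset.sum_mul]
      congr 1
      refine Finset.sum_congr rfl fun u _ => ?_
      rw [← map_mul ρK, ← map_mul ρK]
      rfl
    have e2 : Commute E m := by
      rw [← ha]
      exact Commute.sum_right _ _ _ fun y _ => (hEK _ y.2).smul_right _
    exact ⟨e1, e2.eq.trans e1⟩
  -- dimensions
  set S := Submodule.span k (Set.range fun y : K => ρ y * E) with hS
  let Φ : Module.End k (LinearMap.range E) →ₗ[k] Module.End k V :=
    { toFun := fun T => (LinearMap.range E).subtype.comp (T.comp E.rangeRestrict)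
      map_add' := fun T T' => LinearMap.ext fun v => by simp
      map_smul' := fun r T => LinearMap.ext fun v => by simp }
  have hfix : ∀ v ∈ LinearMap.range E, E v = v := by
    rintro _ ⟨u, rfl⟩
    exact congrArg (fun F : Module.End k V => F u) hE
  have hΦS : ∀ T, Φ T ∈ S := by
    intro T
    set t := Φ T with ht
    have htE : t * E = t := LinearMap.ext fun v => by
      show ((T (E.rangeRestrict (E v))) : V) = T (E.rangeRestrict v)
      congr 2
      exact Subtype.ext (hfix _ (LinearMap.mem_range_self E v))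
    have hEt : E * t = t := LinearMap.ext fun v => hfix _ (T (E.rangeRestrict v)).2
    have hmem := mem_span_of_double ρK hK (z := t) fun f hf => by
      obtain ⟨r, h1, h2⟩ := hEm f hf
      have l1 : f * t = r • t := by
        conv_lhs => rw [← hEt, ← mul_assoc, h1, smul_mul_assoc, hEt]
      have l2 : t * f = r • t := by
        conv_lhs => rw [← htE, mul_assoc, h2, mul_smul_comm, htE]
      exact l2.trans l1.symm
    obtain ⟨a, ha⟩ := (Submodule.mem_span_range_iff_exists_fun k).1 hmem
    rw [← htE, ← ha, Finset.sum_mul]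
    refine Submodule.sum_mem _ fun y _ => ?_
    rw [smul_mul_assoc]
    exact Submodule.smul_mem _ _ (Submodule.subset_span ⟨y, rfl⟩)
  have hΦinj : Function.Injective (Φ.codRestrict S hΦS) := by
    intro T T' e
    refine LinearMap.ext fun w => ?_
    obtain ⟨v, rfl⟩ := LinearMap.surjective_rangeRestrict E w
    exact Subtype.ext (congrArg (fun F : Module.End k V => F v) (congrArg Subtype.val e))
  have := LinearMap.finrank_le_finrank_of_injective hΦinj
  rw [Module.finrank_linearMap] at this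
  exact Nat.mul_self_le_mul_self_iff.1 (this.trans hspan)

end CfsgLib.Blocks.ModBound
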