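import Cfsg.Agent.Lib.Blocks.LatticeBound
import Cfsg.Agent.Lib.Blocks.ModBound
import Cfsg.Agent.Lib.Blocks.Idempotent
import Cfsg.Agent.Lib.Char.Integral
import Mathlib.Algebra.Module.Torsion.Basic
import Mathlib.LinearAlgebra.Trace

/-!
# The trace sum over one orbit of characters of the `p'`-part of the centralizer
-/

set_option autoImplicit false

namespace CfsgLib.Blocks.Lattice

open Cfsg CfsgLib.Blocks
open scoped Classical ComplexConjugate

section Fun

variable {O : Type*} [CommRing O] {H : Type*} [Group H] [Fintype H]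

/-- Convolution on the right. -/
noncomputable def convRight (e : H → O) : Module.End O (H → O) where
  toFun f g := ∑ x, f x * e (x⁻¹ * g)
  map_add' f f' := funext fun g => by simp [add_mul, Finset.sum_add_distrib]
  map_smul' r f := funext fun g => by simp [Finset.mul_sum, mul_assoc]

theorem convRight_apply (e f : H → O) (g : H) : convRight e f g = ∑ x, f x * e (x⁻¹ * g) := rfl

theorem convRight_idem (e : H → O) (he : convRight e e = e) : convRight e * convRight e = convRight e := by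
  refine LinearMap.ext fun f => funext fun g => ?_
  rw [Module.End.mul_apply, convRight_apply, convRight_apply]
  simp only [convRight_apply, Finset.sum_mul]
  rw [Finset.sum_comm]
  refine Finset.sum_congr rfl fun z _ => ?_
  simp only [mul_assoc, ← Finset.mul_sum]
  congr 1
  conv_rhs => rw [← he, convRight_apply]
  exact Fintype.sum_equiv (Equiv.mulLeft z⁻¹) _ _ fun x => by simp [mul_assoc]

theorem trace_convRight (e : H → O) : LinearMap.trace O (H → O) (convRight e) = (Fintype.card H : O) * e 1 := by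
  rw [LinearMap.trace_eq_matrix_trace O (Pi.basisFun O H), Matrix.trace]
  rw [Finset.sum_congr rfl (g := fun _ => e 1) fun h _ => ?_, Finset.sum_const, Finset.card_univ, nsmul_eq_mul]
  simp [LinearMap.toMatrix_apply, convRight_apply, Pi.single_apply]

variable {A : Type*} [Ring A] [Algebra O A] (ρ : H →* A)

/-- The element of the group algebra with the given coefficients. -/
noncomputable def opFun : (H → O) →ₗ[O] A where
  toFun f := ∑ h, f h • ρ h
  map_add' f f' := by simp [add_smul, Finset.sum_add_distrib]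
  map_smul' r f := by simp [Finset.smul_sum, mul_smul]

theorem opFun_apply (f : H → O) : opFun ρ f = ∑ h, f h • ρ h := rfl

theorem opFun_mul (f e : H → O) : opFun ρ f * opFun ρ e = opFun ρ (convRight e f) := by
  rw [opFun_apply, opFun_apply, opFun_apply, Finset.sum_mul_sum]
  simp only [convRight_apply, Finset.sum_smul]
  rw [Finset.sum_comm (f := fun g x => (f x * e (x⁻¹ * g)) • ρ g)]
  exact Finset.sum_congr rfl fun x _ => Fintype.sum_equiv (Equiv.mulLeft x) _ _ fun z => by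
    simp only [Equiv.coe_mulLeft, inv_mul_cancel_left, map_mul, smul_mul_smul_comm]

theorem opFun_delta : opFun ρ (fun h => if h = 1 then (1 : O) else 0) = 1 := by
  simp [opFun_apply, Finset.sum_ite_eq']

theorem mul_opFun (u : H) (f : H → O) : ρ u * opFun ρ f = opFun ρ (fun g => f (u⁻¹ * g)) := by
  simp only [opFun_apply, Finset.mul_sum, mul_smul_comm, ← map_mul]
  exact Fintype.sum_equiv (Equiv.mulLeft u) _ _ fun h => by simp

theorem commute_opFun {f : H → O} (hf : ∀ g u, f (u * g * u⁻¹) = f g) (u : H) : Commute (opFun ρ f) (ρ u) := by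
  rw [Commute, SemiconjBy, mul_opFun]
  simp only [opFun_apply, Finset.sum_mul, smul_mul_assoc, ← map_mul]
  refine Fintype.sum_equiv (Equiv.mulRight u) _ _ fun h => ?_
  simp only [Equiv.coe_mulRight]
  congr 1
  rw [← hf h u⁻¹]
  congr 1
  group

end Fun

section Char

variable {O : Type*} [CommRing O] [IsDomain O] [CharZero O] (ι : O →+* ℂ) {H : Type*} [Group H] [Fintype H]

theorem apply_mem_range (hroots : ∀ z : ℂ, z ^ Nat.card H = 1 → z ∈ Set.range ι) (ψ : IrrCharacter H) (h : H) :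
    (ψ : H → ℂ) h ∈ ι.range := by
  obtain ⟨n, ρ, -, hρ⟩ := ψ.2
  obtain ⟨μ, hμ, hsum⟩ := Char.exists_eigenvalues ρ h
  rw [← hρ, ← pow_one h, hsum 1]
  refine sum_mem fun i _ => ?_
  rw [pow_one]
  refine hroots _ ?_
  obtain ⟨j, hj⟩ := orderOf_dvd_natCard h
  rw [hj, pow_mul, hμ, one_pow]

/-- The coefficients of the idempotent of an irreducible character. -/
theorem exists_idemFun (hι : Function.Injective ι) (hunit : IsUnit (Nat.card H : O))
    (hroots : ∀ z : ℂ, z ^ Nat.card H = 1 → z ∈ Set.range ι) (ψ : IrrCharacter H) :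
    ∃ e : H → O, (∀ h, ι (e h) = (ψ : H → ℂ) 1 / (Nat.card H : ℂ) * (ψ : H → ℂ) h⁻¹) ∧
      (∀ g u, e (u * g * u⁻¹) = e g) ∧ convRight e e = e ∧
      (Nat.card H : O) * e 1 = ((charDegree (ψ : H → ℂ) * charDegree (ψ : H → ℂ) : ℕ) : O) ∧
      ∀ h, ∃ r : O, ∀ g, ∑ u : H, e ((u * h * u⁻¹)⁻¹ * g) = r * e g := by
  obtain ⟨v, hv⟩ := hunit
  have hcard : (Nat.card H : ℂ) ≠ 0 := Char.card_ne_zero
  have hinv : ι (↑v⁻¹ : O) = (Nat.card H : ℂ)⁻¹ := by
    refine eq_inv_of_mul_eq_one_left ?_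
    rw [← map_natCast ι, ← hv, ← map_mul, Units.inv_mul, map_one]
  choose w hw using fun h => apply_mem_range ι hroots ψ h
  set e : H → O := fun h => (charDegree (ψ : H → ℂ) : O) * (↑v⁻¹ : O) * w h⁻¹ with he
  have hι' : ∀ h, ι (e h) = (ψ : H → ℂ) 1 / (Nat.card H : ℂ) * (ψ : H → ℂ) h⁻¹ := fun h => by
    rw [he, map_mul, map_mul, map_natCast, hinv, hw, irr_one_eq, div_eq_mul_inv]
  refine ⟨e, hι', fun g u => hι ?_, funext fun g => hι ?_, hι ?_, fun h => ?_⟩
  · rw [hι', hι', show (u * g * u⁻¹)⁻¹ = u * g⁻¹ * u⁻¹ by group, irr_conj_apply]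
  · rw [convRight_apply, map_sum, hι']
    simp only [map_mul, hι']
    have key := gen_orth ψ ψ g⁻¹
    rw [if_pos rfl] at key
    rw [Finset.sum_congr rfl (g := fun x => ((ψ : H → ℂ) 1 / (Nat.card H : ℂ)) ^ 2 *
      ((ψ : H → ℂ) x⁻¹ * (ψ : H → ℂ) (g⁻¹ * x))) fun x _ => by rw [mul_inv_rev, inv_inv]; ring,
      ← Finset.mul_sum, Fintype.sum_equiv (Equiv.inv H) (fun x => (ψ : H → ℂ) x⁻¹ * (ψ : H → ℂ) (g⁻¹ * x))
        (fun x => (ψ : H → ℂ) x * (ψ : H → ℂ) (x⁻¹ * g⁻¹)) (fun x => by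
          simp only [Equiv.inv_apply, inv_inv]
          rw [irr_mul_comm ψ x g⁻¹]), key]
    have := irr_one_ne_zero ψ
    field_simp
  · rw [map_mul, map_natCast, map_natCast, hι', inv_one, irr_one_eq]
    push_cast
    field_simp
  · obtain ⟨c, hc⟩ := charDegree_dvd ψ
    refine ⟨(c : O) * w h, fun g => hι ?_⟩
    rw [map_sum, map_mul, map_mul, map_natCast, hw, hι']
    rw [Finset.sum_congr rfl (g := fun u => (ψ : H → ℂ) 1 / (Nat.card H : ℂ) * (ψ : H → ℂ) (g⁻¹ * (u * h * u⁻¹)))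
      fun u _ => by rw [hι', mul_inv_rev, inv_inv], ← Finset.mul_sum, sum_conj_mul]
    have h1 := irr_one_ne_zero ψ
    have hc' : (Nat.card H : ℂ) = (ψ : H → ℂ) 1 * (c : ℂ) := by rw [irr_one_eq]; exact_mod_cast hc
    field_simp
    rw [hc']
    ring

theorem sum_idemFun (hι : Function.Injective ι) (e : IrrCharacter H → H → O)
    (he : ∀ ψ h, ι (e ψ h) = (ψ : H → ℂ) 1 / (Nat.card H : ℂ) * (ψ : H → ℂ) h⁻¹) (h : H) :
    ∑ ψ, e ψ h = if h = 1 then 1 else 0 := by
  apply hι
  rw [map_sum, Finset.sum_congr rfl fun ψ _ => he ψ h]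
  have := congrFun (fourierInv_one (G := H)) h
  simp only [fourierInv, one_mul, Finset.mul_sum] at this
  refine Eq.trans (Finset.sum_congr rfl fun ψ _ => by ring) (this.trans ?_)
  split_ifs <;> simp

end Char

section Quot

variable {O : Type*} [CommRing O] [IsDomain O] [IsPrincipalIdealRing O] [CharZero O] {p : ℕ} [hp : Fact p.Prime]
  {G : Type*} [Group G] [Fintype G] {x : G}

/-- The component of one character of `K0` in a module of the normalizer killed by `p`. -/
theorem component_bound [Finite (O ⧸ Ideal.span {(p : O)})] (hnu : ¬ IsUnit (p : O))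
    (hunit : ∀ a : O, ¬ (p : O) ∣ a → IsUnit a) (ι : O →+* ℂ) (hι : Function.Injective ι)
    (hroots : ∀ z : ℂ, z ^ (Nat.card G / p) = 1 → z ∈ Set.range ι) (hx : orderOf x = p)
    (hp2 : ¬ p ^ 2 ∣ Nat.card G) {N : Subgroup G}
    (hN : N = Subgroup.normalizer ((Subgroup.zpowers x : Subgroup G) : Set G)) (K0 : Subgroup G) (hKc : ∀ y ∈ K0, Commute y x)
    (hKn : ∀ n ∈ N, ∀ y ∈ K0, n * y * n⁻¹ ∈ K0)
    (hK : ¬ p ∣ Nat.card K0) (hC : ∀ c, Commute c x → ∃ i : ℕ, ∃ y ∈ K0, c = x ^ i * y)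
    {U : Type*} [AddCommGroup U] [Module O U] [Module.Finite O U] (hpU : ∀ u : U, (p : O) • u = 0)
    (σ : N →* Module.End O U)
    (hσx : ∀ (h : x ∈ N), σ ⟨x, h⟩ = 1)
    (hidem : ∀ f : Module.End O U, (∀ n, Commute f (σ n)) → f * f = f → f = 0 ∨ f = 1)
    (θ : IrrCharacter K0) (e : K0 → O)
    (he : ∀ y, ι (e y) = (θ : K0 → ℂ) 1 / (Nat.card K0 : ℂ) * (θ : K0 → ℂ) y⁻¹)
    (hKN : ∀ y ∈ K0, y ∈ N) :
    ∃ α, α ≤ charDegree (θ : K0 → ℂ) ∧
      Nat.card (LinearMap.range (∑ y : K0, e y • σ ⟨y, hKN y y.2⟩)) =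
        Nat.card (O ⧸ Ideal.span {(p : O)}) ^ α := by
  have hpp : p.Prime := hp.out
  set J := Ideal.span {(p : O)} with hJ
  haveI hmax : J.IsMaximal := by
    refine ⟨⟨fun h => hnu (Ideal.span_singleton_eq_top.1 h), fun I hI => ?_⟩⟩
    obtain ⟨a, haI, haJ⟩ := SetLike.exists_of_lt hI
    exact Ideal.eq_top_of_isUnit_mem _ haI (hunit a fun hd => haJ (Ideal.mem_span_singleton.2 hd))
  letI : Field (O ⧸ J) := Ideal.Quotient.field J
  haveI : CharP (O ⧸ J) p := CharP.quotient O p hnu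
  have htor : Module.IsTorsionBySet O U (J : Set O) := fun u ⟨a, ha⟩ => by
    obtain ⟨c, rfl⟩ := Ideal.mem_span_singleton.1 ha
    show ((p : O) * c) • u = 0
    rw [mul_comm, mul_smul, hpU, smul_zero]
  letI : Module (O ⧸ J) U := htor.module
  haveI : IsScalarTower O (O ⧸ J) U := Module.IsTorsionBySet.isScalarTower htor
  haveI : Module.Finite (O ⧸ J) U := Module.Finite.of_restrictScalars_finite O (O ⧸ J) U
  have hmk : ∀ (r : O) (u : U), (Ideal.Quotient.mk J r) • u = r • u := fun r u => rfl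
  let lift : Module.End O U →* Module.End (O ⧸ J) U :=
    { toFun := fun F =>
        { toFun := F
          map_add' := F.map_add
          map_smul' := fun r u => by
            obtain ⟨r, rfl⟩ := Ideal.Quotient.mk_surjective r
            simp only [hmk, map_smul, RingHom.id_apply] }
      map_one' := rfl
      map_mul' := fun F F' => rfl }
  set P' := (Subgroup.zpowers x).subgroupOf N with hP'
  haveI : P'.Normal := Subgroup.normal_subgroupOf_of_le_normalizer hN.le
  have hxN : x ∈ N := hN ▸ Subgroup.le_normalizer (Subgroup.mem_zpowers x)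
  have hker : P' ≤ (lift.comp σ).ker := by
    intro n hn
    obtain ⟨i, hi⟩ := (isOfFinOrder_of_finite x).mem_powers_iff_mem_zpowers.2 hn
    have : n = ⟨x, hxN⟩ ^ i := Subtype.ext hi.symm
    rw [MonoidHom.mem_ker, MonoidHom.comp_apply, this, map_pow, hσx hxN, one_pow, map_one]
  set ρ : N ⧸ P' →* Module.End (O ⧸ J) U := QuotientGroup.lift P' (lift.comp σ) hker with hρ
  have hρmk : ∀ (n : N) (u : U), ρ (QuotientGroup.mk n) u = σ n u := fun n u => rfl
  have hcardN : Nat.card N = Nat.card (N ⧸ P') * p := by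
    rw [Subgroup.card_eq_card_quotient_mul_card_subgroup P',
      Nat.card_congr (Subgroup.subgroupOfEquivOfLe (hN ▸ Subgroup.le_normalizer : Subgroup.zpowers x ≤ N)).toEquiv,
      Nat.card_zpowers, hx]
  have hHdvd : Nat.card (N ⧸ P') ∣ Nat.card G / p := by
    refine Nat.dvd_div_of_mul_dvd ?_
    rw [mul_comm, ← hcardN]
    exact N.card_subgroup_dvd_card
  have hHp : ¬ p ∣ Nat.card (N ⧸ P') := fun h => hp2 (by
    rw [sq]
    exact (mul_dvd_mul_right h p).trans (hcardN ▸ N.card_subgroup_dvd_card))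
  have hunitN : ∀ m : ℕ, ¬ p ∣ m → IsUnit (m : O) := fun m hm => hunit _ fun hd => hm (by
    rw [← CharP.cast_eq_zero_iff (O ⧸ J) p m, ← map_natCast (Ideal.Quotient.mk J)]
    exact Ideal.Quotient.eq_zero_iff_mem.2 (Ideal.mem_span_singleton.2 hd))
  have hrootsdvd : ∀ n, n ∣ Nat.card G / p → ∀ z : ℂ, z ^ n = 1 → z ∈ Set.range ι := fun n hn z hz =>
    hroots z (by obtain ⟨c, hc⟩ := hn; rw [hc, pow_mul, hz, one_pow])
  haveI : Fintype (N ⧸ P') := Fintype.ofFinite _
  letI : DecidableEq (N ⧸ P') := Classical.decEq _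
  have hH : (Fintype.card (N ⧸ P') : O ⧸ J) ≠ 0 := fun h => hHp (by
    rw [Nat.card_eq_fintype_card]; exact (CharP.cast_eq_zero_iff (O ⧸ J) p _).1 h)
  have hidem' : ∀ f : Module.End (O ⧸ J) U, (∀ h, Commute f (ρ h)) → f * f = f → f = 0 ∨ f = 1 := by
    intro f hf hff
    rcases hidem (f.restrictScalars O) (fun n => LinearMap.ext fun u =>
      congrArg (fun F : Module.End (O ⧸ J) U => F u) (hf (QuotientGroup.mk n)).eq)
      (LinearMap.ext fun u => congrArg (fun F : Module.End (O ⧸ J) U => F u) hff) with h | h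
    · exact Or.inl (LinearMap.ext fun u => congrArg (fun F : Module.End O U => F u) h)
    · exact Or.inr (LinearMap.ext fun u => congrArg (fun F : Module.End O U => F u) h)
  -- the averages act by scalars
  have hscal : ∀ h, ∃ r : O ⧸ J, ModBound.avgEnd ρ (ρ h) = r • 1 := by
    intro h
    rcases subsingleton_or_nontrivial U with hU | hU
    · exact ⟨0, LinearMap.ext fun v => Subsingleton.elim _ _⟩
    choose E hEι hEcl hEidem hEdeg hEsc using exists_idemFun ι hι (hunitN _ hHp) (hrootsdvd _ hHdvd)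
    have hsum : ∑ ψ, opFun ρ (E ψ) = 1 := by
      rw [← map_sum, show (∑ ψ, E ψ) = fun g => if g = 1 then (1 : O) else 0 from
        funext fun g => by rw [Finset.sum_apply]; exact sum_idemFun ι hι E hEι g, opFun_delta]
    obtain ⟨ψ, hψ⟩ : ∃ ψ, opFun ρ (E ψ) = 1 := by
      by_contra hno
      push Not at hno
      rw [Finset.sum_eq_zero fun ψ _ => ((hidem' _ (commute_opFun ρ (hEcl ψ))
        (by rw [opFun_mul, hEidem])).resolve_right (hno ψ))] at hsum
      exact zero_ne_one hsum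
    obtain ⟨r, hr⟩ := hEsc ψ h
    refine ⟨(Fintype.card (N ⧸ P') : O ⧸ J)⁻¹ * Ideal.Quotient.mk J r, ?_⟩
    rw [ModBound.avgEnd, mul_smul]
    congr 1
    rw [← mul_one (∑ u, ρ u * ρ h * ρ u⁻¹), ← hψ, Finset.sum_mul]
    simp only [← map_mul, mul_opFun, ← map_sum]
    rw [show (∑ u, fun g => E ψ ((u * h * u⁻¹)⁻¹ * g)) = r • E ψ from
      funext fun g => by rw [Finset.sum_apply, hr g]; rfl, map_smul]
    exact LinearMap.ext fun v => (hmk r _).symm
  -- the image of `K0`
  let φ : K0 →* N ⧸ P' := (QuotientGroup.mk' P').comp (Subgroup.inclusion hKN)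
  have hφinj : Function.Injective φ := by
    rw [injective_iff_map_eq_one]
    intro y hy
    have h1 : (y : G) ∈ Subgroup.zpowers x :=
      (QuotientGroup.eq_one_iff (N := P') (Subgroup.inclusion hKN y)).1 hy
    have h2 : orderOf (y : G) ∣ p := by
      rw [← hx, ← Nat.card_zpowers x]
      exact Subgroup.orderOf_dvd_natCard _ h1
    rcases (Nat.dvd_prime hpp).1 h2 with h | h
    · exact Subtype.ext (orderOf_eq_one_iff.1 h)
    · exact absurd (h ▸ Subgroup.orderOf_dvd_natCard K0 y.2) hK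
  haveI : φ.range.Normal := ⟨by
    rintro _ ⟨y, rfl⟩ g
    obtain ⟨n, rfl⟩ := QuotientGroup.mk_surjective g
    exact ⟨⟨_, hKn n n.2 y y.2⟩, rfl⟩⟩
  let eK : K0 ≃* φ.range := MonoidHom.ofInjective hφinj
  have heK : ∀ y : K0, ((eK y : φ.range) : N ⧸ P') = φ y := fun y => rfl
  -- the cyclic quotient
  have hconjN : ∀ n : N, ∃ i : ℕ, x ^ i = (n : G) * x * (n : G)⁻¹ := fun n =>
    (isOfFinOrder_of_finite x).mem_powers_iff_mem_zpowers.2
      ((Subgroup.mem_normalizer_iff.1 (hN.le n.2) x).1 (Subgroup.mem_zpowers x))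
  choose jn hjn using hconjN
  have huniq : ∀ i j : ℕ, x ^ i = x ^ j → (i : ZMod p) = (j : ZMod p) := fun i j h =>
    (ZMod.natCast_eq_natCast_iff _ _ _).2 (hx ▸ pow_eq_pow_iff_modEq.1 h)
  let χ : N →* (ZMod p)ˣ := MonoidHom.toHomUnits
    { toFun := fun n => (jn n : ZMod p)
      map_one' := by rw [← Nat.cast_one]; exact huniq _ _ (by rw [hjn, pow_one]; simp)
      map_mul' := fun a c => by
        rw [← Nat.cast_mul]
        refine huniq _ _ ?_
        rw [hjn, pow_mul, hjn a, conj_pow, hjn c]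
        simp [mul_assoc] }
  have hχK : ∀ n : N, χ n = 1 → (QuotientGroup.mk n : N ⧸ P') ∈ φ.range := by
    intro n hn
    have h1 : x ^ jn n = x ^ 1 := by
      rw [pow_eq_pow_iff_modEq, hx, ← ZMod.natCast_eq_natCast_iff, Nat.cast_one]
      exact congrArg Units.val hn
    rw [hjn, pow_one] at h1
    obtain ⟨i, y, hy, hiy⟩ := hC n (mul_inv_eq_iff_eq_mul.1 h1)
    refine ⟨⟨y, hy⟩, ?_⟩
    show (QuotientGroup.mk (⟨y, _⟩ : N) : N ⧸ P') = QuotientGroup.mk n
    rw [QuotientGroup.eq, hP', Subgroup.mem_subgroupOf, Subgroup.coe_mul, Subgroup.coe_inv]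
    show y⁻¹ * (n : G) ∈ _
    rw [hiy, (show Commute (x ^ i) y from ((hKc y hy).pow_right i).symm).eq, inv_mul_cancel_left]
    exact Subgroup.pow_mem _ (Subgroup.mem_zpowers x) i
  obtain ⟨⟨g, n₁, hn₁⟩, hg⟩ := IsCyclic.exists_generator (α := χ.range)
  have hgen : ∀ h : N ⧸ P', ∃ i : ℕ, ∃ y ∈ φ.range, h = (QuotientGroup.mk n₁ : N ⧸ P') ^ i * y := by
    intro h
    obtain ⟨n, rfl⟩ := QuotientGroup.mk_surjective h
    obtain ⟨i, hi⟩ := (Submonoid.mem_powers_iff _ _).1 (mem_powers_iff_mem_zpowers.2 (hg ⟨χ n, n, rfl⟩))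
    refine ⟨i, _, hχK ((n₁ ^ i)⁻¹ * n) ?_, ?_⟩
    · rw [map_mul, map_inv, map_pow, inv_mul_eq_one, hn₁]
      exact congrArg Subtype.val hi
    · rw [QuotientGroup.mk_mul, QuotientGroup.mk_inv, QuotientGroup.mk_pow, mul_inv_cancel_left]
  have hnd : (QuotientGroup.mk n₁ : N ⧸ P') ^ (p - 1) ∈ φ.range := by
    rw [← QuotientGroup.mk_pow]
    refine hχK _ ?_
    rw [map_pow]
    exact Units.ext (by
      rw [Units.val_pow_eq_pow_val, Units.val_one]
      exact ZMod.pow_card_sub_one_eq_one (Units.ne_zero _))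
  obtain ⟨u₀, hu₀⟩ := IsCyclic.exists_generator (α := (ZMod p)ˣ)
  have hω : IsPrimitiveRoot (ZMod.castHom dvd_rfl (O ⧸ J) (u₀ : ZMod p)) (p - 1) := by
    refine IsPrimitiveRoot.map_of_injective ?_ (ZMod.castHom dvd_rfl (O ⧸ J)).injective
    rw [← IsPrimitiveRoot.coe_units_iff.symm]
    convert IsPrimitiveRoot.orderOf u₀
    rw [orderOf_eq_card_of_forall_mem_zpowers hu₀, Nat.card_eq_fintype_card, ZMod.card_units]
  have hd : ((p - 1 : ℕ) : O ⧸ J) ≠ 0 := fun h => by
    have := Nat.le_of_dvd (by have := hpp.two_le; omega) ((CharP.cast_eq_zero_iff (O ⧸ J) p _).1 h)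
    have := hpp.two_le
    omega
  -- the component
  have hK0unit := hunitN _ hK
  have hK0dvd : Nat.card K0 ∣ Nat.card G / p := by
    refine Dvd.dvd.trans ?_ hHdvd
    rw [Nat.card_congr eK.toEquiv]
    exact φ.range.card_subgroup_dvd_card
  obtain ⟨e', he', hecl, heidem, hedeg, hesc⟩ := exists_idemFun ι hι hK0unit (hrootsdvd _ hK0dvd) θ
  obtain rfl : e' = e := funext fun y => hι (by rw [he, he'])
  set E := opFun (ρ.comp φ) e' with hE
  have hbound := ModBound.isotypic_bound ρ hH hidem' hscal φ.range hd hnd hgen hω E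
    (by rw [hE, opFun_mul, heidem])
    (by rintro _ ⟨y, rfl⟩; exact commute_opFun (ρ.comp φ) hecl y)
    (fun y => by
      obtain ⟨y, rfl⟩ := eK.surjective y
      obtain ⟨r, hr⟩ := hesc y
      refine ⟨Ideal.Quotient.mk J r, ?_⟩
      have e2 : ∑ u : φ.range, ρ ((u * eK y * u⁻¹ : φ.range) : N ⧸ P')
          = ∑ u : K0, (ρ.comp φ) (u * y * u⁻¹) :=
        (Fintype.sum_equiv eK.toEquiv (fun u : K0 => (ρ.comp φ) (u * y * u⁻¹))
          (fun u : φ.range => ρ ((u * eK y * u⁻¹ : φ.range) : N ⧸ P')) fun u => by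
        show ρ (φ (u * y * u⁻¹)) = ρ ((eK u * eK y * (eK u)⁻¹ : φ.range) : N ⧸ P')
        rw [← map_inv eK, ← map_mul eK, ← map_mul eK, heK]).symm
      refine Eq.trans (congrArg (· * E) (Eq.trans (by congr!) e2)) ?_
      rw [hE, Finset.sum_mul]
      simp only [mul_opFun, ← map_sum]
      rw [show (∑ u : K0, fun g => e' ((u * y * u⁻¹)⁻¹ * g)) = r • e' from
        funext fun g => by rw [Finset.sum_apply, hr g]; rfl, map_smul]
      exact LinearMap.ext fun v => (hmk r _).symm)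
    (charDegree (θ : K0 → ℂ)) (by
      set R := LinearMap.range (convRight e') with hR
      have hproj : LinearMap.IsProj R (convRight e') := ⟨fun f => ⟨f, rfl⟩, by
        rintro _ ⟨f, rfl⟩
        exact congrArg (fun F : Module.End O (K0 → O) => F f) (convRight_idem e' heidem)⟩
      have hrk : Module.finrank O R = charDegree (θ : K0 → ℂ) * charDegree (θ : K0 → ℂ) := by
        have h1 := hproj.trace
        rw [trace_convRight, ← Nat.card_eq_fintype_card, hedeg] at h1
        exact_mod_cast h1.symm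
      let b := Module.finBasis O R
      refine le_trans (Submodule.finrank_mono (show _ ≤ Submodule.span (O ⧸ J)
        (Set.range fun i => opFun (ρ.comp φ) ((b i : R) : K0 → O)) from ?_))
        ((finrank_range_le_card _).trans (by rw [Fintype.card_fin, hrk]))
      rw [Submodule.span_le]
      rintro _ ⟨y, rfl⟩
      obtain ⟨y, rfl⟩ := eK.surjective y
      show ρ (φ y) * E ∈ _
      rw [show ρ (φ y) = opFun (ρ.comp φ) (fun g => if g = y then (1 : O) else 0) by
        simp [opFun_apply, Finset.sum_ite_eq'], hE, opFun_mul]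
      set w : R := ⟨_, LinearMap.mem_range_self (convRight e') fun g => if g = y then (1 : O) else 0⟩ with hw
      show opFun (ρ.comp φ) (w : K0 → O) ∈ _
      rw [← b.sum_repr w, Submodule.coe_sum, map_sum]
      refine Submodule.sum_mem _ fun i _ => ?_
      rw [Submodule.coe_smul, map_smul,
        show (b.repr w i) • opFun (ρ.comp φ) ((b i : R) : K0 → O)
          = Ideal.Quotient.mk J (b.repr w i) • opFun (ρ.comp φ) ((b i : R) : K0 → O) from
          LinearMap.ext fun v => (hmk _ _).symm]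
      exact Submodule.smul_mem _ _ (Submodule.subset_span ⟨i, rfl⟩))
  refine ⟨_, hbound, ?_⟩
  haveI : Finite (O ⧸ J) := ‹_›
  rw [← Module.natCard_eq_pow_finrank (K := O ⧸ J)]
  refine Nat.card_congr (Equiv.setCongr ?_)
  have hEv : ∀ v, E v = (∑ y : K0, e' y • σ ⟨y, hKN y y.2⟩) v := fun v => by
    rw [hE, opFun_apply, LinearMap.sum_apply, LinearMap.sum_apply]
    exact Finset.sum_congr rfl fun y _ => rfl
  ext v
  exact ⟨fun ⟨u, hu⟩ => ⟨u, by rw [hEv, hu]⟩, fun ⟨u, hu⟩ => ⟨u, by rw [← hEv, hu]⟩⟩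

variable {L : Type*} [AddCommGroup L] [Module O L] [Module.Free O L] [Module.Finite O L] (ρ : G →* Module.End O L)

/-- The trace sum over one orbit. -/
theorem orbit_trace_bound [Finite (O ⧸ Ideal.span {(p : O)})] [IsAdicComplete (Ideal.span {(p : O)}) O]
    (hnu : ¬ IsUnit (p : O))
    (hunit : ∀ a : O, ¬ (p : O) ∣ a → IsUnit a) (ι : O →+* ℂ) (hι : Function.Injective ι)
    (hroots : ∀ z : ℂ, z ^ (Nat.card G / p) = 1 → z ∈ Set.range ι) (hx : orderOf x = p)
    (hp2 : ¬ p ^ 2 ∣ Nat.card G) (K0 : Subgroup G) (hKc : ∀ y ∈ K0, Commute y x)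
    (hKn : ∀ n ∈ Subgroup.normalizer ((Subgroup.zpowers x : Subgroup G) : Set G), ∀ y ∈ K0, n * y * n⁻¹ ∈ K0)
    (hK : ¬ p ∣ Nat.card K0) (hC : ∀ c, Commute c x → ∃ i : ℕ, ∃ y ∈ K0, c = x ^ i * y)
    (hirr : ∀ f : Module.End O L, (∀ g, Commute f (ρ g)) → f * f = f → f = 0 ∨ f = 1)
    (θ : IrrCharacter K0) (Θ : K0 → ℂ) (hΘ : classInner Θ (θ : K0 → ℂ) = 1) (s : ℤ)
    (hS : ∀ y : K0, ι (∑ i ∈ Finset.Ico 1 p, LinearMap.trace O L (ρ (x ^ i * y))) = (s : ℂ) * Θ y) :
    |s| ≤ (p : ℤ) - 1 := by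
  have hpp : p.Prime := hp.out
  have hX : ρ x ^ p = 1 := by rw [← map_pow, ← hx, pow_orderOf_eq_one, map_one]
  have hKN : ∀ y ∈ K0, y ∈ Subgroup.normalizer ((Subgroup.zpowers x : Subgroup G) : Set G) := fun y hy =>
    Subgroup.mem_normalizer_iff.2 fun u => by
      constructor
      · intro hu
        obtain ⟨i, rfl⟩ := Subgroup.mem_zpowers_iff.1 hu
        rw [((hKc y hy).zpow_right i).eq, mul_inv_cancel_right]
        exact hu
      · intro hu
        obtain ⟨i, hi⟩ := Subgroup.mem_zpowers_iff.1 hu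
        have : u = x ^ i := by
          have e1 := ((hKc y hy).zpow_right i).eq
          rw [hi] at e1
          rw [hi]
          calc u = y⁻¹ * (y * u * y⁻¹) * y := by group
            _ = y⁻¹ * (y * (y * u * y⁻¹)) := by rw [e1]; group
            _ = _ := by group
        rw [this]
        exact Subgroup.mem_zpowers_iff.2 ⟨i, rfl⟩
  have hKdvd : Nat.card K0 ∣ Nat.card G / p := by
    refine (Nat.Coprime.dvd_mul_left ((Nat.Prime.coprime_iff_not_dvd hpp).2 hK).symm).1 ?_
    rw [Nat.mul_div_cancel' (hx ▸ orderOf_dvd_natCard x)]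
    exact K0.card_subgroup_dvd_card
  have hKu : IsUnit (Nat.card K0 : O) := hunit _ fun hd => hK (by
    haveI := CharP.quotient O p hnu
    rw [← CharP.cast_eq_zero_iff (O ⧸ Ideal.span {(p : O)}) p, ← map_natCast (Ideal.Quotient.mk _)]
    exact Ideal.Quotient.eq_zero_iff_mem.2 (Ideal.mem_span_singleton.2 hd))
  obtain ⟨e, he, hecl, heidem, -, -⟩ := exists_idemFun ι hι hKu
    (fun z hz => hroots z (by obtain ⟨c, hc⟩ := hKdvd; rw [hc, pow_mul, hz, one_pow])) θ
  set N := Subgroup.normalizer ((Subgroup.zpowers x : Subgroup G) : Set G) with hN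
  let σ : N →* presAlg p (ρ x) :=
    { toFun := fun n => ⟨ρ n, map_mem_presAlg ρ hx hpp.ne_zero n.2⟩
      map_one' := Subtype.ext (map_one ρ)
      map_mul' := fun a c => Subtype.ext (map_mul ρ (a : G) (c : G)) }
  set T : N →* Module.End O (LinearMap.ker (delta (ρ x)) ⧸ subU p (ρ x)) ×
      Module.End O (LinearMap.ker (normEnd p (ρ x)) ⧸ subV p (ρ x)) :=
    (qmap p (ρ x)).toRingHom.toMonoidHom.comp σ with hTdef
  have hTx : ∀ h : x ∈ N, T ⟨x, h⟩ = 1 := fun h => by
    show qmap p (ρ x) (σ ⟨x, h⟩) = 1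
    rw [← sub_eq_zero, ← map_one (qmap p (ρ x)), ← map_sub]
    refine qmap_eq_zero _ (fun v hv => ?_) (fun z _ => ⟨z, rfl⟩)
    show (ρ x - 1) v ∈ _
    rw [LinearMap.sub_apply, Module.End.one_apply, mem_ker_delta.1 hv, sub_self]
    exact zero_mem _
  have hD := idem_commute_normalizer ρ hnu hunit hx hp2 hirr
  obtain ⟨α, hα1, hα⟩ := component_bound hnu hunit ι hι hroots hx hp2 hN K0 hKc hKn hK hC
    (p_smul_quotU hpp hX) ((MonoidHom.fst _ _).comp T) (fun h => congrArg Prod.fst (hTx h))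
    (fun f hf hff => by
      rcases hD (f, 0) (Prod.ext hff (mul_zero _)) (fun n hn =>
        Prod.ext (hf ⟨n, hn⟩).eq ((Commute.zero_left _).eq)) with h | h
      · exact Or.inl (congrArg Prod.fst h)
      · exact Or.inr (congrArg Prod.fst h)) θ e he hKN
  obtain ⟨β, hβ1, hβ⟩ := component_bound hnu hunit ι hι hroots hx hp2 hN K0 hKc hKn hK hC
    (p_smul_quotV hpp hX) ((MonoidHom.snd _ _).comp T) (fun h => congrArg Prod.snd (hTx h))
    (fun f hf hff => by
      rcases hD (0, f) (Prod.ext (mul_zero _) hff) (fun n hn =>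
        Prod.ext ((Commute.zero_left _).eq) (hf ⟨n, hn⟩).eq) with h | h
      · exact Or.inl (congrArg Prod.snd h)
      · exact Or.inr (congrArg Prod.snd h)) θ e he hKN
  set Ep : presAlg p (ρ x) := ∑ y : K0, e y • σ ⟨y, hKN y y.2⟩ with hEp
  have hEv : Ep.1 = ∑ y : K0, e y • ρ (y : G) := by
    rw [hEp, AddSubmonoidClass.coe_finsetSum]; rfl
  have hEU : (qmap p (ρ x) Ep).1 = ∑ y : K0, e y • ((MonoidHom.fst _ _).comp T) ⟨y, hKN y y.2⟩ := by
    rw [hEp, map_sum, Prod.fst_sum]
    exact Finset.sum_congr rfl fun y _ => by rw [map_smul]; rfl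
  have hEV : (qmap p (ρ x) Ep).2 = ∑ y : K0, e y • ((MonoidHom.snd _ _).comp T) ⟨y, hKN y y.2⟩ := by
    rw [hEp, map_sum, Prod.snd_sum]
    exact Finset.sum_congr rfl fun y _ => by rw [map_smul]; rfl
  rw [← hEU] at hα
  rw [← hEV] at hβ
  have hEidem : Ep.1 * Ep.1 = Ep.1 := by
    rw [hEv]
    have := opFun_mul (ρ.comp K0.subtype) e e
    rw [heidem] at this
    exact this
  have hEX : Commute Ep.1 (ρ x) := by
    rw [hEv]
    exact Commute.sum_left _ _ _ fun y _ =>
      (show Commute (ρ (y : G)) (ρ x) from (hKc y y.2).map ρ).smul_left _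
  set L0 := LinearMap.range Ep.1 with hL0
  have hmaps : ∀ v ∈ L0, ρ x v ∈ L0 := by
    rintro _ ⟨w, rfl⟩; exact ⟨ρ x w, apply_comm_end hEX w⟩
  set X0 := (ρ x).restrict hmaps with hX0
  have hcoe : ∀ (i : ℕ) (v : L0), ((X0 ^ i) v : L) = (ρ x ^ i) v := fun i => by
    induction i with
    | zero => exact fun v => rfl
    | succ i ih =>
      intro v
      rw [pow_succ', Module.End.mul_apply, pow_succ', Module.End.mul_apply, ← ih]; rfl
  have hX0p : X0 ^ p = 1 := LinearMap.ext fun v => Subtype.ext (by rw [hcoe, hX]; rfl)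
  have hNcoe : ∀ v : L0, (normEnd p X0 v : L) = normEnd p (ρ x) v := fun v => by
    simp only [normEnd, LinearMap.sum_apply, Submodule.coe_sum, hcoe]
  have hDcoe : ∀ v : L0, (delta X0 v : L) = delta (ρ x) v := fun v => by
    rw [delta_apply, delta_apply, Submodule.coe_sub]; rfl
  have hfixE : ∀ v : L0, Ep.1 (v : L) = v := fun v => by
    obtain ⟨w, hw⟩ := v.2
    rw [← hw, ← Module.End.mul_apply, hEidem]
  have hsubU : subIdx (LinearMap.range (normEnd p X0)) (LinearMap.ker (delta X0))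
      = Nat.card (O ⧸ Ideal.span {(p : O)}) ^ α := by
    let Φ : LinearMap.ker (delta X0) →ₗ[O] LinearMap.ker (delta (ρ x)) ⧸ subU p (ρ x) :=
      (subU p (ρ x)).mkQ.comp ((L0.subtype.comp (LinearMap.ker (delta X0)).subtype).codRestrict _ fun v => by
        rw [LinearMap.mem_ker]
        show delta (ρ x) ((v : L0) : L) = 0
        rw [← hDcoe, LinearMap.mem_ker.1 v.2]; rfl)
    have hr : LinearMap.range Φ = LinearMap.range (qmap p (ρ x) Ep).1 := by
      refine le_antisymm ?_ ?_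
      · rintro _ ⟨v, rfl⟩
        refine ⟨Φ v, ?_⟩
        show Submodule.Quotient.mk _ = Submodule.Quotient.mk _
        exact congrArg _ (Subtype.ext (hfixE v.1))
      · rintro _ ⟨u, rfl⟩
        induction u using Submodule.Quotient.induction_on with
        | _ v =>
          refine ⟨⟨⟨Ep.1 v.1, LinearMap.mem_range_self _ _⟩, ?_⟩, rfl⟩
          rw [LinearMap.mem_ker]
          refine Subtype.ext ?_
          rw [hDcoe]
          show delta (ρ x) (Ep.1 v.1) = 0
          rw [← apply_comm_end (commute_delta hEX), LinearMap.mem_ker.1 v.2, map_zero]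
    have hk : (LinearMap.range (normEnd p X0)).toAddSubgroup.addSubgroupOf (LinearMap.ker (delta X0)).toAddSubgroup
        = Φ.toAddMonoidHom.ker := by
      ext v
      rw [AddSubgroup.mem_addSubgroupOf, AddMonoidHom.mem_ker]
      show (v : L0) ∈ LinearMap.range (normEnd p X0) ↔ Submodule.Quotient.mk _ = 0
      rw [Submodule.Quotient.mk_eq_zero]
      show _ ↔ ((v : L0) : L) ∈ LinearMap.range (normEnd p (ρ x))
      refine ⟨fun ⟨w, hw⟩ => ⟨w, by rw [← hNcoe, hw]⟩, fun ⟨w, hw⟩ => ⟨⟨Ep.1 w, LinearMap.mem_range_self _ w⟩, Subtype.ext ?_⟩⟩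
      rw [hNcoe, ← apply_comm_end (commute_normEnd hEX), hw, hfixE]
    rw [← hα, ← hr, subIdx, AddSubgroup.relIndex, hk, AddSubgroup.index_ker]
    exact Nat.card_congr (Equiv.setCongr rfl)
  have hsubV : subIdx (LinearMap.range (delta X0)) (LinearMap.ker (normEnd p X0))
      = Nat.card (O ⧸ Ideal.span {(p : O)}) ^ β := by
    let Φ : LinearMap.ker (normEnd p X0) →ₗ[O] LinearMap.ker (normEnd p (ρ x)) ⧸ subV p (ρ x) :=
      (subV p (ρ x)).mkQ.comp ((L0.subtype.comp (LinearMap.ker (normEnd p X0)).subtype).codRestrict _ fun v => by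
        rw [LinearMap.mem_ker]
        show normEnd p (ρ x) ((v : L0) : L) = 0
        rw [← hNcoe, LinearMap.mem_ker.1 v.2]; rfl)
    have hr : LinearMap.range Φ = LinearMap.range (qmap p (ρ x) Ep).2 := by
      refine le_antisymm ?_ ?_
      · rintro _ ⟨v, rfl⟩
        refine ⟨Φ v, ?_⟩
        show Submodule.Quotient.mk _ = Submodule.Quotient.mk _
        exact congrArg _ (Subtype.ext (hfixE v.1))
      · rintro _ ⟨u, rfl⟩
        induction u using Submodule.Quotient.induction_on with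
        | _ v =>
          refine ⟨⟨⟨Ep.1 v.1, LinearMap.mem_range_self _ _⟩, ?_⟩, rfl⟩
          rw [LinearMap.mem_ker]
          refine Subtype.ext ?_
          rw [hNcoe]
          show normEnd p (ρ x) (Ep.1 v.1) = 0
          rw [← apply_comm_end (commute_normEnd hEX), LinearMap.mem_ker.1 v.2, map_zero]
    have hk : (LinearMap.range (delta X0)).toAddSubgroup.addSubgroupOf (LinearMap.ker (normEnd p X0)).toAddSubgroup
        = Φ.toAddMonoidHom.ker := by
      ext v
      rw [AddSubgroup.mem_addSubgroupOf, AddMonoidHom.mem_ker]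
      show (v : L0) ∈ LinearMap.range (delta X0) ↔ Submodule.Quotient.mk _ = 0
      rw [Submodule.Quotient.mk_eq_zero]
      show _ ↔ ((v : L0) : L) ∈ LinearMap.range (delta (ρ x))
      refine ⟨fun ⟨w, hw⟩ => ⟨w, by rw [← hDcoe, hw]⟩, fun ⟨w, hw⟩ => ⟨⟨Ep.1 w, LinearMap.mem_range_self _ w⟩, Subtype.ext ?_⟩⟩
      rw [hDcoe, ← apply_comm_end (commute_delta hEX), hw, hfixE]
    rw [← hβ, ← hr, subIdx, AddSubgroup.relIndex, hk, AddSubgroup.index_ker]
    exact Nat.card_congr (Equiv.setCongr rfl)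
  have htf := trace_formula hnu hX0p α β hsubU hsubV
  have htr : ∀ i, LinearMap.trace O L0 (X0 ^ i) = LinearMap.trace O L (ρ x ^ i * Ep.1) := fun i => by
    have hm : ∀ w, (ρ x ^ i * Ep.1) w ∈ L0 := fun w =>
      ⟨(ρ x ^ i) w, apply_comm_end (hEX.pow_right i) w⟩
    rw [← LinearMap.trace_restrict_eq_of_forall_mem L0 _ hm]
    congr 1
    exact LinearMap.ext fun v => Subtype.ext (by
      rw [hcoe]
      show _ = (ρ x ^ i) (Ep.1 v)
      rw [hfixE])
  simp only [htr, hEv, Finset.mul_sum, mul_smul_comm, map_sum, map_smul, smul_eq_mul] at htf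
  rw [Finset.sum_comm] at htf
  have h2 := congrArg ι htf
  rw [map_sum, map_mul, map_natCast, map_sub, map_natCast, map_natCast,
    Finset.sum_congr rfl (g := fun y : K0 => (s : ℂ) * ((θ : K0 → ℂ) 1 / (Nat.card K0 : ℂ)) *
      (Θ y * conj ((θ : K0 → ℂ) y))) fun y _ => ?_, ← Finset.mul_sum] at h2
  swap
  · rw [← Finset.mul_sum, map_mul, he, Finset.sum_congr rfl (g := fun i => LinearMap.trace O L (ρ (x ^ i * y)))
      fun i _ => by rw [map_mul ρ, map_pow ρ], hS, conj_irr]
    ring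
  rw [Cfsg.classInner, inv_mul_eq_iff_eq_mul₀ Char.card_ne_zero] at hΘ
  rw [hΘ, mul_one, irr_one_eq] at h2
  have hc : (Nat.card K0 : ℂ) ≠ 0 := Char.card_ne_zero
  field_simp at h2
  have h3 : s * (charDegree (θ : K0 → ℂ) : ℤ) = ((p - 1 : ℕ) : ℤ) * ((α : ℤ) - β) := by exact_mod_cast h2
  have hpz : ((p - 1 : ℕ) : ℤ) = (p : ℤ) - 1 := by have := hpp.one_le; omega
  rw [hpz] at h3
  have hθpos : (0 : ℤ) < charDegree (θ : K0 → ℂ) := by exact_mod_cast charDegree_pos θ
  have hab : |(α : ℤ) - β| ≤ charDegree (θ : K0 → ℂ) := by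
    rw [abs_le]; constructor <;> omega
  have h4 : |s| * (charDegree (θ : K0 → ℂ) : ℤ) ≤ ((p : ℤ) - 1) * charDegree (θ : K0 → ℂ) := by
    rw [show |s| * (charDegree (θ : K0 → ℂ) : ℤ) = |s * (charDegree (θ : K0 → ℂ) : ℤ)| by
      rw [abs_mul, abs_of_pos hθpos], h3, abs_mul,
      abs_of_nonneg (show (0 : ℤ) ≤ (p : ℤ) - 1 by have := hpp.one_le; omega)]
    exact mul_le_mul_of_nonneg_left hab (by have := hpp.one_le; omega)
  exact le_of_mul_le_mul_right h4 hθpos

end Quot

end CfsgLib.Blocks.Lattice
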