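import Cfsg.Agent.Lib.Blocks.DefectOneSection
import Cfsg.Agent.Lib.Blocks.DefectOneCoherence
import Cfsg.Agent.Lib.Blocks.LatticeOrbit
import Cfsg.Agent.Lib.Blocks.CharLattice

/-!
# Blocks of defect one
-/

set_option autoImplicit false

namespace CfsgLib.Blocks.DefectOne

open Cfsg CfsgLib.Blocks
open scoped Classical ComplexConjugate

variable {G : Type*} [Group G] [Fintype G] {p : ℕ} [hp : Fact p.Prime]

omit [Fintype G] in
theorem sum_units {R : Type*} [AddCommGroup R] (f : ZMod p → R) : ∑ u : (ZMod p)ˣ, f u = (∑ a, f a) - f 0 := by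
  rw [eq_sub_iff_add_eq, ← Finset.sum_erase_add _ _ (Finset.mem_univ (0 : ZMod p))]
  congr 1
  refine Finset.sum_bij (fun u _ => (u : ZMod p)) (fun u _ => Finset.mem_erase.2 ⟨u.ne_zero, Finset.mem_univ _⟩)
    (fun u _ v _ e => Units.ext e) (fun a ha => ⟨Units.mk0 a (Finset.mem_erase.1 ha).1, Finset.mem_univ _, rfl⟩)
    fun u _ => rfl

omit [Fintype G] in
theorem sum_range_cast {R : Type*} [AddCommMonoid R] (f : ZMod p → R) :
    ∑ i ∈ Finset.range p, f (i : ZMod p) = ∑ a, f a :=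
  Finset.sum_bij (fun i _ => (i : ZMod p)) (fun i _ => Finset.mem_univ _)
    (fun i hi j hj e => by
      have := congrArg ZMod.val e
      rwa [ZMod.val_natCast, ZMod.val_natCast, Nat.mod_eq_of_lt (Finset.mem_range.1 hi),
        Nat.mod_eq_of_lt (Finset.mem_range.1 hj)] at this)
    (fun a _ => ⟨a.val, Finset.mem_range.2 (ZMod.val_lt a), ZMod.natCast_zmod_val a⟩) fun i _ => rfl

omit [Fintype G] in
theorem sum_Ico_cast {R : Type*} [AddCommGroup R] (f : ZMod p → R) :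
    ∑ i ∈ Finset.Ico 1 p, f (i : ZMod p) = ∑ u : (ZMod p)ˣ, f u := by
  rw [sum_units, ← sum_range_cast, Finset.range_eq_Ico, Finset.sum_eq_sum_Ico_succ_bot hp.out.pos, Nat.cast_zero,
    add_sub_cancel_left]

omit [Fintype G] in
theorem sum_units_std {a : ZMod p} (ha : a ≠ 0) :
    ∑ u : (ZMod p)ˣ, (ZMod.stdAddChar ((u : ZMod p) * a) : ℂ) = -1 := by
  rw [sum_units fun b : ZMod p => (ZMod.stdAddChar (b * a) : ℂ), Frame.sum_std, if_neg ha, zero_mul,
    AddChar.map_zero_eq_one, zero_sub]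

namespace Frame

variable {P : Sylow p G} (D : Frame P)

/-- The sum over the orbit. -/
noncomputable def orbSum (θ : IrrCharacter D.K0) (y : D.K0) : ℂ := ∑ θ' ∈ D.orb θ, (θ' : D.K0 → ℂ) y

theorem classInner_orbSum (θ : IrrCharacter D.K0) : classInner (D.orbSum θ) (θ : D.K0 → ℂ) = 1 := by
  have e : classInner (D.orbSum θ) (θ : D.K0 → ℂ)
      = ∑ θ' ∈ D.orb θ, classInner (θ' : D.K0 → ℂ) (θ : D.K0 → ℂ) := by
    simp only [orbSum, Cfsg.classInner, Finset.sum_mul, Finset.mul_sum]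
    exact Finset.sum_comm
  rw [e, Finset.sum_eq_single θ (fun θ' _ hne => Char.classInner_irr_ne θ'.2 θ.2 fun h => hne (Subtype.ext h))
    (fun h => absurd (D.self_mem_orb θ) h), Char.classInner_irr_self θ.2]

/-- The coefficient ring. -/
theorem exists_coef (D : Frame P) :
    ∃ ι : CharLattice.coefRing p (Nat.card G / p) →+* ℂ, Function.Injective ι ∧
      ∀ z : ℂ, z ^ (Nat.card G / p) = 1 → z ∈ Set.range ι :=
  CharLattice.exists_embedding p _ fun h => D.hp2 (by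
    rw [sq]; exact (Nat.dvd_div_iff_mul_dvd (D.ord ▸ orderOf_dvd_natCard D.x)).1 h)

theorem card_K0_dvd : Nat.card D.K0 ∣ Nat.card G / p := by
  refine Nat.dvd_div_of_mul_dvd ?_
  rw [← D.card_cent]
  exact (cent P).card_subgroup_dvd_card

theorem orderOf_dvd_of_regular (D : Frame P) {g : G} (hg : ¬ p ∣ orderOf g) : orderOf g ∣ Nat.card G / p := by
  refine (Nat.Coprime.dvd_mul_left ((Nat.Prime.coprime_iff_not_dvd hp.out).2 hg).symm).1 ?_
  rw [Nat.mul_div_cancel' (D.ord ▸ orderOf_dvd_natCard D.x)]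
  exact orderOf_dvd_natCard g

theorem K0_apply_mem (ι : CharLattice.coefRing p (Nat.card G / p) →+* ℂ)
    (hroots : ∀ z : ℂ, z ^ (Nat.card G / p) = 1 → z ∈ Set.range ι) (θ : IrrCharacter D.K0) (y : D.K0) :
    (θ : D.K0 → ℂ) y ∈ ι.range :=
  Lattice.apply_mem_range ι (fun z hz => hroots z (by
    obtain ⟨j, hj⟩ := D.card_K0_dvd; rw [hj, pow_mul, hz, one_pow])) θ y

/-- The bound for a family of characters with proportional sums on the sections. -/
theorem orbit_bound (ι : CharLattice.coefRing p (Nat.card G / p) →+* ℂ) (hι : Function.Injective ι)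
    (hroots : ∀ z : ℂ, z ^ (Nat.card G / p) = 1 → z ∈ Set.range ι) (θ : IrrCharacter D.K0)
    (E : Finset (IrrCharacter G)) (hne : E.Nonempty)
    (hreg : ∀ η ∈ E, ∀ η' ∈ E, ∀ g : G, ¬ p ∣ orderOf g → (η : G → ℂ) g = (η' : G → ℂ) g) (S : ℤ)
    (hS : ∀ a : ZMod p, a ≠ 0 → ∀ y, ∑ η ∈ E, (η : G → ℂ) (D.el a y : G) = (S : ℂ) * D.orbSum θ y) :
    ∃ k : IrrCharacter G → ℕ, (∀ g : G, ∑ η ∈ E, (k η : ℂ) * (η : G → ℂ) g ∈ ι.range) ∧
      ((∀ η ∈ E, ∀ η' ∈ E, k η = k η') → |S| ≤ 1) := by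
  have hrootsg : ∀ g : G, ¬ p ∣ orderOf g → ∀ z : ℂ, z ^ orderOf g = 1 → z ∈ Set.range ι := fun g hg z hz =>
    hroots z (by obtain ⟨j, hj⟩ := D.orderOf_dvd_of_regular hg; rw [hj, pow_mul, hz, one_pow])
  obtain ⟨k, hk, hrange, W, ρ, hirr, htr⟩ := CharLattice.family_lattice ι hι hrootsg E hne hreg fun g hg => by
    obtain ⟨u, a, y, ha, he⟩ := D.exists_conj_el hg
    rw [Finset.sum_congr rfl fun η _ => (irr_conj_apply η g u).symm, he, hS a ha y]
    exact mul_mem (intCast_mem _ S) (sum_mem fun θ' _ => D.K0_apply_mem ι hroots θ' y)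
  refine ⟨k, hrange, fun hconst => ?_⟩
  obtain ⟨η₀, hη₀⟩ := hne
  set k₀ := k η₀
  have hk₀ : 0 < k₀ := by
    rw [Finset.sum_congr rfl fun η hη => hconst η hη η₀ hη₀, Finset.sum_const, smul_eq_mul] at hk
    exact Nat.pos_of_mul_pos_left hk
  have hb := Lattice.orbit_trace_bound ρ (CharLattice.not_isUnit_p p _) (CharLattice.isUnit_of_not_dvd p _) ι hι hroots
    D.ord D.hp2 D.K0 (fun y hy => D.commute_x hy) D.conj_mem D.not_dvd D.decomp hirr θ (D.orbSum θ)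
    (D.classInner_orbSum θ) ((k₀ : ℤ) * (((p : ℤ) - 1) * S)) fun y => by
      rw [map_sum, Finset.sum_congr rfl (g := fun _ => (k₀ : ℂ) * ((S : ℂ) * D.orbSum θ y)) fun i hi => ?_,
        Finset.sum_const, Nat.card_Ico, nsmul_eq_mul, Nat.cast_sub hp.out.one_le]
      · push_cast; ring
      · have hi' := Finset.mem_Ico.1 hi
        have ha : (i : ZMod p) ≠ 0 := fun e => by
          have := Nat.le_of_dvd (by omega) ((ZMod.natCast_eq_zero_iff _ _).1 e); omega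
        rw [htr, ← hS _ ha y, Finset.mul_sum]
        refine Finset.sum_congr rfl fun η hη => ?_
        rw [hconst η hη η₀ hη₀, coe_el, D.xpow_eq]
  have hp1 : (0 : ℤ) < (p : ℤ) - 1 := by have := hp.out.two_le; omega
  have hk1 : (1 : ℤ) ≤ (k₀ : ℤ) := by exact_mod_cast hk₀
  rw [abs_mul, abs_mul, abs_of_pos hp1, abs_of_nonneg (by omega : (0 : ℤ) ≤ (k₀ : ℤ))] at hb
  by_contra hS1
  have h2 : (2 : ℤ) ≤ |S| := by omega
  nlinarith [mul_le_mul hk1 (mul_le_mul_of_nonneg_left h2 hp1.le) (by positivity) (by positivity)]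

end Frame

/-- The shape of a block of defect one. -/
structure Shape {P : Sylow p G} (D : Frame P) (B : Set (IrrCharacter G)) (θ : IrrCharacter D.K0) where
  X : Finset (IrrCharacter G)
  Y : Finset (IrrCharacter G)
  ζ : (ZMod p)ˣ → IrrCharacter G
  sgn : IrrCharacter G → ℤ
  A : ℤ
  d : ℤ
  δ : ℤ
  mem_iff : ∀ χ, χ ∈ B ↔ χ ∈ X ∨ χ ∈ Y
  disj : Disjoint X Y
  card_X : X.card = Nat.card (D.autE θ)
  card_Y : Nat.card (D.autE θ) * Y.card = p - 1
  mem_Y : ∀ η, η ∈ Y ↔ ∃ k, ζ k = η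
  sgn_A : A = 1 ∨ A = -1
  sgn_X : ∀ χ ∈ X, sgn χ = 1 ∨ sgn χ = -1
  sec_X : ∀ χ ∈ X, ∀ a : ZMod p, a ≠ 0 → D.sec θ χ a = sgn χ
  sec_Y : ∀ k, ∀ a : ZMod p, a ≠ 0 → D.sec θ (ζ k) a
    = (d : ℂ) + (δ : ℂ) * ∑ l ∈ Finset.univ.filter (fun l => ζ l = ζ k), (ZMod.stdAddChar ((l : ZMod p) * a) : ℂ)
  ζ_iff : ∀ k l, ζ k = ζ l ↔ k⁻¹ * l ∈ D.autE θ
  deg_X : ∀ χ ∈ X, (charDegree (χ : G → ℂ) : ℤ)
    ≡ sgn χ * (((D.orb θ).card * charDegree (θ : D.K0 → ℂ) : ℕ) : ℤ) [ZMOD p]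
  deg_Y : ∀ η ∈ Y, (charDegree (η : G → ℂ) : ℤ)
    ≡ -A * ((Nat.card D.act.range * charDegree (θ : D.K0 → ℂ) : ℕ) : ℤ) [ZMOD p]
  agree : ∀ η ∈ Y, ∀ η' ∈ Y, ∀ g : G, ¬ p ∣ orderOf g → (η : G → ℂ) g = (η' : G → ℂ) g
  rel : ∀ η ∈ Y, ∀ g : G, ¬ p ∣ orderOf g →
    ∑ χ ∈ X, (sgn χ : ℂ) * (χ : G → ℂ) g + (A : ℂ) * (η : G → ℂ) g = 0

theorem exists_shape {P : Sylow p G} (D : Frame P) {M : Ideal AlgInt} (hM : IsPModular p M)
    {θ : IrrCharacter D.K0} {B : Set (IrrCharacter G)} (h : IsInducedBlock M (cent P) (D.blk M θ) B) :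
    Nonempty (Shape D B θ) := by
  set e := Nat.card (D.autE θ) with he
  have hpne : (p : ℂ) ≠ 0 := Nat.cast_ne_zero.2 hp.out.ne_zero
  have hdiffreg : ∀ (k : (ZMod p)ˣ) (s : G), ¬ p ∣ orderOf s →
      ∑ χ : IrrCharacter G, (D.diff θ k χ : ℂ) * (χ : G → ℂ) s = 0 := by
    intro k s hs
    simp only [Frame.cast_diff, Finset.mul_sum, Finset.sum_mul]
    rw [Finset.sum_comm]
    refine Finset.sum_eq_zero fun a _ => ?_
    by_cases ha : a = 0
    · simp [ha]
    rw [Finset.sum_congr rfl (g := fun χ : IrrCharacter G => (p : ℂ)⁻¹ * (1 - ZMod.stdAddChar (-((k : ZMod p) * a))) *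
      (D.sec θ χ a * (χ : G → ℂ) s)) fun χ _ => by ring, ← Finset.mul_sum, D.sum_sec_mul_apply θ ha hs, mul_zero]
  have hdeg1 : ∀ k : (ZMod p)ˣ, ∑ χ : IrrCharacter G, (D.diff θ k χ : ℂ) * (χ : G → ℂ) 1 = 0 := fun k =>
    hdiffreg k 1 (by rw [orderOf_one]; exact hp.out.not_dvd_one)
  obtain ⟨ζ, δ, g, hδ, hζiff, hζc, hgconst, hζne⟩ := coherent (D.autE θ) (fun k => D.diff θ k) e
    (Nat.cast_nonneg _) (D.sum_diff_mul θ) hdeg1
  have hδsq : δ * δ = 1 := by rcases hδ with h | h <;> rw [h] <;> norm_num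
  set d := g (ζ 1) with hd
  -- the members of the block
  have hdiff0 : ∀ (χ : IrrCharacter G), χ ∉ B → ∀ k : ZMod p, D.diff θ k χ = 0 := by
    intro χ hχ k
    apply Int.cast_injective (α := ℂ)
    rw [Frame.cast_diff, Int.cast_zero, Finset.sum_eq_zero, mul_zero]
    intro a _
    by_cases ha : a = 0
    · simp [ha]
    · rw [D.sec_eq_zero_of_notMem hM h hχ ha, zero_mul]
  have hζB : ∀ k, ζ k ∈ B := fun k => by
    by_contra hk
    obtain ⟨l, hl⟩ := hζne k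
    exact hl (hdiff0 _ hk _)
  obtain ⟨χ₁, hχ₁B, hχ₁⟩ : ∃ χ', χ' ∈ B ∧ χ' ≠ ζ 1 := by
    by_contra hno
    push Not at hno
    obtain ⟨l, hl⟩ := hζne 1
    have h1 := hdeg1 l
    rw [Finset.sum_eq_single (ζ 1) (fun χ _ hne => by
      rw [hdiff0 χ (fun hc => hne (hno χ hc)), Int.cast_zero, zero_mul]) (fun hc => absurd (Finset.mem_univ _) hc),
      mul_eq_zero] at h1
    rcases h1 with h1 | h1
    · exact hl (by exact_mod_cast h1)
    · exact irr_one_ne_zero _ h1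
  have hother : ∀ χ ∈ B, ∃ a : ZMod p, a ≠ 0 ∧ D.sec θ χ a ≠ 0 := fun χ hχ => by
    by_cases hc : χ = ζ 1
    · exact D.exists_sec_ne_zero hM h hχ hχ₁B (by rw [hc]; exact hχ₁.symm)
    · exact D.exists_sec_ne_zero hM h hχ (hζB 1) hc
  have hsec : ∀ χ, ∀ a : ZMod p, a ≠ 0 → D.sec θ χ a = (g χ : ℂ) + (δ : ℂ) *
      ∑ l ∈ Finset.univ.filter (fun l => ζ l = χ), (ZMod.stdAddChar ((l : ZMod p) * a) : ℂ) := by
    intro χ a ha
    rw [D.sec_eq_diff θ χ ha]
    have h1 := sum_units fun k : ZMod p => (D.diff θ k χ : ℂ) * ZMod.stdAddChar (k * a)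
    rw [D.diff_zero, Int.cast_zero, zero_mul, sub_zero] at h1
    rw [← h1, Finset.sum_congr rfl (g := fun l : (ZMod p)ˣ => (g χ : ℂ) * ZMod.stdAddChar ((l : ZMod p) * a) -
      (δ : ℂ) * if ζ l = χ then (ZMod.stdAddChar ((l : ZMod p) * a) : ℂ) else 0) fun l _ => by
        rw [hζc]
        by_cases hc : χ = ζ l
        · rw [if_pos hc, if_pos hc.symm]; push_cast; ring
        · rw [if_neg hc, if_neg (Ne.symm hc)]; push_cast; ring,
      Finset.sum_sub_distrib, ← Finset.mul_sum, ← Finset.mul_sum, sum_units_std ha, ← Finset.sum_filter]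
    ring
  -- the two families
  set Y := Finset.univ.image ζ with hYdef
  set X := Finset.univ.filter fun χ => χ ∈ B ∧ χ ∉ Y with hXdef
  have hYmem : ∀ η, η ∈ Y ↔ ∃ k, ζ k = η := fun η => by simp [hYdef]
  have hXmem : ∀ χ, χ ∈ X ↔ χ ∈ B ∧ χ ∉ Y := fun χ => by simp [hXdef]
  have hmem : ∀ χ, χ ∈ B ↔ χ ∈ X ∨ χ ∈ Y := fun χ => by
    rw [hXmem]
    constructor
    · intro hc
      by_cases hY : χ ∈ Y
      · exact Or.inr hY
      · exact Or.inl ⟨hc, hY⟩
    · rintro (hc | hc)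
      · exact hc.1
      · obtain ⟨k, rfl⟩ := (hYmem χ).1 hc; exact hζB k
  have hdisj : Disjoint X Y := Finset.disjoint_left.2 fun χ hχ hY => ((hXmem χ).1 hχ).2 hY
  have hnotY : ∀ χ, χ ∉ Y → ∀ l, χ ≠ ζ l := fun χ hχ l e => hχ ((hYmem χ).2 ⟨l, e.symm⟩)
  have hg0 : ∀ χ, χ ∉ B → g χ = 0 := by
    intro χ hχ
    have h1 := hdiff0 χ hχ (1 : (ZMod p)ˣ)
    have h2 := hζc 1 χ
    rw [h1, if_neg (fun e1 => hχ (by rw [e1]; exact hζB 1)), mul_zero, sub_zero] at h2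
    exact h2.symm
  have hgX : ∀ χ ∈ X, ∀ a : ZMod p, a ≠ 0 → D.sec θ χ a = g χ := fun χ hχ a ha => by
    rw [hsec χ a ha, Finset.filter_false_of_mem fun l _ => (hnotY χ ((hXmem χ).1 hχ).2 l).symm, Finset.sum_empty,
      mul_zero, add_zero]
  have hgne : ∀ χ ∈ X, g χ ≠ 0 := fun χ hχ e0 => by
    obtain ⟨a, ha, hne⟩ := hother χ ((hXmem χ).1 hχ).1
    rw [hgX χ hχ a ha, e0, Int.cast_zero] at hne
    exact hne rfl
  have hgY : ∀ η ∈ Y, g η = d := fun η hη => by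
    obtain ⟨k, rfl⟩ := (hYmem η).1 hη; exact hgconst k
  -- the fibres
  set r := Y.card with hr
  have hfib : ∀ k, (Finset.univ.filter fun l => ζ l = ζ k).card = e := by
    intro k
    rw [he, Nat.card_eq_fintype_card, ← Finset.card_univ]
    refine Finset.card_bij' (fun l hl => (⟨k⁻¹ * l, (hζiff k l).1 (Finset.mem_filter.1 hl).2.symm⟩ : D.autE θ))
      (fun ε _ => k * (ε : (ZMod p)ˣ)) (fun l _ => Finset.mem_univ _)
      (fun ε _ => Finset.mem_filter.2 ⟨Finset.mem_univ _, ((hζiff _ _).2 (by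
        rw [inv_mul_cancel_left]; exact ε.2)).symm⟩) ?_ ?_
    · intro l _; exact mul_inv_cancel_left k l
    · intro ε _; exact Subtype.ext (inv_mul_cancel_left k (ε : (ZMod p)ˣ))
  have hcardY : e * r = p - 1 := by
    have h1 := Finset.card_eq_sum_card_fiberwise (s := (Finset.univ : Finset (ZMod p)ˣ)) (t := Y) (f := ζ)
      fun l _ => Finset.mem_image_of_mem _ (Finset.mem_univ l)
    rw [Finset.card_univ, ZMod.card_units, Finset.sum_congr rfl (g := fun _ => e) fun η hη => by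
      obtain ⟨k, rfl⟩ := (hYmem η).1 hη; exact hfib k, Finset.sum_const, smul_eq_mul] at h1
    rw [h1, hr, mul_comm]
  have her : (e : ℤ) * r = (p : ℤ) - 1 := by
    rw [← Nat.cast_mul, hcardY, Nat.cast_sub hp.out.one_le, Nat.cast_one]
  have hr0 : 0 < r := Finset.card_pos.2 ⟨ζ 1, (hYmem _).2 ⟨1, rfl⟩⟩
  set A : ℤ := (r : ℤ) * d - δ with hA
  -- values on the sections
  have horb : ∀ χ ∈ B, ∀ a : ZMod p, a ≠ 0 → ∀ y, (χ : G → ℂ) (D.el a y : G)
      = ∑ θ' ∈ D.orb θ, D.sec θ' χ a * (θ' : D.K0 → ℂ) y := fun χ hχ a ha y => D.apply_el_orb hM h hχ ha y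
  have hXval : ∀ χ ∈ X, ∀ a : ZMod p, a ≠ 0 → ∀ y,
      (χ : G → ℂ) (D.el a y : G) = (g χ : ℂ) * D.orbSum θ y := by
    intro χ hχ a ha y
    rw [horb χ ((hXmem χ).1 hχ).1 a ha y, Frame.orbSum, Finset.mul_sum]
    refine Finset.sum_congr rfl fun θ' hθ' => ?_
    obtain ⟨w, rfl⟩ := D.mem_orb.1 hθ'
    rw [Frame.sec_tw, hgX χ hχ _ (mul_ne_zero (Units.ne_zero _) ha)]
  have hYsec : ∀ a : ZMod p, a ≠ 0 → ∑ η ∈ Y, D.sec θ η a = (A : ℂ) := by
    intro a ha
    rw [Finset.sum_congr rfl fun η hη => by rw [hsec η a ha, hgY η hη], Finset.sum_add_distrib, Finset.sum_const,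
      ← Finset.mul_sum, Finset.sum_fiberwise_of_maps_to
        (fun l _ => Finset.mem_image_of_mem ζ (Finset.mem_univ l)), sum_units_std ha, nsmul_eq_mul, hA]
    push_cast; ring
  have hYval : ∀ a : ZMod p, a ≠ 0 → ∀ y, ∑ η ∈ Y, (η : G → ℂ) (D.el a y : G) = (A : ℂ) * D.orbSum θ y := by
    intro a ha y
    rw [Finset.sum_congr rfl fun η hη => horb η ((hmem η).2 (Or.inr hη)) a ha y, Finset.sum_comm, Frame.orbSum,
      Finset.mul_sum]
    refine Finset.sum_congr rfl fun θ' hθ' => ?_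
    obtain ⟨w, rfl⟩ := D.mem_orb.1 hθ'
    simp only [Frame.sec_tw, ← Finset.sum_mul]
    rw [hYsec _ (mul_ne_zero (Units.ne_zero _) ha)]
  -- relations
  have hsplit : ∀ F : IrrCharacter G → ℂ, ∑ χ, (g χ : ℂ) * F χ
      = ∑ χ ∈ X, (g χ : ℂ) * F χ + (d : ℂ) * ∑ η ∈ Y, F η := by
    intro F
    rw [Finset.mul_sum, ← Finset.sum_subset (Finset.subset_univ (X ∪ Y)) fun χ _ hχ => by
      rw [hg0 χ fun hc => hχ (Finset.mem_union.2 ((hmem χ).1 hc)), Int.cast_zero, zero_mul],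
      Finset.sum_union hdisj, Finset.sum_congr rfl (s₁ := Y) fun η hη => by rw [hgY η hη]]
  have hrel0 : ∀ s : G, ¬ p ∣ orderOf s → ∀ k, (δ : ℂ) * (ζ k : G → ℂ) s = ∑ χ, (g χ : ℂ) * (χ : G → ℂ) s := by
    intro s hs k
    have h1 := hdiffreg k s hs
    simp only [hζc, Int.cast_sub, Int.cast_mul, sub_mul, Finset.sum_sub_distrib, Int.cast_ite, Int.cast_one,
      Int.cast_zero, mul_ite, mul_one, mul_zero, ite_mul, zero_mul, Finset.sum_ite_eq', Finset.mem_univ, if_true]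
      at h1
    exact (sub_eq_zero.1 h1).symm
  have hagree : ∀ η ∈ Y, ∀ η' ∈ Y, ∀ s : G, ¬ p ∣ orderOf s → (η : G → ℂ) s = (η' : G → ℂ) s := by
    intro η hη η' hη' s hs
    obtain ⟨k, rfl⟩ := (hYmem η).1 hη
    obtain ⟨l, rfl⟩ := (hYmem η').1 hη'
    refine mul_left_cancel₀ (?_ : (δ : ℂ) ≠ 0) ((hrel0 s hs k).trans (hrel0 s hs l).symm)
    rcases hδ with hh | hh <;> rw [hh] <;> norm_num
  have hrel : ∀ η ∈ Y, ∀ s : G, ¬ p ∣ orderOf s →
      ∑ χ ∈ X, (g χ : ℂ) * (χ : G → ℂ) s + (A : ℂ) * (η : G → ℂ) s = 0 := by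
    intro η hη s hs
    obtain ⟨k, rfl⟩ := (hYmem η).1 hη
    have h1 := hrel0 s hs k
    rw [hsplit, Finset.sum_congr rfl (s₁ := Y) fun η' hη' => hagree η' hη' (ζ k) hη s hs, Finset.sum_const,
      nsmul_eq_mul] at h1
    rw [hA]
    push_cast
    linear_combination -h1
  have hnorm : ∑ χ ∈ X, g χ * g χ + (r : ℤ) * (d * d) - 2 * δ * d = e := by
    have h1 := D.sum_diff_mul θ 1 1
    rw [inv_one, one_mul, if_pos (D.autE θ).one_mem] at h1
    have h2 : ∀ χ, D.diff θ (1 : (ZMod p)ˣ) χ * D.diff θ (1 : (ZMod p)ˣ) χ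
        = g χ * g χ - 2 * δ * (if χ = ζ 1 then g χ else 0) + if χ = ζ 1 then 1 else 0 := fun χ => by
      rw [hζc]
      split_ifs
      · linear_combination hδsq
      · ring
    simp only [h2, Finset.sum_add_distrib, Finset.sum_sub_distrib, ← Finset.mul_sum, Finset.sum_ite_eq',
      Finset.mem_univ, if_true, ← hd] at h1
    rw [← Finset.sum_subset (Finset.subset_univ (X ∪ Y)) fun χ _ hχ => by
      rw [hg0 χ fun hc => hχ (Finset.mem_union.2 ((hmem χ).1 hc)), mul_zero],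
      Finset.sum_union hdisj, Finset.sum_congr rfl (s₁ := Y) fun η hη => by rw [hgY η hη], Finset.sum_const,
      nsmul_eq_mul] at h1
    linarith
  -- the bounds
  obtain ⟨ι, hι, hroots⟩ := D.exists_coef
  have hg1 : ∀ χ ∈ X, g χ = 1 ∨ g χ = -1 := by
    intro χ hχ
    obtain ⟨k, -, hb⟩ := D.orbit_bound ι hι hroots θ {χ} (Finset.singleton_nonempty χ)
      (fun η hη η' hη' s _ => by rw [Finset.mem_singleton.1 hη, Finset.mem_singleton.1 hη']) (g χ)
      (fun a ha y => by rw [Finset.sum_singleton]; exact hXval χ hχ a ha y)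
    have h1 := abs_le.1 (hb fun η hη η' hη' => by rw [Finset.mem_singleton.1 hη, Finset.mem_singleton.1 hη'])
    have := hgne χ hχ
    omega
  have hA0 : A ≠ 0 := by
    intro hA0
    have hrd : (r : ℤ) * d = δ := by linarith
    have hr1 : r = 1 := by
      have : (r : ℤ) ∣ 1 := ⟨d * δ, by rw [← mul_assoc, hrd, hδsq]⟩
      exact_mod_cast Int.eq_one_of_dvd_one (Int.natCast_nonneg r) this
    rw [hr1, Nat.cast_one, one_mul] at hrd
    obtain ⟨η, hY1⟩ := Finset.card_eq_one.1 (hr ▸ hr1 : Y.card = 1)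
    obtain ⟨l, hl⟩ := hζne 1
    have e1 : ζ 1 = ζ l := by
      have a1 := (hYmem (ζ 1)).2 ⟨1, rfl⟩
      have a2 := (hYmem (ζ l)).2 ⟨l, rfl⟩
      rw [hY1, Finset.mem_singleton] at a1 a2
      rw [a1, a2]
    exact hl (by rw [hζc, if_pos e1, mul_one, ← hd, hrd, sub_self])
  have hA1 : |A| ≤ 1 := by
    obtain ⟨k, hrange, hb⟩ := D.orbit_bound ι hι hroots θ Y ⟨ζ 1, (hYmem _).2 ⟨1, rfl⟩⟩ hagree A hYval
    refine hb ?_
    have hu : IsUnit (Nat.card D.K0 : CharLattice.coefRing p (Nat.card G / p)) := by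
      refine CharLattice.isUnit_of_not_dvd p _ _ fun hd' => CharLattice.not_isUnit_p p (Nat.card G / p) ?_
      obtain ⟨a, b, hab⟩ := Int.isCoprime_iff_gcd_eq_one.2
        (show Int.gcd (p : ℤ) (Nat.card D.K0 : ℤ) = 1 from hp.out.coprime_iff_not_dvd.2 D.not_dvd)
      have h1 := congrArg (Int.cast : ℤ → CharLattice.coefRing p (Nat.card G / p)) hab
      push_cast at h1
      refine isUnit_of_dvd_one ?_
      rw [← h1]
      exact dvd_add (dvd_mul_left _ _) (dvd_mul_of_dvd_right hd' _)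
    obtain ⟨v, hv⟩ := hu
    have hsecmem : ∑ η ∈ Y, (k η : ℂ) * D.sec θ η 1 ∈ ι.range := by
      have e1 : ∑ η ∈ Y, (k η : ℂ) * D.sec θ η 1 = ι ((v⁻¹ : (CharLattice.coefRing p (Nat.card G / p))ˣ) : _) *
          ∑ y : D.K0, (∑ η ∈ Y, (k η : ℂ) * (η : G → ℂ) (D.el 1 y : G)) * (θ : D.K0 → ℂ) y⁻¹ := by
        have hv' : ι ((v⁻¹ : (CharLattice.coefRing p (Nat.card G / p))ˣ) : _) = (Nat.card D.K0 : ℂ)⁻¹ := by
          refine eq_inv_of_mul_eq_one_left ?_
          rw [← map_natCast ι, ← hv, ← map_mul, Units.inv_mul, map_one]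
        simp only [hv', Frame.sec, Frame.comp, Cfsg.classInner, Finset.mul_sum, Finset.sum_mul, conj_irr]
        rw [Finset.sum_comm]
        exact Finset.sum_congr rfl fun y _ => Finset.sum_congr rfl fun η _ => by ring
      rw [e1]
      exact mul_mem ⟨_, rfl⟩ (sum_mem fun y _ => mul_mem (hrange _) (D.K0_apply_mem ι hroots θ _))
    obtain ⟨t, ht⟩ := hsecmem
    set K : ℕ := ∑ η ∈ Y, k η with hK
    set t' : CharLattice.coefRing p (Nat.card G / p) :=
      (δ : CharLattice.coefRing p (Nat.card G / p)) * (t - (K : CharLattice.coefRing p (Nat.card G / p)) * d) with ht'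
    let F : ZMod p → CharLattice.coefRing p (Nat.card G / p) :=
      fun a => if ha : a = 0 then -t' else (k (ζ (Units.mk0 a ha)) : CharLattice.coefRing p (Nat.card G / p))
    have hFu : ∀ u : (ZMod p)ˣ, F u = (k (ζ u) : CharLattice.coefRing p (Nat.card G / p)) := fun u => by
      simp only [F, dif_neg u.ne_zero, Units.mk0_val]
    have hω : IsPrimitiveRoot (ZMod.stdAddChar (1 : ZMod p) : ℂ) p := by
      refine IsPrimitiveRoot.iff_orderOf.2 (orderOf_eq_prime ?_ fun h1 => one_ne_zero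
        (ZMod.injective_stdAddChar (h1.trans (AddChar.map_zero_eq_one _).symm)))
      rw [← AddChar.map_nsmul_eq_pow, nsmul_eq_mul, ZMod.natCast_self, zero_mul, AddChar.map_zero_eq_one]
    have e2 : ∑ u : (ZMod p)ˣ, (k (ζ u) : ℂ) * (ZMod.stdAddChar ((u : ZMod p) * 1) : ℂ) = ι t' := by
      have h1 : ι t = (K : ℂ) * d + (δ : ℂ) *
          ∑ u : (ZMod p)ˣ, (k (ζ u) : ℂ) * (ZMod.stdAddChar ((u : ZMod p) * 1) : ℂ) := by
        rw [ht, Finset.sum_congr rfl fun η hη => by rw [hsec η 1 one_ne_zero, hgY η hη],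
          ← Finset.sum_fiberwise_of_maps_to (s := (Finset.univ : Finset (ZMod p)ˣ)) (t := Y) (g := ζ)
            fun l _ => Finset.mem_image_of_mem _ (Finset.mem_univ l)]
        simp only [mul_add, Finset.sum_add_distrib, hK, Nat.cast_sum, Finset.sum_mul]
        congr 1
        rw [Finset.mul_sum]
        refine Finset.sum_congr rfl fun η _ => ?_
        rw [Finset.mul_sum, Finset.mul_sum, Finset.mul_sum]
        refine Finset.sum_congr rfl fun l hl => ?_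
        rw [(Finset.mem_filter.1 hl).2]; ring
      rw [ht', map_mul, map_sub, map_mul, map_intCast, map_intCast, map_natCast, h1, add_sub_cancel_left, ← mul_assoc,
        ← Int.cast_mul, hδsq, Int.cast_one, one_mul]
    have hrelF : ∑ j ∈ Finset.range p, ι (F (j : ZMod p)) * (ZMod.stdAddChar (1 : ZMod p) : ℂ) ^ j = 0 := by
      rw [Finset.sum_congr rfl (g := fun j : ℕ => ι (F (j : ZMod p)) * (ZMod.stdAddChar (j : ZMod p) : ℂ)) fun j _ => by
        rw [← AddChar.map_nsmul_eq_pow, nsmul_eq_mul, mul_one], sum_range_cast fun a => ι (F a) * (ZMod.stdAddChar a : ℂ)]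
      have h1 := sum_units fun a : ZMod p => ι (F a) * (ZMod.stdAddChar a : ℂ)
      rw [AddChar.map_zero_eq_one, mul_one, show F 0 = -t' from dif_pos rfl, map_neg, sub_neg_eq_add,
        Finset.sum_congr rfl (g := fun u : (ZMod p)ˣ => (k (ζ u) : ℂ) * (ZMod.stdAddChar ((u : ZMod p) * 1) : ℂ))
          fun u _ => by rw [hFu, map_natCast, mul_one], e2] at h1
      linear_combination -h1
    have hall := CharLattice.coeff_eq_of_relation (CharLattice.not_isUnit_p p _)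
      (CharLattice.isUnit_of_not_dvd p _) ι hι hω (fun j => F (j : ZMod p)) hrelF
    have hallk : ∀ η ∈ Y, (k η : CharLattice.coefRing p (Nat.card G / p)) = F ((p - 1 : ℕ) : ZMod p) := by
      intro η hη
      obtain ⟨u, rfl⟩ := (hYmem η).1 hη
      rw [← hall (u : ZMod p).val (ZMod.val_lt _)]
      simp only [ZMod.natCast_zmod_val, hFu]
    exact fun η hη η' hη' => Nat.cast_injective ((hallk η hη).trans (hallk η' hη').symm)
  have hAs : A = 1 ∨ A = -1 := by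
    have := abs_le.1 hA1; omega
  have hcardX : X.card = e := by
    have h1 : ∑ χ ∈ X, g χ * g χ = (X.card : ℤ) := by
      rw [Finset.sum_congr rfl (g := fun _ => (1 : ℤ)) fun χ hχ => by
        rcases hg1 χ hχ with hh | hh <;> rw [hh] <;> norm_num, Finset.sum_const, nsmul_eq_mul, mul_one]
    have h2 : (r : ℤ) * (d * d) - 2 * δ * d = 0 := by
      have h3 : (r : ℤ) * d - 2 * δ = 0 ∨ (r : ℤ) * d = 0 := by
        rcases hAs with hh | hh <;> rcases hδ with hh' | hh' <;> rw [hA, hh'] at hh <;> rw [hh'] <;>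
          first | (left; linarith) | (right; linarith)
      rcases h3 with h3 | h3
      · linear_combination d * h3
      · rcases mul_eq_zero.1 h3 with h4 | h4
        · exact absurd h4 (by omega)
        · rw [h4]; ring
    rw [h1] at hnorm
    omega
  -- degrees
  have hdegsum : ∀ χ ∈ B, ∃ n : ℕ, (charDegree (χ : G → ℂ) : ℂ) + ((D.orb θ).card : ℂ) *
      (charDegree (θ : D.K0 → ℂ) : ℂ) * ∑ u : (ZMod p)ˣ, D.sec θ χ u = (p : ℂ) * n := by
    intro χ hχ
    obtain ⟨n, hn⟩ := PrimeOrder.degree_add_sum P D.x_mem D.ord D.zp χ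
    refine ⟨n, ?_⟩
    rw [← hn]
    congr 1
    rw [Finset.sum_congr rfl (g := fun i : ℕ => ∑ θ' ∈ D.orb θ, D.sec θ' χ (i : ZMod p) * (θ : D.K0 → ℂ) 1) fun i hi => ?_,
      sum_Ico_cast fun a => ∑ θ' ∈ D.orb θ, D.sec θ' χ a * (θ : D.K0 → ℂ) 1, Finset.sum_comm (t := D.orb θ),
      Finset.sum_congr rfl (s₁ := D.orb θ) (g := fun _ => (θ : D.K0 → ℂ) 1 * ∑ u : (ZMod p)ˣ, D.sec θ χ u) fun θ' hθ' => ?_,
      Finset.sum_const, nsmul_eq_mul, irr_one_eq]
    · ring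
    · obtain ⟨w, rfl⟩ := D.mem_orb.1 hθ'
      rw [← Finset.sum_mul, mul_comm]
      congr 1
      simp only [Frame.sec_tw, ← Units.val_mul]
      exact (Equiv.sum_comp (Equiv.mulLeft (D.act w)) fun u : (ZMod p)ˣ => D.sec θ χ u).symm ▸ rfl
    · have hi' := Finset.mem_Ico.1 hi
      have ha : (i : ZMod p) ≠ 0 := fun e1 => by
        have := Nat.le_of_dvd (by omega) ((ZMod.natCast_eq_zero_iff _ _).1 e1); omega
      rw [show D.x ^ i = (D.el (i : ZMod p) 1 : G) by rw [Frame.coe_el, D.xpow_eq, OneMemClass.coe_one, mul_one],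
        horb χ hχ _ ha]
      refine Finset.sum_congr rfl fun θ' hθ' => ?_
      obtain ⟨w, rfl⟩ := D.mem_orb.1 hθ'
      rw [Frame.tw_apply, map_one]
  have hmr : (((D.orb θ).card * e : ℕ) : ℤ) = (Nat.card D.act.range : ℤ) := by rw [he, D.card_orb_mul θ]
  refine ⟨⟨X, Y, ζ, g, A, d, δ, hmem, hdisj, hcardX, hcardY, hYmem, hAs, hg1, hgX,
    fun k a ha => by rw [hsec _ a ha, hgconst], hζiff, fun χ hχ => ?_, fun η hη => ?_, hagree, hrel⟩⟩
  · obtain ⟨n, hn⟩ := hdegsum χ ((hXmem χ).1 hχ).1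
    rw [Finset.sum_congr rfl fun u _ => hgX χ hχ _ (Units.ne_zero u), Finset.sum_const, Finset.card_univ,
      ZMod.card_units, nsmul_eq_mul, Nat.cast_sub hp.out.one_le, Nat.cast_one] at hn
    have hn' : (charDegree (χ : G → ℂ) : ℤ) + ((D.orb θ).card : ℤ) * (charDegree (θ : D.K0 → ℂ) : ℤ) *
        (((p : ℤ) - 1) * g χ) = (p : ℤ) * n := by exact_mod_cast hn
    rw [Int.modEq_iff_dvd]
    exact ⟨((D.orb θ).card : ℤ) * (charDegree (θ : D.K0 → ℂ) : ℤ) * g χ - n, by push_cast; linear_combination -hn'⟩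
  · obtain ⟨k, rfl⟩ := (hYmem η).1 hη
    obtain ⟨n, hn⟩ := hdegsum _ (hζB k)
    rw [Finset.sum_congr rfl fun u _ => hsec (ζ k) _ (Units.ne_zero u), Finset.sum_add_distrib, Finset.sum_const,
      Finset.card_univ, ZMod.card_units, nsmul_eq_mul, ← Finset.mul_sum, Finset.sum_comm, hgconst k,
      Finset.sum_congr rfl (g := fun _ => (-1 : ℂ)) fun l _ => ?_, Finset.sum_const, hfib k, nsmul_eq_mul,
      Nat.cast_sub hp.out.one_le, Nat.cast_one] at hn
    · have hn' : (charDegree ((ζ k : IrrCharacter G) : G → ℂ) : ℤ) + ((D.orb θ).card : ℤ) *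
          (charDegree (θ : D.K0 → ℂ) : ℤ) * (((p : ℤ) - 1) * d + δ * ((e : ℤ) * -1)) = (p : ℤ) * n := by
        exact_mod_cast hn
      rw [← her] at hn'
      rw [Int.modEq_iff_dvd, Nat.cast_mul, ← hmr, hA]
      exact ⟨-n, by push_cast; linear_combination -hn'⟩
    · rw [Finset.sum_congr rfl fun u _ => by rw [mul_comm (l : ZMod p)]]
      exact sum_units_std (Units.ne_zero l)

end CfsgLib.Blocks.DefectOne
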