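import Cfsg.Agent.Lib.Blocks.DefectOneGalois

/-!
# Blocks of defect one: counting the characters of degree prime to `p`
-/

set_option autoImplicit false

namespace CfsgLib.Blocks.DefectOne

open Cfsg CfsgLib.Blocks
open scoped Classical ComplexConjugate

variable {G : Type*} [Group G] [Fintype G] {p : ℕ} [hp : Fact p.Prime]

theorem blockDefect_pos_of_not_dvd (hdiv : p ∣ Nat.card G) {B : Set (IrrCharacter G)} {χ : IrrCharacter G}
    (hχ : χ ∈ B) (h : ¬ p ∣ charDegree (χ : G → ℂ)) : 0 < blockDefect p B := by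
  have h1 : minDegVal p B ≤ degVal p χ := minDegVal_le hχ
  rw [degVal, Nat.factorization_eq_zero_of_not_dvd h] at h1
  rw [blockDefect_eq]
  have := hp.out.factorization_pos_of_dvd Nat.card_pos.ne' hdiv
  omega

namespace Frame

variable {P : Sylow p G} (D : Frame P)

/-- The share of one character of `K0` in the number of characters of degree prime to `p`. -/
noncomputable def weight (θ : IrrCharacter D.K0) : ℚ :=
  ((Nat.card (D.autE θ) + (p - 1) / Nat.card (D.autE θ) : ℕ) : ℚ) / ((D.orb θ).card : ℚ)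

theorem orb_eq_of_mem {θ θ' : IrrCharacter D.K0} (h : θ' ∈ D.orb θ) : D.orb θ' = D.orb θ := by
  obtain ⟨g, rfl⟩ := D.mem_orb.1 h
  ext φ
  rw [mem_orb, mem_orb]
  constructor
  · rintro ⟨w, rfl⟩; exact ⟨g * w, (D.tw_mul θ g w).symm⟩
  · rintro ⟨w, rfl⟩; exact ⟨g⁻¹ * w, by rw [tw_mul, mul_inv_cancel_left]⟩

theorem count_regular_degree (hdiv : p ∣ Nat.card G) {M : Ideal AlgInt} (hM : IsPModular p M) :
    (Nat.card {χ : IrrCharacter G // ¬ p ∣ charDegree (χ : G → ℂ)} : ℚ) = ∑ θ, D.weight θ := by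
  choose β hβ using fun θ => D.exists_induced hM θ
  have hsum : ∀ θ, D.weight θ
      = ∑ χ : IrrCharacter G, if χ ∈ β θ then ((D.orb θ).card : ℚ)⁻¹ else 0 := by
    intro θ
    obtain ⟨S⟩ := exists_shape D hM (hβ θ)
    rw [← Finset.sum_filter, Finset.sum_const, nsmul_eq_mul, weight, div_eq_mul_inv]
    congr 2
    rw [← S.card_eq, Nat.card_eq_fintype_card, ← Fintype.card_subtype]
  rw [Finset.sum_congr rfl fun θ _ => hsum θ, Finset.sum_comm, Nat.card_eq_fintype_card, Fintype.card_subtype,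
    Finset.card_eq_sum_ones, Finset.sum_filter, Nat.cast_sum]
  refine Finset.sum_congr rfl fun χ _ => ?_
  by_cases hχ : p ∣ charDegree (χ : G → ℂ)
  · rw [if_neg (not_not.2 hχ), Nat.cast_zero]
    refine (Finset.sum_eq_zero fun θ _ => ?_).symm
    obtain ⟨S⟩ := exists_shape D hM (hβ θ)
    exact if_neg fun h => S.not_dvd_degree h hχ
  · rw [if_pos hχ, Nat.cast_one]
    have hBχ : IsPBlock M (blockOf M (χ : G → ℂ)) := isPBlock_blockOf χ
    obtain ⟨θ₀, h₀⟩ := exists_inducing D hM hBχ (blockDefect_pos_of_not_dvd hdiv (SameBlock_refl hM _) hχ)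
    have hiff : ∀ θ, χ ∈ β θ ↔ θ ∈ D.orb θ₀ := fun θ => by
      rw [← D.induced_iff_orb hM h₀]
      constructor
      · intro h
        rw [← IsPBlock.eq_blockOf hM (hβ θ).2.1 h]
        exact hβ θ
      · intro h
        rw [IsInducedBlock.unique hM (hβ θ) h]
        exact SameBlock_refl hM _
    simp only [hiff]
    rw [← Finset.sum_filter, Finset.filter_mem_eq_inter, Finset.univ_inter,
      Finset.sum_congr rfl (g := fun _ => ((D.orb θ₀).card : ℚ)⁻¹) fun θ hθ => by rw [D.orb_eq_of_mem hθ],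
      Finset.sum_const, nsmul_eq_mul, mul_inv_cancel₀ (Nat.cast_ne_zero.2 (orb_pos D θ₀).ne')]

theorem K0_le_nrm : D.K0 ≤ nrm P := fun y hy =>
  centralizer_le_normalizer _ ((D.mem_cent_iff y).2 (D.commute_x hy))

/-- The frame inside the normalizer. -/
noncomputable def inN : Frame (P.subtype (Subgroup.le_normalizer : (P : Subgroup G) ≤ nrm P)) where
  x := ⟨D.x, Subgroup.le_normalizer D.x_mem⟩
  K0 := D.K0.subgroupOf (nrm P)
  ord := by rw [Subgroup.orderOf_mk]; exact D.ord
  zp := by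
    ext u
    rw [Sylow.coe_subtype, Subgroup.mem_subgroupOf, ← SetLike.ext_iff.1 D.zp (u : G), Subgroup.mem_zpowers_iff,
      Subgroup.mem_zpowers_iff]
    exact exists_congr fun i => ⟨fun e => by rw [← e, Subgroup.coe_zpow],
      fun e => Subtype.ext (by rw [Subgroup.coe_zpow]; exact e)⟩
  mem_K0 y := by
    rw [Subgroup.mem_subgroupOf, D.mem_K0, Subgroup.orderOf_coe]
    exact and_congr ⟨fun h => Subtype.ext h.eq, fun h => congrArg Subtype.val h.eq⟩ Iff.rfl
  conj_mem n _ y hy := by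
    rw [Subgroup.mem_subgroupOf] at hy ⊢
    exact D.conj_mem n (by rw [D.normalizer_zp]; exact n.2) _ hy
  not_dvd := by
    rw [Nat.card_congr (Subgroup.subgroupOfEquivOfLe D.K0_le_nrm).toEquiv]
    exact D.not_dvd
  decomp c hc := by
    obtain ⟨i, y, hy, e⟩ := D.decomp c (congrArg Subtype.val hc.eq)
    exact ⟨i, ⟨y, D.K0_le_nrm hy⟩, Subgroup.mem_subgroupOf.2 hy, Subtype.ext (by
      rw [Subgroup.coe_mul, Subgroup.coe_pow]; exact e)⟩

theorem sum_weight_inN : ∑ θ, D.inN.weight θ = ∑ θ, D.weight θ := by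
  let φ : D.inN.K0 ≃* D.K0 := Subgroup.subgroupOfEquivOfLe D.K0_le_nrm
  have hnrm : ∀ g : nrm P, g ∈ nrm (P.subtype (Subgroup.le_normalizer : (P : Subgroup G) ≤ nrm P)) := fun g =>
    Subgroup.mem_normalizer_fintype fun n hn => by
      rw [SetLike.mem_coe, Sylow.coe_subtype, Subgroup.mem_subgroupOf] at hn ⊢
      exact (Subgroup.mem_normalizer_iff.1 g.2 _).1 hn
  have hN : Nat.card (nrm (P.subtype (Subgroup.le_normalizer : (P : Subgroup G) ≤ nrm P))) = Nat.card (nrm P) :=
    Nat.card_congr (Equiv.subtypeUnivEquiv hnrm)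
  have hK : Nat.card D.inN.K0 = Nat.card D.K0 := Nat.card_congr φ.toEquiv
  have hf : Nat.card D.inN.act.range = Nat.card D.act.range := by
    have h1 := D.inN.card_nrm
    rw [hN, D.card_nrm, D.inN.card_cent, D.card_cent, hK] at h1
    exact (mul_right_cancel₀ (Nat.mul_pos hp.out.pos Nat.card_pos).ne' h1).symm
  refine (Fintype.sum_equiv (BrauerPairs.irrEquiv φ) _ _ fun θ => ?_).symm
  have htw : ∀ g : nrm (P.subtype (Subgroup.le_normalizer : (P : Subgroup G) ≤ nrm P)),
      D.inN.tw (BrauerPairs.irrEquiv φ θ) g = BrauerPairs.irrEquiv φ (D.tw θ g.1) := fun g =>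
    Subtype.ext (funext fun y => by
      rw [tw_apply, BrauerPairs.irrEquiv_apply, BrauerPairs.irrEquiv_apply, tw_apply]
      refine congrArg _ (Subtype.ext ?_)
      rw [coe_conjK]
      show (((D.inN.conjK g y : nrm P)) : G) = _
      rw [coe_conjK]
      rfl)
  have horb : (D.inN.orb (BrauerPairs.irrEquiv φ θ)).card = (D.orb θ).card := by
    rw [← Finset.card_image_of_injective (D.orb θ) (BrauerPairs.irrEquiv φ).injective]
    congr 1
    ext ψ
    rw [mem_orb, Finset.mem_image]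
    constructor
    · rintro ⟨g, rfl⟩
      exact ⟨_, D.mem_orb.2 ⟨g.1, rfl⟩, (htw g).symm⟩
    · rintro ⟨_, hmem, rfl⟩
      obtain ⟨g, rfl⟩ := D.mem_orb.1 hmem
      exact ⟨⟨g, hnrm g⟩, htw _⟩
  have he : Nat.card (D.inN.autE (BrauerPairs.irrEquiv φ θ)) = Nat.card (D.autE θ) := by
    have h1 := D.inN.card_orb_mul (BrauerPairs.irrEquiv φ θ)
    rw [horb, hf, ← D.card_orb_mul θ] at h1
    exact mul_left_cancel₀ (orb_pos D θ).ne' h1
  rw [weight, weight, horb, he]

end Frame

/-- All characters of the normalizer have degree prime to `p`. -/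
theorem not_dvd_degree_of_normal {P : Sylow p G} (D : Frame P) (hPn : (P : Subgroup G).Normal) {M : Ideal AlgInt}
    (hM : IsPModular p M) (χ : IrrCharacter G) : ¬ p ∣ charDegree (χ : G → ℂ) := by
  have hB : IsPBlock M (blockOf M (χ : G → ℂ)) := isPBlock_blockOf χ
  have hd : 0 < blockDefect p (blockOf M (χ : G → ℂ)) := by
    obtain ⟨R, hR⟩ := exists_isDefectGroup hM hB
    have h1 := le_defectGroup_of_normal hM hB P.2 hR
    by_contra h
    have h2 := Subgroup.card_le_of_le h1
    rw [card_defectGroup hM hB hR, Nat.eq_zero_of_not_pos h, pow_zero, show Nat.card (P : Subgroup G) = p from D.card_P] at h2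
    have := hp.out.two_le
    omega
  obtain ⟨θ, hθ⟩ := exists_inducing D hM hB hd
  obtain ⟨S⟩ := exists_shape D hM hθ
  exact S.not_dvd_degree (SameBlock_refl hM _)

end CfsgLib.Blocks.DefectOne
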