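import Cfsg.Agent.Lib.Blocks.Section
import Cfsg.Agent.Lib.Blocks.Eigen
import Cfsg.Agent.Lib.Char.CyclicTIGalois
import Mathlib.RingTheory.RootsOfUnity.Complex

/-!
# The number of `p`-conjugates of an irreducible character
-/

set_option autoImplicit false

namespace CfsgLib.Blocks.PConjugates

open Cfsg CfsgLib.Blocks
open scoped Classical ComplexConjugate

/-- Sums of a root of unity over the units modulo `p ^ a`. -/
theorem exists_int_sum_units {p : ℕ} (hp : p.Prime) {a : ℕ} (ha : 0 < a) [NeZero (p ^ a)] {z : ℂ}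
    (hz : z ^ p ^ a = 1) :
    ∃ m : ℤ, ∑ j : (ZMod (p ^ a))ˣ, z ^ (j : ZMod (p ^ a)).val = (p : ℂ) ^ (a - 1) * (m : ℂ) := by
  have hgeo : ∀ (w : ℂ) (n : ℕ), w ^ n = 1 → ∃ m : ℤ, ∑ i ∈ Finset.range n, w ^ i = (n : ℂ) * m := by
    intro w n hw
    by_cases h : w = 1
    · exact ⟨1, by simp [h]⟩
    · exact ⟨0, by rw [geom_sum_eq h, hw]; simp⟩
  obtain ⟨b, rfl⟩ : ∃ b, a = b + 1 := ⟨a - 1, by omega⟩
  rw [Nat.add_sub_cancel]
  obtain ⟨m₁, h₁⟩ := hgeo z (p ^ (b + 1)) hz
  obtain ⟨m₂, h₂⟩ := hgeo (z ^ p) (p ^ b) (by rw [← pow_mul, ← pow_succ', hz])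
  refine ⟨p * m₁ - m₂, ?_⟩
  have e : ∑ j : (ZMod (p ^ (b + 1)))ˣ, z ^ (j : ZMod (p ^ (b + 1))).val
      = ∑ i ∈ (Finset.range (p ^ (b + 1))).filter (fun i => ¬ p ∣ i), z ^ i := by
    refine Finset.sum_bij (fun j _ => (j : ZMod (p ^ (b + 1))).val) (fun j _ => ?_) (fun i _ j _ h => ?_)
      (fun i hi => ?_) (fun _ _ => rfl)
    · refine Finset.mem_filter.2 ⟨Finset.mem_range.2 (ZMod.val_lt _), ?_⟩
      exact hp.coprime_iff_not_dvd.1
        ((Nat.coprime_pow_right_iff (by omega : 0 < b + 1) _ _).1 (ZMod.val_coe_unit_coprime j)).symm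
    · exact Units.ext (ZMod.val_injective _ h)
    · obtain ⟨hi, hpi⟩ := Finset.mem_filter.1 hi
      refine ⟨ZMod.unitOfCoprime i ((hp.coprime_iff_not_dvd.2 hpi).symm.pow_right _), Finset.mem_univ _, ?_⟩
      rw [ZMod.coe_unitOfCoprime, ZMod.val_natCast_of_lt (Finset.mem_range.1 hi)]
  have e2 : ∑ i ∈ (Finset.range (p ^ (b + 1))).filter (fun i => p ∣ i), z ^ i
      = ∑ i ∈ Finset.range (p ^ b), (z ^ p) ^ i := by
    refine (Finset.sum_bij (fun i _ => p * i) (fun i hi => ?_) (fun i _ j _ h => ?_) (fun i hi => ?_)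
      (fun i _ => (pow_mul z p i).symm)).symm
    · refine Finset.mem_filter.2 ⟨Finset.mem_range.2 ?_, dvd_mul_right _ _⟩
      rw [pow_succ']
      exact Nat.mul_lt_mul_of_pos_left (Finset.mem_range.1 hi) hp.pos
    · exact Nat.eq_of_mul_eq_mul_left hp.pos h
    · obtain ⟨hi, k, rfl⟩ := Finset.mem_filter.1 hi
      refine ⟨k, Finset.mem_range.2 ?_, rfl⟩
      rw [pow_succ'] at hi
      exact Nat.lt_of_mul_lt_mul_left (Finset.mem_range.1 hi)
  have h := Finset.sum_filter_add_sum_filter_not (Finset.range (p ^ (b + 1))) (fun i => p ∣ i) (fun i => z ^ i)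
  rw [e2, h₁, h₂] at h
  rw [e, eq_sub_of_add_eq' h]
  push_cast
  ring

variable {G : Type*} [Group G]

/-- An exponent congruent to `x` modulo `m` and to `1` modulo `n`. -/
theorem exists_exponent {m n : ℕ} (h : m.Coprime n) (x : ℕ) : ∃ k : ℕ, k ≡ x [MOD m] ∧ k ≡ 1 [MOD n] :=
  ⟨_, (Nat.chineseRemainder h x 1).2⟩

/-- The number of `p`-conjugates of an irreducible character and its degree. -/
theorem conjugates_degree [Finite G] {p : ℕ} (hp : p.Prime) (χ : IrrCharacter G) {ζ : ℂ}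
    (hζ : IsPrimitiveRoot ζ (Nat.card G / p ^ (Nat.card G).factorization p)) (r : ℕ)
    (hr : Nat.card {ψ : IrrCharacter G // ∃ σ : ℂ ≃+* ℂ, σ ζ = ζ ∧
      (ψ : G → ℂ) = fun g => σ ((χ : G → ℂ) g)} = r) :
    (r * charDegree (χ : G → ℂ)).factorization p ≤ (Nat.card G).factorization p ∧
      (p ^ (Nat.card G).factorization p ∣ r * charDegree (χ : G → ℂ) →
        p ^ (Nat.card G).factorization p ∣ charDegree (χ : G → ℂ)) := by
  haveI := Fintype.ofFinite G
  haveI : Fact p.Prime := ⟨hp⟩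
  set N := Nat.card G with hN
  set a := N.factorization p with ha
  set n' := N / p ^ a with hn'
  have hN0 : N ≠ 0 := Nat.card_pos.ne'
  have hNeq : p ^ a * n' = N := Nat.ordProj_mul_ordCompl_eq_self N p
  have hcop : (p ^ a).Coprime n' := (Nat.coprime_ordCompl hp hN0).pow_left a
  haveI : NeZero (p ^ a) := ⟨pow_ne_zero _ hp.ne_zero⟩
  haveI : NeZero n' := ⟨(Nat.ordCompl_pos p hN0).ne'⟩
  set d := charDegree (χ : G → ℂ) with hd
  have hd0 : d ≠ 0 := (charDegree_pos χ).ne'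
  -- the exponents and the automorphisms
  choose K hK1 hK2 using fun j : (ZMod (p ^ a))ˣ => exists_exponent hcop (j : ZMod (p ^ a)).val
  have hKcop : ∀ j, (K j).Coprime N := fun j => by
    rw [← hNeq]
    refine Nat.Coprime.mul_right ?_ ?_
    · rw [Nat.coprime_iff_gcd_eq_one, (hK1 j).gcd_eq]
      exact ZMod.val_coe_unit_coprime j
    · rw [Nat.coprime_iff_gcd_eq_one, (hK2 j).gcd_eq]
      exact Nat.gcd_one_left _
  set ω : ℂ := Complex.exp (2 * Real.pi * Complex.I / (N : ℕ)) with hω0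
  have hω : IsPrimitiveRoot ω N := Complex.isPrimitiveRoot_exp N hN0
  choose σ hσ using fun j : (ZMod (p ^ a))ˣ =>
    CfsgLib.CharDeep.Galois.exists_ringEquiv_primitive hN0 hω (hω.pow_of_coprime (K j) (hKcop j))
  haveI : NeZero N := ⟨hN0⟩
  have hσpow : ∀ j, ∀ z : ℂ, z ^ N = 1 → σ j z = z ^ K j := by
    intro j z hz
    obtain ⟨i, -, rfl⟩ := hω.eq_pow_of_pow_eq_one hz
    rw [map_pow, hσ, ← pow_mul, ← pow_mul, mul_comm]
  have hKmul : ∀ i j, K i * K j ≡ K (i * j) [MOD N] := by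
    intro i j
    rw [← hNeq, ← Nat.modEq_and_modEq_iff_modEq_mul hcop]
    refine ⟨((hK1 i).mul (hK1 j)).trans (Nat.ModEq.trans ?_ (hK1 (i * j)).symm),
      ((hK2 i).mul (hK2 j)).trans (hK2 (i * j)).symm⟩
    rw [← ZMod.natCast_eq_natCast_iff]
    simp
  have hσmul : ∀ i j g, σ i (σ j ((χ : G → ℂ) g)) = σ (i * j) ((χ : G → ℂ) g) := by
    intro i j g
    refine CfsgLib.Char.IsCharacter.map_apply_eq (Char.isCharacter_irr χ) g
      ((σ i).toRingHom.comp (σ j).toRingHom) (σ (i * j)).toRingHom fun z hz => ?_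
    have hzN : z ^ N = 1 := by
      obtain ⟨k, hk⟩ := orderOf_dvd_natCard g
      rw [hN, hk, pow_mul, hz, one_pow]
    show σ i (σ j z) = σ (i * j) z
    rw [hσpow j z hzN, map_pow, hσpow i z hzN, hσpow (i * j) z hzN, ← pow_mul]
    exact pow_eq_pow_of_modEq (hKmul i j) hzN
  have hσone : ∀ g, σ 1 ((χ : G → ℂ) g) = (χ : G → ℂ) g := fun g => by
    refine (σ 1).injective ?_
    rw [hσmul, one_mul]
  -- the orbit
  have hζN : ∀ j, σ j ζ = ζ := by
    intro j
    have hzN : ζ ^ N = 1 := by rw [← hNeq, mul_comm, pow_mul, hζ.pow_eq_one, one_pow]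
    rw [hσpow j ζ hzN]
    conv_rhs => rw [← pow_one ζ]
    exact pow_eq_pow_of_modEq (hK2 j) hζ.pow_eq_one
  let Φ : (ZMod (p ^ a))ˣ → IrrCharacter G := fun j =>
    ⟨fun g => σ j ((χ : G → ℂ) g), CharDeep.Galois.isIrrCharacter_map (σ j).toRingHom χ.2⟩
  have hΦ : ∀ j g, (Φ j : G → ℂ) g = σ j ((χ : G → ℂ) g) := fun _ _ => rfl
  set O := (Finset.univ : Finset (ZMod (p ^ a))ˣ).image Φ with hO
  have hOr : O.card = r := by
    rw [← hr, ← Nat.card_eq_finsetCard]
    refine Nat.card_congr (Equiv.subtypeEquivRight fun ψ => ?_)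
    constructor
    · intro h
      obtain ⟨j, -, rfl⟩ := Finset.mem_image.1 h
      exact ⟨σ j, hζN j, rfl⟩
    · rintro ⟨τ, hτ, hψ⟩
      obtain ⟨i, -, hi⟩ := hω.eq_pow_of_pow_eq_one (show (τ ω) ^ N = 1 by
        rw [← map_pow, hω.pow_eq_one, map_one])
      have hprim : IsPrimitiveRoot (ω ^ i) N := hi ▸ hω.map_of_injective τ.injective
      have hicop : i.Coprime N := (hω.pow_iff_coprime (Nat.pos_of_ne_zero hN0) i).1 hprim
      let j : (ZMod (p ^ a))ˣ := ZMod.unitOfCoprime i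
        (Nat.Coprime.coprime_dvd_right ⟨n', hNeq.symm⟩ hicop)
      refine Finset.mem_image.2 ⟨j, Finset.mem_univ _, Subtype.ext (funext fun g => ?_)⟩
      rw [hψ, hΦ]
      refine CfsgLib.Char.IsCharacter.map_apply_eq (Char.isCharacter_irr χ) g
        (σ j).toRingHom τ.toRingHom fun z hz => ?_
      have hzN : z ^ N = 1 := by
        obtain ⟨k, hk⟩ := orderOf_dvd_natCard g
        rw [hN, hk, pow_mul, hz, one_pow]
      show σ j z = τ z
      obtain ⟨l, -, rfl⟩ := hω.eq_pow_of_pow_eq_one hzN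
      rw [hσpow j _ hzN, map_pow τ, ← hi, ← pow_mul, ← pow_mul, mul_comm i]
      refine pow_eq_pow_of_modEq (Nat.ModEq.mul_left l ?_) hω.pow_eq_one
      rw [← hNeq, ← Nat.modEq_and_modEq_iff_modEq_mul hcop]
      refine ⟨(hK1 j).trans ?_, (hK2 j).trans ?_⟩
      · rw [← ZMod.natCast_eq_natCast_iff]
        simp [j]
      · have hprim' : IsPrimitiveRoot (ω ^ p ^ a) n' := hω.pow (Nat.pos_of_ne_zero hN0) hNeq.symm
        obtain ⟨u, -, hu⟩ := (hζ.eq_pow_of_pow_eq_one hprim'.pow_eq_one)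
        have hfix : τ (ω ^ p ^ a) = ω ^ p ^ a := by rw [← hu, map_pow, hτ]
        rw [map_pow, ← hi, ← pow_mul, mul_comm, pow_mul] at hfix
        have hord : IsOfFinOrder (ω ^ p ^ a) :=
          isOfFinOrder_iff_pow_eq_one.2 ⟨n', Nat.pos_of_ne_zero (NeZero.ne n'), hprim'.pow_eq_one⟩
        have e := (hord.pow_eq_pow_iff_modEq (n := i) (m := 1)).1 (by rw [pow_one]; exact hfix)
        rw [← hprim'.eq_orderOf] at e
        exact e.symm
  -- the traces
  set T : G → ℂ := fun g => ∑ j, σ j ((χ : G → ℂ) g) with hT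
  set h := ((Finset.univ : Finset (ZMod (p ^ a))ˣ).filter fun j => Φ j = Φ 1).card with hh
  have hfib : ∀ ψ ∈ O, ((Finset.univ : Finset (ZMod (p ^ a))ˣ).filter fun j => Φ j = ψ).card = h := by
    intro ψ hψ
    obtain ⟨i, -, rfl⟩ := Finset.mem_image.1 hψ
    refine Finset.card_equiv (Equiv.mulLeft i⁻¹) fun j => ?_
    simp only [Finset.mem_filter, Finset.mem_univ, true_and, Equiv.coe_mulLeft]
    constructor
    · intro e
      refine Subtype.ext (funext fun g => ?_)
      rw [hΦ, hΦ, ← hσmul, ← hΦ j, e, hΦ, hσmul, inv_mul_cancel]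
    · intro e
      refine Subtype.ext (funext fun g => ?_)
      have := congrArg (σ i) (congrArg (fun φ : IrrCharacter G => (φ : G → ℂ) g) e)
      simpa only [hΦ, hσmul, mul_inv_cancel_left, mul_one] using this
  have hrh : (p ^ a).totient = h * r := by
    rw [← ZMod.card_units_eq_totient, ← Finset.card_univ, Finset.card_eq_sum_card_image Φ,
      Finset.sum_congr rfl hfib, Finset.sum_const, hOr, smul_eq_mul, mul_comm]
  have hh0 : h ≠ 0 := fun e => by
    rw [e, zero_mul] at hrh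
    exact (Nat.totient_pos.2 (pow_pos hp.pos a)).ne' hrh
  have hr0 : r ≠ 0 := fun e => by
    rw [e, mul_zero] at hrh
    exact (Nat.totient_pos.2 (pow_pos hp.pos a)).ne' hrh
  have hTO : ∀ g, T g = (h : ℂ) * ∑ ψ ∈ O, (ψ : G → ℂ) g := by
    intro g
    show ∑ j, (Φ j : G → ℂ) g = _
    rw [← Finset.sum_fiberwise_of_maps_to (t := O) (g := Φ) (fun j hj => Finset.mem_image_of_mem _ hj)
      (fun j => (Φ j : G → ℂ) g), Finset.mul_sum]
    refine Finset.sum_congr rfl fun ψ hψ => ?_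
    rw [Finset.sum_congr rfl (g := fun _ => (ψ : G → ℂ) g) (fun j hj => by
      rw [(Finset.mem_filter.1 hj).2]), Finset.sum_const, hfib ψ hψ, nsmul_eq_mul]
  by_cases ha0 : a = 0
  · have hr1 : r = 1 := by
      have : h * r = 1 := by rw [← hrh, ha0]; simp
      exact Nat.eq_one_of_mul_eq_one_left this
    rw [hr1, one_mul, ha0, pow_zero]
    refine ⟨?_, fun _ => one_dvd _⟩
    rw [← ha0, ha]
    exact (Nat.factorization_le_iff_dvd hd0 hN0).2 (charDegree_dvd χ) p
  have hpa : (p : ℂ) ^ (a - 1) ≠ 0 := pow_ne_zero _ (Nat.cast_ne_zero.2 hp.ne_zero)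
  have hTdiv : ∀ g, IsIntegral ℤ (T g / (p : ℂ) ^ (a - 1)) := by
    intro g
    obtain ⟨n, ρ, hρ⟩ := Char.isCharacter_irr χ
    obtain ⟨μ, hμ, hk⟩ := CfsgLib.Char.exists_eigenvalues ρ g
    have h1 : (χ : G → ℂ) g = ∑ i, μ i := by
      rw [← hρ]; simpa using hk 1
    have hμN : ∀ i, μ i ^ N = 1 := fun i => by
      obtain ⟨k, hk'⟩ := orderOf_dvd_natCard g
      rw [hN, hk', pow_mul, hμ, one_pow]
    obtain ⟨A, hA1, hA2⟩ := exists_exponent hcop 0
    obtain ⟨B, hB2, hB1⟩ := exists_exponent hcop.symm 0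
    have key : ∀ i j, σ j (μ i) = μ i ^ A * (μ i ^ B) ^ (j : ZMod (p ^ a)).val := by
      intro i j
      rw [hσpow j _ (hμN i), ← pow_mul, ← pow_add]
      refine pow_eq_pow_of_modEq ?_ (hμN i)
      rw [← hNeq, ← Nat.modEq_and_modEq_iff_modEq_mul hcop]
      constructor
      · refine (hK1 j).trans ?_
        have e := hA1.add (hB1.mul_right (j : ZMod (p ^ a)).val)
        rw [zero_add, one_mul] at e
        exact e.symm
      · refine (hK2 j).trans ?_
        have e := hA2.add (hB2.mul_right (j : ZMod (p ^ a)).val)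
        rw [zero_mul, add_zero] at e
        exact e.symm
    have hBroot : ∀ i, (μ i ^ B) ^ p ^ a = 1 := fun i => by
      rw [← pow_mul, ← pow_zero (μ i)]
      refine pow_eq_pow_of_modEq ?_ (hμN i)
      rw [← hNeq, ← Nat.modEq_and_modEq_iff_modEq_mul hcop]
      refine ⟨Nat.modEq_zero_iff_dvd.2 (dvd_mul_left _ _), ?_⟩
      simpa using hB2.mul_right (p ^ a)
    choose m hm using fun i => exists_int_sum_units hp (Nat.pos_of_ne_zero ha0) (hBroot i)
    have e : T g / (p : ℂ) ^ (a - 1) = ∑ i, μ i ^ A * (m i : ℂ) := by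
      rw [div_eq_iff hpa, hT]
      simp only [h1, map_sum, key]
      rw [Finset.sum_comm, Finset.sum_mul]
      exact Finset.sum_congr rfl fun i _ => by rw [← Finset.mul_sum, hm]; ring
    rw [e]
    exact IsIntegral.sum _ fun i _ => ((CfsgLib.Char.isIntegral_of_pow_eq_one hN0 (hμN i)).pow A).mul
      isIntegral_algebraMap
  -- the quotient of `h * N` by `d * p ^ (a - 1)`
  set S : G → ℂ := fun g => T g / (p : ℂ) ^ (a - 1) with hS
  have hScl : IsClassFunction G fun g => S g⁻¹ := fun x y => by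
    have : ∀ g u, T (u * g * u⁻¹) = T g := fun g u =>
      Finset.sum_congr rfl fun j _ => by rw [irr_conj_apply]
    simp only [hS, mul_inv_rev, inv_inv, ← mul_assoc, this]
  have hχO : χ ∈ O := Finset.mem_image.2 ⟨1, Finset.mem_univ _, Subtype.ext (funext hσone)⟩
  have hom : omega (χ : G → ℂ) (fun g => S g⁻¹) = (h * N : ℕ) / ((d * p ^ (a - 1) : ℕ) : ℂ) := by
    rw [omega, irr_one_eq, ← hd]
    have e : ∑ x, S x⁻¹ * (χ : G → ℂ) x = (h : ℂ) / (p : ℂ) ^ (a - 1) * (N : ℂ) := by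
      have e1 : ∀ x, S x⁻¹ * (χ : G → ℂ) x
          = (h : ℂ) / (p : ℂ) ^ (a - 1) * ∑ ψ ∈ O, (χ : G → ℂ) x * conj ((ψ : G → ℂ) x) := fun x => by
        simp only [hS, hTO, conj_irr, ← Finset.mul_sum]
        ring
      rw [Finset.sum_congr rfl fun x _ => e1 x, ← Finset.mul_sum, Finset.sum_comm,
        Finset.sum_congr rfl (g := fun ψ => if χ = ψ then (N : ℂ) else 0) fun ψ _ => ?_,
        Finset.sum_ite_eq, if_pos hχO]
      have := CfsgLib.Char.classInner_irrCharacter χ ψ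
      rw [Cfsg.classInner, inv_mul_eq_iff_eq_mul₀ CfsgLib.Char.card_ne_zero] at this
      rw [this]
      split_ifs <;> simp [hN]
    rw [e]
    push_cast
    field_simp
  have hdvd : d * p ^ (a - 1) ∣ h * N := by
    have hint : IsIntegral ℤ (((h * N : ℕ) : ℂ) / ((d * p ^ (a - 1) : ℕ) : ℂ)) := by
      rw [← hom, omega_eq_sum_centralChar χ hScl]
      exact IsIntegral.sum _ fun C _ => (hTdiv _).mul (isIntegral_centralChar χ _)
    obtain ⟨z, hz⟩ := Char.exists_int_of_isIntegral_rat hint (q := ((h * N : ℕ) : ℚ) / ((d * p ^ (a - 1) : ℕ) : ℚ))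
      (by push_cast; ring)
    rw [div_eq_iff (Nat.cast_ne_zero.2 (mul_ne_zero hd0 (pow_ne_zero _ hp.ne_zero)))] at hz
    have : ((h * N : ℕ) : ℤ) = z * ((d * p ^ (a - 1) : ℕ) : ℤ) := by exact_mod_cast hz
    exact Int.natCast_dvd_natCast.1 (Dvd.intro_left z this.symm)
  obtain ⟨q, hq⟩ := hdvd
  have hq0 : q ≠ 0 := fun e => mul_ne_zero hh0 hN0 (by rw [hq, e, mul_zero])
  have hfh : h.factorization p + r.factorization p = a - 1 := by
    have e := congrArg (fun n => n.factorization p) hrh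
    simp only [Nat.totient_prime_pow hp (Nat.pos_of_ne_zero ha0), Nat.factorization_mul hh0 hr0,
      Nat.factorization_mul (pow_ne_zero _ hp.ne_zero) (Nat.sub_ne_zero_of_lt hp.one_lt),
      Nat.Prime.factorization_pow hp, Finsupp.add_apply, Finsupp.single_eq_same] at e
    rw [Nat.factorization_eq_zero_of_not_dvd (n := p - 1) (fun hdv => absurd (Nat.le_of_dvd (by
      have := hp.one_lt; omega) hdv) (by have := hp.one_lt; omega)), add_zero] at e
    exact e.symm
  have hfq : d.factorization p + (a - 1) + q.factorization p = h.factorization p + a := by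
    have e := congrArg (fun n => n.factorization p) hq
    simp only [Nat.factorization_mul hh0 hN0, Nat.factorization_mul (mul_ne_zero hd0 (pow_ne_zero _ hp.ne_zero)) hq0,
      Nat.factorization_mul hd0 (pow_ne_zero _ hp.ne_zero),
      Nat.Prime.factorization_pow hp, Finsupp.add_apply, Finsupp.single_eq_same] at e
    exact e.symm
  have hrd : (r * d).factorization p = r.factorization p + d.factorization p := by
    rw [Nat.factorization_mul hr0 hd0, Finsupp.add_apply]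
  refine ⟨by omega, fun hdiv => ?_⟩
  rw [hp.pow_dvd_iff_le_factorization (mul_ne_zero hr0 hd0), hrd] at hdiv
  have hqp : ¬ p ∣ q := fun hpq => by
    have := hp.factorization_pos_of_dvd hq0 hpq
    omega
  -- the orbit is a union of blocks
  obtain ⟨M, hM⟩ := exists_isPModular hp
  have hloc : IsLocalOn M (⊤ : Subgroup G) (blockInd (O : Set (IrrCharacter G))) := by
    intro g
    refine ⟨?_, fun hg => absurd (Subgroup.mem_top g) hg⟩
    have e : fourierInv (blockInd (O : Set (IrrCharacter G))) g = S g⁻¹ * ((q : ℂ))⁻¹ := by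
      have hdeg : ∀ ψ ∈ O, (ψ : G → ℂ) 1 = (d : ℂ) := fun ψ hψ => by
        obtain ⟨j, -, rfl⟩ := Finset.mem_image.1 hψ
        rw [hΦ, irr_one_eq, map_natCast]
      have hq' : (h : ℂ) * N = (d : ℂ) * (p : ℂ) ^ (a - 1) * q := by exact_mod_cast hq
      have hh' : (h : ℂ) ≠ 0 := Nat.cast_ne_zero.2 hh0
      have hN' : (N : ℂ) ≠ 0 := Nat.cast_ne_zero.2 hN0
      have hq'' : (q : ℂ) ≠ 0 := Nat.cast_ne_zero.2 hq0
      simp only [fourierInv, blockInd, Finset.mem_coe, ite_mul, one_mul, zero_mul]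
      rw [Finset.sum_ite_mem, Finset.univ_inter, Finset.sum_congr rfl fun ψ hψ => by rw [hdeg ψ hψ],
        ← Finset.mul_sum, hS]
      simp only [hTO, ← hN]
      field_simp
      linear_combination (-(∑ x ∈ O, (x : G → ℂ) g⁻¹)) * hq'
    rw [e]
    exact LR.mul hM (LR.of_isIntegral hM (hTdiv _))
      (LR.inv hM (LR.natCast hM q) fun hLI => hqp ((LI.natCast_iff hM q).1 hLI))
  have hvanish : ∀ g : G, p ∣ orderOf g → T g = 0 := by
    intro g hg
    have e := hloc.sum_mul_eq_zero hM (blockInd_mul_self _) hg (h := 1)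
      (by rw [orderOf_one]; exact hp.not_dvd_one)
    simp only [blockInd, Finset.mem_coe, ite_mul, one_mul, zero_mul] at e
    have e2 : ∀ ψ ∈ O, (ψ : G → ℂ) g * (ψ : G → ℂ) 1 = (d : ℂ) * (ψ : G → ℂ) g := fun ψ hψ => by
      obtain ⟨j, -, rfl⟩ := Finset.mem_image.1 hψ
      rw [hΦ j 1, irr_one_eq, map_natCast, mul_comm]
    rw [Finset.sum_ite_mem, Finset.univ_inter, Finset.sum_congr rfl e2, ← Finset.mul_sum] at e
    rw [hTO, (mul_eq_zero.1 e).resolve_left (Nat.cast_ne_zero.2 hd0), mul_zero]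
  set B := blockOf M (χ : G → ℂ) with hBdef
  have hB : IsPBlock M B := isPBlock_blockOf χ
  have hχB : χ ∈ B := SameBlock_refl hM _
  have hBO : ∀ ψ ∈ B, ψ ∈ O := fun ψ hψ =>
    Finset.mem_coe.1 (hloc.mem_of_sameBlock hM (Finset.mem_coe.2 hχO) (IsPBlock.sameBlock hM hB hχB hψ))
  have hzero : ∀ x : G, (∃ k, orderOf x = p ^ k) → x ≠ 1 → (χ : G → ℂ) x = 0 := by
    rintro x ⟨k, hk⟩ hx1
    have hxdvd : p ^ k ∣ p ^ a := by
      rw [← hk]
      exact dvd_ordProj_of_pow hp hk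
    have hpow : ∀ ψ : IrrCharacter G, ∀ j, σ j ((ψ : G → ℂ) x) = (ψ : G → ℂ) (x ^ (j : ZMod (p ^ a)).val) := by
      intro ψ j
      obtain ⟨n, ρ, hρ⟩ := Char.isCharacter_irr ψ
      obtain ⟨μ, hμ, hk'⟩ := CfsgLib.Char.exists_eigenvalues ρ x
      have h1 : (ψ : G → ℂ) x = ∑ i, μ i := by rw [← hρ]; simpa using hk' 1
      rw [← hρ, hk', hρ, h1, map_sum]
      refine Finset.sum_congr rfl fun i _ => ?_
      have hμN : μ i ^ N = 1 := by
        obtain ⟨l, hl⟩ := orderOf_dvd_natCard x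
        rw [hN, hl, pow_mul, hμ, one_pow]
      rw [hσpow j _ hμN]
      exact pow_eq_pow_of_modEq ((hK1 j).of_dvd hxdvd) (hk ▸ hμ i)
    have hpp : ∀ y : G, orderOf y = p ^ k → IsPPart p y y := fun y hy => by
      have := isPPart_mul (p := p) (Commute.one_right y) hy (by rw [orderOf_one]; exact hp.not_dvd_one)
      rwa [mul_one] at this
    have key : (0 : ℂ) = ((Finset.univ.filter fun j : (ZMod (p ^ a))ˣ =>
        IsConj (x ^ (j : ZMod (p ^ a)).val) x).card : ℂ) *
        ∑ ψ : IrrCharacter G, blockInd B ψ * ((ψ : G → ℂ) x * (ψ : G → ℂ) x⁻¹) := by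
      have e0 : ∑ j : (ZMod (p ^ a))ˣ, ∑ ψ : IrrCharacter G,
          blockInd B ψ * ((ψ : G → ℂ) (x ^ (j : ZMod (p ^ a)).val) * (ψ : G → ℂ) x⁻¹) = 0 := by
        rw [Finset.sum_comm]
        refine Finset.sum_eq_zero fun ψ _ => ?_
        by_cases hψ : ψ ∈ B
        · obtain ⟨i, -, rfl⟩ := Finset.mem_image.1 (hBO ψ hψ)
          rw [← Finset.mul_sum, ← Finset.sum_mul]
          have e : ∑ j : (ZMod (p ^ a))ˣ, (Φ i : G → ℂ) (x ^ (j : ZMod (p ^ a)).val) = T x := by
            rw [hT]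
            simp only [← hpow, hΦ, hσmul]
            exact Fintype.sum_equiv (Equiv.mulRight i) _ _ fun j => rfl
          rw [e, hvanish x ?_, zero_mul, mul_zero]
          rw [hk]
          exact dvd_pow_self p fun e0 => hx1 (orderOf_eq_one_iff.1 (by rw [hk, e0, pow_zero]))
        · simp [blockInd_of_notMem hψ]
      rw [← Finset.sum_filter_add_sum_filter_not _ (fun j : (ZMod (p ^ a))ˣ =>
        IsConj (x ^ (j : ZMod (p ^ a)).val) x)] at e0
      rw [Finset.sum_eq_zero (s := Finset.univ.filter fun j : (ZMod (p ^ a))ˣ =>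
        ¬ IsConj (x ^ (j : ZMod (p ^ a)).val) x) fun j hj => ?_, add_zero] at e0
      swap
      · have hcopj : (orderOf x).Coprime (j : ZMod (p ^ a)).val := by
          rw [hk]
          exact Nat.Coprime.coprime_dvd_left hxdvd (ZMod.val_coe_unit_coprime j).symm
        exact sum_block_mul_eq_zero hM hB (hpp _ (by rw [Nat.Coprime.orderOf_pow hcopj, hk]))
          (hpp x hk) (Finset.mem_filter.1 hj).2
      rw [← e0, Finset.sum_congr rfl (g := fun _ =>
        ∑ ψ : IrrCharacter G, blockInd B ψ * ((ψ : G → ℂ) x * (ψ : G → ℂ) x⁻¹)) fun j hj => ?_,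
        Finset.sum_const, nsmul_eq_mul]
      obtain ⟨u, hu⟩ := isConj_iff.1 (Finset.mem_filter.1 hj).2
      exact Finset.sum_congr rfl fun ψ _ => by
        rw [← irr_conj_apply ψ (x ^ (j : ZMod (p ^ a)).val) u, hu]
    have h1mem : (1 : (ZMod (p ^ a))ˣ) ∈ Finset.univ.filter fun j : (ZMod (p ^ a))ˣ =>
        IsConj (x ^ (j : ZMod (p ^ a)).val) x := by
      refine Finset.mem_filter.2 ⟨Finset.mem_univ _, ?_⟩
      haveI : Fact (1 < p ^ a) := ⟨Nat.one_lt_pow ha0 hp.one_lt⟩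
      rw [Units.val_one, ZMod.val_one, pow_one]
    have hsum := (mul_eq_zero.1 key.symm).resolve_left
      (Nat.cast_ne_zero.2 (Finset.card_pos.2 ⟨1, h1mem⟩).ne')
    have hre : ∀ ψ : IrrCharacter G, blockInd B ψ * ((ψ : G → ℂ) x * (ψ : G → ℂ) x⁻¹)
        = ((if ψ ∈ B then Complex.normSq ((ψ : G → ℂ) x) else 0 : ℝ) : ℂ) := fun ψ => by
      rw [← conj_irr, Complex.mul_conj]
      by_cases hψ : ψ ∈ B <;> simp [blockInd, hψ]
    simp only [hre, ← Complex.ofReal_sum, Complex.ofReal_eq_zero] at hsum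
    have := (Finset.sum_eq_zero_iff_of_nonneg fun ψ _ => by
      split_ifs
      · exact Complex.normSq_nonneg _
      · exact le_rfl).1 hsum χ (Finset.mem_univ _)
    rw [if_pos hχB] at this
    exact Complex.normSq_eq_zero.1 this
  -- the degree
  obtain ⟨P⟩ : Nonempty (Sylow p G) := inferInstance
  obtain ⟨n, hn⟩ := Char.IsCharacter.classInner_nat
    (Char.IsCharacter.restrict (Char.isCharacter_irr χ) (P : Subgroup G))
    (Char.isCharacter_one (G := ↥(P : Subgroup G)))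
  rw [Char.classInner_fun_one_right, Finset.sum_eq_single (f := fun y : ↥(P : Subgroup G) => (χ : G → ℂ) y)
      1 (fun y _ hy => hzero y
      (by
        obtain ⟨k, hk⟩ := P.2 y
        obtain ⟨i, -, hi⟩ := (Nat.dvd_prime_pow hp).1 (orderOf_dvd_of_pow_eq_one hk)
        exact ⟨i, by rw [Subgroup.orderOf_coe, hi]⟩)
      fun e => hy (Subtype.ext e)) (fun hne => absurd (Finset.mem_univ _) hne),
    OneMemClass.coe_one, irr_one_eq, inv_mul_eq_iff_eq_mul₀ Char.card_ne_zero] at hn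
  have : d = Nat.card ↥(P : Subgroup G) * n := by exact_mod_cast hn
  rw [Sylow.card_eq_multiplicity, ← hN, ← ha] at this
  exact this ▸ dvd_mul_right _ _

end CfsgLib.Blocks.PConjugates
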