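import Cfsg.Agent.Lib.Blocks.DefectOne
import Cfsg.Agent.Lib.Blocks.PConjugates
import Cfsg.Agent.Lib.Char.CyclicTIGalois

/-!
# Blocks of defect one: degrees, positive defect, and the action of Galois automorphisms
-/

set_option autoImplicit false

namespace CfsgLib.Blocks.DefectOne

open Cfsg CfsgLib.Blocks
open scoped Classical ComplexConjugate

variable {G : Type*} [Group G] [Fintype G] {p : ℕ} [hp : Fact p.Prime]

theorem fact_eq_one (hdiv : p ∣ Nat.card G) (hsq : ¬ p ^ 2 ∣ Nat.card G) :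
    (Nat.card G).factorization p = 1 := by
  have h1 := (hp.out.pow_dvd_iff_le_factorization Nat.card_pos.ne' (k := 1)).1 (by rwa [pow_one])
  have h2 : ¬ 2 ≤ (Nat.card G).factorization p := fun h =>
    hsq ((hp.out.pow_dvd_iff_le_factorization Nat.card_pos.ne').2 h)
  omega

theorem card_sylow (hdiv : p ∣ Nat.card G) (hsq : ¬ p ^ 2 ∣ Nat.card G) (P : Sylow p G) : Nat.card P = p := by
  rw [P.card_eq_multiplicity, fact_eq_one hdiv hsq, pow_one]

/-- A block of positive defect is induced from the centralizer of a Sylow subgroup. -/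
theorem exists_inducing {P : Sylow p G} (D : Frame P) {M : Ideal AlgInt} (hM : IsPModular p M)
    {B : Set (IrrCharacter G)} (hB : IsPBlock M B) (hd : 0 < blockDefect p B) :
    ∃ θ : IrrCharacter D.K0, IsInducedBlock M (cent P) (D.blk M θ) B := by
  obtain ⟨R, hR⟩ := exists_isDefectGroup hM hB
  obtain ⟨S, hS⟩ := (isPGroup_defectGroup hR).exists_le_sylow
  have hcard := card_defectGroup hM hB hR
  obtain ⟨u, hu⟩ := MulAction.exists_smul_eq G S P
  set R' := R.map (MulAut.conj u).toMonoidHom with hR'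
  obtain ⟨g, hg⟩ := BrauerPairs.exists_pair_of_defectGroup hM hB hR
  have hg' := BrauerPairs.isBrauerPairOf_conj u hg
  have heq : R' = (P : Subgroup G) := by
    refine Subgroup.eq_of_le_of_card_ge ?_ ?_
    · rw [← hu, Sylow.coe_subgroup_smul]
      exact Subgroup.map_mono hS
    · rw [show Nat.card (P : Subgroup G) = p from D.card_P,
        Subgroup.card_map_of_injective (MulEquiv.injective _), hcard]
      exact Nat.le_self_pow hd.ne' p
  obtain ⟨f, hf⟩ : ∃ f, IsBrauerPairOf p M B (P : Subgroup G) f := by rw [← heq]; exact ⟨_, hg'⟩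
  have hind := (isBrauerPairOf_iff_induced hM P.2 hf.1.2).1 hf
  obtain ⟨η, hη⟩ := IsPBlock.nonempty hM hf.1.2
  obtain ⟨k, θ, rfl⟩ := D.exists_ext η
  exact ⟨θ, by rwa [IsPBlock.eq_of_mem hM (D.isPBlock_blk θ) hf.1.2 ((D.mem_blk_iff hM _ _).2 ⟨k, rfl⟩) hη]⟩

variable {P : Sylow p G} {D : Frame P} {B : Set (IrrCharacter G)} {θ : IrrCharacter D.K0}

theorem not_dvd_of_modEq {a : ℕ} {s : ℤ} {b : ℕ} (h : (a : ℤ) ≡ s * (b : ℤ) [ZMOD p]) (hs : s = 1 ∨ s = -1)
    (hb : ¬ p ∣ b) : ¬ p ∣ a := by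
  intro ha
  have h1 : (p : ℤ) ∣ s * (b : ℤ) := Int.modEq_zero_iff_dvd.1 (h.symm.trans (Int.modEq_zero_iff_dvd.2 (Int.natCast_dvd_natCast.2 ha)))
  rcases hs with e | e <;> rw [e] at h1 <;> simp [Int.natCast_dvd_natCast, hb] at h1

theorem not_dvd_theta (D : Frame P) (θ : IrrCharacter D.K0) : ¬ p ∣ charDegree (θ : D.K0 → ℂ) := fun h =>
  D.not_dvd (h.trans (charDegree_dvd θ))

theorem range_pos_lt (D : Frame P) : 0 < Nat.card D.act.range ∧ Nat.card D.act.range < p := by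
  refine ⟨Nat.card_pos, ?_⟩
  have h := Nat.le_of_dvd (by have := hp.out.two_le; omega)
    (show Nat.card D.act.range ∣ p - 1 by
      have h1 := D.act.range.card_subgroup_dvd_card
      rwa [Nat.card_eq_fintype_card (α := (ZMod p)ˣ), ZMod.card_units] at h1)
  have := hp.out.two_le
  omega

theorem orb_pos (D : Frame P) (θ : IrrCharacter D.K0) : 0 < (D.orb θ).card :=
  Finset.card_pos.2 ⟨θ, D.self_mem_orb θ⟩

/-- Every member has degree prime to `p`. -/
theorem Shape.not_dvd_degree (S : Shape D B θ) {χ : IrrCharacter G} (hχ : χ ∈ B) :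
    ¬ p ∣ charDegree (χ : G → ℂ) := by
  have hf := range_pos_lt D
  rcases (S.mem_iff χ).1 hχ with h | h
  · refine not_dvd_of_modEq (S.deg_X χ h) (S.sgn_X χ h) fun hd => ?_
    rcases hp.out.dvd_mul.1 hd with h1 | h1
    · have := Nat.le_of_dvd (orb_pos D θ) h1
      have h2 : (D.orb θ).card ≤ Nat.card D.act.range := by
        rw [← D.card_orb_mul θ]; exact Nat.le_mul_of_pos_right _ Nat.card_pos
      omega
    · exact not_dvd_theta D θ h1
  · refine not_dvd_of_modEq (S.deg_Y χ h) (by rcases S.sgn_A with e | e <;> rw [e] <;> simp) fun hd => ?_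
    rcases hp.out.dvd_mul.1 hd with h1 | h1
    · exact absurd (Nat.le_of_dvd hf.1 h1) (by omega)
    · exact not_dvd_theta D θ h1

theorem Shape.card_eq (S : Shape D B θ) :
    Nat.card B = Nat.card (D.autE θ) + (p - 1) / Nat.card (D.autE θ) := by
  have hB : B = ↑(S.X ∪ S.Y) := by ext χ; simp [S.mem_iff]
  rw [hB, Nat.card_coe_set_eq, Set.ncard_coe_finset, Finset.card_union_of_disjoint S.disj, S.card_X]
  congr 1
  rw [← S.card_Y, Nat.mul_div_cancel_left _ Nat.card_pos]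

/-! ### Galois automorphisms -/

theorem fixes_roots {m : ℕ} (hm : m ≠ 0) {σ : ℂ ≃+* ℂ}
    (hσ : σ (Complex.exp (2 * Real.pi * Complex.I / (m : ℕ))) = Complex.exp (2 * Real.pi * Complex.I / (m : ℕ)))
    {z : ℂ} (hz : z ^ m = 1) : σ z = z := by
  haveI : NeZero m := ⟨hm⟩
  obtain ⟨i, -, rfl⟩ := (Complex.isPrimitiveRoot_exp m hm).eq_pow_of_pow_eq_one hz
  rw [map_pow, hσ]

theorem fixes_char {H : Type*} [Group H] [Finite H] (χ : IrrCharacter H) (h : H) (σ : ℂ ≃+* ℂ)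
    (hσ : ∀ z : ℂ, z ^ orderOf h = 1 → σ z = z) : σ ((χ : H → ℂ) h) = (χ : H → ℂ) h :=
  CfsgLib.Char.IsCharacter.map_apply_eq (Char.isCharacter_irr χ) h σ.toRingHom (RingHom.id ℂ) hσ

variable (D) in
/-- The exponent of `σ` on the roots of unity of order `p`. -/
theorem exists_exponent_of (σ : ℂ ≃+* ℂ) :
    ∃ j : (ZMod p)ˣ, ∀ a : ZMod p, σ (ZMod.stdAddChar a : ℂ) = ZMod.stdAddChar ((j : ZMod p) * a) := by
  have hω : IsPrimitiveRoot (ZMod.stdAddChar (1 : ZMod p) : ℂ) p := by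
    refine IsPrimitiveRoot.iff_orderOf.2 (orderOf_eq_prime ?_ fun h1 => one_ne_zero
      (ZMod.injective_stdAddChar (h1.trans (AddChar.map_zero_eq_one _).symm)))
    rw [← AddChar.map_nsmul_eq_pow, nsmul_eq_mul, ZMod.natCast_self, zero_mul, AddChar.map_zero_eq_one]
  haveI : NeZero p := ⟨hp.out.ne_zero⟩
  obtain ⟨i, hi, hi'⟩ := (hω.map_of_injective σ.injective).pow_eq_one |> hω.eq_pow_of_pow_eq_one
  have hne : (i : ZMod p) ≠ 0 := by
    intro e
    have : σ (ZMod.stdAddChar (1 : ZMod p) : ℂ) = 1 := by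
      rw [← hi', ← AddChar.map_nsmul_eq_pow, nsmul_eq_mul, e, zero_mul, AddChar.map_zero_eq_one]
    exact hω.ne_one hp.out.one_lt (σ.injective (this.trans (map_one σ).symm))
  refine ⟨Units.mk0 _ hne, fun a => ?_⟩
  have ha : (ZMod.stdAddChar a : ℂ) = (ZMod.stdAddChar (1 : ZMod p) : ℂ) ^ a.val := by
    rw [← AddChar.map_nsmul_eq_pow, nsmul_eq_mul, mul_one, ZMod.natCast_zmod_val]
  rw [ha, map_pow, ← hi', ← pow_mul, ← AddChar.map_nsmul_eq_pow, nsmul_eq_mul, mul_one, Nat.cast_mul,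
    ZMod.natCast_zmod_val, Units.val_mk0]

/-- A realization of a given exponent. -/
theorem exists_auto (hdiv : p ∣ Nat.card G) (hsq : ¬ p ^ 2 ∣ Nat.card G) (j : (ZMod p)ˣ) :
    ∃ σ : ℂ ≃+* ℂ, (∀ z : ℂ, z ^ (Nat.card G / p) = 1 → σ z = z) ∧
      σ (ZMod.stdAddChar (1 : ZMod p) : ℂ) = ZMod.stdAddChar (j : ZMod p) := by
  set N := Nat.card G
  set m := N / p with hm
  have hN : p * m = N := Nat.mul_div_cancel' hdiv
  have hN0 : N ≠ 0 := Nat.card_pos.ne'
  have hcop : p.Coprime m := hp.out.coprime_iff_not_dvd.2 fun h =>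
    hsq (by rw [sq]; exact hN ▸ mul_dvd_mul_left p h)
  obtain ⟨K, hK1, hK2⟩ := PConjugates.exists_exponent hcop (j : ZMod p).val
  have hK : K.Coprime N := by
    rw [← hN]
    refine Nat.Coprime.mul_right ?_ ?_
    · rw [Nat.coprime_iff_gcd_eq_one, hK1.gcd_eq]
      exact ZMod.val_coe_unit_coprime j
    · rw [Nat.coprime_iff_gcd_eq_one, hK2.gcd_eq]
      exact Nat.gcd_one_left _
  have hω := Complex.isPrimitiveRoot_exp N hN0
  obtain ⟨σ, hσ⟩ := CfsgLib.CharDeep.Galois.exists_ringEquiv_primitive hN0 hω (hω.pow_of_coprime K hK)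
  haveI : NeZero N := ⟨hN0⟩
  have hpow : ∀ z : ℂ, z ^ N = 1 → σ z = z ^ K := by
    intro z hz
    obtain ⟨i, -, rfl⟩ := hω.eq_pow_of_pow_eq_one hz
    rw [map_pow, hσ, ← pow_mul, ← pow_mul, mul_comm K i]
  refine ⟨σ, fun z hz => ?_, ?_⟩
  · rw [hpow z (by rw [← hN, mul_comm, pow_mul, hz, one_pow]), pow_eq_pow_of_modEq hK2 hz, pow_one]
  · have h1 : (ZMod.stdAddChar (1 : ZMod p) : ℂ) ^ p = 1 := by
      rw [← AddChar.map_nsmul_eq_pow, nsmul_eq_mul, ZMod.natCast_self, zero_mul, AddChar.map_zero_eq_one]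
    rw [hpow _ (by rw [← hN, pow_mul, h1, one_pow]), pow_eq_pow_of_modEq hK1 h1, ← AddChar.map_nsmul_eq_pow,
      nsmul_eq_mul, mul_one, ZMod.natCast_zmod_val]

/-- An automorphism fixing the `p'`-roots fixes the characters outside the exceptional family and
permutes the exceptional ones. -/
theorem Shape.galois (S : Shape D B θ) {M : Ideal AlgInt} (hM : IsPModular p M)
    (h : IsInducedBlock M (cent P) (D.blk M θ) B) (σ : ℂ ≃+* ℂ)
    (hσ : ∀ z : ℂ, z ^ (Nat.card G / p) = 1 → σ z = z) (j : (ZMod p)ˣ)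
    (hj : ∀ a : ZMod p, σ (ZMod.stdAddChar a : ℂ) = ZMod.stdAddChar ((j : ZMod p) * a)) :
    (∀ χ ∈ S.X, ∀ g, σ ((χ : G → ℂ) g) = (χ : G → ℂ) g) ∧
      ∀ k g, σ ((S.ζ k : G → ℂ) g) = (S.ζ (j * k) : G → ℂ) g := by
  have hreg : ∀ (χ : IrrCharacter G) (s : G), ¬ p ∣ orderOf s → σ ((χ : G → ℂ) s) = (χ : G → ℂ) s :=
    fun χ s hs => fixes_char χ s σ fun z hz => hσ z (by
      obtain ⟨c, hc⟩ := D.orderOf_dvd_of_regular hs; rw [hc, pow_mul, hz, one_pow])
  have hK0 : ∀ (φ : IrrCharacter D.K0) (y : D.K0), σ ((φ : D.K0 → ℂ) y) = (φ : D.K0 → ℂ) y :=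
    fun φ y => fixes_char φ y σ fun z hz => hσ z (by
      obtain ⟨c, hc⟩ := (orderOf_dvd_natCard y).trans D.card_K0_dvd; rw [hc, pow_mul, hz, one_pow])
  have key : ∀ χ ∈ B, ∀ χ' ∈ B, (∀ s : G, ¬ p ∣ orderOf s → (χ : G → ℂ) s = (χ' : G → ℂ) s) →
      (∀ a : ZMod p, a ≠ 0 → σ (D.sec θ χ a) = D.sec θ χ' a) → ∀ g, σ ((χ : G → ℂ) g) = (χ' : G → ℂ) g := by
    intro χ hχ χ' hχ' heq hsec g
    by_cases hg : p ∣ orderOf g
    · obtain ⟨u, a, y, ha, he⟩ := D.exists_conj_el hg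
      rw [← irr_conj_apply χ g u, ← irr_conj_apply χ' g u, he, D.apply_el_orb hM h hχ ha,
        D.apply_el_orb hM h hχ' ha, map_sum]
      refine Finset.sum_congr rfl fun θ' hθ' => ?_
      obtain ⟨w, rfl⟩ := D.mem_orb.1 hθ'
      rw [map_mul, hK0, Frame.sec_tw, Frame.sec_tw, hsec _ (mul_ne_zero (Units.ne_zero _) ha)]
    · rw [hreg χ g hg, heq g hg]
  constructor
  · intro χ hχ
    have hB := (S.mem_iff χ).2 (Or.inl hχ)
    exact key χ hB χ hB (fun _ _ => rfl) fun a ha => by rw [S.sec_X χ hχ a ha, map_intCast]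
  · intro k
    have hY : ∀ l, S.ζ l ∈ S.Y := fun l => (S.mem_Y _).2 ⟨l, rfl⟩
    refine key _ ((S.mem_iff _).2 (Or.inr (hY k))) _ ((S.mem_iff _).2 (Or.inr (hY _)))
      (fun s hs => S.agree _ (hY _) _ (hY _) s hs) fun a ha => ?_
    rw [S.sec_Y k a ha, S.sec_Y _ a ha, map_add, map_mul, map_intCast, map_intCast, map_sum]
    congr 2
    refine Finset.sum_bij' (fun l _ => j * l) (fun l _ => j⁻¹ * l) ?_ ?_ ?_ ?_ ?_
    · intro l hl
      refine Finset.mem_filter.2 ⟨Finset.mem_univ _, (S.ζ_iff _ _).2 ?_⟩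
      have := (S.ζ_iff l k).1 (Finset.mem_filter.1 hl).2
      rwa [show (j * l)⁻¹ * (j * k) = l⁻¹ * k by group]
    · intro l hl
      refine Finset.mem_filter.2 ⟨Finset.mem_univ _, (S.ζ_iff _ _).2 ?_⟩
      have := (S.ζ_iff l (j * k)).1 (Finset.mem_filter.1 hl).2
      rwa [show (j⁻¹ * l)⁻¹ * k = l⁻¹ * (j * k) by rw [mul_inv_rev, inv_inv, mul_assoc]]
    · intro l _; exact inv_mul_cancel_left j l
    · intro l _; exact mul_inv_cancel_left j l
    · intro l _; rw [hj, Units.val_mul, mul_assoc]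

end CfsgLib.Blocks.DefectOne
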