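import Cfsg.Agent.Lib.Blocks.DefectOneSetup
import Cfsg.Agent.Lib.BrauerPairs.Maximal
import Cfsg.Agent.Lib.Blocks.SectionCentral

/-!
# Blocks of defect one: the sections at the elements of order `p`
-/

set_option autoImplicit false

namespace CfsgLib.Blocks.DefectOne

open Cfsg CfsgLib.Blocks
open scoped Classical ComplexConjugate

variable {G : Type*} [Group G] [Fintype G] {p : ℕ} [hp : Fact p.Prime]

namespace Frame

variable {P : Sylow p G} (D : Frame P) {M : Ideal AlgInt}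

/-- The orbit of `θ` under the normalizer. -/
noncomputable def orb (θ : IrrCharacter D.K0) : Finset (IrrCharacter D.K0) := Finset.univ.image (D.tw θ)

theorem mem_orb {θ θ' : IrrCharacter D.K0} : θ' ∈ D.orb θ ↔ ∃ g, D.tw θ g = θ' := by
  simp [orb]

theorem self_mem_orb (θ : IrrCharacter D.K0) : θ ∈ D.orb θ := D.mem_orb.2 ⟨1, D.tw_one θ⟩

/-- The map that defines the stabilizer as a subgroup of `G`. -/
theorem card_stab (θ : IrrCharacter D.K0) :
    Nat.card (D.stab θ) = Nat.card (D.autE θ) * Nat.card (cent P) := by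
  have h := Finset.card_eq_sum_card_fiberwise (s := Finset.univ.filter fun g : nrm P => D.tw θ g = θ)
    (t := (Finset.univ : Finset (ZMod p)ˣ)) (f := D.act) fun g _ => Finset.mem_univ _
  have h2 : Nat.card (D.stab θ) = (Finset.univ.filter fun g : nrm P => D.tw θ g = θ).card := by
    rw [Nat.card_eq_fintype_card, ← Fintype.card_subtype]
    exact Fintype.card_congr (Equiv.refl _)
  rw [h2, h]
  apply Nat.cast_injective (R := ℂ)
  rw [Nat.cast_sum, Finset.sum_congr rfl fun u _ => by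
    rw [Finset.filter_filter, Finset.filter_congr (q := fun g : nrm P => D.act g = u ∧ D.tw θ g = θ)
      fun g _ => and_comm, D.card_fiber θ], ← Finset.sum_filter, Finset.sum_const, nsmul_eq_mul,
    Nat.cast_mul]
  congr 2
  rw [Nat.card_eq_fintype_card, ← Fintype.card_subtype]

theorem card_nrm : Nat.card (nrm P) = Nat.card D.act.range * Nat.card (cent P) := by
  have hle : cent P ≤ nrm P := centralizer_le_normalizer _
  rw [← Subgroup.index_ker, ← Subgroup.index_mul_card D.act.ker,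
    show D.act.ker = (cent P).subgroupOf (nrm P) from Subgroup.ext fun g => D.act_eq_one_iff g,
    Nat.card_congr (Subgroup.subgroupOfEquivOfLe hle).toEquiv]

theorem card_orb_mul (θ : IrrCharacter D.K0) :
    (D.orb θ).card * Nat.card (D.autE θ) = Nat.card D.act.range := by
  have hfib : ∀ θ' ∈ D.orb θ, ((Finset.univ : Finset (nrm P)).filter fun g => D.tw θ g = θ').card
      = Nat.card (D.stab θ) := by
    intro θ' h
    obtain ⟨g₀, rfl⟩ := D.mem_orb.1 h
    rw [Nat.card_eq_fintype_card, ← Finset.card_univ]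
    refine (Finset.card_bij' (fun (s : D.stab θ) _ => (s : nrm P) * g₀) (fun g hg => ⟨g * g₀⁻¹, ?_⟩)
      ?_ ?_ ?_ ?_).symm
    · show D.tw θ (g * g₀⁻¹) = θ
      rw [← tw_mul, (Finset.mem_filter.1 hg).2, tw_mul, mul_inv_cancel, tw_one]
    · intro s _
      refine Finset.mem_filter.2 ⟨Finset.mem_univ _, ?_⟩
      rw [← tw_mul, D.mem_stab.1 s.2]
    · exact fun g _ => Finset.mem_univ _
    · intro s _; exact Subtype.ext (mul_inv_cancel_right (s : nrm P) g₀)
    · intro g _; exact inv_mul_cancel_right g g₀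
  have h := Finset.card_eq_sum_card_fiberwise (s := (Finset.univ : Finset (nrm P))) (t := D.orb θ) (f := D.tw θ)
    fun g _ => Finset.mem_image_of_mem _ (Finset.mem_univ g)
  rw [Finset.sum_congr rfl hfib, Finset.sum_const, smul_eq_mul, Finset.card_univ, ← Nat.card_eq_fintype_card,
    D.card_nrm, D.card_stab, ← mul_assoc] at h
  exact (mul_right_cancel₀ (Nat.card_pos (α := cent P)).ne' h).symm

theorem autE_dvd (θ : IrrCharacter D.K0) : Nat.card (D.autE θ) ∣ p - 1 := by
  have h := (D.autE θ).card_subgroup_dvd_card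
  rwa [Nat.card_eq_fintype_card (α := (ZMod p)ˣ), ZMod.card_units] at h

theorem relIndex_nrm : (cent P).relIndex (nrm P) = Nat.card D.act.range := by
  rw [← Subgroup.index_ker, show D.act.ker = (cent P).subgroupOf (nrm P) from Subgroup.ext fun g => D.act_eq_one_iff g]
  rfl

theorem relIndex_stab (θ : IrrCharacter D.K0) (T : Subgroup G)
    (hT : ∀ g, g ∈ T ↔ ∃ h : g ∈ nrm P, (⟨g, h⟩ : nrm P) ∈ D.stab θ) :
    (cent P).relIndex T = Nat.card (D.autE θ) := by
  have hTeq : T = (D.stab θ).map (nrm P).subtype := by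
    ext g
    rw [hT, Subgroup.mem_map]
    exact ⟨fun ⟨h, hg⟩ => ⟨⟨g, h⟩, hg, rfl⟩, fun ⟨u, hu, e⟩ => by subst e; exact ⟨u.2, hu⟩⟩
  have hle : cent P ≤ T := fun c hc => (hT c).2 ⟨centralizer_le_normalizer _ hc, D.tw_eq_self_of_cent θ hc⟩
  have h := Subgroup.relIndex_mul_relIndex ⊥ (cent P) T bot_le hle
  rw [Subgroup.relIndex_bot_left, Subgroup.relIndex_bot_left, hTeq,
    Subgroup.card_map_of_injective (nrm P).subtype_injective, D.card_stab, mul_comm (Nat.card (D.autE θ))] at h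
  rw [hTeq]
  exact mul_left_cancel₀ (Nat.card_pos (α := cent P)).ne' h

theorem cent_eq_singleton {a : ZMod p} (ha : a ≠ 0) :
    cent P = Subgroup.centralizer ({D.x ^ a.val} : Set G) := by
  ext c
  rw [D.mem_cent_iff, Subgroup.mem_centralizer_singleton_iff]
  constructor
  · exact fun h => (h.pow_right a.val).eq
  · intro h
    have hx : D.x ∈ Subgroup.zpowers (D.x ^ a.val) := by
      rw [PrimeOrder.zpowers_eq P D.card_P (pow_mem D.x_mem a.val)
        fun e => hp.out.one_lt.ne (by rw [← D.orderOf_xpow ha, e, orderOf_one])]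
      exact D.x_mem
    obtain ⟨i, hi⟩ := Subgroup.mem_zpowers_iff.1 hx
    rw [← hi]
    exact Commute.zpow_right h i

/-! ### Blocks -/

theorem exists_induced (hM : IsPModular p M) (θ : IrrCharacter D.K0) :
    ∃ B : Set (IrrCharacter G), IsInducedBlock M (cent P) (D.blk M θ) B :=
  exists_isInducedBlock_centralizer hM P.2 rfl (D.isPBlock_blk θ)

theorem isPBlock_of_induced {θ : IrrCharacter D.K0} {B : Set (IrrCharacter G)}
    (h : IsInducedBlock M (cent P) (D.blk M θ) B) : IsPBlock M B := h.2.1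

theorem isDefectGroup_P (hM : IsPModular p M) {θ : IrrCharacter D.K0} {B : Set (IrrCharacter G)}
    (h : IsInducedBlock M (cent P) (D.blk M θ) B) : IsDefectGroup p M B (P : Subgroup G) := by
  obtain ⟨Dg, hDg⟩ := exists_isDefectGroup hM h.1
  have hPC : (P : Subgroup G) ≤ cent P := fun u hu => (D.mem_cent_iff u).2 (by
    rw [← D.zp] at hu
    obtain ⟨i, rfl⟩ := Subgroup.mem_zpowers_iff.1 hu
    exact (Commute.refl D.x).zpow_left i)
  haveI : ((P : Subgroup G).subgroupOf (cent P)).Normal :=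
    normal_subgroupOf_of_le_normalizer hPC (centralizer_le_normalizer _)
  have hle : (P : Subgroup G).subgroupOf (cent P) ≤ Dg :=
    le_defectGroup_of_normal hM h.1 (P.2.of_equiv (Subgroup.subgroupOfEquivOfLe hPC).symm) hDg
  obtain ⟨E, hE, hDE⟩ := exists_defectGroup_ge_of_induced hM h hDg
  have hPE : (P : Subgroup G) ≤ E := fun u hu => hDE ⟨⟨u, hPC hu⟩, hle hu, rfl⟩
  rwa [P.3 (isPGroup_defectGroup hE) hPE] at hE

theorem induced_tw (hM : IsPModular p M) {θ : IrrCharacter D.K0} {B : Set (IrrCharacter G)}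
    (h : IsInducedBlock M (cent P) (D.blk M θ) B) (g : nrm P) :
    IsInducedBlock M (cent P) (D.blk M (D.tw θ g)) B := by
  refine ⟨D.isPBlock_blk _, h.2.1, fun ξ hξ χ hχ u => ?_⟩
  obtain ⟨k, rfl⟩ := (D.mem_blk_iff hM _ _).1 hξ
  set k' : ZMod p := k * ((D.act g)⁻¹ : (ZMod p)ˣ)
  have key : inducedCentralChar (cent P) (D.ext k (D.tw θ g) : cent P → ℂ) u
      = inducedCentralChar (cent P) (D.ext k' θ : cent P → ℂ) u := by
    let e : cent P ≃ cent P := D.coord.symm.trans
      (((Units.mulLeft (D.act g)).prodCongr (D.conjK g).toEquiv).trans D.coord)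
    have he : ∀ a y, e (D.el a y) = D.el (D.act g * a) (D.conjK g y) := fun a y => by
      show D.coord _ = _
      rw [coord_symm_mk]
      rfl
    have he1 : D.el 0 (1 : D.K0) = 1 := Subtype.ext (by rw [el_zero]; rfl)
    rw [inducedCentralChar_eq, inducedCentralChar_eq, omega, omega]
    refine congrArg₂ (· / ·) (Fintype.sum_equiv e _ _ fun c => ?_) ?_
    · obtain ⟨a, y, rfl⟩ := D.exists_el c
      rw [he, ext_mk, ext_mk, tw_apply, ← D.conj_mk g a y, classInd_isClassFunction u _ (g : G),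
        show k' * ((D.act g : ZMod p) * a) = k * a by
          show k * _ * _ = _
          rw [mul_assoc, ← mul_assoc (((D.act g)⁻¹ : (ZMod p)ˣ) : ZMod p), Units.inv_mul, one_mul]]
    · rw [← he1, ext_mk, ext_mk, mul_zero, mul_zero, tw_apply, map_one]
  rw [key]
  exact h.2.2 _ ((D.mem_blk_iff hM _ _).2 ⟨k', rfl⟩) χ hχ u

theorem mem_orb_of_induced (hM : IsPModular p M) {θ θ' : IrrCharacter D.K0} {B : Set (IrrCharacter G)}
    (h : IsInducedBlock M (cent P) (D.blk M θ) B) (h' : IsInducedBlock M (cent P) (D.blk M θ') B) :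
    θ' ∈ D.orb θ := by
  have h1 := (isBrauerPairOf_iff_induced hM P.2 (D.isPBlock_blk θ)).2 h
  have h2 := (isBrauerPairOf_iff_induced hM P.2 (D.isPBlock_blk θ')).2 h'
  have hmax := BrauerPairs.isMaximal_locMax hM (BrauerPairs.isMaximal_of_defectGroup hM (D.isDefectGroup_P hM h) h1)
  obtain ⟨u, hu, he⟩ := BrauerPairs.exists_conj_of_locMax hM h1 hmax h2
  set Q : BrauerPairIdx G → Prop := fun a => ∃ ξ ∈ a.2, ∀ (c : Subgroup.centralizer (a.1 : Set G)) (y : D.K0),
    (c : G) = (y : G) → (ξ : Subgroup.centralizer (a.1 : Set G) → ℂ) c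
      = (θ' : D.K0 → ℂ) (D.conjK (⟨u, hu⟩⁻¹ : nrm P) y) with hQ
  have hQ1 : Q (BrauerPairs.conjPair u ⟨(P : Subgroup G), D.blk M θ'⟩) := by
    refine ⟨(BrauerPairs.irrEquiv (BrauerPairs.centIso (P : Subgroup G) u)).symm (D.ext 0 θ'), ?_, fun c y hcy => ?_⟩
    · show _ ∈ conjBlock (P : Subgroup G) u (D.blk M θ')
      rw [BrauerPairs.conjBlock_eq, Set.mem_preimage, Equiv.apply_symm_apply]
      exact (D.mem_blk_iff hM _ _).2 ⟨0, rfl⟩
    · obtain ⟨c₀, rfl⟩ := (BrauerPairs.centIso (P : Subgroup G) u).surjective c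
      rw [← BrauerPairs.irrEquiv_apply, Equiv.apply_symm_apply]
      have : c₀ = D.el 0 (D.conjK (⟨u, hu⟩⁻¹ : nrm P) y) := Subtype.ext (by
        rw [el_zero, coe_conjK, ← hcy]
        show (c₀ : G) = u⁻¹ * (BrauerPairs.centIso (P : Subgroup G) u c₀ : G) * u⁻¹⁻¹
        rw [BrauerPairs.centIso, BrauerPairs.coe_conjIso]
        simp [mul_assoc])
      rw [this, ext_mk, mul_zero, AddChar.map_zero_eq_one, one_mul]
  rw [he] at hQ1
  obtain ⟨ξ, hξ, hval⟩ := hQ1
  obtain ⟨k, rfl⟩ := (D.mem_blk_iff hM _ _).1 hξ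
  have htw : D.tw θ' (⟨u, hu⟩⁻¹ : nrm P) = θ := Subtype.ext (funext fun y => by
    have h3 := hval (D.el 0 y) y (D.el_zero y)
    rw [ext_mk, mul_zero, AddChar.map_zero_eq_one, one_mul] at h3
    rw [tw_apply, h3])
  exact D.mem_orb.2 ⟨⟨u, hu⟩, by rw [← htw, tw_mul, inv_mul_cancel, tw_one]⟩

theorem induced_iff_orb (hM : IsPModular p M) {θ : IrrCharacter D.K0} {B : Set (IrrCharacter G)}
    (h : IsInducedBlock M (cent P) (D.blk M θ) B) (θ' : IrrCharacter D.K0) :
    IsInducedBlock M (cent P) (D.blk M θ') B ↔ θ' ∈ D.orb θ := by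
  refine ⟨D.mem_orb_of_induced hM h, fun h' => ?_⟩
  obtain ⟨g, rfl⟩ := D.mem_orb.1 h'
  exact D.induced_tw hM h g

/-- The components of a character belong to the blocks inducing its block. -/
theorem sec_eq_zero_of_not_induced (hM : IsPModular p M) {θ : IrrCharacter D.K0} {B : Set (IrrCharacter G)}
    (hB : IsPBlock M B) {χ : IrrCharacter G} (hχ : χ ∈ B)
    (hnot : ¬ IsInducedBlock M (cent P) (D.blk M θ) B) {a : ZMod p} (ha : a ≠ 0) : D.sec θ χ a = 0 := by
  have h := blockPart_eq_zero_of_not_induced hM (D.cent_eq_singleton ha)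
    ⟨1, by rw [pow_one, D.orderOf_xpow ha]⟩ hB hχ (D.isPBlock_blk θ) hnot (y := (1 : cent P))
    (by rw [orderOf_one]; exact hp.out.not_dvd_one)
  set ϑ : cent P → ℂ := fun c => (χ : G → ℂ) (D.x ^ a.val * (c : G))
  have he1 : D.el 0 (1 : D.K0) = 1 := Subtype.ext (by rw [el_zero]; rfl)
  have hcomp : D.comp θ ϑ 0 = D.sec θ χ a := by
    unfold comp sec comp
    congr 1
    funext y
    show (χ : G → ℂ) _ = (χ : G → ℂ) _
    rw [el_zero, coe_el]
  have himg : Finset.univ.filter (fun η : IrrCharacter (cent P) => η ∈ D.blk M θ)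
      = Finset.univ.image fun k => D.ext k θ := by
    ext η
    simp only [Finset.mem_filter, Finset.mem_univ, true_and, Finset.mem_image, D.mem_blk_iff hM, eq_comm]
  have hinj : Function.Injective fun k => D.ext k θ := fun k l e => by
    have h1 := congrFun (congrArg Subtype.val (show D.ext k θ = D.ext l θ from e)) (D.el 1 1)
    rw [ext_mk, ext_mk, mul_one, mul_one] at h1
    exact ZMod.injective_stdAddChar (mul_right_cancel₀ (irr_one_ne_zero θ) h1)
  rw [blockPart_eq_sum, Finset.sum_congr rfl (g := fun η => if η ∈ D.blk M θ then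
      classInner ϑ (η : cent P → ℂ) * (η : cent P → ℂ) 1 else 0) fun η _ => by
    unfold blockInd; split_ifs <;> simp, ← Finset.sum_filter, himg, Finset.sum_image hinj.injOn] at h
  have h2 : D.comp θ ϑ 0 * (θ : D.K0 → ℂ) 1 = 0 := by
    rw [← sum_classInner_ext, Finset.sum_mul, ← h]
    refine Finset.sum_congr rfl fun k _ => ?_
    rw [← he1, ext_mk]
    ring
  rw [← hcomp]
  exact (mul_eq_zero.1 h2).resolve_right (irr_one_ne_zero θ)

theorem sec_eq_zero_of_notMem (hM : IsPModular p M) {θ : IrrCharacter D.K0} {B : Set (IrrCharacter G)}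
    (h : IsInducedBlock M (cent P) (D.blk M θ) B) {χ : IrrCharacter G} (hχ : χ ∉ B) {a : ZMod p} (ha : a ≠ 0) :
    D.sec θ χ a = 0 :=
  D.sec_eq_zero_of_not_induced hM (isPBlock_blockOf χ) (SameBlock_refl hM _)
    (fun h' => hχ ((IsInducedBlock.unique hM h h') ▸ SameBlock_refl hM _)) ha

/-- The values on a section. -/
theorem apply_el_orb (hM : IsPModular p M) {θ : IrrCharacter D.K0} {B : Set (IrrCharacter G)}
    (h : IsInducedBlock M (cent P) (D.blk M θ) B) {χ : IrrCharacter G} (hχ : χ ∈ B) {a : ZMod p} (ha : a ≠ 0)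
    (y : D.K0) : (χ : G → ℂ) (D.el a y : G) = ∑ θ' ∈ D.orb θ, D.sec θ' χ a * (θ' : D.K0 → ℂ) y := by
  rw [D.apply_mk χ a y]
  refine (Finset.sum_subset (Finset.subset_univ _) fun θ' _ hθ' => ?_).symm
  rw [D.sec_eq_zero_of_not_induced hM h.2.1 hχ (fun h' => hθ' ((D.induced_iff_orb hM h θ').1 h')) ha, zero_mul]

/-- Every singular element is conjugate to an element of a section. -/
theorem exists_conj_el {g : G} (hg : p ∣ orderOf g) :
    ∃ (u : G) (a : ZMod p) (y : D.K0), a ≠ 0 ∧ u * g * u⁻¹ = (D.el a y : G) := by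
  obtain ⟨u, z, hz, hz1⟩ := PrimeOrder.exists_conj_singular P hg
  obtain ⟨i, hi⟩ := (isOfFinOrder_of_finite D.x).mem_powers_iff_mem_zpowers.2 (show (z : G) ∈ Subgroup.zpowers D.x by rw [D.zp]; exact z.2)
  have hzx : (z : G) = D.x ^ (i : ZMod p).val := by rw [D.xpow_eq]; exact hi.symm
  have ha : (i : ZMod p) ≠ 0 := fun e => hz1 (by rw [hzx, e, ZMod.val_zero, pow_zero])
  obtain ⟨s, hs, hzs, -, hsr⟩ := hz
  have hsC : s ∈ cent P := by
    rw [D.cent_eq_singleton ha, Subgroup.mem_centralizer_singleton_iff, ← hzx]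
    exact hzs.symm.eq
  exact ⟨u, (i : ZMod p), ⟨s, (D.mem_K0 s).2 ⟨(D.mem_cent_iff s).1 hsC, hsr⟩⟩, ha, by rw [← hs, coe_el, hzx]⟩

theorem exists_sec_ne_zero (hM : IsPModular p M) {θ : IrrCharacter D.K0} {B : Set (IrrCharacter G)}
    (h : IsInducedBlock M (cent P) (D.blk M θ) B) {χ χ' : IrrCharacter G} (hχ : χ ∈ B) (hχ' : χ' ∈ B)
    (hne : χ ≠ χ') : ∃ a : ZMod p, a ≠ 0 ∧ D.sec θ χ a ≠ 0 := by
  obtain ⟨g, hg, hgne⟩ := SectionCentral.exists_singular_ne_zero hM h.2.1 hχ hχ' hne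
  obtain ⟨u, a, y, ha, he⟩ := D.exists_conj_el hg
  by_contra hno
  push Not at hno
  refine hgne ?_
  rw [← irr_conj_apply χ g u, he, D.apply_el_orb hM h hχ ha]
  refine Finset.sum_eq_zero fun θ' hθ' => ?_
  obtain ⟨w, rfl⟩ := D.mem_orb.1 hθ'
  rw [sec_tw, hno _ (mul_ne_zero (Units.ne_zero _) ha), zero_mul]

theorem sum_sec_mul_apply (θ : IrrCharacter D.K0) {a : ZMod p} (ha : a ≠ 0) {s : G} (hs : ¬ p ∣ orderOf s) :
    ∑ χ : IrrCharacter G, D.sec θ χ a * (χ : G → ℂ) s = 0 := by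
  unfold sec comp
  simp only [Cfsg.classInner, Finset.sum_mul, Finset.mul_sum, mul_assoc]
  rw [Finset.sum_comm]
  refine Finset.sum_eq_zero fun y _ => ?_
  rw [Finset.sum_congr rfl (g := fun χ : IrrCharacter G => (Nat.card D.K0 : ℂ)⁻¹ * conj ((θ : D.K0 → ℂ) y) *
    ((χ : G → ℂ) (D.el a y : G) * (χ : G → ℂ) (s⁻¹)⁻¹)) fun χ _ => by rw [inv_inv]; ring,
    ← Finset.mul_sum, sum_irr_mul_inv, Finset.filter_false_of_mem, Finset.card_empty, Nat.cast_zero, mul_zero]
  intro g _ e
  have h1 := D.dvd_orderOf_mk ha y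
  rw [← (MulAut.conj g).orderOf_eq (D.el a y : G), MulAut.conj_apply, e, orderOf_inv] at h1
  exact hs h1

/-- The inner products of the differences. -/
theorem sum_diff_mul (θ : IrrCharacter D.K0) (k l : (ZMod p)ˣ) :
    ∑ χ : IrrCharacter G, D.diff θ k χ * D.diff θ l χ
      = (Nat.card (D.autE θ) : ℤ) + if k⁻¹ * l ∈ D.autE θ then 1 else 0 := by
  apply Int.cast_injective (α := ℂ)
  have hp0 : (p : ℂ) ≠ 0 := Nat.cast_ne_zero.2 hp.out.ne_zero
  rw [Int.cast_sum]
  have e1 : ∀ χ : IrrCharacter G, ((D.diff θ k χ * D.diff θ l χ : ℤ) : ℂ) = (p : ℂ)⁻¹ * (p : ℂ)⁻¹ *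
      ∑ a : ZMod p, ∑ b : ZMod p, (1 - ZMod.stdAddChar (-((k : ZMod p) * a))) * (1 - ZMod.stdAddChar ((l : ZMod p) * b)) *
        (D.sec θ χ a * conj (D.sec θ χ b)) := by
    intro χ
    have hr : ((D.diff θ l χ : ℤ) : ℂ) = conj ((D.diff θ l χ : ℤ) : ℂ) := (map_intCast _ _).symm
    rw [Int.cast_mul, hr, cast_diff, cast_diff]
    simp only [map_mul, map_inv₀, map_natCast, map_sum, map_sub, map_one]
    rw [mul_mul_mul_comm, Finset.sum_mul_sum]
    congr 1
    refine Finset.sum_congr rfl fun a _ => Finset.sum_congr rfl fun b _ => ?_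
    rw [conj_std, neg_neg]
    ring
  simp only [e1, ← Finset.mul_sum]
  rw [Finset.sum_comm, Finset.sum_congr rfl (g := fun a : ZMod p => ∑ b : ZMod p,
    (1 - ZMod.stdAddChar (-((k : ZMod p) * a))) * (1 - ZMod.stdAddChar ((l : ZMod p) * b)) *
      (∑ χ : IrrCharacter G, D.sec θ χ a * conj (D.sec θ χ b))) fun a _ => by
    rw [Finset.sum_comm]
    exact Finset.sum_congr rfl fun b _ => (Finset.mul_sum _ _ _).symm]
  have e2 : ∀ a : ZMod p, ∑ b : ZMod p, (1 - ZMod.stdAddChar (-((k : ZMod p) * a))) * (1 - ZMod.stdAddChar ((l : ZMod p) * b)) *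
        (∑ χ : IrrCharacter G, D.sec θ χ a * conj (D.sec θ χ b))
      = (p : ℂ) * ∑ ε : D.autE θ,
          (1 - ZMod.stdAddChar (-((k : ZMod p) * a))) * (1 - ZMod.stdAddChar ((l : ZMod p) * (((ε : (ZMod p)ˣ) : ZMod p) * a))) := by
    intro a
    by_cases ha : a = 0
    · simp [ha]
    rw [Finset.mul_sum, ← Finset.sum_subset (Finset.subset_univ
      (Finset.image (fun ε : D.autE θ => ((ε : (ZMod p)ˣ) : ZMod p) * a) Finset.univ)) fun b _ hb => ?_,
      Finset.sum_image fun ε _ ε' _ e => Subtype.ext (Units.ext (mul_right_cancel₀ ha e))]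
    · refine Finset.sum_congr rfl fun ε _ => ?_
      have h := D.sum_sec_mul_conj θ (Units.mk0 a ha) ((ε : (ZMod p)ˣ) * Units.mk0 a ha)
      rw [Units.val_mk0, Units.val_mul, Units.val_mk0, if_pos (by rw [mul_inv_cancel_right]; exact ε.2)] at h
      rw [h]; ring
    · by_cases hb0 : b = 0
      · simp [hb0]
      have h := D.sum_sec_mul_conj θ (Units.mk0 a ha) (Units.mk0 b hb0)
      rw [Units.val_mk0, Units.val_mk0, if_neg] at h
      · rw [h, mul_zero]
      · intro hm
        refine hb (Finset.mem_image.2 ⟨⟨_, hm⟩, Finset.mem_univ _, ?_⟩)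
        simp [ha]
  rw [Finset.sum_congr rfl fun a _ => e2 a, ← Finset.mul_sum, Finset.sum_comm]
  have e3 : ∀ ε : D.autE θ, ∑ a : ZMod p, (1 - ZMod.stdAddChar (-((k : ZMod p) * a))) *
      (1 - ZMod.stdAddChar ((l : ZMod p) * (((ε : (ZMod p)ˣ) : ZMod p) * a)))
      = (p : ℂ) + if k = l * ε then (p : ℂ) else 0 := by
    intro ε
    simp only [sub_mul, mul_sub, one_mul, mul_one, Finset.sum_sub_distrib, Finset.sum_const, Finset.card_univ,
      ZMod.card, nsmul_eq_mul, ← neg_mul, ← AddChar.map_add_eq_mul, ← mul_assoc, ← add_mul, sum_std']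
    rw [if_neg (mul_ne_zero (Units.ne_zero l) (Units.ne_zero _)), if_neg (neg_ne_zero.2 (Units.ne_zero k)),
      sub_zero, zero_sub, sub_neg_eq_add,
      if_congr (show (-(k : ZMod p) + (l : ZMod p) * ((ε : (ZMod p)ˣ) : ZMod p) = 0) ↔ k = l * ε by
        rw [neg_add_eq_zero, Units.ext_iff, Units.val_mul]) rfl rfl]
  rw [Finset.sum_congr rfl fun ε _ => e3 ε, Finset.sum_add_distrib, Finset.sum_const, Finset.card_univ, nsmul_eq_mul,
    ← Nat.card_eq_fintype_card]
  have e4 : ∑ ε : D.autE θ, (if k = l * ε then (p : ℂ) else 0) = if k⁻¹ * l ∈ D.autE θ then (p : ℂ) else 0 := by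
    split_ifs with h
    · rw [Finset.sum_eq_single (⟨l⁻¹ * k, by simpa using (D.autE θ).inv_mem h⟩ : D.autE θ), if_pos (by simp)]
      · intro ε _ hne
        rw [if_neg]
        intro e
        exact hne (Subtype.ext (show (ε : (ZMod p)ˣ) = l⁻¹ * k from eq_inv_mul_iff_mul_eq.2 e.symm))
      · exact fun h' => absurd (Finset.mem_univ _) h'
    · refine Finset.sum_eq_zero fun ε _ => if_neg fun e => h ?_
      rw [e, mul_inv_rev, mul_assoc, inv_mul_cancel, mul_one]
      exact (D.autE θ).inv_mem ε.2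
  rw [e4]
  push_cast
  split_ifs <;> field_simp <;> ring

end Frame

end CfsgLib.Blocks.DefectOne
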