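import Cfsg.Agent.Lib.Blocks.PrimeOrderBlock
import Cfsg.Agent.Lib.BrauerPairs.Conj
import Mathlib.NumberTheory.LegendreSymbol.AddCharacter
import Mathlib.Analysis.Fourier.FiniteAbelian.PontryaginDuality

/-!
# Sylow subgroups of prime order: the characters of the centralizer and their sections
-/

set_option autoImplicit false

namespace CfsgLib.Blocks.DefectOne

open Cfsg CfsgLib.Blocks
open scoped Classical ComplexConjugate

variable {G : Type*} [Group G] [Fintype G] {p : ℕ} [hp : Fact p.Prime]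

/-- The centralizer of `P`. -/
abbrev cent (P : Sylow p G) : Subgroup G := Subgroup.centralizer ((P : Subgroup G) : Set G)

/-- The normalizer of `P`. -/
abbrev nrm (P : Sylow p G) : Subgroup G := Subgroup.normalizer ((P : Subgroup G) : Set G)

/-- A generator of `P` and the `p'`-part of its centralizer. -/
structure Frame (P : Sylow p G) where
  x : G
  K0 : Subgroup G
  ord : orderOf x = p
  zp : Subgroup.zpowers x = (P : Subgroup G)
  mem_K0 : ∀ y, y ∈ K0 ↔ Commute y x ∧ ¬ p ∣ orderOf y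
  conj_mem : ∀ n ∈ Subgroup.normalizer ((Subgroup.zpowers x : Subgroup G) : Set G), ∀ y ∈ K0, n * y * n⁻¹ ∈ K0
  not_dvd : ¬ p ∣ Nat.card K0
  decomp : ∀ c, Commute c x → ∃ i : ℕ, ∃ y ∈ K0, c = x ^ i * y

theorem exists_frame (P : Sylow p G) (hP : Nat.card P = p) : Nonempty (Frame P) := by
  obtain ⟨x, hxP, hx, hzp⟩ := PrimeOrder.exists_generator P hP
  obtain ⟨K0, h1, h2, h3, h4⟩ := PrimeOrder.exists_complement P hP hxP hx
  exact ⟨⟨x, K0, hx, hzp, h1, h2, h3, h4⟩⟩

namespace Frame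

variable {P : Sylow p G} (D : Frame P)

theorem card_P (D : Frame P) : Nat.card P = p := by
  show Nat.card (P : Subgroup G) = p
  rw [← D.zp, Nat.card_zpowers, D.ord]

theorem x_mem : D.x ∈ (P : Subgroup G) := D.zp ▸ Subgroup.mem_zpowers D.x

theorem hp2 (D : Frame P) : ¬ p ^ 2 ∣ Nat.card G := PrimeOrder.not_sq_dvd P D.card_P

theorem commute_x {y : G} (hy : y ∈ D.K0) : Commute y D.x := ((D.mem_K0 y).1 hy).1

theorem regular {y : G} (hy : y ∈ D.K0) : ¬ p ∣ orderOf y := ((D.mem_K0 y).1 hy).2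

theorem mem_cent_iff (c : G) : c ∈ cent P ↔ Commute c D.x := by
  rw [Subgroup.mem_centralizer_iff]
  constructor
  · exact fun h => (h _ D.x_mem).symm
  · intro h u hu
    rw [← D.zp] at hu
    obtain ⟨i, rfl⟩ := Subgroup.mem_zpowers_iff.1 hu
    exact (h.zpow_right i).eq.symm

theorem xpow_eq (D : Frame P) (n : ℕ) : D.x ^ (n : ZMod p).val = D.x ^ n := by
  conv_rhs => rw [← pow_mod_orderOf D.x n, D.ord]
  rw [ZMod.val_natCast]

theorem xpow_add (a b : ZMod p) : D.x ^ a.val * D.x ^ b.val = D.x ^ (a + b).val := by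
  rw [← pow_add, ← D.xpow_eq, Nat.cast_add, ZMod.natCast_zmod_val, ZMod.natCast_zmod_val]

theorem xpow_mul (a b : ZMod p) : (D.x ^ a.val) ^ b.val = D.x ^ (a * b).val := by
  rw [← pow_mul, ← D.xpow_eq, Nat.cast_mul, ZMod.natCast_zmod_val, ZMod.natCast_zmod_val]

theorem xpow_inj {a b : ZMod p} (h : D.x ^ a.val = D.x ^ b.val) : a = b :=
  ZMod.val_injective p (pow_injOn_Iio_orderOf (by simp only [Set.mem_Iio, D.ord]; exact ZMod.val_lt a)
    (by simp only [Set.mem_Iio, D.ord]; exact ZMod.val_lt b) h)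

theorem orderOf_xpow {a : ZMod p} (ha : a ≠ 0) : orderOf (D.x ^ a.val) = p := by
  refine orderOf_eq_prime ?_ fun h => ha (D.xpow_inj (h.trans (by rw [ZMod.val_zero, pow_zero])))
  rw [← pow_mul, mul_comm, pow_mul, PrimeOrder.pow_prime_eq_one D.ord, one_pow]

/-- The element `x ^ a * y`. -/
noncomputable def el (a : ZMod p) (y : D.K0) : cent P :=
  ⟨D.x ^ a.val * (y : G), (D.mem_cent_iff _).2 ((Commute.refl D.x).pow_left _ |>.mul_left (D.commute_x y.2))⟩

theorem coe_el (a : ZMod p) (y : D.K0) : (D.el a y : G) = D.x ^ a.val * (y : G) := rfl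

theorem el_zero (y : D.K0) : (D.el 0 y : G) = (y : G) := by rw [coe_el, ZMod.val_zero, pow_zero, one_mul]

theorem el_mul (a b : ZMod p) (y z : D.K0) : D.el a y * D.el b z = D.el (a + b) (y * z) := Subtype.ext (by
  show D.x ^ a.val * (y : G) * (D.x ^ b.val * (z : G)) = D.x ^ (a + b).val * ((y : G) * (z : G))
  rw [mul_assoc, ← mul_assoc (y : G), ((D.commute_x y.2).pow_right b.val).eq, ← xpow_add D a b]
  simp only [mul_assoc])

theorem isPPart_mk {a : ZMod p} (ha : a ≠ 0) (y : D.K0) : IsPPart p (D.el a y : G) (D.x ^ a.val) :=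
  isPPart_mul ((D.commute_x y.2).symm.pow_left _) (k := 1) (by rw [pow_one, D.orderOf_xpow ha]) (D.regular y.2)

theorem dvd_orderOf_mk {a : ZMod p} (ha : a ≠ 0) (y : D.K0) : p ∣ orderOf (D.el a y : G) := by
  rw [coe_el, Commute.orderOf_mul_eq_mul_orderOf_of_coprime ((D.commute_x y.2).symm.pow_left _)
    (by rw [D.orderOf_xpow ha]; exact hp.out.coprime_iff_not_dvd.2 (D.regular y.2)), D.orderOf_xpow ha]
  exact dvd_mul_right _ _

theorem el_bijective : Function.Bijective fun q : ZMod p × D.K0 => D.el q.1 q.2 := by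
  constructor
  · rintro ⟨a, y⟩ ⟨b, z⟩ h
    have h' : D.x ^ a.val * (y : G) = D.x ^ b.val * (z : G) := congrArg Subtype.val h
    have hab : a = b := by
      by_cases ha : a = 0
      · by_cases hb : b = 0
        · rw [ha, hb]
        · refine absurd (D.dvd_orderOf_mk hb z) ?_
          rw [coe_el, ← h', ha, ZMod.val_zero, pow_zero, one_mul]
          exact D.regular y.2
      · by_cases hb : b = 0
        · refine absurd (D.dvd_orderOf_mk ha y) ?_
          rw [coe_el, h', hb, ZMod.val_zero, pow_zero, one_mul]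
          exact D.regular z.2
        · exact D.xpow_inj (isPPart_unique hp.out (D.isPPart_mk ha y)
            (by rw [coe_el, h']; exact D.isPPart_mk hb z))
    subst hab
    exact Prod.ext rfl (Subtype.ext (mul_left_cancel h'))
  · intro c
    obtain ⟨i, y, hy, h⟩ := D.decomp c ((D.mem_cent_iff _).1 c.2)
    exact ⟨((i : ZMod p), ⟨y, hy⟩), Subtype.ext (by
      show D.x ^ (i : ZMod p).val * y = c
      rw [xpow_eq, h])⟩

/-- Coordinates on the centralizer. -/
noncomputable def coord : ZMod p × D.K0 ≃ cent P := Equiv.ofBijective _ D.el_bijective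

theorem coord_apply (a : ZMod p) (y : D.K0) : D.coord (a, y) = D.el a y := rfl

theorem coord_symm_mk (a : ZMod p) (y : D.K0) : D.coord.symm (D.el a y) = (a, y) :=
  D.coord.symm_apply_eq.2 rfl

theorem exists_el (c : cent P) : ∃ a y, D.el a y = c := by
  obtain ⟨⟨a, y⟩, h⟩ := D.coord.surjective c
  exact ⟨a, y, h⟩

/-- The projection on `K0`. -/
noncomputable def prK : cent P →* D.K0 :=
  MonoidHom.mk' (fun c => (D.coord.symm c).2) fun c d => by
    obtain ⟨a, y, rfl⟩ := D.exists_el c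
    obtain ⟨b, z, rfl⟩ := D.exists_el d
    simp only [el_mul, coord_symm_mk]

theorem prK_mk (a : ZMod p) (y : D.K0) : D.prK (D.el a y) = y := by
  show (D.coord.symm (D.el a y)).2 = y
  rw [coord_symm_mk]

/-- The linear characters of `P`, on the centralizer. -/
noncomputable def linK (k : ZMod p) : cent P →* ℂˣ :=
  MonoidHom.toHomUnits
    { toFun := fun c => ZMod.stdAddChar (k * (D.coord.symm c).1)
      map_one' := by
        have h : D.el 0 1 = 1 := Subtype.ext (by rw [el_zero]; rfl)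
        simp only [← h, coord_symm_mk, mul_zero, AddChar.map_zero_eq_one]
      map_mul' := fun c d => by
        obtain ⟨a, y, rfl⟩ := D.exists_el c
        obtain ⟨b, z, rfl⟩ := D.exists_el d
        simp only [el_mul, coord_symm_mk, mul_add, AddChar.map_add_eq_mul] }

theorem linK_mk (k a : ZMod p) (y : D.K0) :
    ((D.linK k (D.el a y) : ℂˣ) : ℂ) = ZMod.stdAddChar (k * a) := by
  show ZMod.stdAddChar (k * (D.coord.symm (D.el a y)).1) = _
  rw [coord_symm_mk]

theorem card_cent : Nat.card (cent P) = p * Nat.card D.K0 := by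
  rw [← Nat.card_congr D.coord, Nat.card_prod, Nat.card_zmod]

omit [Fintype G] in
theorem conj_std (a : ZMod p) : conj (ZMod.stdAddChar a : ℂ) = ZMod.stdAddChar (-a) :=
  (AddChar.map_neg_eq_conj _ _).symm

omit [Fintype G] in
theorem sum_std (b : ZMod p) : ∑ a : ZMod p, (ZMod.stdAddChar (a * b) : ℂ) = if b = 0 then (p : ℂ) else 0 := by
  have h := AddChar.sum_mulShift (R' := ℂ) b (ZMod.isPrimitive_stdAddChar p)
  rw [h, ZMod.card]
  split_ifs <;> simp

omit [Fintype G] in
theorem sum_std' (b : ZMod p) : ∑ a : ZMod p, (ZMod.stdAddChar (b * a) : ℂ) = if b = 0 then (p : ℂ) else 0 := by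
  rw [← sum_std]
  exact Finset.sum_congr rfl fun a _ => by rw [mul_comm]

/-- The extension of an irreducible character of `K0`. -/
noncomputable def ext (k : ZMod p) (θ : IrrCharacter D.K0) : IrrCharacter (cent P) :=
  ⟨(fun c => ((D.linK k c : ℂˣ) : ℂ)) * ((θ : D.K0 → ℂ) ∘ D.prK),
    Char.IsCharacter.isIrrCharacter_of_norm_one
      (Char.IsCharacter.mul (Char.isCharacter_hom _) (Char.IsCharacter.comp (Char.isCharacter_irr θ) _)) (by
      have h := Char.classInner_irr_self θ.2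
      rw [Cfsg.classInner] at h ⊢
      rw [← Fintype.sum_equiv D.coord (fun q : ZMod p × D.K0 => (θ : D.K0 → ℂ) q.2 * conj ((θ : D.K0 → ℂ) q.2)) _
        fun q => by
        rw [coord_apply, Pi.mul_apply, Function.comp_apply, prK_mk, linK_mk, map_mul (starRingEnd ℂ), conj_std, mul_mul_mul_comm,
          ← AddChar.map_add_eq_mul, add_neg_cancel, AddChar.map_zero_eq_one, one_mul],
        Fintype.sum_prod_type]
      simp only [Finset.sum_const, Finset.card_univ, ZMod.card, nsmul_eq_mul, D.card_cent]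
      push_cast
      rw [mul_inv, mul_mul_mul_comm, inv_mul_cancel₀ (Nat.cast_ne_zero.2 hp.out.ne_zero), one_mul]
      exact h)⟩

theorem ext_mk (k : ZMod p) (θ : IrrCharacter D.K0) (a : ZMod p) (y : D.K0) :
    (D.ext k θ : cent P → ℂ) (D.el a y) = ZMod.stdAddChar (k * a) * (θ : D.K0 → ℂ) y := by
  show ((D.linK k (D.el a y) : ℂˣ) : ℂ) * (θ : D.K0 → ℂ) (D.prK (D.el a y)) = _
  rw [linK_mk, prK_mk]

/-- The component of a function on the centralizer along `θ` at `x ^ a`. -/
noncomputable def comp (θ : IrrCharacter D.K0) (F : cent P → ℂ) (a : ZMod p) : ℂ :=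
  classInner (fun y : D.K0 => F (D.el a y)) (θ : D.K0 → ℂ)

theorem classInner_ext (F : cent P → ℂ) (k : ZMod p) (θ : IrrCharacter D.K0) :
    classInner F (D.ext k θ : cent P → ℂ)
      = (p : ℂ)⁻¹ * ∑ a : ZMod p, D.comp θ F a * ZMod.stdAddChar (-(k * a)) := by
  rw [Cfsg.classInner, ← Fintype.sum_equiv D.coord (fun q : ZMod p × D.K0 =>
    F (D.el q.1 q.2) * conj ((θ : D.K0 → ℂ) q.2) * ZMod.stdAddChar (-(k * q.1))) _ fun q => by
      rw [coord_apply, ext_mk, map_mul (starRingEnd ℂ), conj_std]; ring,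
    Fintype.sum_prod_type, D.card_cent]
  simp only [comp, Cfsg.classInner, Nat.cast_mul, mul_inv, Finset.mul_sum, Finset.sum_mul]
  exact Finset.sum_congr rfl fun a _ => Finset.sum_congr rfl fun y _ => by ring

theorem sum_classInner_ext (F : cent P → ℂ) (θ : IrrCharacter D.K0) (a : ZMod p) :
    ∑ k : ZMod p, classInner F (D.ext k θ : cent P → ℂ) * ZMod.stdAddChar (k * a) = D.comp θ F a := by
  simp only [classInner_ext, Finset.mul_sum, Finset.sum_mul]
  rw [Finset.sum_comm, Finset.sum_congr rfl (g := fun b => (p : ℂ)⁻¹ * D.comp θ F b *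
    (if a - b = 0 then (p : ℂ) else 0)) fun b _ => ?_, Finset.sum_eq_single a]
  · rw [sub_self, if_pos rfl, mul_comm, ← mul_assoc, mul_inv_cancel₀ (Nat.cast_ne_zero.2 hp.out.ne_zero), one_mul]
  · intro b _ hb
    rw [if_neg (sub_ne_zero.2 hb.symm), mul_zero]
  · exact fun h => absurd (Finset.mem_univ _) h
  · rw [← sum_std, Finset.mul_sum]
    refine Finset.sum_congr rfl fun k _ => ?_
    rw [mul_sub, sub_eq_add_neg, AddChar.map_add_eq_mul]
    ring

theorem comp_isClassFunction {F : cent P → ℂ} (hF : IsClassFunction (cent P) F) (a : ZMod p) :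
    IsClassFunction D.K0 fun y : D.K0 => F (D.el a y) := fun y z => by
  show F (D.el a (z * y * z⁻¹)) = F (D.el a y)
  rw [← hF (D.el a y) (D.el 0 z)]
  congr 1
  have hinv : (D.el 0 z)⁻¹ = D.el 0 z⁻¹ := inv_eq_of_mul_eq_one_right (by
    rw [el_mul, add_zero, mul_inv_cancel]
    exact Subtype.ext (by rw [el_zero]; rfl))
  rw [hinv, el_mul, el_mul, zero_add, add_zero]

/-- Every irreducible character of the centralizer is one of the extensions. -/
theorem exists_ext (η : IrrCharacter (cent P)) : ∃ k θ, D.ext k θ = η := by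
  by_contra hcon
  push Not at hcon
  have h0 : ∀ θ, ∀ a, D.comp θ (η : cent P → ℂ) a = 0 := fun θ a => by
    rw [← sum_classInner_ext]
    refine Finset.sum_eq_zero fun k _ => ?_
    rw [Char.classInner_irr_ne η.2 (D.ext k θ).2 fun e => hcon k θ (Subtype.ext e.symm), zero_mul]
  have h1 := Char.eq_zero_of_orth (D.comp_isClassFunction (fun g h => irr_conj_apply η g h) 0) ?_
  · have := congrFun h1 1
    rw [show D.el 0 (1 : D.K0) = 1 from Subtype.ext (by rw [el_zero]; rfl)] at this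
    exact irr_one_ne_zero η this
  · intro θ hθ
    exact h0 ⟨θ, hθ⟩ 0

/-- The block of the centralizer attached to `θ`. -/
noncomputable def blk (M : Ideal AlgInt) (θ : IrrCharacter D.K0) : Set (IrrCharacter (cent P)) :=
  blockOf M (D.ext 0 θ : cent P → ℂ)

theorem mem_blk_iff {M : Ideal AlgInt} (hM : IsPModular p M) (θ : IrrCharacter D.K0)
    (η : IrrCharacter (cent P)) : η ∈ D.blk M θ ↔ ∃ k, η = D.ext k θ := by
  have hcc : ∀ (k : ZMod p) (θ' : IrrCharacter D.K0) (a : ZMod p) (y : D.K0),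
      centralChar (D.ext k θ' : cent P → ℂ) (D.el a y)
        = ZMod.stdAddChar (k * a) * centralChar (D.ext 0 θ' : cent P → ℂ) (D.el a y) := by
    intro k θ' a y
    unfold centralChar
    rw [← show D.el 0 (1 : D.K0) = 1 from Subtype.ext (by rw [el_zero]; rfl)]
    simp only [ext_mk, mul_zero, AddChar.map_zero_eq_one, zero_mul]
    ring
  have hsame : ∀ k, SameBlock M (D.ext 0 θ : cent P → ℂ) (D.ext k θ : cent P → ℂ) := by
    intro k g
    obtain ⟨a, y, rfl⟩ := D.exists_el g
    rw [hcc k]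
    have hw : (ZMod.stdAddChar (k * a) : ℂ) ^ p ^ 1 = 1 := by
      rw [pow_one, ← AddChar.map_nsmul_eq_pow, nsmul_eq_mul, ZMod.natCast_self, zero_mul, AddChar.map_zero_eq_one]
    refine LI.sub_comm ?_
    have := LI.mul_right hM (LI.root_sub_one hM hw) (centralChar_LR hM (D.ext 0 θ) (D.el a y))
    rwa [sub_mul, one_mul] at this
  constructor
  · intro hη
    obtain ⟨k, θ', rfl⟩ := D.exists_ext η
    refine ⟨k, ?_⟩
    by_cases e : θ' = θ
    · rw [e]
    exfalso
    set f : cent P → ℂ := fun c => if (D.coord.symm c).1 = 0 then conj ((θ : D.K0 → ℂ) (D.prK c)) else 0 with hf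
    have hfmk : ∀ b z, f (D.el b z) = if b = 0 then conj ((θ : D.K0 → ℂ) z) else 0 := fun b z => by
      simp only [hf, coord_symm_mk, prK_mk]
    have hfcl : IsClassFunction (cent P) f := by
      intro c d
      obtain ⟨b, z, rfl⟩ := D.exists_el c
      obtain ⟨a, w, rfl⟩ := D.exists_el d
      have hinv : (D.el a w)⁻¹ = D.el (-a) w⁻¹ := inv_eq_of_mul_eq_one_right (by
        rw [el_mul, add_neg_cancel, mul_inv_cancel]
        exact Subtype.ext (by rw [el_zero]; rfl))
      rw [hinv, el_mul, el_mul, hfmk, hfmk, show a + b + -a = b by abel, irr_conj_apply]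
    have hfR : ∀ c, MemLocalRing M (f c) := fun c => by
      obtain ⟨b, z, rfl⟩ := D.exists_el c
      rw [hfmk]
      split_ifs
      · rw [conj_irr]; exact LR.of_isIntegral hM (irr_isIntegral θ _)
      · exact LR.zero hM
    have homega : ∀ l (θ'' : IrrCharacter D.K0), omega (D.ext l θ'' : cent P → ℂ) f
        = (Nat.card D.K0 : ℂ) * classInner (θ'' : D.K0 → ℂ) (θ : D.K0 → ℂ) / (θ'' : D.K0 → ℂ) 1 := by
      intro l θ''
      rw [omega, ← show D.el 0 (1 : D.K0) = 1 from Subtype.ext (by rw [el_zero]; rfl), ext_mk, mul_zero,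
        AddChar.map_zero_eq_one, one_mul, ← Fintype.sum_equiv D.coord (fun q : ZMod p × D.K0 =>
          if q.1 = 0 then (θ'' : D.K0 → ℂ) q.2 * conj ((θ : D.K0 → ℂ) q.2) else 0) _ fun q => by
        rw [coord_apply, hfmk, ext_mk]
        split_ifs with h
        · rw [h, mul_zero, AddChar.map_zero_eq_one, one_mul, mul_comm]
        · rw [zero_mul],
        Fintype.sum_prod_type, Finset.sum_eq_single (0 : ZMod p) (fun b _ hb => by simp [hb])
          (fun h => absurd (Finset.mem_univ _) h)]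
      simp only [if_true, Cfsg.classInner]
      rw [← mul_assoc, mul_inv_cancel₀ Char.card_ne_zero, one_mul]
    have h := omega_congr hM hη hfcl hfR
    rw [homega, homega, Char.classInner_irr_self θ.2,
      Char.classInner_irr_ne θ'.2 θ.2 (fun h => e (Subtype.ext h)), mul_one, mul_zero, zero_div, sub_zero] at h
    obtain ⟨q, hq⟩ := charDegree_dvd θ
    have hq' : (Nat.card D.K0 : ℂ) / (θ : D.K0 → ℂ) 1 = (q : ℂ) := by
      rw [div_eq_iff (irr_one_ne_zero θ), irr_one_eq, hq, Nat.cast_mul, mul_comm]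
    rw [hq', LI.natCast_iff hM] at h
    exact D.not_dvd (hq ▸ h.mul_left _)
  · rintro ⟨k, rfl⟩
    exact hsame k

theorem isPBlock_blk {M : Ideal AlgInt} (θ : IrrCharacter D.K0) : IsPBlock M (D.blk M θ) :=
  ⟨_, rfl⟩

/-! ### The action of the normalizer -/

theorem normalizer_zp : Subgroup.normalizer ((Subgroup.zpowers D.x : Subgroup G) : Set G) = nrm P := by
  rw [D.zp]

theorem exists_conj_x (g : nrm P) : ∃ i : ℕ, D.x ^ i = (g : G) * D.x * (g : G)⁻¹ :=
  (isOfFinOrder_of_finite D.x).mem_powers_iff_mem_zpowers.2 (by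
    rw [D.zp]; exact (Subgroup.mem_normalizer_iff.1 g.2 _).1 D.x_mem)

/-- The action on `P`. -/
noncomputable def act : nrm P →* (ZMod p)ˣ :=
  MonoidHom.toHomUnits
    { toFun := fun g => ((D.exists_conj_x g).choose : ZMod p)
      map_one' := D.xpow_inj (by
        rw [D.xpow_eq, (D.exists_conj_x 1).choose_spec, ZMod.val_one, pow_one]; simp)
      map_mul' := fun a c => D.xpow_inj (by
        rw [← Nat.cast_mul, D.xpow_eq, D.xpow_eq, (D.exists_conj_x (a * c)).choose_spec, pow_mul,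
          (D.exists_conj_x a).choose_spec, conj_pow, (D.exists_conj_x c).choose_spec]
        simp [mul_assoc]) }

theorem conj_x (g : nrm P) : (g : G) * D.x * (g : G)⁻¹ = D.x ^ (D.act g : ZMod p).val := by
  show _ = D.x ^ ((D.exists_conj_x g).choose : ZMod p).val
  rw [D.xpow_eq, (D.exists_conj_x g).choose_spec]

/-- Conjugation on `K0`. -/
noncomputable def conjK (g : nrm P) : D.K0 ≃* D.K0 :=
  BrauerPairs.conjIso (g : G) fun y => ⟨fun h => by
    have := D.conj_mem ((g : G)⁻¹) (by rw [D.normalizer_zp]; exact inv_mem g.2) _ h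
    simpa [mul_assoc] using this, fun h => D.conj_mem g (by rw [D.normalizer_zp]; exact g.2) y h⟩

theorem coe_conjK (g : nrm P) (y : D.K0) : (D.conjK g y : G) = (g : G) * (y : G) * (g : G)⁻¹ :=
  BrauerPairs.coe_conjIso _ _ _

theorem conjK_mul (g h : nrm P) (y : D.K0) : D.conjK g (D.conjK h y) = D.conjK (g * h) y := Subtype.ext (by
  simp [coe_conjK, mul_assoc])

theorem conj_mk (g : nrm P) (a : ZMod p) (y : D.K0) :
    (g : G) * (D.el a y : G) * (g : G)⁻¹ = (D.el (D.act g * a) (D.conjK g y) : G) := by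
  rw [coe_el, coe_el, coe_conjK, ← D.xpow_mul, ← D.conj_x, conj_pow]
  simp [mul_assoc]

/-- The conjugate character. -/
noncomputable def tw (θ : IrrCharacter D.K0) (g : nrm P) : IrrCharacter D.K0 := BrauerPairs.irrEquiv (D.conjK g) θ

theorem tw_apply (θ : IrrCharacter D.K0) (g : nrm P) (y : D.K0) :
    (D.tw θ g : D.K0 → ℂ) y = (θ : D.K0 → ℂ) (D.conjK g y) := BrauerPairs.irrEquiv_apply _ _ _

theorem tw_one (θ : IrrCharacter D.K0) : D.tw θ 1 = θ := Subtype.ext (funext fun y => by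
  rw [tw_apply]; exact congrArg _ (Subtype.ext (by simp [coe_conjK])))

theorem tw_mul (θ : IrrCharacter D.K0) (g h : nrm P) : D.tw (D.tw θ g) h = D.tw θ (g * h) :=
  Subtype.ext (funext fun y => by rw [tw_apply, tw_apply, tw_apply, conjK_mul])

/-- The stabilizer. -/
noncomputable def stab (θ : IrrCharacter D.K0) : Subgroup (nrm P) where
  carrier := {g | D.tw θ g = θ}
  one_mem' := D.tw_one θ
  mul_mem' {a c} (ha : D.tw θ a = θ) (hc : D.tw θ c = θ) := by
    show D.tw θ (a * c) = θ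
    rw [← tw_mul, ha, hc]
  inv_mem' {a} (ha : D.tw θ a = θ) := by
    show D.tw θ a⁻¹ = θ
    conv_lhs => rw [← ha]
    rw [tw_mul, mul_inv_cancel, tw_one]

theorem mem_stab {θ : IrrCharacter D.K0} {g : nrm P} : g ∈ D.stab θ ↔ D.tw θ g = θ := Iff.rfl

theorem act_eq_one_iff (g : nrm P) : D.act g = 1 ↔ (g : G) ∈ cent P := by
  rw [D.mem_cent_iff]
  have h := D.conj_x g
  constructor
  · intro e
    rw [e, Units.val_one, ZMod.val_one, pow_one] at h
    exact mul_inv_eq_iff_eq_mul.1 h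
  · intro hc
    refine Units.ext (D.xpow_inj ?_)
    rw [← h, hc.eq, mul_inv_cancel_right, Units.val_one, ZMod.val_one, pow_one]

theorem tw_eq_self_of_cent (θ : IrrCharacter D.K0) {g : nrm P} (hg : (g : G) ∈ cent P) : D.tw θ g = θ := by
  obtain ⟨a, z, hz⟩ := D.exists_el ⟨g, hg⟩
  refine Subtype.ext (funext fun y => ?_)
  rw [tw_apply, ← irr_conj_apply θ y z]
  apply congrArg (θ : D.K0 → ℂ)
  refine Subtype.ext ?_
  rw [coe_conjK, show (g : G) = D.x ^ a.val * (z : G) from (congrArg Subtype.val hz).symm]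
  have hc : Commute (D.x ^ a.val) ((z : G) * (y : G) * (z : G)⁻¹) :=
    ((D.commute_x (D.K0.mul_mem (D.K0.mul_mem z.2 y.2) (D.K0.inv_mem z.2))).symm).pow_left _
  rw [mul_inv_rev]
  calc D.x ^ a.val * (z : G) * (y : G) * ((z : G)⁻¹ * (D.x ^ a.val)⁻¹)
      = D.x ^ a.val * ((z : G) * (y : G) * (z : G)⁻¹) * (D.x ^ a.val)⁻¹ := by simp only [mul_assoc]
    _ = _ := by rw [hc.eq, mul_inv_cancel_right]; rfl

/-- The automizer of `θ`. -/
noncomputable def autE (θ : IrrCharacter D.K0) : Subgroup (ZMod p)ˣ := (D.stab θ).map D.act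

/-- The number of elements of the stabilizer inducing a given automorphism. -/
theorem card_fiber (θ : IrrCharacter D.K0) {u : (ZMod p)ˣ} :
    ((Finset.univ.filter fun g : nrm P => D.act g = u ∧ D.tw θ g = θ).card : ℂ)
      = if u ∈ D.autE θ then (Nat.card (cent P) : ℂ) else 0 := by
  split_ifs with hu
  · obtain ⟨g₀, hg₀, rfl⟩ := hu
    have hle : cent P ≤ nrm P := centralizer_le_normalizer _
    rw [Nat.card_eq_fintype_card, ← Finset.card_univ, Nat.cast_inj]
    refine (Finset.card_bij' (fun (c : cent P) _ => g₀ * ⟨c, hle c.2⟩) (fun g hg => ⟨(g₀⁻¹ * g : nrm P), ?_⟩)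
      ?_ ?_ ?_ ?_).symm
    · obtain ⟨h1, -⟩ := (Finset.mem_filter.1 hg).2
      rw [← D.act_eq_one_iff, map_mul, map_inv, h1, inv_mul_cancel]
    · intro c _
      refine Finset.mem_filter.2 ⟨Finset.mem_univ _, ?_, ?_⟩
      · rw [map_mul, (D.act_eq_one_iff ⟨c, hle c.2⟩).2 c.2, mul_one]
      · rw [← tw_mul, D.mem_stab.1 hg₀, D.tw_eq_self_of_cent θ (g := ⟨c, hle c.2⟩) c.2]
    · exact fun g _ => Finset.mem_univ _
    · intro c _; exact Subtype.ext (by simp)
    · intro g _; exact Subtype.ext (by simp)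
  · rw [Finset.filter_false_of_mem, Finset.card_empty, Nat.cast_zero]
    rintro g - ⟨h1, h2⟩
    exact hu (h1 ▸ ⟨g, D.mem_stab.2 h2, rfl⟩)

theorem mem_nrm_of_conj {g : G} {a b : ZMod p} (ha : a ≠ 0) (h : g * D.x ^ a.val * g⁻¹ = D.x ^ b.val) :
    g ∈ nrm P := by
  refine Subgroup.mem_normalizer_fintype fun n hn => ?_
  rw [← PrimeOrder.zpowers_eq P D.card_P (pow_mem D.x_mem a.val)
    (fun e => hp.out.one_lt.ne (by rw [← D.orderOf_xpow ha, e, orderOf_one]))] at hn
  obtain ⟨i, rfl⟩ := Subgroup.mem_zpowers_iff.1 hn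
  rw [← conj_zpow, h]
  exact zpow_mem (pow_mem D.x_mem _) i

/-! ### Sections -/

/-- The component of a character at `x ^ a`. -/
noncomputable def sec (θ : IrrCharacter D.K0) (χ : IrrCharacter G) (a : ZMod p) : ℂ :=
  D.comp θ (fun c : cent P => (χ : G → ℂ) c) a

theorem sec_tw (θ : IrrCharacter D.K0) (g : nrm P) (χ : IrrCharacter G) (a : ZMod p) :
    D.sec (D.tw θ g) χ a = D.sec θ χ (D.act g * a) := by
  unfold sec comp
  rw [Cfsg.classInner, Cfsg.classInner]
  congr 1
  refine Fintype.sum_equiv (D.conjK g).toEquiv _ _ fun y => ?_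
  show _ = (χ : G → ℂ) (D.el (D.act g * a) (D.conjK g y) : G) * _
  rw [← D.conj_mk g a y, irr_conj_apply, tw_apply]
  rfl

theorem apply_mk (χ : IrrCharacter G) (a : ZMod p) (y : D.K0) :
    (χ : G → ℂ) (D.el a y : G) = ∑ θ : IrrCharacter D.K0, D.sec θ χ a * (θ : D.K0 → ℂ) y := by
  have h := Char.IsClassFunction.eq_sum_irr
    (D.comp_isClassFunction (resFun_isClassFunction (cent P) (fun g h => irr_conj_apply χ g h)) a)
  have := congrFun h y
  simp only [Finset.sum_apply, Pi.smul_apply, smul_eq_mul] at this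
  exact this

theorem exists_mult (θ : IrrCharacter D.K0) (χ : IrrCharacter G) (k : ZMod p) :
    ∃ n : ℕ, classInner (fun c : cent P => (χ : G → ℂ) c) (D.ext k θ : cent P → ℂ) = n :=
  Char.IsCharacter.classInner_nat (Char.IsCharacter.restrict (Char.isCharacter_irr χ) _) (Char.isCharacter_irr _)

/-- The difference of the multiplicities. -/
noncomputable def diff (θ : IrrCharacter D.K0) (k : ZMod p) (χ : IrrCharacter G) : ℤ :=
  ((D.exists_mult θ χ 0).choose : ℤ) - (D.exists_mult θ χ k).choose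

theorem cast_diff (θ : IrrCharacter D.K0) (k : ZMod p) (χ : IrrCharacter G) :
    (D.diff θ k χ : ℂ) = (p : ℂ)⁻¹ * ∑ a : ZMod p, D.sec θ χ a * (1 - ZMod.stdAddChar (-(k * a))) := by
  rw [diff, Int.cast_sub, Int.cast_natCast, Int.cast_natCast, ← (D.exists_mult θ χ 0).choose_spec,
    ← (D.exists_mult θ χ k).choose_spec, classInner_ext, classInner_ext, ← mul_sub, ← Finset.sum_sub_distrib]
  simp only [sec, zero_mul, neg_zero, AddChar.map_zero_eq_one, mul_one, mul_sub]

theorem diff_zero (θ : IrrCharacter D.K0) (χ : IrrCharacter G) : D.diff θ 0 χ = 0 := sub_self _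

/-- The component from the differences. -/
theorem sec_eq_diff (θ : IrrCharacter D.K0) (χ : IrrCharacter G) {a : ZMod p} (ha : a ≠ 0) :
    D.sec θ χ a = - ∑ k : ZMod p, (D.diff θ k χ : ℂ) * ZMod.stdAddChar (k * a) := by
  have e : ∀ k : ZMod p, (D.diff θ k χ : ℂ)
      = classInner (fun c : cent P => (χ : G → ℂ) c) (D.ext 0 θ : cent P → ℂ)
        - classInner (fun c : cent P => (χ : G → ℂ) c) (D.ext k θ : cent P → ℂ) := fun k => by
    rw [(D.exists_mult θ χ 0).choose_spec, (D.exists_mult θ χ k).choose_spec, diff]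
    simp
  simp only [e, sub_mul, Finset.sum_sub_distrib, ← Finset.mul_sum, sum_classInner_ext]
  rw [sum_std, if_neg ha, mul_zero, zero_sub, neg_neg]
  rfl

theorem sum_sec_mul_conj (θ : IrrCharacter D.K0) (a b : (ZMod p)ˣ) :
    ∑ χ : IrrCharacter G, D.sec θ χ a * conj (D.sec θ χ b) = if b * a⁻¹ ∈ D.autE θ then (p : ℂ) else 0 := by
  have hK : (Nat.card D.K0 : ℂ) ≠ 0 := Char.card_ne_zero
  have e1 : ∀ χ : IrrCharacter G, D.sec θ χ a * conj (D.sec θ χ b) = (Nat.card D.K0 : ℂ)⁻¹ ^ 2 *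
      ∑ y : D.K0, ∑ z : D.K0, conj ((θ : D.K0 → ℂ) y) * (θ : D.K0 → ℂ) z *
        ((χ : G → ℂ) (D.el a y : G) * (χ : G → ℂ) (D.el b z : G)⁻¹) := by
    intro χ
    simp only [sec, comp, Cfsg.classInner, map_mul, map_inv₀, map_natCast, map_sum, Complex.conj_conj]
    rw [mul_mul_mul_comm, Finset.sum_mul_sum, sq]
    congr 1
    refine Finset.sum_congr rfl fun y _ => Finset.sum_congr rfl fun z _ => ?_
    rw [conj_irr χ]; ring
  simp only [e1, ← Finset.mul_sum]
  have hiff : ∀ (g : G) (y z : D.K0), g * (D.el a y : G) * g⁻¹ = (D.el b z : G) ↔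
      g * D.x ^ (a : ZMod p).val * g⁻¹ = D.x ^ (b : ZMod p).val ∧ g * (y : G) * g⁻¹ = (z : G) := by
    intro g y z
    rw [coe_el, coe_el]
    constructor
    · intro h
      have h1 := isPPart_conj (D.isPPart_mk (Units.ne_zero a) y) g
      rw [coe_el, h, ← coe_el] at h1
      have h2 := isPPart_unique hp.out h1 (D.isPPart_mk (Units.ne_zero b) z)
      refine ⟨h2, mul_left_cancel (a := D.x ^ (b : ZMod p).val) ?_⟩
      conv_lhs => rw [← h2]
      rw [← h]; simp [mul_assoc]
    · rintro ⟨h1, h2⟩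
      rw [← h1, ← h2]; simp [mul_assoc]
  have hcard : ∀ y z : D.K0,
      ((Finset.univ.filter fun g : G => g * (D.el a y : G) * g⁻¹ = (D.el b z : G)).card : ℂ)
        = ∑ g : nrm P, if D.act g = b * a⁻¹ ∧ D.conjK g y = z then (1 : ℂ) else 0 := by
    intro y z
    rw [Finset.sum_boole, Nat.cast_inj]
    have hg : ∀ g : nrm P, (D.act g = b * a⁻¹ ∧ D.conjK g y = z) ↔
        (g : G) * (D.el a y : G) * (g : G)⁻¹ = (D.el b z : G) := fun g => by
      rw [D.conj_mk, ← Subtype.ext_iff]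
      show _ ↔ D.coord (_, _) = D.coord (_, _)
      rw [D.coord.injective.eq_iff, Prod.mk.injEq, eq_mul_inv_iff_mul_eq, Units.ext_iff, Units.val_mul]
    refine (Finset.card_bij (fun (g : nrm P) _ => (g : G)) (fun g hg' => Finset.mem_filter.2
      ⟨Finset.mem_univ _, (hg g).1 (Finset.mem_filter.1 hg').2⟩) (fun g _ g' _ e => Subtype.ext e)
      fun g hg' => ?_).symm
    have h := (Finset.mem_filter.1 hg').2
    exact ⟨⟨g, D.mem_nrm_of_conj (Units.ne_zero a) ((hiff g y z).1 h).1⟩,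
      Finset.mem_filter.2 ⟨Finset.mem_univ _, (hg _).2 h⟩, rfl⟩
  have e2 : ∀ g : nrm P, ∑ y : D.K0, ∑ z : D.K0, conj ((θ : D.K0 → ℂ) y) * (θ : D.K0 → ℂ) z *
      (if D.act g = b * a⁻¹ ∧ D.conjK g y = z then (1 : ℂ) else 0)
      = if D.act g = b * a⁻¹ ∧ D.tw θ g = θ then (Nat.card D.K0 : ℂ) else 0 := by
    intro g
    by_cases hg : D.act g = b * a⁻¹
    · simp only [hg, true_and, mul_ite, mul_one, mul_zero, Finset.sum_ite_eq, Finset.mem_univ, if_true]
      have h := Char.classInner_irrCharacter (D.tw θ g) θ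
      rw [Cfsg.classInner, inv_mul_eq_iff_eq_mul₀ hK] at h
      simp only [tw_apply, mul_ite, mul_one, mul_zero] at h
      rw [← h]
      exact Finset.sum_congr rfl fun y _ => mul_comm _ _
    · simp [hg]
  have e3 : ∑ χ : IrrCharacter G, ∑ y : D.K0, ∑ z : D.K0, conj ((θ : D.K0 → ℂ) y) * (θ : D.K0 → ℂ) z *
        ((χ : G → ℂ) (D.el a y : G) * (χ : G → ℂ) (D.el b z : G)⁻¹)
      = ∑ g : nrm P, ∑ y : D.K0, ∑ z : D.K0, conj ((θ : D.K0 → ℂ) y) * (θ : D.K0 → ℂ) z *
        (if D.act g = b * a⁻¹ ∧ D.conjK g y = z then (1 : ℂ) else 0) := by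
    rw [Finset.sum_comm, Finset.sum_comm (γ := nrm P)]
    refine Finset.sum_congr rfl fun y _ => ?_
    rw [Finset.sum_comm, Finset.sum_comm (γ := nrm P)]
    refine Finset.sum_congr rfl fun z _ => ?_
    rw [← Finset.mul_sum, sum_irr_mul_inv, hcard, Finset.mul_sum]
  rw [e3, Finset.sum_congr rfl fun g _ => e2 g, ← Finset.sum_filter, Finset.sum_const, nsmul_eq_mul, card_fiber]
  split_ifs
  · rw [card_cent]; push_cast; field_simp
  · simp

end Frame

end CfsgLib.Blocks.DefectOne
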