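import Cfsg.Agent.Lib.Blocks.DerivedQuotient
import Cfsg.Agent.Lib.Blocks.DefectGroup
import Cfsg.Agent.Lib.Blocks.Local
import Cfsg.Agent.Lib.Blocks.BrauerMap

/-!
# Defect groups of the blocks of a quotient
-/

set_option autoImplicit false

namespace CfsgLib.Blocks.QuotientDefect

open Cfsg CfsgLib.Blocks
open scoped Classical

variable {G : Type*} [Group G] [Fintype G] {p : ℕ} {M : Ideal AlgInt} {N : Subgroup G} [N.Normal]

theorem fourierInv_pushCoeff [Fintype (G ⧸ N)] (B : Set (IrrCharacter G)) :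
    fourierInv (fun ψ : IrrCharacter (G ⧸ N) => blockInd B (inflate N ψ)) = pushCoeff N B := by
  rw [← fourierInv_omega (pushCoeff_isClassFunction (P := N) B)]
  exact congrArg fourierInv (funext fun ψ => (omega_pushCoeff B ψ).symm)

theorem conv_of_le [Fintype (G ⧸ N)] (B : Set (IrrCharacter G))
    (b : Set (IrrCharacter (G ⧸ N))) (h : ∀ ψ ∈ b, inflate N ψ ∈ B) (q : G ⧸ N) :
    ∑ r, pushCoeff N B r * blockCoeff b (r⁻¹ * q) = blockCoeff b q := by
  rw [← fourierInv_pushCoeff B]
  simp only [blockCoeff_eq_fourierInv]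
  rw [fourierInv_mul]
  refine congrArg (fun W => fourierInv W q) (funext fun ψ => ?_)
  by_cases hψ : ψ ∈ b
  · rw [blockInd_of_mem hψ, blockInd_of_mem (h ψ hψ), one_mul]
  · rw [blockInd_of_notMem hψ, mul_zero]

/-- The defect group of a block of the quotient is covered by one of the block containing it. -/
theorem exists_map_ge (hM : IsPModular p M) [Fintype (G ⧸ N)] {B : Set (IrrCharacter G)}
    (hB : IsPBlock M B) {b : Set (IrrCharacter (G ⧸ N))} (hb : IsPBlock M b)
    (hsub : ∀ ψ ∈ b, inflate N ψ ∈ B) {D : Subgroup (G ⧸ N)} (hD : IsDefectGroup p M b D) :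
    ∃ P : Subgroup G, IsDefectGroup p M B P ∧ D ≤ P.map (QuotientGroup.mk' N) := by
  haveI := Fact.mk hM.1
  obtain ⟨q, hq, hcl⟩ := exists_unit_coeff_centralizer hM hD
  have hDp := isPGroup_defectGroup hD
  set C := Subgroup.centralizer (D : Set (G ⧸ N))
  -- a unit coefficient of the pushed idempotent on the centralizer
  obtain ⟨r, hrC, hr⟩ : ∃ r ∈ C, ¬ MemLocalIdeal M (pushCoeff N B r) := by
    by_contra hcon
    push Not at hcon
    have h1 := brTrunc_conv hM hDp (le_refl C) (pushCoeff_LR (P := N) hM hB)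
      (blockCoeff_LR hM hb) (fun u _ x => pushCoeff_isClassFunction B x u)
      (fun u _ x => blockCoeff_isClassFunction b x u) ⟨q, hq⟩
    have h2 : brTrunc D C (fun c => ∑ x, pushCoeff N B x * blockCoeff b (x⁻¹ * c)) ⟨q, hq⟩
        = blockCoeff b q := (if_pos hq).trans (conv_of_le B b hsub q)
    have h3 : MemLocalIdeal M (∑ c' : C, brTrunc D C (pushCoeff N B) c'
        * brTrunc D C (blockCoeff b) (c'⁻¹ * ⟨q, hq⟩)) := LI.sum hM fun c' _ =>
      LI.mul_right hM (by rw [brTrunc, if_pos c'.2]; exact hcon _ c'.2)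
        (by rw [brTrunc]; split <;> [exact blockCoeff_LR hM hb _; exact LR.zero hM])
    refine hcl.2.1 ?_
    rw [← h2]
    have := LI.add hM h1 h3
    rwa [sub_add_cancel] at this
  -- a Sylow subgroup of the preimage
  set K := D.comap (QuotientGroup.mk' N)
  obtain ⟨S⟩ : Nonempty (Sylow p K) := inferInstance
  set Q := (S : Subgroup K).map K.subtype
  have hQp : IsPGroup p Q := IsPGroup.map S.isPGroup' _
  have hQmap : Q.map (QuotientGroup.mk' N) = D := by
    let f : K →* D := ((QuotientGroup.mk' N).comp K.subtype).codRestrict D fun x => x.2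
    have hf : Function.Surjective f := fun d => by
      obtain ⟨x, hx⟩ := QuotientGroup.mk'_surjective N (d : G ⧸ N)
      exact ⟨⟨x, show QuotientGroup.mk' N x ∈ D by rw [hx]; exact d.2⟩, Subtype.ext hx⟩
    have h1 : (S : Subgroup K).map f = ⊤ := by
      have h := (S.mapSurjective hf).is_maximal' (Q := ⊤)
        (IsPGroup.of_equiv hDp Subgroup.topEquiv.symm) le_top
      exact h.symm
    calc Q.map (QuotientGroup.mk' N)
        = ((S : Subgroup K).map f).map D.subtype := by
          rw [Subgroup.map_map, Subgroup.map_map]; rfl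
      _ = D := by rw [h1, ← MonoidHom.range_eq_map, Subgroup.range_subtype]
  -- fixed points in the fibre
  obtain ⟨c, hc, hcne⟩ : ∃ c ∈ Subgroup.centralizer (Q : Set G),
      ¬ MemLocalIdeal M (blockCoeff B c) := by
    by_contra hcon
    push Not at hcon
    refine hr ?_
    let act : MulAction Q G := MulAction.compHom G (ConjAct.toConjAct.toMonoidHom.comp Q.subtype)
    letI := act
    have hfix : ∀ (u : Q) (x : G), (if QuotientGroup.mk' N ((u : G) * x * (u : G)⁻¹) = r then
        blockCoeff B ((u : G) * x * (u : G)⁻¹) else 0)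
        = if QuotientGroup.mk' N x = r then blockCoeff B x else 0 := by
      intro u x
      have hu : QuotientGroup.mk' N (u : G) ∈ D := hQmap ▸ Subgroup.mem_map_of_mem _ u.2
      have hcomm := Subgroup.mem_centralizer_iff.1 hrC _ hu
      refine if_congr ?_ (blockCoeff_isClassFunction B x u) rfl
      rw [map_mul, map_mul, map_inv]
      constructor
      · intro h
        have h' : QuotientGroup.mk' N x = (QuotientGroup.mk' N (u : G))⁻¹ * r *
            QuotientGroup.mk' N (u : G) := by rw [← h]; simp [mul_assoc]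
        rw [h', mul_assoc, ← hcomm, inv_mul_cancel_left]
      · intro h
        rw [h, hcomm, mul_inv_cancel_right]
    have h1 := sum_congr_fixedPoints hM hQp
      (fun x => if QuotientGroup.mk' N x = r then blockCoeff B x else 0)
      (fun x => by split <;> [exact blockCoeff_LR hM hB x; exact LR.zero hM]) hfix
    have h2 : MemLocalIdeal M (∑ x : G with x ∈ MulAction.fixedPoints Q G,
        if QuotientGroup.mk' N x = r then blockCoeff B x else 0) := LI.sum hM fun x hx => by
      split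
      · refine hcon x ?_
        rw [Subgroup.mem_centralizer_iff]
        intro u hu
        exact mul_inv_eq_iff_eq_mul.1 ((Finset.mem_filter.1 hx).2 ⟨u, hu⟩)
      · exact LI.zero hM
    have h3 := LI.add hM h1 h2
    rw [sub_add_cancel, ← Finset.sum_filter] at h3
    exact h3
  obtain ⟨P, hP, hQP⟩ := exists_isDefectGroup_ge hM hB hQp hc hcne
  exact ⟨P, hP, hQmap ▸ Subgroup.map_mono hQP⟩

/-- For a normal `p`-subgroup some block of the quotient inside `B` has as defect groups the images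
of those of `B`. -/
theorem exists_block_map_eq (hM : IsPModular p M) [Fintype (G ⧸ N)] (hN : IsPGroup p N)
    {B : Set (IrrCharacter G)} (hB : IsPBlock M B) :
    ∃ b : Set (IrrCharacter (G ⧸ N)), IsPBlock M b ∧ (∀ ψ ∈ b, inflate N ψ ∈ B) ∧
      ∀ D : Subgroup (G ⧸ N), IsDefectGroup p M b D ↔
        ∃ P : Subgroup G, IsDefectGroup p M B P ∧ D = P.map (QuotientGroup.mk' N) := by
  haveI := Fact.mk hM.1
  obtain ⟨P, hP⟩ := exists_isDefectGroup hM hB
  obtain ⟨g, hgP, hg⟩ := exists_unit_coeff_centralizer hM hP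
  have hNP := le_defectGroup_of_normal hM hB hN hP
  have hreg : ¬ p ∣ orderOf g := fun h => hg.2.1 (by
    rw [IsPBlock.blockCoeff_eq_zero hM hB h]; exact LI.zero hM)
  have he : pushCoeff N B (QuotientGroup.mk' N g) = blockCoeff B g := by
    rw [pushCoeff, Finset.sum_eq_single g]
    · intro x hx hxg
      refine IsPBlock.blockCoeff_eq_zero hM hB (by_contra fun hx' => hxg ?_)
      have hu : x * g⁻¹ ∈ N := (QuotientGroup.eq_one_iff (N := N) _).1
        (show QuotientGroup.mk' N (x * g⁻¹) = 1 by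
          rw [map_mul, map_inv, (Finset.mem_filter.1 hx).2, mul_inv_cancel])
      obtain ⟨k, hk⟩ := IsPGroup.iff_orderOf.1 hN ⟨_, hu⟩
      rw [Subgroup.orderOf_mk] at hk
      have h1 := isPPart_mul (Subgroup.mem_centralizer_iff.1 hgP _ (hNP hu)) hk hreg
      rw [inv_mul_cancel_right] at h1
      exact mul_inv_eq_one.1 (isPPart_unique hM.1 h1 (isPPart_one_of_regular hx'))
    · exact fun h => h (Finset.mem_filter.2 ⟨Finset.mem_univ g, rfl⟩) |>.elim
  obtain ⟨b, hb, hsub, hcoeff⟩ : ∃ b : Set (IrrCharacter (G ⧸ N)), IsPBlock M b ∧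
      (∀ ψ ∈ b, inflate N ψ ∈ B) ∧ ¬ MemLocalIdeal M (blockCoeff b (QuotientGroup.mk' N g)) := by
    by_contra hcon
    push Not at hcon
    refine hg.2.1 ?_
    rw [← he, ← fourierInv_pushCoeff B, fourierInv, Finset.mul_sum,
      ← Finset.sum_fiberwise Finset.univ fun ψ : IrrCharacter (G ⧸ N) =>
        blockOf M (ψ : G ⧸ N → ℂ)]
    refine LI.sum hM fun b _ => ?_
    by_cases hne : ∃ ψ₀ : IrrCharacter (G ⧸ N), blockOf M (ψ₀ : G ⧸ N → ℂ) = b ∧ inflate N ψ₀ ∈ B
    · obtain ⟨ψ₀, rfl, hψ₀⟩ := hne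
      have hall : ∀ ψ ∈ blockOf M (ψ₀ : G ⧸ N → ℂ), inflate N ψ ∈ B := fun ψ hψ => by
        rw [IsPBlock.eq_blockOf hM hB hψ₀]
        exact sameBlock_inflate hM hψ
      have hiff : ∀ ψ : IrrCharacter (G ⧸ N), blockOf M (ψ : G ⧸ N → ℂ)
          = blockOf M (ψ₀ : G ⧸ N → ℂ) ↔ ψ ∈ blockOf M (ψ₀ : G ⧸ N → ℂ) := fun ψ =>
        ⟨fun h => h ▸ SameBlock_refl hM _, fun h => (IsPBlock.eq_blockOf hM
          (isPBlock_blockOf ψ₀) h).symm⟩
      have h1 := hcon _ (isPBlock_blockOf ψ₀) hall
      rw [blockCoeff_eq_fourierInv, fourierInv, Finset.mul_sum] at h1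
      refine (congrArg (MemLocalIdeal M) ?_).mp h1
      rw [Finset.sum_filter]
      refine Finset.sum_congr rfl fun ψ _ => ?_
      by_cases hψ : ψ ∈ blockOf M (ψ₀ : G ⧸ N → ℂ)
      · rw [if_pos ((hiff ψ).2 hψ), blockInd_of_mem hψ, blockInd_of_mem (hall ψ hψ)]
      · rw [if_neg (mt (hiff ψ).1 hψ), blockInd_of_notMem hψ]
        ring
    · rw [Finset.sum_eq_zero fun ψ hψ => ?_]
      · exact LI.zero hM
      · rw [blockInd_of_notMem fun h => hne ⟨ψ, (Finset.mem_filter.1 hψ).2, h⟩]
        ring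
  have hgD : QuotientGroup.mk' N g ∈ Subgroup.centralizer
      ((P.map (QuotientGroup.mk' N) : Subgroup (G ⧸ N)) : Set (G ⧸ N)) := by
    rw [Subgroup.mem_centralizer_iff]
    rintro _ ⟨u, hu, rfl⟩
    rw [← map_mul, ← map_mul, Subgroup.mem_centralizer_iff.1 hgP u hu]
  obtain ⟨D₀, hD₀, hle⟩ := exists_isDefectGroup_ge hM hb
    (IsPGroup.map (isPGroup_defectGroup hP) (QuotientGroup.mk' N)) hgD hcoeff
  obtain ⟨P', hP', hge⟩ := exists_map_ge hM hB hb hsub hD₀
  obtain ⟨y, hy⟩ := exists_conj_eq_defectGroup hM hB hP hP'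
  have hmap : ∀ (z : G) (H : Subgroup G),
      (H.map (MulAut.conj z).toMonoidHom).map (QuotientGroup.mk' N)
        = (H.map (QuotientGroup.mk' N)).map
          (MulAut.conj (QuotientGroup.mk' N z)).toMonoidHom := fun z H => by
    rw [Subgroup.map_map, Subgroup.map_map]
    rfl
  have hD₀P : D₀ = P.map (QuotientGroup.mk' N) := (Subgroup.eq_of_le_of_card_ge hle (le_trans
    (Subgroup.card_le_of_le hge) (by
      rw [hy, hmap, Subgroup.card_map_of_injective (MulAut.conj _).injective]))).symm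
  refine ⟨b, hb, hsub, fun D => ⟨fun hD => ?_, ?_⟩⟩
  · obtain ⟨w, hw⟩ := exists_conj_eq_defectGroup hM hb hD₀ hD
    obtain ⟨w, rfl⟩ := QuotientGroup.mk'_surjective N w
    exact ⟨_, isDefectGroup_conj hP w, by rw [hmap, ← hD₀P]; exact hw⟩
  · rintro ⟨P₁, hP₁, rfl⟩
    obtain ⟨z, rfl⟩ := exists_conj_eq_defectGroup hM hB hP hP₁
    rw [hmap, ← hD₀P]
    exact isDefectGroup_conj hD₀ _

end CfsgLib.Blocks.QuotientDefect
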