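import Cfsg.Agent.Lib.Blocks.GeneralDefectOne
import Cfsg.Agent.Lib.Blocks.QuotientDefect

/-!
# Sections with a block of defect two

When `x` has order `p` and the block `b` of `C(x)` has defect `2`, the block `b` comes from a block
of defect `1` of `C(x) ⧸ ⟨x⟩`. Its integral functionals turn the sections of `x` into cyclotomic
integers whose squares bound the number of characters with nonzero section by `p²`.
-/

set_option autoImplicit false
set_option linter.unusedSectionVars false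

namespace CfsgLib.Blocks.DefectTwo

open Cfsg CfsgLib.Blocks
open scoped Classical ComplexConjugate

variable {p : ℕ} {M : Ideal AlgInt}

/-! ### Class functions vanishing at singular elements -/

section Vanish

variable {H : Type*} [Group H] [Fintype H]

theorem inv_card_mul_sum_LR (hM : IsPModular p M) {f : H → ℂ} (hf : IsClassFunction H f)
    (h : ∀ q : H, MemLocalRing M (f q / (Nat.card (Subgroup.centralizer ({q} : Set H)) : ℂ))) :
    MemLocalRing M ((Nat.card H : ℂ)⁻¹ * ∑ q, f q) := by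
  rw [← Finset.sum_fiberwise Finset.univ (ConjClasses.mk (α := H)), Finset.mul_sum]
  refine LR.sum hM fun C _ => ?_
  have hfib : ∀ q ∈ (Finset.univ : Finset H).filter (fun q => ConjClasses.mk q = C), f q = f C.out := by
    intro q hq
    have h1 : IsConj q C.out := ConjClasses.mk_eq_mk_iff_isConj.1
      ((Finset.mem_filter.1 hq).2.trans (Quotient.out_eq C).symm)
    obtain ⟨w, hw⟩ := isConj_iff.1 h1
    rw [← hw, hf]
  rw [Finset.sum_congr rfl hfib, Finset.sum_const, nsmul_eq_mul]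
  have hcard : ((Finset.univ : Finset H).filter fun q => ConjClasses.mk q = C).card
      = (Subgroup.centralizer ({C.out} : Set H)).index := by
    rw [← CfsgLib.Char.card_isConj_eq_index C.out, Nat.card_eq_fintype_card, Fintype.card_subtype]
    congr 1
    ext q
    simp only [Finset.mem_filter, Finset.mem_univ, true_and]
    rw [← ConjClasses.mk_eq_mk_iff_isConj]
    exact ⟨fun e => e.trans (Quotient.out_eq C).symm, fun e => e.trans (Quotient.out_eq C)⟩
  rw [hcard]
  convert h C.out using 1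
  rw [← Subgroup.card_mul_index (Subgroup.centralizer ({C.out} : Set H)), Nat.cast_mul]
  have h1 : ((Subgroup.centralizer ({C.out} : Set H)).index : ℂ) ≠ 0 :=
    Nat.cast_ne_zero.2 Subgroup.index_ne_zero_of_finite
  have h2 : (Nat.card (Subgroup.centralizer ({C.out} : Set H)) : ℂ) ≠ 0 :=
    Nat.cast_ne_zero.2 Nat.card_pos.ne'
  field_simp

/-- The class function with coordinates `u`. -/
noncomputable def comb (u : IrrCharacter H → ℤ) (q : H) : ℂ :=
  ∑ η : IrrCharacter H, (u η : ℂ) * (η : H → ℂ) q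

theorem comb_conj (u : IrrCharacter H → ℤ) (q w : H) : comb u (w * q * w⁻¹) = comb u q :=
  Finset.sum_congr rfl fun η _ => by rw [irr_conj_apply]

/-- The average of a character over a `p`-subgroup of the centralizer of `q` is integral. -/
theorem isIntegral_average (η : IrrCharacter H) (q : H)
    (P : Subgroup (Subgroup.centralizer ({q} : Set H))) :
    IsIntegral ℤ ((Nat.card P : ℂ)⁻¹ *
      ∑ v : P, (η : H → ℂ) (q * ((v : Subgroup.centralizer ({q} : Set H)) : H))) := by
  let L := Subgroup.centralizer ({q} : Set H)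
  set qL : L := ⟨q, Subgroup.mem_centralizer_singleton_iff.2 rfl⟩
  have hqZ : qL ∈ Subgroup.center L := Subgroup.mem_center_iff.2 fun c =>
    Subtype.ext (Subgroup.mem_centralizer_singleton_iff.1 c.2)
  have hres : ∀ l : L, (η : H → ℂ) l = ∑ ψ : IrrCharacter L, resMult η ψ * (ψ : L → ℂ) l := by
    intro l
    have := congrFun (CfsgLib.Char.IsClassFunction.eq_sum_irr (G := L)
      (ψ := fun k : L => (η : H → ℂ) k) fun a c => irr_conj_apply η (a : H) (c : H)) l
    simpa [Finset.sum_apply, resMult] using this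
  have hterm : ∀ v : P, (η : H → ℂ) (q * ((v : L) : H))
      = ∑ ψ : IrrCharacter L, resMult η ψ * (centScalar ψ qL * (ψ : L → ℂ) (v : L)) := by
    intro v
    rw [show q * ((v : L) : H) = ((qL * (v : L) : L) : H) from rfl, hres]
    refine Finset.sum_congr rfl fun ψ _ => ?_
    rw [← (Subgroup.mem_center_iff.1 hqZ (v : L)), centScalar_mul ψ hqZ]
  rw [Finset.sum_congr rfl fun v _ => hterm v, Finset.sum_comm, Finset.mul_sum]
  refine IsIntegral.sum _ fun ψ _ => ?_
  rw [← Finset.mul_sum, ← Finset.mul_sum]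
  obtain ⟨n, hn⟩ := resMult_nat η ψ
  obtain ⟨k, hk⟩ := CfsgLib.Char.IsCharacter.classInner_nat
    (CfsgLib.Char.IsCharacter.restrict (CfsgLib.Char.isCharacter_irr ψ) P)
    CfsgLib.Char.isCharacter_one
  have hk' : (Nat.card P : ℂ)⁻¹ * ∑ v : P, (ψ : L → ℂ) (v : L) = k := by
    rw [← hk, Cfsg.classInner]; simp; congr!
  rw [hn, show (Nat.card P : ℂ)⁻¹ * ((n : ℂ) * (centScalar ψ qL * ∑ v : P, (ψ : L → ℂ) (v : L)))
    = (n : ℂ) * (centScalar ψ qL * ((Nat.card P : ℂ)⁻¹ * ∑ v : P, (ψ : L → ℂ) (v : L))) by ring, hk']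
  refine (isIntegral_algebraMap (R := ℤ) (A := ℂ) (x := n)).mul (IsIntegral.mul ?_ ?_)
  · exact IsIntegral.of_pow (orderOf_pos qL)
      (centScalar_pow_eq_one ψ hqZ (pow_orderOf_eq_one qL) ▸ isIntegral_one)
  · exact isIntegral_algebraMap (R := ℤ) (A := ℂ) (x := (k : ℤ))

theorem comb_div_centralizer_LR (hM : IsPModular p M) {u : IrrCharacter H → ℤ}
    (hu : ∀ g : H, p ∣ orderOf g → comb u g = 0) (q : H) :
    MemLocalRing M (comb u q / (Nat.card (Subgroup.centralizer ({q} : Set H)) : ℂ)) := by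
  haveI := Fact.mk hM.1
  by_cases hq : p ∣ orderOf q
  · rw [hu q hq, zero_div]; exact LR.zero hM
  set L := Subgroup.centralizer ({q} : Set H)
  obtain ⟨P⟩ : Nonempty (Sylow p L) := inferInstance
  have hone : ∑ v : (P : Subgroup L), comb u (q * ((v : L) : H)) = comb u q := by
    rw [Finset.sum_eq_single (1 : (P : Subgroup L))]
    · simp
    · intro v _ hv
      refine hu _ (by_contra fun hr => hv ?_)
      obtain ⟨k, hk⟩ := IsPGroup.iff_orderOf.1 P.isPGroup' v
      rw [← Subgroup.orderOf_coe, ← Subgroup.orderOf_coe] at hk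
      have hc : Commute ((v : L) : H) q := Subgroup.mem_centralizer_singleton_iff.1 (v : L).2
      have h1 := isPPart_mul hc hk hq
      rw [hc.eq] at h1
      exact Subtype.ext (Subtype.ext (isPPart_unique hM.1 h1 (isPPart_one_of_regular hr)))
    · exact fun h => absurd (Finset.mem_univ _) h
  have hP : Nat.card (P : Subgroup L) = p ^ (Nat.card L).factorization p := P.card_eq_multiplicity
  have h1 : MemLocalRing M ((Nat.card (P : Subgroup L) : ℂ)⁻¹ * comb u q) := by
    rw [← hone]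
    simp only [comb]
    rw [Finset.sum_comm, Finset.mul_sum]
    refine LR.sum hM fun η _ => ?_
    rw [← Finset.mul_sum, mul_left_comm]
    exact LR.mul hM (LR.intCast hM _) (LR.of_isIntegral hM (isIntegral_average η q P))
  have h2 : MemLocalRing M ((Nat.card (P : Subgroup L) : ℂ) / (Nat.card L : ℂ)) :=
    natCast_div_LR hM Nat.card_pos.ne' (dvd_of_eq hP.symm)
  convert LR.mul hM h1 h2 using 1
  have : (Nat.card (P : Subgroup L) : ℂ) ≠ 0 := Nat.cast_ne_zero.2 Nat.card_pos.ne'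
  field_simp

end Vanish

/-! ### The quotient by a central subgroup of order `p` -/

section Quot

variable {K : Type*} [Group K] [Fintype K] {Z : Subgroup K} [Z.Normal]

theorem index_centralizer (hZ : Z ≤ Subgroup.center K) :
    ∃ k : ℕ, (Subgroup.centralizer (Z : Set K)).index = p ^ k := by
  refine ⟨0, ?_⟩
  rw [pow_zero, Subgroup.index_eq_one]
  exact top_le_iff.1 fun g _ => Subgroup.mem_centralizer_iff.2 fun v hv =>
    ((Subgroup.mem_center_iff.1 (hZ hv)) g).symm

/-- The sum over the regular lifts. -/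
noncomputable def pushReg (p : ℕ) (Z : Subgroup K) [Z.Normal] (F : K → ℂ) (q : K ⧸ Z) : ℂ :=
  ∑ s : K with IsPRegular p s ∧ QuotientGroup.mk' Z s = q, F s

theorem pushReg_conj {F : K → ℂ} (hF : ∀ s w : K, F (w * s * w⁻¹) = F s) (q w : K ⧸ Z) :
    pushReg p Z F (w * q * w⁻¹) = pushReg p Z F q := by
  obtain ⟨w, rfl⟩ := QuotientGroup.mk'_surjective Z w
  rw [pushReg, pushReg]
  refine (Finset.sum_equiv (MulAut.conj w).toEquiv (fun s => ?_) fun s _ => (hF s w).symm).symm
  simp only [Finset.mem_filter, Finset.mem_univ, true_and, MulEquiv.toEquiv_eq_coe,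
    EquivLike.coe_coe, MulAut.conj_apply, map_mul, map_inv]
  simp only [IsPRegular]
  rw [show orderOf (w * s * w⁻¹) = orderOf s from (MulAut.conj w).orderOf_eq s]
  exact and_congr_right fun _ => ⟨fun e => by rw [e], fun e => by simpa using e⟩

theorem sum_pushReg_mul [Fintype (K ⧸ Z)] (F : K → ℂ) (g : K ⧸ Z → ℂ) :
    ∑ q, pushReg p Z F q * g q
      = ∑ s : K with IsPRegular p s, F s * g (QuotientGroup.mk' Z s) := by
  rw [← Finset.sum_fiberwise (Finset.univ.filter fun s : K => IsPRegular p s) (QuotientGroup.mk' Z)]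
  refine Finset.sum_congr rfl fun q _ => ?_
  rw [pushReg, Finset.sum_mul, Finset.filter_filter]
  exact Finset.sum_congr rfl fun s hs => by rw [(Finset.mem_filter.1 hs).2.2]

theorem pushReg_mk (hp : p.Prime) (hZp : IsPGroup p Z) (hZ : Z ≤ Subgroup.center K) (F : K → ℂ)
    {s : K} (hs : ¬ p ∣ orderOf s) : pushReg p Z F (QuotientGroup.mk' Z s) = F s := by
  refine Finset.sum_eq_single s (fun t ht hts => absurd ?_ hts) fun h => absurd ?_ h
  · obtain ⟨h1, h2⟩ := (Finset.mem_filter.1 ht).2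
    exact eq_of_regular_of_mk_eq hp hZp (index_centralizer hZ) h1 hs h2
  · exact Finset.mem_filter.2 ⟨Finset.mem_univ _, hs, rfl⟩

theorem sum_regular_mk [Fintype (K ⧸ Z)] (hp : p.Prime) (hZp : IsPGroup p Z)
    (hZ : Z ≤ Subgroup.center K) (g : K ⧸ Z → ℂ) (hg : ∀ q, p ∣ orderOf q → g q = 0) :
    ∑ s : K with IsPRegular p s, g (QuotientGroup.mk' Z s) = ∑ q, g q := by
  rw [← Finset.sum_congr rfl fun s _ => one_mul (g (QuotientGroup.mk' Z s)), ← sum_pushReg_mul]
  refine Finset.sum_congr rfl fun q _ => ?_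
  by_cases hq : p ∣ orderOf q
  · rw [hg q hq, mul_zero]
  · obtain ⟨s, hs, rfl⟩ := exists_regular_lift hp hq
    rw [pushReg_mk hp hZp hZ _ hs, one_mul]

/-- The functional on the restrictions to regular elements. -/
noncomputable def qfun (p : ℕ) (Z : Subgroup K) [Z.Normal] [Fintype (K ⧸ Z)]
    (u : IrrCharacter (K ⧸ Z) → ℤ) (F : K → ℂ) : ℂ :=
  ∑ s : K with IsPRegular p s,
    F s * ((Nat.card (K ⧸ Z) : ℂ)⁻¹ * comb u (QuotientGroup.mk' Z s)⁻¹)

theorem qfun_eq_sum [Fintype (K ⧸ Z)] (u : IrrCharacter (K ⧸ Z) → ℤ) (F : K → ℂ) :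
    qfun p Z u F = ∑ η : IrrCharacter (K ⧸ Z), (u η : ℂ) *
      ((Nat.card (K ⧸ Z) : ℂ)⁻¹ *
        ∑ s : K with IsPRegular p s, F s * (η : K ⧸ Z → ℂ) (QuotientGroup.mk' Z s)⁻¹) := by
  simp only [qfun, comb, Finset.mul_sum]
  rw [Finset.sum_comm]
  exact Finset.sum_congr rfl fun η _ => Finset.sum_congr rfl fun s _ => by ring

theorem card_eq_mul (hZc : Nat.card Z = p) : Nat.card K = Nat.card (K ⧸ Z) * p := by
  rw [← hZc]; exact Subgroup.card_eq_card_quotient_mul_card_subgroup Z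

theorem exists_int_qfun [Fintype (K ⧸ Z)] (hM : IsPModular p M) (hZc : Nat.card Z = p)
    {u : IrrCharacter (K ⧸ Z) → ℤ} (hu : ∀ g : K ⧸ Z, p ∣ orderOf g → comb u g = 0)
    (ψ : IrrCharacter K) : ∃ m : ℤ, qfun p Z u (ψ : K → ℂ) = (m : ℂ) := by
  have hLR : MemLocalRing M (qfun p Z u (ψ : K → ℂ)) := by
    have e : qfun p Z u (ψ : K → ℂ)
        = (Nat.card (K ⧸ Z) : ℂ)⁻¹ * ∑ q, pushReg p Z (ψ : K → ℂ) q * comb u q⁻¹ := by
      rw [sum_pushReg_mul, qfun, Finset.mul_sum]
      exact Finset.sum_congr rfl fun s _ => by ring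
    rw [e]
    refine inv_card_mul_sum_LR hM (fun q w => ?_) fun q => ?_
    · show pushReg p Z (ψ : K → ℂ) (w * q * w⁻¹) * comb u (w * q * w⁻¹)⁻¹ = _
      rw [pushReg_conj (irr_conj_apply ψ), show (w * q * w⁻¹)⁻¹ = w * q⁻¹ * w⁻¹ by
        simp [mul_assoc], comb_conj]
    · rw [mul_div_assoc]
      refine LR.mul hM (LR.sum hM fun s _ => LR.of_isIntegral hM (irr_isIntegral ψ s)) ?_
      rw [← centralizer_singleton_inv q]
      exact comb_div_centralizer_LR hM hu q⁻¹
  set m := (Nat.card K).factorization p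
  set z : ℤ := (p : ℤ) * ∑ η : IrrCharacter (K ⧸ Z), u η * regInt p ψ (inflate Z η)
  have hz : (z : ℂ) = (p : ℂ) ^ m * qfun p Z u (ψ : K → ℂ) := by
    rw [qfun_eq_sum, Finset.mul_sum]
    simp only [z, Finset.mul_sum, Int.cast_sum, Int.cast_mul, Int.cast_natCast, cast_regInt hM.1]
    refine Finset.sum_congr rfl fun η _ => ?_
    have hK : (Nat.card K : ℂ) = (Nat.card (K ⧸ Z) : ℂ) * p := by
      rw [← Nat.cast_mul, ← card_eq_mul hZc]
    rw [regInner, pPartCard, Nat.cast_pow, hK]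
    simp only [inflate_apply, map_inv]
    have h1 : (Nat.card (K ⧸ Z) : ℂ) ≠ 0 := Nat.cast_ne_zero.2 Nat.card_pos.ne'
    have h2 : (p : ℂ) ≠ 0 := Nat.cast_ne_zero.2 hM.1.ne_zero
    rw [show m = (Nat.card K).factorization p from rfl]
    field_simp
    simp only [Finset.mul_sum]
    refine Finset.sum_congr rfl fun i _ => ?_
    field_simp
  obtain ⟨m', hm'⟩ := prime_pow_dvd_of_LR hM m z _ hLR hz
  refine ⟨m', mul_left_cancel₀ (pow_ne_zero m (Nat.cast_ne_zero.2 hM.1.ne_zero : (p : ℂ) ≠ 0)) ?_⟩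
  rw [← hz, hm']
  push_cast
  rfl

theorem inflate_injective : Function.Injective (inflate Z) := fun a c h => by
  refine Subtype.ext (funext fun q => ?_)
  obtain ⟨g, rfl⟩ := QuotientGroup.mk'_surjective Z q
  exact congrFun (congrArg (fun x : IrrCharacter K => (x : K → ℂ)) h) g

theorem exists_scalar_pow (hp : p.Prime) {z : K} (hz : z ∈ Subgroup.center K) (hzp : z ^ p = 1)
    (ψ : IrrCharacter K) :
    ∃ c : ℂ, c ^ p = 1 ∧ ∀ (j : ℕ) (a : K), (ψ : K → ℂ) (a * z ^ j) = c ^ j * (ψ : K → ℂ) a := by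
  obtain ⟨c, hc, -⟩ := CfsgLib.CharDeep.CentralTrick.exists_scalar_center ψ.2 hz
  have hj : ∀ (j : ℕ) (a : K), (ψ : K → ℂ) (a * z ^ j) = c ^ j * (ψ : K → ℂ) a := by
    intro j
    induction j with
    | zero => simp
    | succ j ih => intro a; rw [pow_succ z, ← mul_assoc, hc, ih, pow_succ c]; ring
  refine ⟨c, ?_, hj⟩
  have h := hj p 1
  rw [hzp, mul_one] at h
  exact (mul_eq_right₀ (irr_one_ne_zero ψ)).1 h.symm

/-- The kernel of `b` at regular elements is `p` times that of its image. -/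
theorem blockKernel_eq (hM : IsPModular p M) [Fintype (K ⧸ Z)] {z : K} (hz : z ∈ Subgroup.center K)
    (hord : orderOf z = p) (hZz : Z = Subgroup.zpowers z) {b : Set (IrrCharacter K)}
    (hb : IsPBlock M b) {bb : Set (IrrCharacter (K ⧸ Z))} (hbb : ∀ η, η ∈ bb ↔ inflate Z η ∈ b)
    {s t : K} (hs : ¬ p ∣ orderOf s) (ht : ¬ p ∣ orderOf t) :
    blockKernel b t s = (p : ℂ) * ∑ η : IrrCharacter (K ⧸ Z), blockInd bb η *
      ((η : K ⧸ Z → ℂ) (QuotientGroup.mk' Z t)⁻¹ * (η : K ⧸ Z → ℂ) (QuotientGroup.mk' Z s)) := by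
  haveI := Fact.mk hM.1
  choose c hcp hcj using exists_scalar_pow hM.1 hz
    (orderOf_dvd_iff_pow_eq_one.1 (dvd_of_eq hord))
  have hzp : z ^ p = 1 := orderOf_dvd_iff_pow_eq_one.1 (dvd_of_eq hord)
  have hshift : ∀ j : ℕ, j < p → j ≠ 0 →
      ∑ ψ : IrrCharacter K, blockInd b ψ * ((ψ : K → ℂ) (s * z ^ j) * (ψ : K → ℂ) t⁻¹) = 0 := by
    intro j hj hj0
    have hjz : orderOf (z ^ j) = p := by
      refine orderOf_eq_prime (by rw [← pow_mul, mul_comm, pow_mul, hzp, one_pow]) fun h1 => ?_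
      exact hj0 (Nat.eq_zero_of_dvd_of_lt (hord ▸ orderOf_dvd_of_pow_eq_one h1) hj)
    have hc : Commute (z ^ j) s :=
      ((show Commute s z from Subgroup.mem_center_iff.1 hz s).pow_right j).symm
    have h1 : IsPPart p (s * z ^ j) (z ^ j) := by
      rw [← hc.eq]
      exact isPPart_mul hc (by rw [hjz, pow_one]) hs
    refine sum_block_mul_eq_zero hM hb h1 (isPPart_one_of_regular ht) fun h => ?_
    rw [isConj_one_left] at h
    rw [h, orderOf_one] at hjz
    exact hM.1.one_lt.ne hjz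
  have hsum : blockKernel b t s = ∑ ψ : IrrCharacter K, (∑ j ∈ Finset.range p, c ψ ^ j) *
      (blockInd b ψ * ((ψ : K → ℂ) t⁻¹ * (ψ : K → ℂ) s)) := by
    simp only [Finset.sum_mul]
    rw [Finset.sum_comm, Finset.sum_eq_single 0]
    · simp [blockKernel]
    · intro j hj hj0
      refine Eq.trans ?_ (hshift j (Finset.mem_range.1 hj) hj0)
      refine Finset.sum_congr rfl fun ψ _ => ?_
      rw [hcj]
      ring
    · exact fun h => absurd (Finset.mem_range.2 hM.1.pos) h
  have hgeo : ∀ ψ : IrrCharacter K,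
      ∑ j ∈ Finset.range p, c ψ ^ j = if c ψ = 1 then (p : ℂ) else 0 := by
    intro ψ
    split_ifs with h
    · simp [h]
    · rw [geom_sum_eq h, hcp, sub_self, zero_div]
  simp only [hsum, hgeo, ite_mul, zero_mul]
  rw [← Finset.sum_filter, Finset.mul_sum]
  symm
  refine Finset.sum_bij (fun η _ => inflate Z η) (fun η _ => ?_) (fun a _ a' _ h => inflate_injective h)
    (fun ψ hψ => ?_) fun η _ => ?_
  · refine Finset.mem_filter.2 ⟨Finset.mem_univ _, ?_⟩
    have h1 := hcj (inflate Z η) 1 1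
    rw [pow_one, one_mul, pow_one, inflate_ker η (hZz ▸ Subgroup.mem_zpowers z)] at h1
    exact (mul_eq_right₀ (irr_one_ne_zero _)).1 h1.symm
  · have hc1 : c ψ = 1 := (Finset.mem_filter.1 hψ).2
    have hker : ∀ n ∈ Z, (ψ : K → ℂ) n = (ψ : K → ℂ) 1 := by
      intro n hn
      rw [hZz] at hn
      obtain ⟨i, rfl⟩ :=
        (isOfFinOrder_of_finite z).mem_powers_iff_mem_zpowers.2 hn
      show (ψ : K → ℂ) (z ^ i) = _
      rw [← one_mul (z ^ i), hcj, hc1, one_pow, one_mul]
    obtain ⟨η, hη, he⟩ := CfsgLib.Char.IsIrrCharacter.exists_deflate ψ.2 Z hker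
    exact ⟨⟨η, hη⟩, Finset.mem_univ _, Subtype.ext he.symm⟩
  · rw [inflate_apply, inflate_apply, map_inv]
    by_cases hη : η ∈ bb
    · rw [blockInd_of_mem hη, blockInd_of_mem ((hbb η).1 hη)]
    · rw [blockInd_of_notMem hη, blockInd_of_notMem (mt (hbb η).2 hη), zero_mul]

theorem sum_qfun_kernel (hM : IsPModular p M) [Fintype (K ⧸ Z)] {z : K}
    (hz : z ∈ Subgroup.center K) (hord : orderOf z = p) (hZz : Z = Subgroup.zpowers z)
    {b : Set (IrrCharacter K)} (hb : IsPBlock M b) {bb : Set (IrrCharacter (K ⧸ Z))}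
    (hbb : ∀ η, η ∈ bb ↔ inflate Z η ∈ b) {u : IrrCharacter (K ⧸ Z) → ℤ}
    (hsupp : ∀ η, η ∉ bb → u η = 0) (hu : ∀ g : K ⧸ Z, p ∣ orderOf g → comb u g = 0) :
    ∑ s : K with IsPRegular p s, ∑ t : K with IsPRegular p t,
      ((Nat.card (K ⧸ Z) : ℂ)⁻¹ * comb u (QuotientGroup.mk' Z s)⁻¹) *
      ((Nat.card (K ⧸ Z) : ℂ)⁻¹ * comb u (QuotientGroup.mk' Z t)) * blockKernel b t s
      = (p : ℂ) * ∑ η : IrrCharacter (K ⧸ Z), (u η : ℂ) ^ 2 := by
  haveI := Fact.mk hM.1
  have hZc : Nat.card Z = p := by rw [hZz, Nat.card_zpowers, hord]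
  have hZp : IsPGroup p Z := IsPGroup.of_card (n := 1) (by rw [pow_one, hZc])
  have hZle : Z ≤ Subgroup.center K := hZz ▸ Subgroup.zpowers_le.2 hz
  set h : ℂ := (Nat.card (K ⧸ Z) : ℂ) with hh
  have hh0 : h ≠ 0 := Nat.cast_ne_zero.2 Nat.card_pos.ne'
  have hcoef : ∀ η : IrrCharacter (K ⧸ Z), ∑ q, comb u q * (η : K ⧸ Z → ℂ) q⁻¹ = h * u η := by
    intro η
    have := coeff_eq_of_sum_eq (c := fun η => (u η : ℂ)) (θ := comb u) (fun y => rfl) η
    rw [this, mul_inv_cancel_left₀ hh0]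
  have hA : ∀ η : IrrCharacter (K ⧸ Z), ∑ s : K with IsPRegular p s,
      comb u (QuotientGroup.mk' Z s)⁻¹ * (η : K ⧸ Z → ℂ) (QuotientGroup.mk' Z s) = h * u η := by
    intro η
    rw [sum_regular_mk hM.1 hZp hZle (fun q => comb u q⁻¹ * (η : K ⧸ Z → ℂ) q)
      (fun q hq => by rw [hu q⁻¹ (by rwa [orderOf_inv]), zero_mul]), ← hcoef η]
    exact Fintype.sum_equiv (Equiv.inv _) _ _ fun q => by simp
  have hA' : ∀ η : IrrCharacter (K ⧸ Z), ∑ t : K with IsPRegular p t,
      comb u (QuotientGroup.mk' Z t) * (η : K ⧸ Z → ℂ) (QuotientGroup.mk' Z t)⁻¹ = h * u η := by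
    intro η
    rw [sum_regular_mk hM.1 hZp hZle (fun q => comb u q * (η : K ⧸ Z → ℂ) q⁻¹)
      (fun q hq => by rw [hu q hq, zero_mul]), hcoef η]
  calc _ = ∑ η : IrrCharacter (K ⧸ Z), (p : ℂ) * blockInd bb η * (h⁻¹ * h⁻¹) *
        ((∑ s : K with IsPRegular p s,
          comb u (QuotientGroup.mk' Z s)⁻¹ * (η : K ⧸ Z → ℂ) (QuotientGroup.mk' Z s)) *
        (∑ t : K with IsPRegular p t,
          comb u (QuotientGroup.mk' Z t) * (η : K ⧸ Z → ℂ) (QuotientGroup.mk' Z t)⁻¹)) := by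
        simp only [Finset.sum_mul]
        simp only [Finset.mul_sum]
        conv_rhs => rw [Finset.sum_comm]
        refine Finset.sum_congr rfl fun s hs => ?_
        conv_rhs => rw [Finset.sum_comm]
        refine Finset.sum_congr rfl fun t ht => ?_
        rw [blockKernel_eq hM hz hord hZz hb hbb (Finset.mem_filter.1 hs).2
          (Finset.mem_filter.1 ht).2, Finset.mul_sum, Finset.mul_sum]
        exact Finset.sum_congr rfl fun η _ => by ring
    _ = _ := by
        rw [Finset.mul_sum]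
        refine Finset.sum_congr rfl fun η _ => ?_
        rw [hA, hA']
        by_cases hη : η ∈ bb
        · rw [blockInd_of_mem hη]; field_simp
        · rw [hsupp η hη]; simp

end Quot

/-! ### The section -/

section Main

variable {G : Type*} [Group G] [Fintype G]

/-- At most `p²` characters have a nonzero section in a block of defect `2` of `C(x)`. -/
theorem card_le_of_defect_two (hM : IsPModular p M) {x : G} (hx : orderOf x = p) {K : Subgroup G}
    (hK : K = Subgroup.centralizer ({x} : Set G)) {b : Set (IrrCharacter K)} (hb : IsPBlock M b)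
    (hd : blockDefect p b = 2) (T : Finset (IrrCharacter G))
    (hT : ∀ χ ∈ T, ∃ s : K, ¬ p ∣ orderOf s ∧ secPart x K b χ s ≠ 0) : T.card ≤ p ^ 2 := by
  haveI := Fact.mk hM.1
  let z : K := ⟨x, hK ▸ Subgroup.mem_centralizer_singleton_iff.2 rfl⟩
  have hzc : z ∈ Subgroup.center K := Subgroup.mem_center_iff.2 fun c => Subtype.ext (by
    have := c.2
    simp only [hK] at this
    exact Subgroup.mem_centralizer_singleton_iff.1 this)
  have hzo : orderOf z = p := by rw [← Subgroup.orderOf_coe]; exact hx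
  set Z : Subgroup K := Subgroup.zpowers z with hZz
  haveI hZn : Z.Normal := ⟨fun n hn g => by
    have : n ∈ Subgroup.center K := Subgroup.zpowers_le.2 hzc hn
    rwa [Subgroup.mem_center_iff.1 this g, mul_inv_cancel_right]⟩
  letI : Fintype (K ⧸ Z) := Fintype.ofFinite _
  have hZc : Nat.card Z = p := by rw [Nat.card_zpowers, hzo]
  have hZp : IsPGroup p Z := IsPGroup.of_card (n := 1) (by rw [pow_one, hZc])
  have hZle : Z ≤ Subgroup.center K := Subgroup.zpowers_le.2 hzc
  have hC := index_centralizer (p := p) hZle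
  -- the block of the quotient
  obtain ⟨ψ₀, hψ₀⟩ := exists_inflate_mem_of_pGroup hM hZp hb
  set bb : Set (IrrCharacter (K ⧸ Z)) := blockOf M (ψ₀ : K ⧸ Z → ℂ)
  have hbbB : IsPBlock M bb := isPBlock_blockOf ψ₀
  have hbb : ∀ η, η ∈ bb ↔ inflate Z η ∈ b := fun η => by
    rw [mem_blockOf, sameBlock_inflate_iff hM hZp hC, IsPBlock.mem_iff hM hb hψ₀]
  obtain ⟨b', hb', hsub, hDG⟩ := QuotientDefect.exists_block_map_eq hM hZp hb
  have hb'eq : b' = bb := by
    obtain ⟨η, hη⟩ := IsPBlock.nonempty hM hb'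
    rw [IsPBlock.eq_blockOf hM hb' hη,
      IsPBlock.eq_blockOf hM hbbB ((hbb η).2 (hsub η hη))]
  obtain ⟨D, hD⟩ := exists_isDefectGroup hM hb
  have hDbar : IsDefectGroup p M bb (D.map (QuotientGroup.mk' Z)) :=
    hb'eq ▸ (hDG _).2 ⟨D, hD, rfl⟩
  have hcard : Nat.card (D.map (QuotientGroup.mk' Z)) = p := by
    have hle : Z ≤ D := le_defectGroup_of_normal hM hb hZp hD
    have h1 : (D.map (QuotientGroup.mk' Z)).index = D.index :=
      Subgroup.index_map_eq D (QuotientGroup.mk'_surjective Z) (by rwa [QuotientGroup.ker_mk'])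
    have h2 := Subgroup.card_mul_index (D.map (QuotientGroup.mk' Z))
    have h3 := Subgroup.card_mul_index D
    have hDc : Nat.card D = p ^ 2 := by rw [card_defectGroup hM hb hD, hd]
    rw [h1] at h2
    rw [hDc, card_eq_mul hZc, ← h2] at h3
    have hi : 0 < D.index := Nat.pos_of_ne_zero Subgroup.index_ne_zero_of_finite
    have h4 : p * (p * D.index) = p * (Nat.card (D.map (QuotientGroup.mk' Z)) * D.index) := by
      rw [← mul_assoc, ← sq, h3, mul_comm]
    exact (Nat.eq_of_mul_eq_mul_right hi (Nat.eq_of_mul_eq_mul_left hM.1.pos h4)).symm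
  obtain ⟨y, hy, hy1⟩ : ∃ y ∈ D.map (QuotientGroup.mk' Z), y ≠ 1 := by
    by_contra hcon
    push Not at hcon
    rw [(Subgroup.eq_bot_iff_forall _).2 hcon, Subgroup.card_bot] at hcard
    exact hM.1.one_lt.ne hcard
  have hyo : orderOf y = p := orderOf_eq_prime (by
    rw [← hcard]; exact congrArg Subtype.val (pow_card_eq_one' (x := (⟨y, hy⟩ : D.map _)))) hy1
  have hyD : Subgroup.zpowers y = D.map (QuotientGroup.mk' Z) :=
    Subgroup.eq_of_le_of_card_ge (Subgroup.zpowers_le.2 hy) (by rw [hcard, Nat.card_zpowers, hyo])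
  rw [← hyD] at hDbar
  obtain ⟨I, n, u, hn, hsupp, hvan, hsq, hbig⟩ :=
    GenDefectOne.exists_functionals hM hbbB hyo hDbar
  -- the values
  set L : IrrCharacter G × _ → ℂ := fun a => qfun p Z (u a.2) (secPart x K b a.1) with hLdef
  have hzx : (z : G) = x := rfl
  obtain ⟨ζ, hζ⟩ : ∃ ζ : ℂ, IsPrimitiveRoot ζ p :=
    ⟨_, Complex.isPrimitiveRoot_exp p hM.1.ne_zero⟩
  haveI : NeZero p := ⟨hM.1.ne_zero⟩
  have hmem : ∀ χ, ∀ i ∈ I, L (χ, i) ∈ Algebra.adjoin ℤ ({ζ} : Set ℂ) := by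
    intro χ i hi
    have e : L (χ, i) = ∑ ψ : IrrCharacter K,
        blockInd b ψ * (resMult χ ψ * centScalar ψ z) * qfun p Z (u i) (ψ : K → ℂ) := by
      simp only [hLdef, qfun, secPart_eq_sum_mult hzx hzc, Finset.sum_mul, Finset.mul_sum]
      rw [Finset.sum_comm]
      exact Finset.sum_congr rfl fun ψ _ => Finset.sum_congr rfl fun s _ => by ring
    rw [e]
    refine sum_mem fun ψ _ => mul_mem (mul_mem ?_ (mul_mem ?_ ?_)) ?_
    · by_cases h : ψ ∈ b <;> simp [blockInd, h, one_mem, zero_mem]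
    · obtain ⟨k, hk⟩ := resMult_nat χ ψ; rw [hk]; exact natCast_mem _ k
    · exact mem_adjoin_centScalar ψ hzc hζ (orderOf_dvd_iff_pow_eq_one.1 (dvd_of_eq hzo))
    · obtain ⟨k, hk⟩ := exists_int_qfun hM hZc (hvan i hi) ψ; rw [hk]; exact intCast_mem _ k
  have hconj : ∀ χ i, conj (L (χ, i)) = ∑ t : K with IsPRegular p t,
      secPart x⁻¹ K b χ t⁻¹ *
        ((Nat.card (K ⧸ Z) : ℂ)⁻¹ * comb (u i) (QuotientGroup.mk' Z t)) := by
    intro χ i
    simp only [hLdef, qfun, map_sum, map_mul, map_inv₀, map_natCast]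
    refine Finset.sum_congr rfl fun t _ => ?_
    congr 2
    · rw [secPart_eq_sum_mult hzx hzc, secPart_eq_sum_mult
        (show ((z⁻¹ : K) : G) = x⁻¹ by rw [Subgroup.coe_inv, hzx]) (inv_mem hzc), map_sum]
      refine Finset.sum_congr rfl fun ψ _ => ?_
      obtain ⟨k, hk⟩ := resMult_nat χ ψ
      rw [hk, map_mul, map_mul, map_mul, map_natCast, conj_centScalar, conj_irr]
      by_cases h : ψ ∈ b <;> simp [blockInd, h]
    · simp [comb, map_sum, conj_irr]
  have htotal : ∀ i ∈ I, ∑ χ : IrrCharacter G, L (χ, i) * conj (L (χ, i))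
      = (p : ℂ) * ∑ η, (u i η : ℂ) ^ 2 := by
    intro i hi
    rw [← sum_qfun_kernel hM hzc hzo hZz hb hbb (hsupp i) (hvan i hi)]
    simp only [hconj]
    simp only [hLdef, qfun, Finset.sum_mul_sum]
    rw [Finset.sum_comm]
    refine Finset.sum_congr rfl fun s hs => ?_
    rw [Finset.sum_comm]
    refine Finset.sum_congr rfl fun t ht => ?_
    rw [← sum_secPart_mul hM hK ⟨1, by rw [pow_one, hx]⟩ hb (Finset.mem_filter.1 hs).2
      (Finset.mem_filter.1 ht).2, Finset.mul_sum]
    exact Finset.sum_congr rfl fun χ _ => by ring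
  -- the support
  have hsupport : ∀ χ ∈ T, n ≤ (I.filter fun i => L (χ, i) ≠ 0).card := by
    intro χ hχ
    obtain ⟨s, hs, hne⟩ := hT χ hχ
    set F := secPart x K b χ with hF
    have hFc : ∀ s w : K, F (w * s * w⁻¹) = F s := fun s w => by
      simp only [hF, secPart_eq_sum_mult hzx hzc, irr_conj_apply]
    set w : IrrCharacter (K ⧸ Z) → ℂ := fun η => classInner (pushReg p Z F) (η : K ⧸ Z → ℂ)
    have hw : ∀ η, w η = (Nat.card (K ⧸ Z) : ℂ)⁻¹ *
        ∑ t : K with IsPRegular p t, F t * (η : K ⧸ Z → ℂ) (QuotientGroup.mk' Z t)⁻¹ := fun η => by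
      simp only [w, Cfsg.classInner, conj_irr]
      rw [sum_pushReg_mul F fun q => (η : K ⧸ Z → ℂ) q⁻¹]
    have hw0 : ∀ η, η ∉ bb → w η = 0 := by
      intro η hη
      rw [hw]
      refine mul_eq_zero_of_right _ ?_
      simp only [hF, secPart_eq_sum_mult hzx hzc, Finset.sum_mul]
      rw [Finset.sum_comm]
      refine Finset.sum_eq_zero fun ψ _ => ?_
      by_cases hψ : ψ ∈ b
      · have h1 := IsPBlock.regInner_eq_zero hM hb hψ (mt (hbb η).2 hη)
        rw [regInner, mul_eq_zero] at h1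
        replace h1 := h1.resolve_left (mul_ne_zero (pPartCard_ne_zero hM.1)
          (inv_ne_zero CfsgLib.Char.card_ne_zero))
        simp only [inflate_apply, map_inv] at h1
        simp only [mul_assoc, ← Finset.mul_sum, h1, mul_zero]
      · simp [blockInd_of_notMem hψ]
    have hwsum : ∀ t : K, ¬ p ∣ orderOf t →
        ∑ η, w η * (η : K ⧸ Z → ℂ) (QuotientGroup.mk' Z t) = F t := by
      intro t ht
      conv_rhs => rw [← pushReg_mk hM.1 hZp hZle F ht,
        CfsgLib.Char.IsClassFunction.eq_sum_irr (G := K ⧸ Z) (ψ := pushReg p Z F)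
          fun q v => pushReg_conj hFc q v]
      simp [Finset.sum_apply, w]
    have := hbig w hw0 ⟨QuotientGroup.mk' Z s, regular_mk hs, by rw [hwsum s hs]; exact hne⟩
    refine this.trans (le_of_eq (congrArg Finset.card (Finset.filter_congr fun i _ => ?_)))
    rw [show L (χ, i) = ∑ η, (u i η : ℂ) * w η by
      simp only [hLdef, qfun_eq_sum, hw, hF]]
  -- counting
  set S := ((Finset.univ : Finset (IrrCharacter G)) ×ˢ I).filter fun a => L a ≠ 0
  have hr : ∑ a ∈ S, L a * conj (L a) = (((p * ∑ i ∈ I, ∑ η, u i η ^ 2 : ℤ) : ℚ) : ℂ) := by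
    rw [show ∑ a ∈ S, L a * conj (L a)
        = ∑ a ∈ (Finset.univ : Finset (IrrCharacter G)) ×ˢ I, L a * conj (L a) from
      Finset.sum_filter_of_ne fun a _ ha h0 => ha (by rw [h0, zero_mul]), Finset.sum_product,
      Finset.sum_comm, Finset.sum_congr rfl htotal, ← Finset.mul_sum]
    push_cast
    ring
  have hle := card_le_of_sum_normSq S hM.1.pos hζ.pow_eq_one L (fun a ha => by
    obtain ⟨h1, -⟩ := Finset.mem_filter.1 ha
    exact hmem a.1 a.2 (Finset.mem_product.1 h1).2) (fun a ha => (Finset.mem_filter.1 ha).2) hr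
  have hlow : T.card * n ≤ S.card := by
    calc T.card * n = ∑ _χ ∈ T, n := by rw [Finset.sum_const, smul_eq_mul]
      _ ≤ ∑ χ ∈ T, (I.filter fun i => L (χ, i) ≠ 0).card := Finset.sum_le_sum hsupport
      _ = ((T ×ˢ I).filter fun a => L a ≠ 0).card := by
        simp only [Finset.card_filter, Finset.sum_product]
      _ ≤ S.card := Finset.card_le_card (Finset.filter_subset_filter _
        (Finset.product_subset_product_left (Finset.subset_univ T)))
  have h5 : ((T.card * n : ℕ) : ℤ) ≤ ((p ^ 2 * n : ℕ) : ℤ) := by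
    have h6 : ((S.card : ℕ) : ℤ) ≤ (p * ∑ i ∈ I, ∑ η, u i η ^ 2 : ℤ) := by exact_mod_cast hle
    have h7 : ((T.card * n : ℕ) : ℤ) ≤ (S.card : ℤ) := by exact_mod_cast hlow
    push_cast at h7 ⊢
    nlinarith [mul_le_mul_of_nonneg_left hsq (Int.natCast_nonneg p)]
  exact Nat.le_of_mul_le_mul_right (by exact_mod_cast h5) hn

end Main

end CfsgLib.Blocks.DefectTwo
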