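import Cfsg.Agent.Lib.Blocks.PCentralizer
import Cfsg.Agent.Lib.Blocks.NormalP
import Cfsg.Agent.Lib.Coprime.Action
import Cfsg.Agent.Lib.PGroup.Frattini

/-!
# Blocks of the quotient by the derived subgroup of a normal `p`-subgroup
-/

set_option autoImplicit false

namespace CfsgLib.Blocks

open Cfsg
open scoped Classical ComplexConjugate commutatorElement

variable {G : Type*} [Group G] [Fintype G] {p : ℕ} {M : Ideal AlgInt} {P : Subgroup G} [P.Normal]

/-- The image in the quotient of a block idempotent. -/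
noncomputable def pushCoeff (P : Subgroup G) [P.Normal] (B : Set (IrrCharacter G)) (q : G ⧸ P) : ℂ :=
  ∑ x : G with QuotientGroup.mk' P x = q, blockCoeff B x

theorem pushCoeff_LR (hM : IsPModular p M) {B : Set (IrrCharacter G)} (hB : IsPBlock M B)
    (q : G ⧸ P) : MemLocalRing M (pushCoeff P B q) :=
  LR.sum hM fun x _ => blockCoeff_LR hM hB x

theorem pushCoeff_isClassFunction (B : Set (IrrCharacter G)) :
    IsClassFunction (G ⧸ P) (pushCoeff P B) := by
  intro q w
  obtain ⟨w, rfl⟩ := QuotientGroup.mk'_surjective P w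
  refine (Finset.sum_equiv (MulAut.conj w).toEquiv (fun x => ?_) fun x _ => ?_).symm
  · simp only [Finset.mem_filter, Finset.mem_univ, true_and, MulEquiv.toEquiv_eq_coe,
      EquivLike.coe_coe, MulAut.conj_apply, map_mul, map_inv]
    exact ⟨fun h => by rw [h], fun h => by
      simpa [mul_assoc] using congrArg
        (fun z => (QuotientGroup.mk' P w)⁻¹ * z * QuotientGroup.mk' P w) h⟩
  · exact (blockCoeff_isClassFunction B x w).symm

theorem omega_pushCoeff [Fintype (G ⧸ P)] (B : Set (IrrCharacter G))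
    (χ : IrrCharacter (G ⧸ P)) :
    omega (χ : G ⧸ P → ℂ) (pushCoeff P B) = blockInd B (inflate P χ) := by
  rw [← omega_blockCoeff B (inflate P χ), omega, omega, inflate_apply, map_one]
  congr 1
  simp only [pushCoeff, Finset.sum_mul]
  conv_rhs => rw [← Finset.sum_fiberwise Finset.univ (QuotientGroup.mk' P)]
  refine Finset.sum_congr rfl fun q _ => Finset.sum_congr rfl fun x hx => ?_
  rw [inflate_apply, (Finset.mem_filter.1 hx).2]

theorem sameBlock_inflate (hM : IsPModular p M) {χ ψ : IrrCharacter (G ⧸ P)}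
    (h : SameBlock M (χ : G ⧸ P → ℂ) (ψ : G ⧸ P → ℂ)) :
    SameBlock M (inflate P χ : G → ℂ) (inflate P ψ : G → ℂ) := by
  letI : Fintype (G ⧸ P) := Fintype.ofFinite _
  set B := blockOf M (inflate P χ : G → ℂ)
  have h1 := omega_congr hM h (pushCoeff_isClassFunction B)
    (pushCoeff_LR hM (isPBlock_blockOf (inflate P χ)))
  rw [omega_pushCoeff, omega_pushCoeff,
    blockInd_of_mem (show inflate P χ ∈ B from SameBlock_refl hM _)] at h1
  by_contra hne
  rw [blockInd_of_notMem (show inflate P ψ ∉ B from fun h' => hne (mem_blockOf.1 h')), sub_zero]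
    at h1
  exact LI.not_one hM h1

/-- Every block holds an inflated character when `P` is a `p`-group. -/
theorem exists_inflate_mem_of_pGroup (hM : IsPModular p M) (hP : IsPGroup p P)
    {B : Set (IrrCharacter G)} (hB : IsPBlock M B) :
    ∃ ψ : IrrCharacter (G ⧸ P), inflate P ψ ∈ B := by
  letI : Fintype (G ⧸ P) := Fintype.ofFinite _
  haveI := Fact.mk hM.1
  by_contra hcon
  push Not at hcon
  have h0 : pushCoeff P B 1 = 0 := by
    rw [← congrFun (fourierInv_omega (pushCoeff_isClassFunction (P := P) B)) 1]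
    simp only [fourierInv, omega_pushCoeff, blockInd_of_notMem (hcon _), zero_mul,
      Finset.sum_const_zero, mul_zero]
  refine blockCoeff_one_ne_zero hM hB ?_
  rw [pushCoeff, Finset.sum_eq_single 1] at h0
  · exact h0
  · intro x hx hx1
    have hxP : x ∈ P := (QuotientGroup.eq_one_iff x).1 (Finset.mem_filter.1 hx).2
    obtain ⟨k, hk⟩ := IsPGroup.iff_orderOf.1 hP ⟨x, hxP⟩
    rw [Subgroup.orderOf_mk] at hk
    refine IsPBlock.blockCoeff_eq_zero hM hB ?_
    rw [hk]
    refine dvd_pow_self p fun hk0 => hx1 ?_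
    rw [hk0, pow_zero] at hk
    exact orderOf_eq_one_iff.1 hk
  · simp

variable {D : Subgroup G} [D.Normal]

theorem centralChar_inflate_of_centralizes (hp : p.Prime) (hP : IsPGroup p P) (hPD : P ≤ D)
    (ψ : IrrCharacter (G ⧸ P)) {s : G} (hs : ¬ p ∣ orderOf s)
    (hsD : s ∈ Subgroup.centralizer (D : Set G)) :
    centralChar (inflate P ψ : G → ℂ) s
      = centralChar (ψ : G ⧸ P → ℂ) (QuotientGroup.mk' P s) := by
  letI : Fintype (G ⧸ P) := Fintype.ofFinite _
  haveI := Fact.mk hp
  have hconj : ∀ {a b : G}, IsConj a b → ¬ p ∣ orderOf a → ¬ p ∣ orderOf b := fun {a b} h ha => by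
    obtain ⟨w, rfl⟩ := isConj_iff.1 h
    rwa [show orderOf (w * a * w⁻¹) = orderOf a from (MulAut.conj w).orderOf_eq a]
  rw [← omega_classInd, ← omega_classInd, omega, omega, inflate_apply, map_one]
  congr 1
  simp only [classInd, ite_mul, one_mul, zero_mul]
  rw [← Finset.sum_filter, ← Finset.sum_filter]
  refine Finset.sum_nbij (QuotientGroup.mk' P) (fun x hx => ?_) (fun x hx y hy he => ?_)
    (fun q hq => ?_) (fun x _ => rfl)
  · simp only [Finset.mem_filter, Finset.mem_univ, true_and] at hx ⊢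
    exact MonoidHom.map_isConj (QuotientGroup.mk' P) hx
  · simp only [Finset.coe_filter, Finset.mem_univ, true_and, Set.mem_setOf_eq] at hx hy
    have hxC : x ∈ Subgroup.centralizer (D : Set G) := by
      obtain ⟨w, rfl⟩ := isConj_iff.1 hx
      exact Subgroup.Normal.conj_mem inferInstance _ hsD w
    have hu : y * x⁻¹ ∈ P := (QuotientGroup.eq_one_iff (N := P) _).1
      (show QuotientGroup.mk' P (y * x⁻¹) = 1 by rw [map_mul, map_inv, he, mul_inv_cancel])
    obtain ⟨k, hk⟩ := IsPGroup.iff_orderOf.1 hP ⟨_, hu⟩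
    rw [Subgroup.orderOf_mk] at hk
    have h1 := isPPart_mul (Subgroup.mem_centralizer_iff.1 hxC _ (hPD hu)) hk (hconj hx hs)
    rw [inv_mul_cancel_right] at h1
    exact (mul_inv_eq_one.1 (isPPart_unique hp h1 (isPPart_one_of_regular (hconj hy hs)))).symm
  · simp only [Finset.coe_filter, Finset.mem_univ, true_and, Set.mem_setOf_eq, Set.mem_image] at hq ⊢
    obtain ⟨w, rfl⟩ := isConj_iff.1 hq
    obtain ⟨w, rfl⟩ := QuotientGroup.mk'_surjective P w
    exact ⟨w * s * w⁻¹, isConj_iff.2 ⟨w, rfl⟩, by simp⟩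

theorem sameBlock_inflate_iff_of_lift (hM : IsPModular p M) (hP : IsPGroup p P) (hPD : P ≤ D)
    (hD : IsPGroup p D)
    (hlift : ∀ s : G, ¬ p ∣ orderOf s → QuotientGroup.mk' P s
      ∈ Subgroup.centralizer ((D.map (QuotientGroup.mk' P) : Subgroup (G ⧸ P)) : Set (G ⧸ P)) →
      s ∈ Subgroup.centralizer (D : Set G))
    (χ ψ : IrrCharacter (G ⧸ P)) :
    SameBlock M (χ : G ⧸ P → ℂ) (ψ : G ⧸ P → ℂ)
      ↔ SameBlock M (inflate P χ : G → ℂ) (inflate P ψ : G → ℂ) := by
  letI : Fintype (G ⧸ P) := Fintype.ofFinite _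
  haveI : (D.map (QuotientGroup.mk' P)).Normal :=
    Subgroup.Normal.map inferInstance _ (QuotientGroup.mk'_surjective P)
  refine ⟨sameBlock_inflate hM, fun h => ?_⟩
  set B := blockOf M (χ : G ⧸ P → ℂ)
  have hB : IsPBlock M B := isPBlock_blockOf χ
  by_contra hne
  have key : MemLocalIdeal M (blockInd B χ - blockInd B ψ) := by
    rw [← sum_blockCoeff_centralChar B χ, ← sum_blockCoeff_centralChar B ψ,
      ← Finset.sum_sub_distrib]
    refine LI.sum hM fun C _ => ?_
    rw [← mul_sub]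
    by_cases hC : p ∣ orderOf C.out
    · rw [IsPBlock.blockCoeff_eq_zero hM hB hC, zero_mul]
      exact LI.zero hM
    by_cases hc : C.out ∈ Subgroup.centralizer
        ((D.map (QuotientGroup.mk' P) : Subgroup (G ⧸ P)) : Set (G ⧸ P))
    · obtain ⟨s, hs, hsq⟩ := exists_regular_lift hM.1 hC
      rw [← hsq] at hc
      have hsD := hlift s hs hc
      rw [← hsq, ← centralChar_inflate_of_centralizes hM.1 hP hPD χ hs hsD,
        ← centralChar_inflate_of_centralizes hM.1 hP hPD ψ hs hsD]
      exact LI.mul_left hM (blockCoeff_LR hM hB _) (h s)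
    · rw [blockCoeff_eq_zero_of_notMem_centralizer hM (IsPGroup.map hD (QuotientGroup.mk' P)) hB hc,
        zero_mul]
      exact LI.zero hM
  rw [blockInd_of_mem (show χ ∈ B from SameBlock_refl hM _),
    blockInd_of_notMem (show ψ ∉ B from fun h' => hne (mem_blockOf.1 h')), sub_zero] at key
  exact LI.not_one hM key

theorem lift_derived [Fact p.Prime] (hD : IsPGroup p D) {s : G} (hs : ¬ p ∣ orderOf s)
    (hc : QuotientGroup.mk' ⁅D, D⁆ s ∈ Subgroup.centralizer
      ((D.map (QuotientGroup.mk' ⁅D, D⁆) : Subgroup (G ⧸ ⁅D, D⁆)) : Set (G ⧸ ⁅D, D⁆))) :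
    s ∈ Subgroup.centralizer (D : Set G) := by
  have hΦ : ⁅D, D⁆ ≤ (frattini D).map D.subtype := by
    refine Subgroup.commutator_le.2 fun x hx y hy => ?_
    exact ⟨⁅(⟨x, hx⟩ : D), ⟨y, hy⟩⁆,
      CfsgLib.PGroup.Frattini.commutatorElement_mem_frattini hD _ _, rfl⟩
  refine (CfsgLib.Coprime.le_centralizer_of_frattini (A := Subgroup.zpowers s) (K := D)
    (by rw [Subgroup.normalizer_eq_top]; exact le_top) ?_ ?_) (Subgroup.mem_zpowers s)
  · obtain ⟨j, hj⟩ := IsPGroup.iff_card.1 (hD.to_subgroup (frattini D))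
    rw [Nat.card_zpowers, hj]
    exact (((Nat.Prime.coprime_iff_not_dvd Fact.out).2 hs).symm.pow_right j)
  · intro c hc' d hd
    obtain ⟨i, rfl⟩ := hc'
    refine hΦ ((QuotientGroup.eq_one_iff _).1 ?_)
    rw [← QuotientGroup.mk'_apply, map_commutatorElement, commutatorElement_eq_one_iff_mul_comm]
    have h1 := Subgroup.zpow_mem _ hc i
    rw [← map_zpow] at h1
    exact (Subgroup.mem_centralizer_iff.1 h1 _ ⟨d, hd, rfl⟩).symm

end CfsgLib.Blocks
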