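import Cfsg.Agent.Lib.BrauerSuzuki.Order16

/-!
# The configuration of the exceptional vectors of a dihedral Sylow 2-subgroup

Vectors `e j` of square sum 2 and one vector `f` of square sum 3, pairwise with inner product 1,
each of weighted sum `-1`.
-/

set_option autoImplicit false

namespace CfsgLib.Blocks.DihedralConfig

open scoped Classical

variable {ι : Type*} [Fintype ι]

theorem sum_two {F : ι → ℤ} (s : Finset ι) {c d : ι} (hcd : c ≠ d) (hc : c ∈ s) (hd : d ∈ s)
    (h : ∀ x ∈ s, x ≠ c → x ≠ d → F x = 0) : ∑ x ∈ s, F x = F c + F d :=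
  Finset.sum_eq_add_of_mem c d hc hd hcd fun x hx hne => h x hx hne.1 hne.2

/-- A short vector against the long one. -/
theorem short_vector {e f w : ι → ℤ} (he : ∑ x, e x * e x = 2) (hf : ∑ x, f x * f x = 3)
    (hef : ∑ x, e x * f x = 1) (hw : ∀ x, 0 < w x) (hedeg : ∑ x, e x * w x = -1) :
    ∃ c d : ι, c ≠ d ∧ (f c = 1 ∨ f c = -1) ∧ e c = f c ∧ e d = -f c ∧ f d = 0 ∧
      (∀ x, x ≠ c → x ≠ d → e x = 0) ∧ f c * (w c - w d) = -1 := by
  obtain ⟨heu, hec⟩ := CfsgLib.BrauerSuzuki.unit_coeff Finset.univ e 2 (by norm_num) he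
  obtain ⟨hfu, -⟩ := CfsgLib.BrauerSuzuki.unit_coeff Finset.univ f 3 le_rfl hf
  obtain ⟨u, v, huv, hS⟩ := Finset.card_eq_two.1 hec
  have hz : ∀ x, x ≠ u → x ≠ v → e x = 0 := fun x h1 h2 => by
    by_contra h
    have : x ∈ ({u, v} : Finset ι) := hS ▸ Finset.mem_filter.2 ⟨Finset.mem_univ _, h⟩
    simp [h1, h2] at this
  have hu0 : e u ≠ 0 := (Finset.mem_filter.1 (hS ▸ Finset.mem_insert_self u _ :
    u ∈ Finset.univ.filter fun i => e i ≠ 0)).2
  have hv0 : e v ≠ 0 := (Finset.mem_filter.1 (hS ▸ Finset.mem_insert_of_mem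
    (Finset.mem_singleton_self v) : v ∈ Finset.univ.filter fun i => e i ≠ 0)).2
  have hsum : e u * f u + e v * f v = 1 := by
    rw [← sum_two (F := fun x => e x * f x) Finset.univ huv (Finset.mem_univ _) (Finset.mem_univ _)
      (fun x _ h1 h2 => by rw [hz x h1 h2, zero_mul]), hef]
  have hdeg : e u * w u + e v * w v = -1 := by
    rw [← sum_two (F := fun x => e x * w x) Finset.univ huv (Finset.mem_univ _) (Finset.mem_univ _)
      (fun x _ h1 h2 => by rw [hz x h1 h2, zero_mul]), hedeg]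
  have hwu := hw u
  have hwv := hw v
  have hfu' : f u = 0 ∨ f u = 1 ∨ f u = -1 := by
    by_cases h : f u = 0
    · exact Or.inl h
    · exact Or.inr (hfu u (Finset.mem_univ _) h)
  have hfv' : f v = 0 ∨ f v = 1 ∨ f v = -1 := by
    by_cases h : f v = 0
    · exact Or.inl h
    · exact Or.inr (hfu v (Finset.mem_univ _) h)
  have heu' := heu u (Finset.mem_univ _) hu0
  have hev' := heu v (Finset.mem_univ _) hv0
  have hopp : e v = -e u := by
    rcases heu' with a | a <;> rcases hev' with b | b <;> rw [a, b] at hdeg ⊢ <;> omega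
  have hdeg' : e u * (w u - w v) = -1 := by rw [hopp] at hdeg; linarith
  by_cases hfv0 : f v = 0
  · have h1 : e u * f u = 1 := by rw [hfv0, mul_zero, add_zero] at hsum; exact hsum
    have e1 : e u = f u := by
      rcases Int.eq_one_or_neg_one_of_mul_eq_one' h1 with ⟨a, b⟩ | ⟨a, b⟩ <;> omega
    refine ⟨u, v, huv, ?_, e1, by rw [hopp, e1], hfv0, hz, by rw [← e1]; exact hdeg'⟩
    rcases heu' with a | a <;> omega
  · have hfu0 : f u = 0 := by
      rcases hfu' with a | a | a
      · exact a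
      all_goals
        exfalso
        rcases heu' with b | b <;> rcases hev' with c | c <;> rcases hfv' with e' | e' | e' <;>
          first | exact hfv0 e' | (rw [a, b, c, e'] at hsum; omega)
    have h1 : e v * f v = 1 := by rw [hfu0, mul_zero, zero_add] at hsum; exact hsum
    have e1 : e v = f v := by
      rcases Int.eq_one_or_neg_one_of_mul_eq_one' h1 with ⟨a, b⟩ | ⟨a, b⟩ <;> omega
    refine ⟨v, u, huv.symm, ?_, e1, by omega, hfu0, fun x h2 h3 => hz x h3 h2, ?_⟩
    · rcases hev' with a | a <;> omega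
    · rw [← e1, hopp]; linarith

/-- The configuration. -/
theorem exists_config {N : ℕ} (hN1 : 1 ≤ N) (hN2 : N ≠ 2) (e : Fin N → ι → ℤ) (f w : ι → ℤ)
    (hw : ∀ x, 0 < w x) (he : ∀ i j, ∑ x, e i x * e j x = if i = j then 2 else 1)
    (hf : ∑ x, f x * f x = 3) (hef : ∀ i, ∑ x, e i x * f x = 1)
    (hedeg : ∀ i, ∑ x, e i x * w x = -1) (hfdeg : ∑ x, f x * w x = -1) :
    ∃ (c a b : ι) (d : Fin N → ι) (δ δa δb : ℤ), (δ = 1 ∨ δ = -1) ∧ (δa = 1 ∨ δa = -1) ∧
      (δb = 1 ∨ δb = -1) ∧ a ≠ c ∧ b ≠ c ∧ a ≠ b ∧ Function.Injective d ∧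
      (∀ j, d j ≠ c ∧ d j ≠ a ∧ d j ≠ b) ∧
      (∀ x, f x = if x = c then δ else if x = a then δa else if x = b then δb else 0) ∧
      ∀ j x, e j x = if x = c then δ else if x = d j then -δ else 0 := by
  choose C D hCD hfC heC heD hfD hz hdeg using fun j =>
    short_vector (e := e j) (f := f) (w := w) (by rw [he j j, if_pos rfl]) hf (hef j) hw (hedeg j)
  have hfC0 : ∀ j, f (C j) ≠ 0 := fun j => by rcases hfC j with a | a <;> omega
  have hne : ∀ i j, C i ≠ D j := fun i j h => hfC0 i (by rw [h, hfD j])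
  have hpair : ∀ i j, i ≠ j → (C i = C j ∧ D i ≠ D j) ∨ (C i ≠ C j ∧ D i = D j ∧ f (C i) = f (C j)) := by
    intro i j hij
    have h1 : e i (C i) * e j (C i) + e i (D i) * e j (D i) = 1 := by
      rw [← sum_two (F := fun x => e i x * e j x) Finset.univ (hCD i) (Finset.mem_univ _)
        (Finset.mem_univ _) (fun x _ h1 h2 => by rw [hz i x h1 h2, zero_mul]), he i j, if_neg hij]
    rw [heC i, heD i] at h1
    by_cases hC : C i = C j
    · refine Or.inl ⟨hC, fun hD => ?_⟩
      rw [hC, hD, heC j, heD j] at h1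
      rcases hfC j with a | a <;> rw [a] at h1 <;> omega
    · rw [hz j (C i) hC (hne i j), mul_zero, zero_add] at h1
      by_cases hD : D i = D j
      · refine Or.inr ⟨hC, hD, ?_⟩
        rw [hD, heD j] at h1
        rcases hfC i with a | a <;> rcases hfC j with b | b <;> rw [a, b] at h1 ⊢ <;> omega
      · rw [hz j (D i) (fun h => hne j i h.symm) hD, mul_zero] at h1
        omega
  obtain ⟨hfu, hfc⟩ := CfsgLib.BrauerSuzuki.unit_coeff Finset.univ f 3 le_rfl hf
  set Sf := Finset.univ.filter fun x => f x ≠ 0 with hSf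
  have hCmem : ∀ j, C j ∈ Sf := fun j => Finset.mem_filter.2 ⟨Finset.mem_univ _, hfC0 j⟩
  let j₀ : Fin N := ⟨0, hN1⟩
  have hall : ∀ j, C j = C j₀ := by
    by_contra hcon
    push Not at hcon
    obtain ⟨i, hi⟩ := hcon
    have hij : i ≠ j₀ := fun h => hi (by rw [h])
    have hD0 : D i = D j₀ := by
      rcases hpair i j₀ hij with ⟨h, -⟩ | ⟨-, h, -⟩
      · exact absurd h hi
      · exact h
    have hDall : ∀ m, D m = D j₀ := by
      intro m
      by_cases h0 : m = j₀
      · rw [h0]
      by_cases h1 : m = i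
      · rw [h1, hD0]
      rcases hpair m j₀ h0 with ⟨hc, hd⟩ | ⟨-, hd, -⟩
      · rcases hpair m i h1 with ⟨hc', -⟩ | ⟨-, hd', -⟩
        · exact absurd (hc'.symm.trans hc) hi
        · exact absurd (hd'.trans hD0) hd
      · exact hd
    have hinj : Function.Injective C := fun m m' hm => by
      by_contra h
      rcases hpair m m' h with ⟨-, hd⟩ | ⟨hc, -, -⟩
      · exact hd ((hDall m).trans (hDall m').symm)
      · exact hc hm
    have hsub : Finset.univ.image C ⊆ Sf := fun x hx => by
      obtain ⟨j, -, rfl⟩ := Finset.mem_image.1 hx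
      exact hCmem j
    have hcard : (Finset.univ.image C).card = N := by
      rw [Finset.card_image_of_injective _ hinj, Finset.card_univ, Fintype.card_fin]
    have hN3 : N = 3 := by
      have h3 := Finset.card_le_card hsub
      have h4 : 1 < N := by
        by_contra h
        exact hij (Fin.ext (by have := i.2; show (i : ℕ) = 0; omega))
      rw [hcard, hfc] at h3
      omega
    have heq : Finset.univ.image C = Sf := Finset.eq_of_subset_of_card_le hsub (by rw [hcard, hfc, hN3])
    have hf3 : ∀ m, f (C m) * w (C m) = f (C j₀) * w (C j₀) := by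
      intro m
      by_cases h0 : m = j₀
      · rw [h0]
      have hd := hDall m
      have e1 := hdeg m
      have e2 := hdeg j₀
      have e3 : f (C m) = f (C j₀) := by
        rcases hpair m j₀ h0 with ⟨-, h⟩ | ⟨-, -, h⟩
        · exact absurd hd h
        · exact h
      rw [hd, e3] at e1
      rw [e3]
      linarith
    have hsum : ∑ x, f x * w x = ((N : ℕ) : ℤ) * (f (C j₀) * w (C j₀)) := by
      rw [← Finset.sum_filter_of_ne (p := fun x => f x ≠ 0) (fun x _ h => left_ne_zero_of_mul h),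
        ← hSf, ← heq, Finset.sum_image fun _ _ _ _ h => hinj h, Finset.sum_congr rfl fun m _ => hf3 m,
        Finset.sum_const, Finset.card_univ, Fintype.card_fin, nsmul_eq_mul]
    rw [hfdeg, hN3] at hsum
    push_cast at hsum
    omega
  have hCe : (Sf.erase (C j₀)).card = 2 := by
    rw [Finset.card_erase_of_mem (hCmem j₀), hfc]
  obtain ⟨a, b, hab, hS⟩ := Finset.card_eq_two.1 hCe
  have ha : a ∈ Sf.erase (C j₀) := hS ▸ Finset.mem_insert_self a _
  have hb : b ∈ Sf.erase (C j₀) := hS ▸ Finset.mem_insert_of_mem (Finset.mem_singleton_self b)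
  have ha' := Finset.mem_erase.1 ha
  have hb' := Finset.mem_erase.1 hb
  have hfa := (Finset.mem_filter.1 ha'.2).2
  have hfb := (Finset.mem_filter.1 hb'.2).2
  refine ⟨C j₀, a, b, D, f (C j₀), f a, f b, hfC j₀, hfu a (Finset.mem_univ _) hfa,
    hfu b (Finset.mem_univ _) hfb, ha'.1, hb'.1, hab, fun i j h => ?_, fun j => ⟨?_, ?_, ?_⟩, fun x => ?_,
    fun j x => ?_⟩
  · by_contra hij
    rcases hpair i j hij with ⟨-, hd⟩ | ⟨hc, -, -⟩
    · exact hd h
    · exact hc ((hall i).trans (hall j).symm)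
  · exact fun h => hne j₀ j h.symm
  · exact fun h => hfa (h ▸ hfD j)
  · exact fun h => hfb (h ▸ hfD j)
  · split_ifs with h1 h2 h3
    · rw [h1]
    · rw [h2]
    · rw [h3]
    · by_contra h
      have : x ∈ Sf.erase (C j₀) := Finset.mem_erase.2 ⟨h1, Finset.mem_filter.2 ⟨Finset.mem_univ _, h⟩⟩
      rw [hS] at this
      simp [h2, h3] at this
  · split_ifs with h1 h2
    · rw [h1, ← hall j, heC j]
    · rw [h2, heD j, hall j]
    · exact hz j x (by rwa [hall j]) h2

end CfsgLib.Blocks.DihedralConfig
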