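import Cfsg.Agent.Lib.Blocks.DihedralRotations
import Cfsg.Agent.Lib.CharDeep.GenChar
import Cfsg.Agent.Lib.Char.Virtual
import Cfsg.Agent.Lib.BrauerSuzuki.PrincipalSection

/-!
# The order formula of a group with a dihedral Sylow 2-subgroup and one class of involutions
-/

set_option autoImplicit false
set_option maxHeartbeats 1600000

namespace CfsgLib.Blocks.DihedralOrder

open Cfsg CfsgLib.Blocks CfsgLib.Involution.DihedralSylow CfsgLib.Char
open scoped Classical ComplexConjugate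

variable {G : Type*} [Group G] [Fintype G] {S : Sylow 2 G} {σ τ : G} {k : ℕ}
variable {π : cJ σ k →* (S : Subgroup G)}

/-- One minus the character of the rotation part. -/
noncomputable def phi (h : Gen (S : Subgroup G) σ τ k) (π : cJ σ k →* (S : Subgroup G)) :
    rotPart π → ℂ := fun g => 1 - (rho h π g : ℂ)

/-- The induced generalized character. -/
noncomputable def theta (h : Gen (S : Subgroup G) σ τ k) (π : cJ σ k →* (S : Subgroup G)) :
    G → ℂ := indFun (rotPart π) (phi h π)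

theorem sum_ite_mem (K : Subgroup G) (a : ℂ) :
    ∑ x : G, (if x ∈ K then a else 0) = (Nat.card K : ℂ) * a := by
  rw [← Finset.sum_filter, Finset.sum_const, nsmul_eq_mul, Nat.card_eq_fintype_card,
    Fintype.card_subtype]

theorem conj_rho (h : Gen (S : Subgroup G) σ τ k) (g : rotPart π) :
    conj ((rho h π g : ℂˣ) : ℂ) = (((rho h π g)⁻¹ : ℂˣ) : ℂ) := by
  rw [Units.val_inv_eq_inv_val, Complex.inv_eq_conj]
  refine Complex.norm_eq_one_of_pow_eq_one (n := orderOf g) ?_ (orderOf_pos g).ne'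
  rw [← Units.val_pow_eq_pow_val, ← map_pow, pow_orderOf_eq_one, map_one, Units.val_one]

theorem sigma_mem (h : Gen (S : Subgroup G) σ τ k) : σ ∈ cJ σ k :=
  Subgroup.mem_centralizer_singleton_iff.2 (z_comm h σ h.amem).eq.symm

theorem pi_sigma_zpow (h : Gen (S : Subgroup G) σ τ k)
    (hπ : ∀ (u : (S : Subgroup G)) (hu : (u : G) ∈ cJ σ k), π ⟨u, hu⟩ = u) (i : ℤ)
    (hi : σ ^ i ∈ cJ σ k) : ((π ⟨σ ^ i, hi⟩ : (S : Subgroup G)) : G) = σ ^ i :=
  congrArg Subtype.val (hπ ⟨σ ^ i, Subgroup.zpow_mem _ h.amem i⟩ hi)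

theorem zpow_mem_rotPart (h : Gen (S : Subgroup G) σ τ k)
    (hπ : ∀ (u : (S : Subgroup G)) (hu : (u : G) ∈ cJ σ k), π ⟨u, hu⟩ = u) (i : ℤ) :
    σ ^ i ∈ rotPart π :=
  (mem_rotPart ((cJ σ k).zpow_mem (sigma_mem h) i)).2
    (by rw [pi_sigma_zpow h hπ i]; exact Subgroup.zpow_mem _ (Subgroup.mem_zpowers σ) i)

theorem rho_zpow (h : Gen (S : Subgroup G) σ τ k)
    (hπ : ∀ (u : (S : Subgroup G)) (hu : (u : G) ∈ cJ σ k), π ⟨u, hu⟩ = u) (i : ℤ) :
    rho h π ⟨σ ^ i, zpow_mem_rotPart h hπ i⟩ = zeta k ^ i :=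
  rho_eq h _ i (pi_sigma_zpow h hπ i _)

theorem sum_rho (h : Gen (S : Subgroup G) σ τ k)
    (hπ : ∀ (u : (S : Subgroup G)) (hu : (u : G) ∈ cJ σ k), π ⟨u, hu⟩ = u) (hk : 1 ≤ k) :
    ∑ g : rotPart π, (rho h π g : ℂ) = 0 ∧ ∑ g : rotPart π, (rho h π g : ℂ) ^ 2 = 0 := by
  have hne : ∀ d : ℕ, 1 ≤ d → d ≤ 2 → ((zeta k : ℂˣ) ^ d : ℂˣ) ≠ 1 := fun d hd1 hd2 =>
    (zeta_prim k).pow_ne_one_of_pos_of_lt (by omega) (lt_of_le_of_lt hd2
      (lt_of_lt_of_le (by norm_num : 2 < 4)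
        (le_trans (by norm_num : 4 ≤ 2 ^ 2) (Nat.pow_le_pow_right (by norm_num) (by omega)))))
  have hσ : rho h π ⟨σ ^ (1 : ℤ), zpow_mem_rotPart h hπ 1⟩ = zeta k := by
    rw [rho_zpow h hπ, zpow_one]
  refine ⟨sum_hom_units_eq_zero ((Units.coeHom ℂ).comp (rho h π)) fun e => ?_, ?_⟩
  · have := DFunLike.congr_fun e ⟨σ ^ (1 : ℤ), zpow_mem_rotPart h hπ 1⟩
    rw [MonoidHom.comp_apply, hσ] at this
    exact hne 1 le_rfl (by norm_num) (by rw [pow_one]; exact Units.ext this)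
  · have e : ((Units.coeHom ℂ).comp (rho h π * rho h π)) ≠ 1 := fun e => by
      have := DFunLike.congr_fun e ⟨σ ^ (1 : ℤ), zpow_mem_rotPart h hπ 1⟩
      rw [MonoidHom.comp_apply, MonoidHom.mul_apply, hσ] at this
      exact hne 2 (by norm_num) le_rfl (by rw [pow_two]; exact Units.ext this)
    rw [← sum_hom_units_eq_zero _ e]
    exact Finset.sum_congr rfl fun g _ => by simp [pow_two]

/-- The restriction of the induced character to the rotation part. -/
theorem theta_apply (h : Gen (S : Subgroup G) σ τ k)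
    (hπ : ∀ (u : (S : Subgroup G)) (hu : (u : G) ∈ cJ σ k), π ⟨u, hu⟩ = u)
    (hodd : ¬ 2 ∣ Nat.card π.ker) (g : rotPart π) :
    theta h π (g : G) = phi h π g + conj (phi h π g) := by
  have key : ∀ x : G, extendByZero (rotPart π) (phi h π) (x⁻¹ * (g : G) * x)
      = (if x ∈ cJ σ k then conj (phi h π g) else 0)
        + (if x ∈ rotPart π then phi h π g - conj (phi h π g) else 0) := by
    intro x
    by_cases hxC : x ∈ cJ σ k
    · have e : rho h π ⟨x⁻¹ * (g : G) * x⁻¹⁻¹, conj_mem_rotPart h ((cJ σ k).inv_mem hxC) g.2⟩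
          = if x⁻¹ ∈ rotPart π then rho h π g else (rho h π g)⁻¹ := rho_conj h ((cJ σ k).inv_mem hxC) g
      have e' : extendByZero (rotPart π) (phi h π) (x⁻¹ * (g : G) * x)
          = 1 - (((if x ∈ rotPart π then rho h π g else (rho h π g)⁻¹) : ℂˣ) : ℂ) := by
        rw [show x⁻¹ * (g : G) * x = x⁻¹ * (g : G) * x⁻¹⁻¹ by rw [inv_inv],
          extendByZero_apply_mem _ _ (conj_mem_rotPart h ((cJ σ k).inv_mem hxC) g.2), phi, e]
        simp only [(rotPart π).inv_mem_iff]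
      rw [e', if_pos hxC]
      by_cases hxH : x ∈ rotPart π
      · rw [if_pos hxH, if_pos hxH]
        show _ = _ + (phi h π g - _)
        rw [phi]; ring
      · rw [if_neg hxH, if_neg hxH, phi, map_sub, map_one, conj_rho, add_zero]
    · rw [if_neg hxC, if_neg fun hc => hxC (rotPart_le π hc), add_zero]
      by_cases hm : x⁻¹ * (g : G) * x ∈ rotPart π
      · rw [extendByZero_apply_mem _ _ hm, phi]
        by_contra hne
        refine hxC (mem_cJ_of_conj h hπ hodd (g := g) (g' := ⟨_, hm⟩) rfl fun e => hne ?_)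
        rw [e, Units.val_one, sub_self]
      · rw [extendByZero_apply_notMem _ _ hm]
  rw [theta, indFun_def, Finset.sum_congr rfl fun x _ => key x, Finset.sum_add_distrib,
    sum_ite_mem, sum_ite_mem, card_cJ h hπ, Nat.cast_mul]
  have hH : (Nat.card (rotPart π) : ℂ) ≠ 0 := Nat.cast_ne_zero.2 Nat.card_pos.ne'
  field_simp
  ring

theorem theta_gen (h : Gen (S : Subgroup G) σ τ k) :
    IsGeneralizedCharacter G (theta h π) :=
  IsGeneralizedCharacter.indFun _ ⟨fun _ => 1, fun g => (rho h π g : ℂ), isCharacter_one,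
    isCharacter_hom _, rfl⟩

/-- The norm of the induced character and its multiplicity of the trivial character. -/
theorem theta_inner (h : Gen (S : Subgroup G) σ τ k)
    (hπ : ∀ (u : (S : Subgroup G)) (hu : (u : G) ∈ cJ σ k), π ⟨u, hu⟩ = u)
    (hodd : ¬ 2 ∣ Nat.card π.ker) (hk : 1 ≤ k) :
    classInner (theta h π) (theta h π) = 3 ∧ classInner (theta h π) (fun _ => 1) = 1 ∧
      ∑ g : rotPart π, phi h π g = (Nat.card (rotPart π) : ℂ) := by
  obtain ⟨h1, h2⟩ := sum_rho (π := π) h hπ hk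
  have hH : (Nat.card (rotPart π) : ℂ) ≠ 0 := Nat.cast_ne_zero.2 Nat.card_pos.ne'
  have hconj : ∑ g : rotPart π, (((rho h π g)⁻¹ : ℂˣ) : ℂ) = 0 := by
    rw [← Finset.sum_congr rfl fun g _ => conj_rho h g, ← map_sum, h1, map_zero]
  have hφ : ∑ g : rotPart π, phi h π g = (Nat.card (rotPart π) : ℂ) := by
    simp only [phi]
    rw [Finset.sum_sub_distrib, h1, sub_zero, Finset.sum_const, Finset.card_univ,
      ← Nat.card_eq_fintype_card, nsmul_one]
  refine ⟨?_, ?_, hφ⟩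
  · rw [theta, classInner_indFun _ _ (indFun_isClassFunction _ _), ← theta, classInner,
      Finset.sum_congr rfl (g := fun g => 3 - 3 * (rho h π g : ℂ) + (rho h π g : ℂ) ^ 2
        - (((rho h π g)⁻¹ : ℂˣ) : ℂ)) fun g _ => by
        rw [theta_apply h hπ hodd, map_add, Complex.conj_conj, phi, map_sub, map_one, conj_rho,
          mul_add, mul_sub, sub_mul, sub_mul, Units.mul_inv]
        ring]
    rw [Finset.sum_sub_distrib, Finset.sum_add_distrib, Finset.sum_sub_distrib, ← Finset.mul_sum,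
      h1, h2, hconj, mul_zero, sub_zero, add_zero, sub_zero, Finset.sum_const, Finset.card_univ,
      ← Nat.card_eq_fintype_card, nsmul_eq_mul, inv_mul_cancel_left₀ hH]
  · rw [theta, classInner_indFun _ _ fun _ _ => rfl, classInner]
    simp only [map_one, mul_one]
    rw [hφ, inv_mul_cancel₀ hH]

/-- A character of the principal block is constant off the kernel of the rotation part. -/
theorem apply_of_rho_ne {M : Ideal AlgInt} (hM : IsPModular 2 M) (h : Gen (S : Subgroup G) σ τ k)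
    (hπ : ∀ (u : (S : Subgroup G)) (hu : (u : G) ∈ cJ σ k), π ⟨u, hu⟩ = u)
    (hodd : ¬ 2 ∣ Nat.card π.ker) {χ : IrrCharacter G} (hχ : χ ∈ principalBlock M G) {δ : ℂ}
    (hval : ∀ i : ℤ, σ ^ i ≠ 1 → (χ : G → ℂ) (σ ^ i) = δ) {g : rotPart π}
    (hg : rho h π g ≠ 1) : (χ : G → ℂ) (g : G) = δ := by
  haveI : Fact (Nat.Prime 2) := ⟨Nat.prime_two⟩
  have hgC := rotPart_le π g.2
  obtain ⟨w, y, -, hwy, hcomm, hy, ⟨j, hj⟩, hw, hyz⟩ := exists_isPPart Nat.prime_two (g : G)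
  have hwH : w ∈ rotPart π := Subgroup.zpowers_le.2 g.2 hw
  have hyH : y ∈ rotPart π := Subgroup.zpowers_le.2 g.2 hyz
  have hπy : π ⟨y, rotPart_le π hyH⟩ = 1 := map_one_of_odd (by exact hy)
  set SC : Sylow 2 (cJ σ k) := S.subtype fun x hx =>
    Subgroup.mem_centralizer_singleton_iff.2 (z_comm h x hx).eq.symm
  obtain ⟨c, hc⟩ := TIAbelian.exists_conj_mem_sylow_p SC
    (R := Subgroup.zpowers (⟨w, rotPart_le π hwH⟩ : cJ σ k))
    (IsPGroup.of_card (n := j) (by rw [Nat.card_zpowers, Subgroup.orderOf_mk, hj]))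
  have hu : (c : G) * w * (c : G)⁻¹ ∈ (S : Subgroup G) :=
    Subgroup.mem_subgroupOf.mp (hc _ (Subgroup.mem_zpowers _))
  have huH := conj_mem_rotPart (π := π) h c.2 hwH
  set u := (c : G) * w * (c : G)⁻¹ with hudef
  have hπu : π ⟨u, rotPart_le π huH⟩ = ⟨u, hu⟩ := hπ ⟨u, hu⟩ _
  obtain ⟨i, hi⟩ := exists_rot (π := π) ⟨u, huH⟩
  rw [hπu] at hi
  change u = σ ^ i at hi
  have hu1 : u ≠ 1 := by
    intro e
    have hw1 : w = 1 := conj_eq_one_iff.1 e
    refine hg ((rho_eq_one_iff h g).2 ?_)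
    rw [← hπy]
    exact congrArg π (Subtype.ext (by rw [← hwy, hw1, one_mul]))
  have hρu : rho h π ⟨u, huH⟩ ≠ 1 := fun e => by
    rw [rho_eq_one_iff h, hπu] at e
    exact hu1 (congrArg Subtype.val e)
  obtain ⟨m, hm⟩ := exists_pow_J h hπ hodd hρu
  set Cu := Subgroup.centralizer ({u} : Set G) with hCu
  have hle : Cu ≤ cJ σ k := fun z hz => by
    refine Subgroup.mem_centralizer_singleton_iff.2 ?_
    rw [← hm]
    exact ((show Commute z u from Subgroup.mem_centralizer_singleton_iff.1 hz).pow_right m).eq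
  set N : Subgroup Cu := (π.ker.map (cJ σ k).subtype).subgroupOf Cu with hN
  have hmemN : ∀ z : Cu, z ∈ N ↔ π ⟨(z : G), hle z.2⟩ = 1 := by
    intro z
    rw [hN, Subgroup.mem_subgroupOf, Subgroup.mem_map]
    constructor
    · rintro ⟨d, hd, hdz⟩
      rw [← MonoidHom.mem_ker]
      convert hd using 1
      exact Subtype.ext hdz.symm
    · exact fun hz => ⟨_, hz, rfl⟩
  haveI : N.Normal := ⟨fun n hn z => by
    rw [hmemN] at hn ⊢
    rw [show (⟨((z * n * z⁻¹ : Cu) : G), hle (z * n * z⁻¹).2⟩ : cJ σ k)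
      = ⟨(z : G), hle z.2⟩ * ⟨(n : G), hle n.2⟩ * (⟨(z : G), hle z.2⟩ : cJ σ k)⁻¹ from rfl,
      map_mul, map_mul, map_inv, hn, mul_one, mul_inv_cancel]⟩
  have hcop : ¬ 2 ∣ Nat.card N := fun hd => by
    obtain ⟨z, hz⟩ := exists_prime_orderOf_dvd_card' 2 hd
    refine odd_of_map_one hodd ((hmemN (z : Cu)).1 z.2) (dvd_of_eq ?_)
    show 2 = orderOf (((z : Cu)) : G)
    rw [Subgroup.orderOf_coe, Subgroup.orderOf_coe, hz]
  have hy'comm : Commute u ((c : G) * y * (c : G)⁻¹) := by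
    rw [hudef]
    exact hcomm.map (MulAut.conj (c : G))
  have hy'Cu : (c : G) * y * (c : G)⁻¹ ∈ Cu :=
    Subgroup.mem_centralizer_singleton_iff.2 hy'comm.eq.symm
  have hy'N : (⟨_, hy'Cu⟩ : Cu) ∈ N := by
    rw [hmemN, show (⟨(c : G) * y * (c : G)⁻¹, hle hy'Cu⟩ : cJ σ k)
      = c * ⟨y, rotPart_le π hyH⟩ * c⁻¹ from rfl, map_mul, map_mul, hπy, mul_one, map_inv,
      mul_inv_cancel]
  have key := BrauerSuzuki.principalBlock_apply_section hM (x := u)
    ⟨j, by rw [hudef, show (c : G) * w * (c : G)⁻¹ = MulAut.conj (c : G) w from rfl,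
      MulEquiv.orderOf_eq, hj]⟩ hχ N hcop hy'N
  rw [← irr_conj_apply χ (g : G) (c : G), ← hwy,
    show (c : G) * (w * y) * (c : G)⁻¹ = u * ((c : G) * y * (c : G)⁻¹) by
      rw [hudef]; simp [mul_assoc], key, hi]
  exact hval i (hi ▸ hu1)

/-- The reflections conjugate to the central involution. -/
noncomputable def refl (π : cJ σ k →* (S : Subgroup G)) : Finset G :=
  Finset.univ.filter fun x => IsConj (σ ^ ((2 : ℤ) ^ k)) x ∧ x ∈ cJ σ k ∧ x ∉ rotPart π

theorem mem_refl {x : G} :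
    x ∈ refl π ↔ IsConj (σ ^ ((2 : ℤ) ^ k)) x ∧ x ∈ cJ σ k ∧ x ∉ rotPart π := by
  simp [refl]

theorem conj_mem_refl (h : Gen (S : Subgroup G) σ τ k) {x c : G} (hx : x ∈ refl π)
    (hc : c ∈ cJ σ k) : c * x * c⁻¹ ∈ refl π := by
  obtain ⟨h1, h2, h3⟩ := mem_refl.1 hx
  refine mem_refl.2 ⟨h1.trans (isConj_iff.2 ⟨c, rfl⟩),
    (cJ σ k).mul_mem ((cJ σ k).mul_mem hc h2) ((cJ σ k).inv_mem hc), fun e => h3 ?_⟩
  have := conj_mem_rotPart h ((cJ σ k).inv_mem hc) e
  simpa [mul_assoc] using this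

/-- The character sums to zero along the products with a fixed reflection. -/
theorem sum_refl_rho (h : Gen (S : Subgroup G) σ τ k)
    (hπ : ∀ (u : (S : Subgroup G)) (hu : (u : G) ∈ cJ σ k), π ⟨u, hu⟩ = u) (hk : 1 ≤ k)
    {y : G} (hy : y ∈ refl π) :
    ∑ x ∈ refl π, extendByZero (rotPart π) (fun g => (rho h π g : ℂ)) (x * y) = 0 := by
  obtain ⟨-, hyC, hyH⟩ := mem_refl.1 hy
  set L := extendByZero (rotPart π) fun g => (rho h π g : ℂ) with hL
  have hval : ∀ x : G, ∀ (hxC : x ∈ cJ σ k), x ∉ rotPart π → ∀ i j : ℤ,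
      ((π ⟨x, hxC⟩ : (S : Subgroup G)) : G) = σ ^ i * τ →
      ((π ⟨y, hyC⟩ : (S : Subgroup G)) : G) = σ ^ j * τ → L (x * y) = ((zeta k ^ (i - j) : ℂˣ) : ℂ) := by
    intro x hxC hxH i j hi hj
    have hm := mul_mem_of_notMem h hxC hxH hyC hyH
    rw [hL, extendByZero_apply_mem _ _ hm, rho_eq h _ (i - j)]
    show ((π (⟨x, hxC⟩ * ⟨y, hyC⟩ : cJ σ k) : (S : Subgroup G)) : G) = _
    rw [map_mul, Subgroup.coe_mul, hi, hj, refl_mul h]
  have hσC := sigma_mem h
  have hshift : ∀ x ∈ refl π, L (σ * x * σ⁻¹ * y) = ((zeta k ^ (2 : ℤ) : ℂˣ) : ℂ) * L (x * y) := by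
    intro x hx
    obtain ⟨-, hxC, hxH⟩ := mem_refl.1 hx
    obtain ⟨-, hxC', hxH'⟩ := mem_refl.1 (conj_mem_refl h hx hσC)
    obtain ⟨i, hi⟩ := exists_refl (c := ⟨x, hxC⟩) h hxH
    obtain ⟨j, hj⟩ := exists_refl (c := ⟨y, hyC⟩) h hyH
    rw [hval x hxC hxH i j hi hj, hval _ hxC' hxH' (i + 2) j ?_ hj, ← Units.val_mul, ← zpow_add]
    · congr 2; ring
    · show ((π (⟨σ, hσC⟩ * ⟨x, hxC⟩ * (⟨σ, hσC⟩ : cJ σ k)⁻¹) : (S : Subgroup G)) : G) = _
      rw [map_mul, map_mul, map_inv, Subgroup.coe_mul, Subgroup.coe_mul, Subgroup.coe_inv, hi,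
        show ((π ⟨σ, hσC⟩ : (S : Subgroup G)) : G) = σ from
          congrArg Subtype.val (hπ ⟨σ, h.amem⟩ hσC)]
      simpa using conj_rot h 1 i
  have heq : ∑ x ∈ refl π, L (x * y) = ∑ x ∈ refl π, L (σ * x * σ⁻¹ * y) := by
    refine Finset.sum_nbij' (fun x => σ⁻¹ * x * σ) (fun x => σ * x * σ⁻¹) ?_ ?_ ?_ ?_ ?_
    · intro x hx
      simpa using conj_mem_refl h hx ((cJ σ k).inv_mem hσC)
    · intro x hx
      exact conj_mem_refl h hx hσC
    · intro x _; simp [mul_assoc]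
    · intro x _; simp [mul_assoc]
    · intro x _; simp [mul_assoc]
  rw [Finset.sum_congr rfl hshift, ← Finset.mul_sum] at heq
  by_contra hne
  have h1 : ((zeta k ^ (2 : ℤ) : ℂˣ) : ℂ) = 1 := (mul_eq_right₀ hne).1 heq.symm
  have h2 : σ ^ (2 : ℤ) = 1 := (zeta_zpow h 2).1 (Units.ext h1)
  rw [zpow_eq_one h] at h2
  have h3 := Int.le_of_dvd (by norm_num) h2
  have h4 : (2 : ℤ) ^ 2 ≤ 2 ^ (k + 1) := pow_le_pow_right₀ (by norm_num) (by omega)
  linarith

theorem card_conj_orbit (C : Subgroup G) {J u : G} (hC : C = Subgroup.centralizer ({J} : Set G)) :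
    ((Finset.univ.image fun c : C => (c : G) * u * (c : G)⁻¹).card : ℕ)
      * Nat.card (Subgroup.centralizer ({J, u} : Set G)) = Nat.card C := by
  have hD : ∀ d : G, d ∈ Subgroup.centralizer ({J, u} : Set G) ↔ d ∈ C ∧ d * u = u * d := by
    intro d
    rw [hC, Subgroup.mem_centralizer_iff, Subgroup.mem_centralizer_singleton_iff]
    simp only [Set.mem_insert_iff, Set.mem_singleton_iff, forall_eq_or_imp, forall_eq]
    exact ⟨fun e => ⟨e.1.symm, e.2.symm⟩, fun e => ⟨e.1.symm, e.2.symm⟩⟩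
  rw [Nat.card_eq_fintype_card (α := C), ← Finset.card_univ,
    Finset.card_eq_sum_card_image (fun c : C => (c : G) * u * (c : G)⁻¹) Finset.univ]
  symm
  rw [← smul_eq_mul]
  refine (Finset.sum_congr rfl fun x hx => ?_).trans (Finset.sum_const _)
  obtain ⟨c, -, rfl⟩ := Finset.mem_image.1 hx
  rw [Nat.card_eq_fintype_card, ← Finset.card_univ]
  symm
  refine Finset.card_bij (fun d _ => c * ⟨(d : G), ((hD d).1 d.2).1⟩) ?_ ?_ ?_
  · intro d _
    refine Finset.mem_filter.2 ⟨Finset.mem_univ _, ?_⟩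
    show (c : G) * (d : G) * u * ((c : G) * (d : G))⁻¹ = _
    rw [mul_assoc (c : G), ((hD d).1 d.2).2]
    simp [mul_assoc]
  · intro d _ d' _ e
    exact Subtype.ext (congrArg Subtype.val (mul_left_cancel e) :)
  · intro c' hc'
    have e := (Finset.mem_filter.1 hc').2
    refine ⟨⟨((c⁻¹ * c' : C) : G), (hD _).2 ⟨(c⁻¹ * c').2, ?_⟩⟩, Finset.mem_univ _,
      mul_inv_cancel_left c c'⟩
    show (c : G)⁻¹ * (c' : G) * u = u * ((c : G)⁻¹ * (c' : G))
    rw [mul_assoc, show (c' : G) * u = (c : G) * u * (c : G)⁻¹ * (c' : G) by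
      rw [← e, inv_mul_cancel_right]]
    simp [mul_assoc]

/-- The number of reflections conjugate to the central involution. -/
theorem card_refl (h : Gen (S : Subgroup G) σ τ k)
    (hπ : ∀ (u : (S : Subgroup G)) (hu : (u : G) ∈ cJ σ k), π ⟨u, hu⟩ = u)
    (hJτ : IsConj (σ ^ ((2 : ℤ) ^ k)) τ) (hJστ : IsConj (σ ^ ((2 : ℤ) ^ k)) (σ * τ)) :
    ((refl π).card : ℂ) = (Nat.card (cJ σ k) : ℂ) *
      (1 / (Nat.card (Subgroup.centralizer ({σ ^ ((2 : ℤ) ^ k), τ} : Set G)) : ℂ)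
        + 1 / (Nat.card (Subgroup.centralizer ({σ ^ ((2 : ℤ) ^ k), σ * τ} : Set G)) : ℂ)) := by
  haveI : Fact (Nat.Prime 2) := ⟨Nat.prime_two⟩
  set O : G → Finset G := fun u => Finset.univ.image fun c : cJ σ k => (c : G) * u * (c : G)⁻¹
    with hO
  have hSC : ∀ x ∈ (S : Subgroup G), x ∈ cJ σ k := fun x hx =>
    Subgroup.mem_centralizer_singleton_iff.2 (z_comm h x hx).eq.symm
  have hnot : ∀ i : ℤ, σ ^ i * τ ∉ rotPart π := fun i e => by
    have h1 := (mem_rotPart (rotPart_le π e)).1 e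
    rw [show π ⟨σ ^ i * τ, rotPart_le π e⟩ = ⟨σ ^ i * τ, refl_mem h i⟩ from
      hπ ⟨_, refl_mem h i⟩ _] at h1
    exact refl_not_rot h i h1
  have hτR : τ ∈ refl π :=
    mem_refl.2 ⟨hJτ, hSC τ h.bmem, by simpa using hnot 0⟩
  have hστR : σ * τ ∈ refl π :=
    mem_refl.2 ⟨hJστ, hSC _ (by simpa using refl_mem h 1), by simpa using hnot 1⟩
  have hunion : refl π = O τ ∪ O (σ * τ) := by
    ext x
    rw [Finset.mem_union]
    constructor
    · intro hx
      obtain ⟨hxJ, hxC, hxH⟩ := mem_refl.1 hx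
      obtain ⟨v, hv⟩ := isConj_iff.1 hxJ
      have hx2 : orderOf x = 2 := by
        rw [← hv, show v * σ ^ ((2 : ℤ) ^ k) * v⁻¹ = MulAut.conj v (σ ^ ((2 : ℤ) ^ k)) from rfl,
          MulEquiv.orderOf_eq, z_orderOf h]
      set SC : Sylow 2 (cJ σ k) := S.subtype hSC
      obtain ⟨c, hc⟩ := TIAbelian.exists_conj_mem_sylow_p SC
        (R := Subgroup.zpowers (⟨x, hxC⟩ : cJ σ k))
        (IsPGroup.of_card (n := 1) (by rw [Nat.card_zpowers, Subgroup.orderOf_mk, hx2, pow_one]))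
      have hs : (c : G) * x * (c : G)⁻¹ ∈ (S : Subgroup G) :=
        Subgroup.mem_subgroupOf.mp (hc _ (Subgroup.mem_zpowers _))
      rcases h.cases _ hs with ⟨i, hi⟩ | ⟨i, hi⟩
      · exact absurd (hi ▸ zpow_mem_rotPart h hπ i) (mem_refl.1 (conj_mem_refl h hx c.2)).2.2
      · have mk : ∀ (u : G) (t : ℤ), σ ^ t * u * (σ ^ t)⁻¹ = σ ^ i * τ → x ∈ O u := by
          intro u t ht
          refine Finset.mem_image.2 ⟨c⁻¹ * ⟨σ ^ t, (cJ σ k).zpow_mem (sigma_mem h) t⟩,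
            Finset.mem_univ _, ?_⟩
          show (c : G)⁻¹ * σ ^ t * u * ((c : G)⁻¹ * σ ^ t)⁻¹ = x
          rw [← hi] at ht
          rw [show (c : G)⁻¹ * σ ^ t * u * ((c : G)⁻¹ * σ ^ t)⁻¹
            = (c : G)⁻¹ * (σ ^ t * u * (σ ^ t)⁻¹) * (c : G) by simp [mul_assoc], ht]
          simp [mul_assoc]
        rcases Int.even_or_odd i with ⟨t, ht⟩ | ⟨t, ht⟩
        · refine Or.inl (mk τ t ?_)
          have := conj_rot h t 0
          rw [zpow_zero, one_mul] at this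
          rw [this, ht]; congr 2; ring
        · refine Or.inr (mk (σ * τ) t ?_)
          have := conj_rot h t 1
          rw [zpow_one] at this
          rw [this, ht]; congr 2; ring
    · rintro (hx | hx) <;> obtain ⟨c, -, rfl⟩ := Finset.mem_image.1 hx
      · exact conj_mem_refl h hτR c.2
      · exact conj_mem_refl h hστR c.2
  have hdisj : Disjoint (O τ) (O (σ * τ)) := by
    rw [Finset.disjoint_left]
    intro x hx hx'
    obtain ⟨c, -, rfl⟩ := Finset.mem_image.1 hx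
    obtain ⟨d, -, hd⟩ := Finset.mem_image.1 hx'
    set e : cJ σ k := d⁻¹ * c
    have he : (e : G) * τ * (e : G)⁻¹ = σ * τ := by
      rw [show (e : G) * τ * (e : G)⁻¹ = (d : G)⁻¹ * ((c : G) * τ * (c : G)⁻¹) * (d : G) by
        show (d : G)⁻¹ * (c : G) * τ * ((d : G)⁻¹ * (c : G))⁻¹ = _
        simp [mul_assoc], ← hd]
      simp [mul_assoc]
    have hστS : σ * τ ∈ (S : Subgroup G) := by simpa using refl_mem h 1
    have hπe : ((π e : (S : Subgroup G)) : G) * τ * ((π e : (S : Subgroup G)) : G)⁻¹ = σ * τ := by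
      have e3 := congrArg π (Subtype.ext he :
        e * ⟨τ, hSC τ h.bmem⟩ * e⁻¹ = (⟨σ * τ, hSC _ hστS⟩ : cJ σ k))
      rw [map_mul, map_mul, map_inv, hπ ⟨τ, h.bmem⟩, hπ ⟨σ * τ, hστS⟩] at e3
      exact congrArg Subtype.val e3
    obtain ⟨m, hm⟩ : ∃ m : ℤ, σ ^ (2 * m) * τ = σ * τ := by
      rcases h.cases _ (π e).2 with ⟨m, hm⟩ | ⟨m, hm⟩
      · refine ⟨m, ?_⟩
        rw [hm] at hπe
        have := conj_rot h m 0
        rw [zpow_zero, one_mul, zero_add] at this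
        rw [← this, hπe]
      · refine ⟨m, ?_⟩
        rw [hm] at hπe
        have := refl_conj h m 0
        rw [zpow_zero, one_mul, sub_zero] at this
        rw [← this, hπe]
    have h1 : σ ^ (2 * m - 1) = 1 := by
      rw [zpow_sub, mul_right_cancel hm, zpow_one, mul_inv_cancel]
    rw [zpow_eq_one h, pow_succ'] at h1
    obtain ⟨q, hq⟩ := dvd_trans (dvd_mul_right (2 : ℤ) _) h1
    omega
  have hcard : ∀ u : G, ((O u).card : ℂ) = (Nat.card (cJ σ k) : ℂ)
      * (1 / (Nat.card (Subgroup.centralizer ({σ ^ ((2 : ℤ) ^ k), u} : Set G)) : ℂ)) := by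
    intro u
    rw [mul_one_div, eq_div_iff (Nat.cast_ne_zero.2 Nat.card_pos.ne'), ← Nat.cast_mul,
      card_conj_orbit (cJ σ k) rfl]
  rw [hunion, Finset.card_union_of_disjoint hdisj, Nat.cast_add, hcard, hcard, mul_add]

/-- The pairs of conjugates of the central involution. -/
theorem sum_pairs (h : Gen (S : Subgroup G) σ τ k)
    (hπ : ∀ (u : (S : Subgroup G)) (hu : (u : G) ∈ cJ σ k), π ⟨u, hu⟩ = u)
    (hodd : ¬ 2 ∣ Nat.card π.ker) (hk : 1 ≤ k) :
    ∑ g : rotPart π, phi h π g *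
        ∑ x : G, classInd (σ ^ ((2 : ℤ) ^ k)) x * classInd (σ ^ ((2 : ℤ) ^ k)) (x⁻¹ * (g : G))
      = ((refl π).card : ℂ) ^ 2 := by
  set J := σ ^ ((2 : ℤ) ^ k) with hJ
  set E := extendByZero (rotPart π) (phi h π) with hE
  have hinv : ∀ {x : G}, IsConj J x → x * x = 1 ∧ orderOf x = 2 := by
    intro x hx
    obtain ⟨v, rfl⟩ := isConj_iff.1 hx
    have h2 : orderOf (v * J * v⁻¹) = 2 := by
      rw [show v * J * v⁻¹ = MulAut.conj v J from rfl, MulEquiv.orderOf_eq, z_orderOf h]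
    exact ⟨by rw [← pow_two, ← h2, pow_orderOf_eq_one], h2⟩
  have hJC : J ∈ cJ σ k := Subgroup.mem_centralizer_singleton_iff.2 rfl
  have hvan : ∀ x y : G, IsConj J x → IsConj J y → E (x * y) ≠ 0 → x ∈ refl π ∧ y ∈ refl π := by
    intro x y hx hy hne
    obtain ⟨hxx, hx2⟩ := hinv hx
    obtain ⟨hyy, hy2⟩ := hinv hy
    have hm : x * y ∈ rotPart π := by
      by_contra hm
      exact hne (extendByZero_apply_notMem _ _ hm)
    have hρ : rho h π ⟨x * y, hm⟩ ≠ 1 := fun e => hne (by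
      rw [hE, extendByZero_apply_mem _ _ hm, phi, e, Units.val_one, sub_self])
    have hxi : x⁻¹ = x := inv_eq_of_mul_eq_one_right hxx
    have hyi : y⁻¹ = y := inv_eq_of_mul_eq_one_right hyy
    have hxC : x ∈ cJ σ k := by
      refine mem_cJ_of_conj h hπ hodd (g := ⟨x * y, hm⟩)
        (g' := (⟨x * y, hm⟩ : rotPart π)⁻¹) ?_ (by rw [map_inv]; exact fun e => hρ (inv_eq_one.1 e))
      show x⁻¹ * (x * y) * x = (x * y)⁻¹
      rw [mul_inv_rev, hxi, hyi, ← mul_assoc, hxx, one_mul]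
    have hyC : y ∈ cJ σ k := by
      have := (cJ σ k).mul_mem ((cJ σ k).inv_mem hxC) (rotPart_le π hm)
      simpa using this
    have hxH : x ∉ rotPart π := fun e => by
      have hyH : y ∈ rotPart π := by simpa using (rotPart π).mul_mem ((rotPart π).inv_mem e) hm
      have hxy : x * y = 1 := by
        rw [involution_rot h hπ hodd e hx2, involution_rot h hπ hodd hyH hy2, z_sq h]
      exact hρ (by rw [show (⟨x * y, hm⟩ : rotPart π) = 1 from Subtype.ext hxy, map_one])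
    exact ⟨mem_refl.2 ⟨hx, hxC, hxH⟩, mem_refl.2 ⟨hy, hyC, fun e => hxH (by
      simpa using (rotPart π).mul_mem hm ((rotPart π).inv_mem e))⟩⟩
  rw [← sum_extendByZero_mul (rotPart π) (phi h π)
    fun g => ∑ x : G, classInd J x * classInd J (x⁻¹ * g), ← hE]
  simp only [Finset.mul_sum]
  rw [Finset.sum_comm]
  have hstep : ∀ x : G, ∑ g : G, E g * (classInd J x * classInd J (x⁻¹ * g))
      = ∑ y : G, classInd J x * classInd J y * E (x * y) := by
    intro x
    refine Fintype.sum_equiv (Equiv.mulLeft x⁻¹) _ _ fun g => ?_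
    simp [mul_comm (E g)]
  rw [Finset.sum_congr rfl fun x _ => hstep x]
  have hzero : ∀ x y : G, ¬ (x ∈ refl π ∧ y ∈ refl π) →
      classInd J x * classInd J y * E (x * y) = 0 := by
    intro x y hxy
    by_cases hx : IsConj J x
    · by_cases hy : IsConj J y
      · have : E (x * y) = 0 := by
          by_contra hne; exact hxy (hvan x y hx hy hne)
        rw [this, mul_zero]
      · rw [show classInd J y = 0 from if_neg hy, mul_zero, zero_mul]
    · rw [show classInd J x = 0 from if_neg hx, zero_mul, zero_mul]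
  rw [← Finset.sum_subset (Finset.subset_univ (refl π)) fun x _ hx =>
    Finset.sum_eq_zero fun y _ => hzero x y fun e => hx e.1,
    Finset.sum_congr rfl fun x _ => (Finset.sum_subset (Finset.subset_univ (refl π))
      fun y _ hy => hzero x y fun e => hy e.2).symm]
  have hone : ∀ x ∈ refl π, ∀ y ∈ refl π, classInd J x * classInd J y * E (x * y)
      = 1 - extendByZero (rotPart π) (fun g => (rho h π g : ℂ)) (x * y) := by
    intro x hx y hy
    obtain ⟨h1, h2, h3⟩ := mem_refl.1 hx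
    obtain ⟨h4, h5, h6⟩ := mem_refl.1 hy
    rw [classInd, if_pos h1, classInd, if_pos h4, one_mul, one_mul, hE,
      extendByZero_apply_mem _ _ (mul_mem_of_notMem h h2 h3 h5 h6),
      extendByZero_apply_mem _ _ (mul_mem_of_notMem h h2 h3 h5 h6), phi]
  rw [Finset.sum_congr rfl fun x hx => Finset.sum_congr rfl (hone x hx), Finset.sum_comm,
    Finset.sum_congr rfl fun y hy => by
      rw [Finset.sum_sub_distrib, sum_refl_rho h hπ hk hy, sub_zero]]
  simp [pow_two]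

/-- The order formula. -/
theorem order_formula {M : Ideal AlgInt} (hM : IsPModular 2 M) (h : Gen (S : Subgroup G) σ τ k)
    (hk : 1 ≤ k) (hJτ : IsConj (σ ^ ((2 : ℤ) ^ k)) τ) (hJστ : IsConj (σ ^ ((2 : ℤ) ^ k)) (σ * τ))
    (χ : IrrCharacter G) (hχ : χ ∈ principalBlock M G) (h1 : (χ : G → ℂ) ≠ fun _ => 1)
    (δ : ℂ) (hδ : δ = 1 ∨ δ = -1) (hval : ∀ i : ℤ, σ ^ i ≠ 1 → (χ : G → ℂ) (σ ^ i) = δ) :
    (χ : G → ℂ) 1 ≠ δ ∧ (Nat.card G : ℂ) * ((χ : G → ℂ) 1 - δ) ^ 2
      = 2 * (χ : G → ℂ) 1 * ((χ : G → ℂ) 1 + δ) * (Nat.card (cJ σ k) : ℂ) ^ 3 *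
        (1 / (Nat.card (Subgroup.centralizer ({σ ^ ((2 : ℤ) ^ k), τ} : Set G)) : ℂ)
          + 1 / (Nat.card (Subgroup.centralizer ({σ ^ ((2 : ℤ) ^ k), σ * τ} : Set G)) : ℂ)) ^ 2 := by
  obtain ⟨π, hπ, hodd⟩ := exists_retraction h
  obtain ⟨h3, hθ1, hφ⟩ := theta_inner (π := π) h hπ hodd hk
  set J := σ ^ ((2 : ℤ) ^ k) with hJ
  set θ := theta h π with hθdef
  have hδ2 : δ * δ = 1 := by rcases hδ with rfl | rfl <;> norm_num
  have hδc : conj δ = δ := by rcases hδ with rfl | rfl <;> simp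
  have hH : (Nat.card (rotPart π) : ℂ) ≠ 0 := Nat.cast_ne_zero.2 Nat.card_pos.ne'
  set one : G → ℂ := fun _ => 1 with hone
  have hone' : IsIrrCharacter G one := isIrrCharacter_one
  have hχc : IsClassFunction G (χ : G → ℂ) := IsIrrCharacter.isClassFunction χ.2
  have hθχ : classInner θ (χ : G → ℂ) = δ := by
    rw [hθdef, theta, classInner_indFun _ _ hχc, classInner,
      Finset.sum_congr rfl (g := fun g => phi h π g * δ) fun g _ => by
        by_cases hg : rho h π g = 1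
        · rw [phi, hg, Units.val_one, sub_self, zero_mul, zero_mul]
        · rw [apply_of_rho_ne hM h hπ hodd hχ hval hg, hδc],
      ← Finset.sum_mul, hφ, inv_mul_cancel_left₀ hH]
  -- the third constituent
  set ξ : G → ℂ := θ - one - δ • (χ : G → ℂ) with hξ
  have hgen : IsGeneralizedCharacter G ξ := by
    refine IsGeneralizedCharacter.sub (IsGeneralizedCharacter.sub (theta_gen h)
      (IsCharacter.isGeneralizedCharacter (IsIrrCharacter.isCharacter hone'))) ?_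
    have hc := IsCharacter.isGeneralizedCharacter (isCharacter_irr χ)
    rcases hδ with rfl | rfl
    · simpa using hc
    · obtain ⟨a, b, ha, hb, e⟩ := hc
      exact ⟨b, a, hb, ha, by rw [e]; simp [neg_smul]⟩
  have hne : classInner one (χ : G → ℂ) = 0 := classInner_irr_ne hone' χ.2 (Ne.symm h1)
  have hnorm : classInner ξ ξ = 1 := by
    have e1 : classInner one θ = 1 := by rw [← classInner_conj_symm, hθ1, map_one]
    have e2 : classInner (χ : G → ℂ) θ = δ := by rw [← classInner_conj_symm, hθχ, hδc]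
    have e3 : classInner (χ : G → ℂ) one = 0 := by rw [← classInner_conj_symm, hne, map_zero]
    simp only [hξ, classInner_sub_left, classInner_sub_right, classInner_smul_left,
      classInner_smul_right, h3, hθ1, hθχ, e1, e2, e3, hne, classInner_irr_self hone',
      classInner_irr_self χ.2, hδc]
    linear_combination (-1 : ℂ) * hδ2
  obtain ⟨z, ψ, hz, hψ⟩ := CharDeep.GenChar.exists_sign_irr hgen hnorm
  have hz2 : (z : ℂ) * (z : ℂ) = 1 := by rcases hz with rfl | rfl <;> norm_num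
  have hθexp : θ = one + δ • (χ : G → ℂ) + (z : ℂ) • (ψ : G → ℂ) := by
    rw [← hψ, hξ]; abel
  have hθ0 : θ 1 = 0 := by
    rw [hθdef, theta, indFun_one, phi, map_one, Units.val_one, sub_self, mul_zero]
  have hψ1 : (z : ℂ) * (ψ : G → ℂ) 1 = -(1 + δ * (χ : G → ℂ) 1) := by
    have e := congrFun hθexp 1
    simp only [Pi.add_apply, Pi.smul_apply, smul_eq_mul, hone] at e
    rw [hθ0] at e
    linear_combination -e
  have hJH : J ∈ rotPart π := zpow_mem_rotPart h hπ _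
  have hρJ : (rho h π ⟨J, hJH⟩ : ℂ) = -1 := by
    have e1 : rho h π ⟨J, hJH⟩ ≠ 1 := fun e => by
      exact z_ne h ((pi_sigma_zpow h hπ _ (rotPart_le π hJH)).symm.trans
        (congrArg Subtype.val ((rho_eq_one_iff h _).1 e)))
    have e2 : rho h π ⟨J, hJH⟩ * rho h π ⟨J, hJH⟩ = 1 := by
      rw [← map_mul, show (⟨J, hJH⟩ : rotPart π) * ⟨J, hJH⟩ = 1 from Subtype.ext (z_sq h), map_one]
    have e3 : (rho h π ⟨J, hJH⟩ : ℂ) * (rho h π ⟨J, hJH⟩ : ℂ) = 1 := by
      rw [← Units.val_mul, e2, Units.val_one]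
    rcases mul_self_eq_one_iff.1 e3 with e | e
    · exact absurd (Units.ext e) e1
    · exact e
  have hχJ : (χ : G → ℂ) J = δ := hval _ (z_ne h)
  have hθJ : θ J = 4 := by
    rw [hθdef, show J = ((⟨J, hJH⟩ : rotPart π) : G) from rfl, theta_apply h hπ hodd, phi, hρJ]
    simp [map_ofNat]
    norm_num
  have hψJ : (z : ℂ) * (ψ : G → ℂ) J = 2 := by
    have e := congrFun hθexp J
    simp only [Pi.add_apply, Pi.smul_apply, smul_eq_mul, hone] at e
    rw [hθJ, hχJ, hδ2] at e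
    linear_combination -e
  -- the weighted sum
  set W : ℂ := ∑ η : IrrCharacter G, (η : G → ℂ) J ^ 2 / (η : G → ℂ) 1 * classInner θ (η : G → ℂ)
    with hW
  have hsingle : ∀ α : IrrCharacter G, ∑ η : IrrCharacter G,
      (η : G → ℂ) J ^ 2 / (η : G → ℂ) 1 * classInner (α : G → ℂ) (η : G → ℂ)
      = (α : G → ℂ) J ^ 2 / (α : G → ℂ) 1 := by
    intro α
    rw [Finset.sum_eq_single α, classInner_irr_self α.2, mul_one]
    · intro η _ hη
      rw [classInner_irr_ne α.2 η.2 fun e => hη (Subtype.ext e.symm), mul_zero]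
    · exact fun e => absurd (Finset.mem_univ α) e
  have hWval : W = 1 + δ * (δ ^ 2 / (χ : G → ℂ) 1)
      + (z : ℂ) * ((ψ : G → ℂ) J ^ 2 / (ψ : G → ℂ) 1) := by
    have e1 := hsingle ⟨one, hone'⟩
    simp only [hone, one_pow, div_one] at e1
    have e2 := hsingle χ
    rw [hχJ] at e2
    rw [← e2, ← hsingle ψ, ← e1, Finset.mul_sum, Finset.mul_sum, ← Finset.sum_add_distrib,
      ← Finset.sum_add_distrib, hW, hθexp]
    refine Finset.sum_congr rfl fun η _ => ?_
    rw [classInner_add_left, classInner_add_left, classInner_smul_left, classInner_smul_left, hone]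
    ring
  have hGW : (Nat.card G : ℂ) * W
      = (Nat.card (rotPart π) : ℂ)⁻¹ * (Nat.card (cJ σ k) : ℂ) ^ 2 * ((refl π).card : ℂ) ^ 2 := by
    rw [← sum_pairs h hπ hodd hk, hW]
    have hexp : ∀ η : IrrCharacter G, classInner θ (η : G → ℂ)
        = (Nat.card (rotPart π) : ℂ)⁻¹ * ∑ g : rotPart π, phi h π g * (η : G → ℂ) (g : G)⁻¹ := by
      intro η
      rw [hθdef, theta, classInner_indFun _ _ (IsIrrCharacter.isClassFunction η.2), classInner]
      exact congrArg _ (Finset.sum_congr rfl fun g _ => by rw [conj_irr])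
    simp only [hexp, Finset.mul_sum]
    rw [Finset.sum_comm]
    refine Finset.sum_congr rfl fun g _ => ?_
    have e := FourGroup.sum_sq_mul_div_eq J (g : G)⁻¹
    rw [inv_inv, Finset.mul_sum, Finset.mul_sum] at e
    have e' := congrArg (fun s => (Nat.card (rotPart π) : ℂ)⁻¹ * phi h π g * s) e
    simp only [Finset.mul_sum] at e'
    refine (Finset.sum_congr rfl fun η _ => ?_).trans (e'.trans (Finset.sum_congr rfl fun x _ => ?_))
    · ring
    · rw [show Subgroup.centralizer ({J} : Set G) = cJ σ k from rfl]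
      ring
  have hx0 : (χ : G → ℂ) 1 ≠ 0 := irr_one_ne_zero χ
  have hz0 : (z : ℂ) ≠ 0 := fun e => by rw [e, zero_mul] at hz2; exact zero_ne_one hz2
  have hq : (1 + δ * (χ : G → ℂ) 1) ≠ 0 := fun e => by
    rw [e, neg_zero] at hψ1
    exact mul_ne_zero hz0 (irr_one_ne_zero ψ) hψ1
  have hxδ : (χ : G → ℂ) 1 + δ ≠ 0 := fun e => hq (by linear_combination δ * e + (-1 : ℂ) * hδ2)
  have hW2 : W * ((χ : G → ℂ) 1 * ((χ : G → ℂ) 1 + δ)) = ((χ : G → ℂ) 1 - δ) ^ 2 := by
    have e : (z : ℂ) * ((ψ : G → ℂ) J ^ 2 / (ψ : G → ℂ) 1) = -4 / (1 + δ * (χ : G → ℂ) 1) := by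
      rw [mul_div_assoc', div_eq_div_iff (irr_one_ne_zero ψ) hq]
      linear_combination ((z : ℂ) * (ψ : G → ℂ) J ^ 2) * hψ1
        + (-(ψ : G → ℂ) 1 * ((z : ℂ) * (ψ : G → ℂ) J + 2)) * hψJ
    rw [hWval, e]
    field_simp
    rcases hδ with rfl | rfl <;> ring
  have hc : (Nat.card (cJ σ k) : ℂ) = 2 * (Nat.card (rotPart π) : ℂ) := by
    rw [card_cJ h hπ, Nat.cast_mul, Nat.cast_two]
  have hmain : (Nat.card G : ℂ) * ((χ : G → ℂ) 1 - δ) ^ 2
      = 2 * (χ : G → ℂ) 1 * ((χ : G → ℂ) 1 + δ) * (Nat.card (cJ σ k) : ℂ) ^ 3 *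
        (1 / (Nat.card (Subgroup.centralizer ({J, τ} : Set G)) : ℂ)
          + 1 / (Nat.card (Subgroup.centralizer ({J, σ * τ} : Set G)) : ℂ)) ^ 2 := by
    rw [← hW2, ← mul_assoc, hGW, card_refl h hπ hJτ hJστ, hc]
    field_simp
    ring
  refine ⟨fun e => ?_, hmain⟩
  rw [e, sub_self, zero_pow two_ne_zero, mul_zero] at hmain
  have hrefl : (refl π).card ≠ 0 := Finset.card_ne_zero.2 ⟨τ, mem_refl.2
    ⟨hJτ, Subgroup.mem_centralizer_singleton_iff.2 (z_comm h τ h.bmem).eq.symm, fun hc' => by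
      have h5 := (mem_rotPart (rotPart_le π hc')).1 hc'
      rw [show π ⟨τ, rotPart_le π hc'⟩ = ⟨τ, h.bmem⟩ from hπ ⟨τ, h.bmem⟩ _] at h5
      exact h.nb h5⟩⟩
  have hs := card_refl h hπ hJτ hJστ
  have hs0 : ((refl π).card : ℂ) ≠ 0 := Nat.cast_ne_zero.2 hrefl
  rw [hs] at hs0
  rw [e] at hx0 hxδ
  exact mul_ne_zero (mul_ne_zero (mul_ne_zero (mul_ne_zero two_ne_zero hx0) hxδ)
    (pow_ne_zero 3 (left_ne_zero_of_mul hs0))) (pow_ne_zero 2 (right_ne_zero_of_mul hs0)) hmain.symm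

end CfsgLib.Blocks.DihedralOrder
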