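import Cfsg.Agent.Lib.Blocks.Height
import Cfsg.Agent.Lib.Blocks.Defect

/-!
# Blocks whose central characters are symmetric under inversion, for `p = 2`
-/

set_option autoImplicit false

namespace CfsgLib.Blocks

open Cfsg
open scoped Classical ComplexConjugate

variable {G : Type*} [Group G] [Fintype G] {M : Ideal AlgInt}

/-- The class of inverses. -/
noncomputable def classInv (C : ConjClasses G) : ConjClasses G := ConjClasses.mk C.out⁻¹

theorem classInv_mk (g : G) : classInv (ConjClasses.mk g) = ConjClasses.mk g⁻¹ := by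
  rw [classInv, ConjClasses.mk_eq_mk_iff_isConj]
  obtain ⟨c, hc⟩ := isConj_iff.1
    (ConjClasses.mk_eq_mk_iff_isConj.1 (Quotient.out_eq (ConjClasses.mk g)))
  exact isConj_iff.2 ⟨c, by conv_rhs => rw [← hc]
                            simp [mul_assoc]⟩

theorem classInv_classInv (C : ConjClasses G) : classInv (classInv C) = C := by
  obtain ⟨g, rfl⟩ := ConjClasses.exists_rep C
  rw [classInv_mk, classInv_mk, inv_inv]

/-- In characteristic 2 a class function symmetric under inversion only sees the real classes. -/
theorem omega_LI_of_symm (hM : IsPModular 2 M) (χ : IrrCharacter G) {f : G → ℂ}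
    (hf : IsClassFunction G f) (hR : ∀ g, MemLocalRing M (f g))
    (hsym : ∀ g, MemLocalIdeal M (f g⁻¹ * centralChar (χ : G → ℂ) g⁻¹
      - f g * centralChar (χ : G → ℂ) g))
    (hreal : ∀ g, IsConj g g⁻¹ → MemLocalIdeal M (f g * centralChar (χ : G → ℂ) g)) :
    MemLocalIdeal M (omega (χ : G → ℂ) f) := by
  set F : G → ℂ := fun g => f g * centralChar (χ : G → ℂ) g
  have hF : IsClassFunction G F := fun x y => by
    have h1 : f (y * x * y⁻¹) = f x := hf x y
    have h2 : centralChar (χ : G → ℂ) (y * x * y⁻¹) = centralChar (χ : G → ℂ) x :=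
      centralChar_isClassFunction χ x y
    simp only [F, h1, h2]
  have hFR : ∀ g, MemLocalRing M (F g) := fun g => LR.mul hM (hR g) (centralChar_LR hM χ g)
  let π : ConjClasses G → (localSubring hM) ⧸ (localMaxIdeal hM) := fun C =>
    Ideal.Quotient.mk _ ⟨F C.out, hFR _⟩
  have h0 : ∀ C, π C = 0 ↔ MemLocalIdeal M (F C.out) := fun C => by
    simp only [π, Ideal.Quotient.eq_zero_iff_mem, mem_localMaxIdeal]
  have hsum : ∑ C : ConjClasses G, π C = 0 := by
    refine Finset.sum_involution (fun C _ => classInv C) (fun C _ => ?_) (fun C _ hne hfix => ?_)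
      (fun C _ => Finset.mem_univ _) (fun C _ => classInv_classInv C)
    · simp only [π, ← map_add, Ideal.Quotient.eq_zero_iff_mem, mem_localMaxIdeal]
      show MemLocalIdeal M (F C.out + F (classInv C).out)
      have hout : F (classInv C).out = F C.out⁻¹ :=
        CfsgLib.Char.IsClassFunction.apply_eq_of_isConj hF
          (ConjClasses.mk_eq_mk_iff_isConj.1 (Quotient.out_eq _))
      rw [hout, show F C.out + F C.out⁻¹ = (F C.out⁻¹ - F C.out) + (2 : ℕ) * F C.out by
        push_cast; ring]
      exact LI.add hM (hsym _) (LI.mul_right hM (LI.natCast_prime hM) (hFR _))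
    · refine hne ((h0 C).2 (hreal _ ?_))
      refine ConjClasses.mk_eq_mk_iff_isConj.1 ?_
      show ConjClasses.mk C.out = classInv C
      rw [hfix]; exact Quotient.out_eq C
  simp only [π, ← map_sum, Ideal.Quotient.eq_zero_iff_mem, mem_localMaxIdeal,
    AddSubmonoidClass.coe_finsetSum] at hsum
  rwa [omega_eq_sum_centralChar χ hf]

theorem centralChar_irrConj (χ : IrrCharacter G) (g : G) :
    centralChar (irrConj χ : G → ℂ) g = conj (centralChar (χ : G → ℂ) g) := by
  simp only [centralChar, irrConj_apply, map_div₀, map_mul, map_natCast]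

theorem centralChar_inv (χ : IrrCharacter G) (g : G) :
    centralChar (χ : G → ℂ) g⁻¹ = centralChar (irrConj χ : G → ℂ) g := by
  have h : (Subgroup.centralizer ({g⁻¹} : Set G)) = Subgroup.centralizer ({g} : Set G) := by
    ext x
    simp only [Subgroup.mem_centralizer_singleton_iff]
    exact ⟨fun h => by simpa using (Commute.inv_right (show Commute x g⁻¹ from h)).eq,
      fun h => (Commute.inv_right (show Commute x g from h)).eq⟩
  simp only [centralChar, h, irrConj_apply_inv, inv_one]

variable {p : ℕ}

/-- The principal block is closed under complex conjugation. -/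
theorem irrConj_mem_principalBlock (hM : IsPModular p M) {χ : IrrCharacter G}
    (h : χ ∈ principalBlock M G) : irrConj χ ∈ principalBlock M G := by
  rw [principalBlock, mem_blockOf] at h ⊢
  intro g
  have h1 := h g⁻¹
  rw [centralChar_inv χ] at h1
  have h2 : centralChar (fun _ : G => (1 : ℂ)) g⁻¹ = centralChar (fun _ : G => (1 : ℂ)) g :=
    (centralChar_inv (trivChar G) g).trans (by simp [centralChar, irrConj_apply])
  rwa [h2] at h1

theorem blockCoeff_principalBlock_inv (hM : IsPModular p M) (g : G) :
    blockCoeff (principalBlock M G) g⁻¹ = blockCoeff (principalBlock M G) g := by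
  simp only [blockCoeff_eq_fourierInv, fourierInv, inv_inv]
  congr 1
  have hi : Function.Involutive (irrConj (G := G)) := irrConj_irrConj
  refine Fintype.sum_equiv (Function.Involutive.toPerm _ hi) _ _ fun ψ => ?_
  simp only [Function.Involutive.coe_toPerm, irrConj_apply_inv, inv_inv, inv_one]
  congr 1
  by_cases hψ : ψ ∈ principalBlock M G
  · rw [blockInd_of_mem hψ, blockInd_of_mem (irrConj_mem_principalBlock hM hψ)]
  · rw [blockInd_of_notMem hψ, blockInd_of_notMem fun h => hψ (by
      simpa [irrConj_irrConj] using irrConj_mem_principalBlock hM h)]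

/-- An element of odd order which is conjugate to its inverse and has a class of odd size is
trivial. -/
theorem eq_one_of_real_of_odd_index {g : G} (hg : Odd (orderOf g)) (hconj : IsConj g g⁻¹)
    (hidx : Odd (Subgroup.centralizer ({g} : Set G)).index) : g = 1 := by
  set s := Finset.univ.filter fun x : G => IsConj g x
  have hcard : Odd s.card := by
    rwa [← Fintype.card_subtype, ← Nat.card_eq_fintype_card,
      Nat.card_congr (Equiv.subtypeEquivRight fun x => (isConj_comm (g := g) (h := x))),
      CfsgLib.Char.card_isConj_eq_index]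
  by_contra hne
  have hsq : ∀ x ∈ s, x⁻¹ ≠ x := by
    intro x hx he
    obtain ⟨c, rfl⟩ := isConj_iff.1 (Finset.mem_filter.1 hx).2
    have h1 : (c * g * c⁻¹) ^ 2 = 1 := by rw [sq]; exact mul_eq_one_iff_eq_inv.2 he.symm
    have h2 : orderOf (c * g * c⁻¹) = orderOf g := (MulAut.conj c).orderOf_eq g
    have h3 := orderOf_dvd_of_pow_eq_one h1
    rw [h2] at h3
    rcases (Nat.dvd_prime Nat.prime_two).1 h3 with h | h
    · exact hne (orderOf_eq_one_iff.1 h)
    · rw [h] at hg; exact absurd hg (by decide)
  have heven : ((s.card : ℕ) : ZMod 2) = 0 := by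
    rw [Finset.card_eq_sum_ones, Nat.cast_sum, Nat.cast_one]
    refine Finset.sum_involution (fun x _ => x⁻¹) (fun _ _ => by decide) (fun x hx _ => hsq x hx)
      (fun x hx => ?_) (fun x _ => inv_inv x)
    refine Finset.mem_filter.2 ⟨Finset.mem_univ _, hconj.trans ?_⟩
    obtain ⟨c, rfl⟩ := isConj_iff.1 (Finset.mem_filter.1 hx).2
    exact isConj_iff.2 ⟨c, by simp [mul_assoc]⟩
  rw [ZMod.natCast_eq_zero_iff_even] at heven
  exact Nat.not_odd_iff_even.2 heven hcard

theorem odd_orderOf_of_isPRegular {g : G} (h : IsPRegular 2 g) : Odd (orderOf g) :=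
  Nat.odd_iff.2 (Nat.two_dvd_ne_zero.1 h)

/-- Away from a symmetric function containing the real classes the principal idempotent is invisible. -/
theorem omega_sub_principal_LI (hM : IsPModular 2 M) {χ : IrrCharacter G} {f : G → ℂ}
    (hf : IsClassFunction G f) (hR : ∀ g, MemLocalRing M (f g)) (hinv : ∀ g, f g⁻¹ = f g)
    (hregsupp : ∀ g, ¬ IsPRegular 2 g → f g = blockCoeff (principalBlock M G) g)
    (hsym : ∀ g, IsPRegular 2 g →
      MemLocalIdeal M (centralChar (χ : G → ℂ) g⁻¹ - centralChar (χ : G → ℂ) g))
    (hreal : ∀ g, IsPRegular 2 g → IsConj g g⁻¹ →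
      MemLocalIdeal M ((blockCoeff (principalBlock M G) g - f g) * centralChar (χ : G → ℂ) g)) :
    MemLocalIdeal M (omega (χ : G → ℂ) f - blockInd (principalBlock M G) χ) := by
  have hB0 : IsPBlock M (principalBlock M G) := isPBlock_principalBlock
  set a := blockCoeff (principalBlock M G) with ha
  have h : MemLocalIdeal M (omega (χ : G → ℂ) fun g => a g - f g) := by
    refine omega_LI_of_symm hM χ ?_ ?_ ?_ ?_
    · exact fun x y => congrArg₂ (· - ·) (blockCoeff_isClassFunction _ x y) (hf x y)
    · exact fun g => LR.sub hM (blockCoeff_LR hM hB0 g) (hR g)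
    · intro g
      simp only [ha, blockCoeff_principalBlock_inv hM, hinv, ← mul_sub]
      by_cases hg : IsPRegular 2 g
      · exact LI.mul_left hM (LR.sub hM (blockCoeff_LR hM hB0 g) (hR g)) (hsym g hg)
      · rw [hregsupp g hg, sub_self, zero_mul]; exact LI.zero hM
    · intro g hc
      by_cases hg : IsPRegular 2 g
      · exact hreal g hg hc
      · show MemLocalIdeal M ((a g - f g) * _)
        rw [hregsupp g hg, sub_self, zero_mul]; exact LI.zero hM
  refine LI.sub_comm ?_
  rw [← omega_blockCoeff (principalBlock M G) χ]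
  convert h using 1
  simp only [omega, sub_mul, Finset.sum_sub_distrib, sub_div, a]

theorem omega_single_one (χ : IrrCharacter G) (c : ℂ) :
    omega (χ : G → ℂ) (fun g => if g = 1 then c else 0) = c := by
  simp [omega, irr_one_ne_zero χ]

/-- A 2-block of full defect with central character symmetric at regular elements is principal. -/
theorem eq_principalBlock_of_symm (hM : IsPModular 2 M) {B : Set (IrrCharacter G)}
    (hB : IsPBlock M B) (hdef : blockDefect 2 B = (Nat.card G).factorization 2)
    {χ : IrrCharacter G} (hχ : χ ∈ B)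
    (hsym : ∀ g, IsPRegular 2 g →
      MemLocalIdeal M (centralChar (χ : G → ℂ) g⁻¹ - centralChar (χ : G → ℂ) g)) :
    B = principalBlock M G := by
  have hB0 : IsPBlock M (principalBlock M G) := isPBlock_principalBlock
  set a := blockCoeff (principalBlock M G)
  have hcl : ∀ c : ℂ, IsClassFunction G fun g : G => if g = 1 then c else 0 := fun c x y => by
    simp only [conj_eq_one_iff]
  have key : ∀ (φ : IrrCharacter G), (∀ g, ¬ MemLocalIdeal M (centralChar (φ : G → ℂ) g) →
      IsPRegular 2 g → IsConj g g⁻¹ → g = 1) →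
      (∀ g, IsPRegular 2 g →
        MemLocalIdeal M (centralChar (φ : G → ℂ) g⁻¹ - centralChar (φ : G → ℂ) g)) →
      MemLocalIdeal M (omega (φ : G → ℂ) a - a 1) := by
    intro φ hreal hs
    have e : omega (φ : G → ℂ) a - a 1
        = omega (φ : G → ℂ) fun g => a g - if g = 1 then a 1 else 0 := by
      conv_lhs => arg 2; rw [← omega_single_one φ (a 1)]
      simp only [omega, sub_mul, Finset.sum_sub_distrib, sub_div]
    rw [e]
    have hLR : ∀ g, MemLocalRing M (a g - if g = 1 then a 1 else 0) := fun g =>
      LR.sub hM (blockCoeff_LR hM hB0 g) (by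
        split
        · exact blockCoeff_LR hM hB0 1
        · exact LR.zero hM)
    refine omega_LI_of_symm hM φ (fun x y => congrArg₂ (· - ·)
      (blockCoeff_isClassFunction _ x y) (hcl (a 1) x y)) hLR ?_ ?_
    · intro g
      simp only [a, blockCoeff_principalBlock_inv hM, inv_eq_one, ← mul_sub]
      by_cases hg : IsPRegular 2 g
      · exact LI.mul_left hM (hLR g) (hs g hg)
      · have h0 : blockCoeff (principalBlock M G) g = 0 :=
          IsPBlock.blockCoeff_eq_zero hM hB0 (by simpa using not_isPRegular.1 hg)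
        have h1 : g ≠ 1 := fun h => hg (by simp [IsPRegular, h])
        rw [h0, if_neg h1, sub_zero, zero_mul]
        exact LI.zero hM
    · intro g hc
      by_cases h1 : g = 1
      · subst h1; simp [LI.zero hM]
      rw [if_neg h1, sub_zero]
      by_cases hg : IsPRegular 2 g
      · by_cases hI : MemLocalIdeal M (centralChar (φ : G → ℂ) g)
        · exact LI.mul_left hM (blockCoeff_LR hM hB0 g) hI
        · exact absurd (hreal g hI hg hc) h1
      · simp only [a]
        rw [IsPBlock.blockCoeff_eq_zero hM hB0 (by simpa using not_isPRegular.1 hg), zero_mul]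
        exact LI.zero hM
  have hodd : ∀ (C : Set (IrrCharacter G)), IsPBlock M C →
      blockDefect 2 C = (Nat.card G).factorization 2 → ∀ φ ∈ C, ∀ g,
      ¬ MemLocalIdeal M (centralChar (φ : G → ℂ) g) → IsPRegular 2 g → IsConj g g⁻¹ → g = 1 := by
    intro C hC hd φ hφ g hI hg hc
    refine eq_one_of_real_of_odd_index (odd_orderOf_of_isPRegular hg) hc ?_
    have h1 := blockDefect_le_centExp hM hC hφ hI
    have h2 := index_factorization_add (p := 2) g
    rw [Nat.odd_iff, ← Nat.two_dvd_ne_zero]
    intro hdvd
    have := Nat.Prime.factorization_pos_of_dvd Nat.prime_two Subgroup.index_ne_zero_of_finite hdvd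
    omega
  have htriv : blockDefect 2 (principalBlock M G) = (Nat.card G).factorization 2 := by
    have h1 := minDegVal_le (p := 2) (trivChar_mem_principalBlock (G := G) hM)
    have h2 : degVal 2 (trivChar G) = 0 := by
      have : charDegree (trivChar G : G → ℂ) = 1 := by
        have h := irr_one_eq (trivChar G)
        rw [trivChar_apply] at h
        exact_mod_cast h.symm
      rw [degVal, this]; simp
    rw [blockDefect_eq]; omega
  have h0 := key (trivChar G) (hodd _ hB0 htriv _ (trivChar_mem_principalBlock hM))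
    (fun g _ => by rw [centralChar_inv]; simp [centralChar, irrConj_apply, LI.zero hM])
  have hB' := key χ (hodd _ hB hdef _ hχ) hsym
  rw [omega_blockCoeff, blockInd_of_mem (trivChar_mem_principalBlock hM)] at h0
  rw [omega_blockCoeff] at hB'
  by_contra hne
  rw [blockInd_of_notMem fun h => hne (IsPBlock.eq_of_mem hM hB hB0 hχ h)] at hB'
  have := LI.sub hM h0 hB'
  simp at this
  exact LI.not_one hM this

/-- A character of odd degree with values symmetric at regular elements lies in the principal
2-block. -/
theorem mem_principalBlock_of_odd (hM : IsPModular 2 M) {χ : IrrCharacter G}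
    (hodd : Odd (charDegree (χ : G → ℂ)))
    (hsym : ∀ g, IsPRegular 2 g → (χ : G → ℂ) g⁻¹ = (χ : G → ℂ) g) :
    χ ∈ principalBlock M G := by
  have hmem : χ ∈ blockOf M (χ : G → ℂ) := SameBlock_refl hM _
  rw [← eq_principalBlock_of_symm hM (isPBlock_blockOf χ) ?_ hmem fun g hg => ?_]
  · exact hmem
  · have h1 := minDegVal_le (p := 2) hmem
    have h2 : degVal 2 χ = 0 :=
      Nat.factorization_eq_zero_of_not_dvd (Nat.two_dvd_ne_zero.2 (Nat.odd_iff.1 hodd))
    rw [blockDefect_eq]; omega
  · rw [centralChar_inv]
    simp only [centralChar, irrConj_apply_inv, inv_one, hsym g hg, sub_self]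
    exact LI.zero hM

end CfsgLib.Blocks

namespace CfsgLib.Blocks

open Cfsg

/-- In a group of odd order only the identity is conjugate to its inverse. -/
theorem eq_one_of_real_of_odd_card {Q : Type*} [Group Q] [Finite Q] (h : Odd (Nat.card Q)) {x : Q}
    (hx : IsConj x x⁻¹) : x = 1 := by
  obtain ⟨c, hc⟩ := isConj_iff.1 hx
  have hstep : ∀ k : ℕ, c ^ (2 * k) * x * (c ^ (2 * k))⁻¹ = x := by
    intro k
    induction k with
    | zero => simp
    | succ k ih =>
      have h2 : c * x⁻¹ * c⁻¹ = x := by
        have := congrArg (·⁻¹) hc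
        simpa [mul_assoc] using this
      calc c ^ (2 * (k + 1)) * x * (c ^ (2 * (k + 1)))⁻¹
          = c * (c * (c ^ (2 * k) * x * (c ^ (2 * k))⁻¹) * c⁻¹) * c⁻¹ := by
            rw [show 2 * (k + 1) = 2 * k + 2 by ring, pow_add, (Commute.pow_pow_self c (2*k) 2).eq,
              sq, mul_inv_rev, mul_inv_rev]
            simp only [mul_assoc]
        _ = x := by rw [ih, hc, h2]
  obtain ⟨k, hk⟩ := h.of_dvd_nat (orderOf_dvd_natCard c)
  have h1 := hstep k
  have h2 : c ^ (2 * k) = c⁻¹ := by
    rw [← mul_eq_one_iff_eq_inv, ← pow_succ, ← hk, pow_orderOf_eq_one]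
  rw [h2, inv_inv] at h1
  have h3 : c⁻¹ * x⁻¹ * c = x := by rw [← hc]; group
  have h4 : x⁻¹ = x := by
    apply mul_left_cancel (a := c⁻¹)
    apply mul_right_cancel (b := c)
    rw [h3, h1]
  have h5 : x ^ 2 = 1 := by rw [sq]; exact mul_eq_one_iff_eq_inv.2 h4.symm
  rcases (Nat.dvd_prime Nat.prime_two).1 (orderOf_dvd_of_pow_eq_one h5) with h6 | h6
  · exact orderOf_eq_one_iff.1 h6
  · have := h.of_dvd_nat (orderOf_dvd_natCard x)
    rw [h6] at this
    exact absurd this (by decide)

end CfsgLib.Blocks
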