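import Cfsg.Agent.Lib.Blocks.FourGroupBlock
import Cfsg.Agent.Lib.Blocks.BrauerHom
import Cfsg.Agent.Lib.Blocks.RealBlocks

/-!
# The order formula of a group with a four group as Sylow 2-subgroup
-/

set_option autoImplicit false
set_option maxHeartbeats 800000

namespace CfsgLib.Blocks.FourGroup

open Cfsg CfsgLib.Blocks CfsgLib.BrauerSuzuki CfsgLib.Blocks.TIAbelian
open scoped Classical ComplexConjugate

variable {G : Type*} [Group G] [Fintype G] [Fact (Nat.Prime 2)] {P : Sylow 2 G}

/-- Class multiplication as a sum over the irreducible characters. -/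
theorem sum_sq_mul_div_eq (t z : G) :
    (Nat.card G : ℂ) * ∑ χ : IrrCharacter G, (χ : G → ℂ) t ^ 2 * (χ : G → ℂ) z / (χ : G → ℂ) 1
      = (Nat.card (Subgroup.centralizer ({t} : Set G)) : ℂ) ^ 2
        * ∑ x : G, classInd t x * classInd t (x⁻¹ * z⁻¹) := by
  set f : G → ℂ := fun w => ∑ x, classInd t x * classInd t (x⁻¹ * w)
  have hcl := classInd_isClassFunction (G := G) t
  have h1 := congrFun (fourierInv_omega (conv_isClassFunction hcl hcl)) z⁻¹
  change _ = f z⁻¹ at h1
  rw [fourierInv] at h1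
  set i : ℂ := ((Subgroup.centralizer ({t} : Set G)).index : ℂ)
  set c : ℂ := (Nat.card (Subgroup.centralizer ({t} : Set G)) : ℂ)
  have hic : c * i = (Nat.card G : ℂ) := by
    rw [← Nat.cast_mul, Subgroup.card_mul_index]
  set S := ∑ χ : IrrCharacter G, (χ : G → ℂ) t ^ 2 * (χ : G → ℂ) z / (χ : G → ℂ) 1
  have h3 : (Nat.card G : ℂ)⁻¹ * (i ^ 2 * S) = f z⁻¹ := by
    rw [← h1]
    congr 1
    rw [Finset.mul_sum]
    refine Finset.sum_congr rfl fun χ _ => ?_
    rw [omega_conv χ hcl hcl, omega_classInd, centralChar, inv_inv]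
    field_simp [irr_one_ne_zero χ]
    ring
  show (Nat.card G : ℂ) * S = c ^ 2 * f z⁻¹
  rw [← h3, ← hic]
  have hc : c ≠ 0 := Nat.cast_ne_zero.2 Nat.card_pos.ne'
  have hi : i ≠ 0 := Nat.cast_ne_zero.2 Subgroup.index_ne_zero_of_finite
  field_simp

/-- Without a normal 2-complement all involutions are conjugate. -/
theorem isConj_involutions (hP : Nat.card P = 4) (hexp : ∀ x : P, x * x = 1)
    (hnpc : ¬ Cfsg.HasNormalPComplement 2 G) {s t : G} (hs : orderOf s = 2) (ht : orderOf t = 2) :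
    IsConj s t := by
  have hF := frobSylow_four P hP hexp
  have hcardP : Nat.card ↥(P : Subgroup G) = 4 := hP
  have key : ∀ a b : ↥(P : Subgroup G), a ≠ 1 → b ≠ 1 → IsConj (a : G) (b : G) := by
    intro a b ha hb
    have hcard := hF.card_conj_inter a.2 fun e => ha (Subtype.ext e)
    set S := Finset.univ.filter fun y : ↥(P : Subgroup G) => IsConj (a : G) (y : G) with hS
    have hsub : S ⊆ Finset.univ.erase 1 := fun y hy => by
      refine Finset.mem_erase.2 ⟨fun e => ?_, Finset.mem_univ _⟩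
      have h := (Finset.mem_filter.1 hy).2
      rw [e, OneMemClass.coe_one, isConj_one_left] at h
      exact ha (Subtype.ext h)
    have h3 : (Finset.univ.erase (1 : ↥(P : Subgroup G))).card = 3 := by
      rw [Finset.card_erase_of_mem (Finset.mem_univ _), Finset.card_univ, ← Nat.card_eq_fintype_card,
        hcardP]
    have hpos : 0 < autCard P := FrobSylow.autCard_pos hF
    have hne1 : autCard P ≠ 1 := fun h1 => hnpc <| by
      refine CfsgLib.Fusion.Abelian.npc_of_normalizer_le_centralizer P ?_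
      have h2 := autCard_eq P
      rw [h1] at h2
      exact Subgroup.relIndex_eq_one.1 h2.symm
    have hodd : ¬ 2 ∣ autCard P := by
      intro hd
      have hPC : (P : Subgroup G) ≤ Subgroup.centralizer ((P : Subgroup G) : Set G) := fun u hu =>
        Subgroup.mem_centralizer_iff.2 fun v hv => hF.comm v hv u hu
      rw [autCard_eq] at hd
      exact P.not_dvd_index (hd.trans ((Subgroup.relIndex_dvd_of_le_left _ hPC).trans
        (Dvd.intro _ (Subgroup.relIndex_mul_index Subgroup.le_normalizer))))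
    have hle : autCard P ≤ 3 := by rw [← hcard, ← h3]; exact Finset.card_le_card hsub
    have h33 : autCard P = 3 := by omega
    have hSe : S = Finset.univ.erase 1 :=
      Finset.eq_of_subset_of_card_le hsub (by rw [h3, hcard, h33])
    have hb' : b ∈ S := by rw [hSe]; exact Finset.mem_erase.2 ⟨hb, Finset.mem_univ _⟩
    exact (Finset.mem_filter.1 hb').2
  have hmove : ∀ w : G, orderOf w = 2 → ∃ a : ↥(P : Subgroup G), a ≠ 1 ∧ IsConj w (a : G) := by
    intro w hw
    obtain ⟨u, hu⟩ := exists_conj_mem_sylow_p P (R := Subgroup.zpowers w)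
      (IsPGroup.of_card (n := 1) (by rw [Nat.card_zpowers, hw, pow_one]))
    refine ⟨⟨_, hu w (Subgroup.mem_zpowers w)⟩, fun e => ?_, isConj_iff.2 ⟨u, rfl⟩⟩
    have h1 : w = 1 := conj_eq_one_iff.mp (congrArg Subtype.val e)
    rw [h1, orderOf_one] at hw
    omega
  obtain ⟨a, ha, hsa⟩ := hmove s hs
  obtain ⟨b, hb, htb⟩ := hmove t ht
  exact hsa.trans ((key a b ha hb).trans htb.symm)

/-- The pairs of involutions with product in the section of `J`. -/
theorem pair_count (hF : FrobSylow P) (hP : Nat.card P = 4) (hexp : ∀ x : P, x * x = 1)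
    (hone : ∀ s t : G, orderOf s = 2 → orderOf t = 2 → IsConj s t)
    {J : G} (hJ : J ∈ (P : Subgroup G)) (hJ2 : orderOf J = 2) :
    (∑ s : Subgroup.centralizer ({J} : Set G) with IsPRegular 2 s,
        ∑ x : G, classInd J x * classInd J (x⁻¹ * (J * (s : G))⁻¹))
      * (Nat.card (Subgroup.centralizer ((P : Subgroup G) : Set G)) : ℂ) ^ 2
      = 2 * (Nat.card (Subgroup.centralizer ({J} : Set G)) : ℂ) ^ 2 := by
  have hJ1 : J ≠ 1 := fun e => by rw [e, orderOf_one] at hJ2; omega
  have hJJ : J * J = 1 := congrArg Subtype.val (hexp ⟨J, hJ⟩)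
  have hJi : J⁻¹ = J := inv_eq_of_mul_eq_one_right hJJ
  set C := Subgroup.centralizer ({J} : Set G) with hC
  have hmemC : ∀ g : G, g ∈ C ↔ g * J = J * g := fun g => Subgroup.mem_centralizer_singleton_iff
  have hPC : (P : Subgroup G) ≤ C := hF.sylow_le_centralizer hJ
  have hnpc := hF.npc_centralizer hJ hJ1
  set K := Cfsg.pResidual 2 ↥C with hK
  have hKodd : ¬ 2 ∣ Nat.card K :=
    (Nat.Prime.coprime_iff_not_dvd Nat.prime_two).mp
      (CfsgLib.Fusion.Basic.npc_iff_coprime.mp hnpc).symm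
  have hKreg : ∀ s : C, IsPRegular 2 s ↔ s ∈ K := fun s =>
    ⟨fun hs => CfsgLib.Fusion.Basic.mem_pResidual_of_coprime
      ((Nat.Prime.coprime_iff_not_dvd Nat.prime_two).mpr hs).symm,
      fun hs h => hKodd (h.trans (Subgroup.orderOf_dvd_natCard K hs))⟩
  -- the quotient is the Sylow group
  let π : ↥(P : Subgroup G) →* ↥C ⧸ K := (QuotientGroup.mk' K).comp (Subgroup.inclusion hPC)
  have hπinj : Function.Injective π := by
    rw [injective_iff_map_eq_one]
    intro a ha
    by_contra ha1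
    have h1 : IsPRegular 2 (Subgroup.inclusion hPC a) :=
      (hKreg _).2 ((QuotientGroup.eq_one_iff _).1 ha)
    refine h1 (dvd_of_eq ?_)
    rw [orderOf_injective _ (Subgroup.inclusion_injective hPC),
      orderOf_eq_prime (by rw [pow_two]; exact hexp a) ha1]
  have hcardQ : Nat.card (↥C ⧸ K) = 4 := by
    have h1 := TIAbelian.regCard_mul hF (z := J) ⟨1, by rw [hJ2, pow_one]⟩ hJ1
    have h2 : (regCard 2 J) = Nat.card K := by
      rw [regCard, Nat.card_eq_fintype_card, Fintype.card_subtype]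
      exact congrArg Finset.card (Finset.filter_congr fun s _ => hKreg s)
    have h3 : Nat.card K * K.index = Nat.card C := Subgroup.card_mul_index K
    have h4 : Nat.card K * 4 = Nat.card C := by
      have hP' : Nat.card ↥(P : Subgroup G) = 4 := hP
      rw [h2, hP'] at h1
      exact_mod_cast h1
    rw [← Subgroup.index_eq_card]
    exact Nat.eq_of_mul_eq_mul_left Nat.card_pos (h3.trans h4.symm)
  have hπbij : Function.Bijective π :=
    Function.Injective.bijective_of_nat_card_le hπinj (by rw [hcardQ]; exact hP.ge)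
  have hQcomm : ∀ a b : ↥C ⧸ K, a * b = b * a := fun a b => by
    obtain ⟨a, rfl⟩ := hπbij.2 a
    obtain ⟨b, rfl⟩ := hπbij.2 b
    rw [← map_mul, ← map_mul, show a * b = b * a from Subtype.ext (hF.comm a a.2 b b.2)]
  set O : ↥(P : Subgroup G) → Finset G := fun a =>
    Finset.univ.filter fun x => ∃ c ∈ C, c * (a : G) * c⁻¹ = x with hO
  have hOmem : ∀ a x, x ∈ O a ↔ ∃ c ∈ C, c * (a : G) * c⁻¹ = x := fun a x => by simp [hO]
  -- the image in the quotient determines the class
  have hclass : ∀ a x (hx : x ∈ C), orderOf x = 2 → QuotientGroup.mk' K (⟨x, hx⟩ : C) = π a →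
      x ∈ O a := by
    intro a x hx hx2 hxa
    set PC : Sylow 2 ↥C := P.subtype hPC
    obtain ⟨c, hc⟩ := exists_conj_mem_sylow_p PC (R := Subgroup.zpowers (⟨x, hx⟩ : C))
      (IsPGroup.of_card (n := 1) (by rw [Nat.card_zpowers, Subgroup.orderOf_mk, hx2, pow_one]))
    have hy := hc _ (Subgroup.mem_zpowers _)
    have hyP : ((c : G) * x * (c : G)⁻¹) ∈ (P : Subgroup G) := Subgroup.mem_subgroupOf.mp hy
    have e1 : π ⟨_, hyP⟩ = π a := by
      rw [← hxa]
      show QuotientGroup.mk' K (c * ⟨x, hx⟩ * c⁻¹) = _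
      rw [map_mul, map_mul, hQcomm (QuotientGroup.mk' K c), mul_assoc, map_inv, mul_inv_cancel,
        mul_one]
    refine (hOmem a x).2 ⟨(c : G)⁻¹, C.inv_mem c.2, ?_⟩
    rw [← hπinj e1]
    simp [mul_assoc]
  have hOC : ∀ a x, x ∈ O a → ∃ hx : x ∈ C, QuotientGroup.mk' K (⟨x, hx⟩ : C) = π a := by
    intro a x h
    obtain ⟨c, hc, rfl⟩ := (hOmem a x).1 h
    refine ⟨C.mul_mem (C.mul_mem hc (hPC a.2)) (C.inv_mem hc), ?_⟩
    show QuotientGroup.mk' K (⟨c, hc⟩ * Subgroup.inclusion hPC a * (⟨c, hc⟩ : C)⁻¹) = _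
    rw [map_mul, map_mul, hQcomm (QuotientGroup.mk' K ⟨c, hc⟩), mul_assoc, map_inv, mul_inv_cancel,
      mul_one]
    rfl
  set jP : ↥(P : Subgroup G) := ⟨J, hJ⟩
  have hjP1 : jP ≠ 1 := fun e => hJ1 (congrArg Subtype.val e)
  obtain ⟨u, hu1, huJ⟩ : ∃ u : ↥(P : Subgroup G), u ≠ 1 ∧ u ≠ jP := by
    by_contra hcon
    push Not at hcon
    have hsub : (Finset.univ : Finset ↥(P : Subgroup G)) ⊆ {1, jP} := fun z _ => by
      by_cases h : z = 1
      · simp [h]
      · simp [hcon z h]
    have h := (Finset.card_le_card hsub).trans Finset.card_le_two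
    rw [Finset.card_univ, ← Nat.card_eq_fintype_card] at h
    have hP' : Nat.card ↥(P : Subgroup G) = 4 := hP
    omega
  set v : ↥(P : Subgroup G) := u * jP with hv
  have hv1 : v ≠ 1 := fun e => huJ (by
    rw [← mul_one u, ← hexp jP, ← mul_assoc, ← hv, e, one_mul])
  have hvJ : v ≠ jP := fun e => hu1 (mul_eq_right.1 e)
  have hPcomm : ∀ a b : ↥(P : Subgroup G), a * b = b * a := fun a b =>
    Subtype.ext (hF.comm a a.2 b b.2)
  have hall : ∀ a : ↥(P : Subgroup G), a = 1 ∨ a = jP ∨ a = u ∨ a = v := by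
    intro a
    have h4 : ({1, jP, u, v} : Finset ↥(P : Subgroup G)) = Finset.univ := by
      refine Finset.eq_univ_of_card _ ?_
      have hP' : Nat.card ↥(P : Subgroup G) = 4 := hP
      rw [← Nat.card_eq_fintype_card, hP', Finset.card_insert_of_notMem,
        Finset.card_insert_of_notMem, Finset.card_pair]
      · intro e; exact hjP1 (mul_eq_left.1 (hv ▸ e.symm))
      · simp [Ne.symm huJ, Ne.symm hvJ]
      · simp [Ne.symm hjP1, Ne.symm hu1, Ne.symm hv1]
    have h := Finset.mem_univ a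
    rw [← h4] at h
    simpa using h
  have hcardO : ∀ a : ↥(P : Subgroup G), (a = u ∨ a = v) →
      (O a).card * Nat.card (Subgroup.centralizer ((P : Subgroup G) : Set G)) = Nat.card C := by
    intro a ha
    have hfib : ∀ x ∈ O a, ((Finset.univ : Finset C).filter fun c : C => (c : G) * (a : G) * (c : G)⁻¹ = x).card
        = Nat.card (Subgroup.centralizer ((P : Subgroup G) : Set G)) := by
      intro x hx
      obtain ⟨c, hc, rfl⟩ := (hOmem a x).1 hx
      have hCP : Subgroup.centralizer ((P : Subgroup G) : Set G) ≤ C := fun d hd =>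
        (hmemC d).2 (Subgroup.mem_centralizer_iff.1 hd J hJ).symm
      rw [Nat.card_eq_fintype_card, ← Finset.card_univ]
      symm
      refine Finset.card_bij (fun d _ => ⟨c * (d : G), C.mul_mem hc (hCP d.2)⟩) ?_ ?_ ?_
      · intro d _
        refine Finset.mem_filter.2 ⟨Finset.mem_univ _, ?_⟩
        have hd := Subgroup.mem_centralizer_iff.1 d.2 (a : G) a.2
        show c * (d : G) * (a : G) * (c * (d : G))⁻¹ = _
        rw [mul_assoc c, ← hd]
        simp [mul_assoc]
      · intro d _ d' _ h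
        exact Subtype.ext (mul_left_cancel (congrArg Subtype.val h))
      · intro c' hc'
        have h := (Finset.mem_filter.1 hc').2
        refine ⟨⟨c⁻¹ * (c' : G), ?_⟩, Finset.mem_univ _, Subtype.ext (mul_inv_cancel_left _ _)⟩
        have hdC : c⁻¹ * (c' : G) ∈ C := C.mul_mem (C.inv_mem hc) c'.2
        have hda : c⁻¹ * (c' : G) * (a : G) = (a : G) * (c⁻¹ * (c' : G)) := by
          rw [mul_assoc, show (c' : G) * (a : G) = c * (a : G) * c⁻¹ * (c' : G) by
            rw [← h, inv_mul_cancel_right]]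
          simp [mul_assoc]
        refine Subgroup.mem_centralizer_iff.2 fun y hy => ?_
        have hgen : (⟨y, hy⟩ : ↥(P : Subgroup G)) = 1 ∨ (⟨y, hy⟩ : ↥(P : Subgroup G)) = jP
            ∨ (⟨y, hy⟩ : ↥(P : Subgroup G)) = a ∨ (⟨y, hy⟩ : ↥(P : Subgroup G)) = jP * a := by
          have ha1 : a ≠ 1 := by rcases ha with e | e <;> rw [e] <;> assumption
          have haJ : a ≠ jP := by rcases ha with e | e <;> rw [e] <;> assumption
          have h4 : ({1, jP, a, jP * a} : Finset ↥(P : Subgroup G)) = Finset.univ := by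
            refine Finset.eq_univ_of_card _ ?_
            have hP' : Nat.card ↥(P : Subgroup G) = 4 := hP
            rw [← Nat.card_eq_fintype_card, hP', Finset.card_insert_of_notMem,
              Finset.card_insert_of_notMem, Finset.card_pair]
            · exact fun e => hjP1 (mul_eq_right.1 e.symm)
            · simp [Ne.symm haJ, ha1]
            · simp only [Finset.mem_insert, Finset.mem_singleton, not_or]
              refine ⟨Ne.symm hjP1, Ne.symm ha1, fun e => haJ ?_⟩
              rw [← mul_one jP, e, ← mul_assoc, hexp, one_mul]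
          have h := Finset.mem_univ (⟨y, hy⟩ : ↥(P : Subgroup G))
          rw [← h4] at h
          simpa using h
        have hdJ : Commute (c⁻¹ * (c' : G)) J := (hmemC _).1 hdC
        rcases hgen with e | e | e | e <;> obtain rfl := congrArg Subtype.val e
        · simp
        · exact hdJ.eq.symm
        · exact hda.symm
        · exact (Commute.mul_right hdJ hda).eq.symm
    have hmaps : ∀ c ∈ (Finset.univ : Finset C), (c : G) * (a : G) * (c : G)⁻¹ ∈ O a :=
      fun c _ => (hOmem a _).2 ⟨c, c.2, rfl⟩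
    rw [Nat.card_eq_fintype_card (α := C), ← Finset.card_univ,
      Finset.card_eq_sum_card_fiberwise hmaps, Finset.sum_congr rfl hfib, Finset.sum_const,
      smul_eq_mul]
  -- the set of pairs
  have hterm : ∀ a b : G, classInd J a * classInd J b
      = if IsConj J a ∧ IsConj J b then (1 : ℂ) else 0 := fun a b => by
    simp only [classInd]
    split_ifs <;> simp_all
  have horder : ∀ x, IsConj J x → orderOf x = 2 := fun x hx => by
    obtain ⟨g, rfl⟩ := isConj_iff.1 hx
    rw [orderOf_conj', hJ2]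
  have hOconj : ∀ a, a ≠ 1 → ∀ x ∈ O a, IsConj J x := fun a ha x hx => by
    obtain ⟨c, -, rfl⟩ := (hOmem a x).1 hx
    refine hone _ _ hJ2 ?_
    rw [orderOf_conj', Subgroup.orderOf_coe, orderOf_eq_prime (by rw [pow_two]; exact hexp a) ha]
  have hmain : (∑ s : C with IsPRegular 2 s,
        ∑ x : G, classInd J x * classInd J (x⁻¹ * (J * (s : G))⁻¹))
      = (((O u ×ˢ O v) ∪ (O v ×ˢ O u)).card : ℂ) := by
    simp only [hterm, Finset.sum_boole]
    rw [← Nat.cast_sum, ← Finset.card_sigma]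
    congr 1
    refine Finset.card_bij (fun z _ => (z.2, z.2⁻¹ * (J * (z.1 : G))⁻¹)) ?_ ?_ ?_
    · rintro ⟨s, x⟩ h
      simp only [Finset.mem_sigma, Finset.mem_filter, Finset.mem_univ, true_and] at h
      obtain ⟨hs, hx, hy⟩ := h
      set y := x⁻¹ * (J * (s : G))⁻¹ with hydef
      have hx2 := horder x hx
      have hy2 := horder y hy
      have hxx : x * x = 1 := by rw [← pow_two, ← hx2, pow_orderOf_eq_one]
      have hyy : y * y = 1 := by rw [← pow_two, ← hy2, pow_orderOf_eq_one]
      have hxi : x⁻¹ = x := inv_eq_of_mul_eq_one_right hxx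
      have hyi : y⁻¹ = y := inv_eq_of_mul_eq_one_right hyy
      have hcomm : Commute J (s : G) := ((hmemC _).1 s.2).symm
      have hxy : x * y = (J * (s : G))⁻¹ := mul_inv_cancel_left _ _
      have hpart : IsPPart 2 (J * (s : G)) J := isPPart_mul hcomm (k := 1) (by rw [hJ2, pow_one])
        (by rw [Subgroup.orderOf_coe]; exact hs)
      have hpart' : IsPPart 2 (J * (s : G))⁻¹ J := by
        rw [mul_inv_rev, ← hcomm.inv_inv.eq, hJi]
        exact isPPart_mul (hJi ▸ hcomm.inv_inv) (k := 1) (by rw [hJ2, pow_one])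
          (by rw [orderOf_inv, Subgroup.orderOf_coe]; exact hs)
      have hinv : x * (J * (s : G)) * x⁻¹ = (J * (s : G))⁻¹ := by
        have e1 : J * (s : G) = y * x := by
          rw [← inv_inv (J * (s : G)), ← hxy, mul_inv_rev, hxi, hyi]
        rw [← hxy, e1, hxi, ← mul_assoc, mul_assoc (x * y), hxx, mul_one]
      have hxC : x ∈ C := by
        have h1 := isPPart_conj hpart x
        rw [hinv] at h1
        have h2 := isPPart_unique Nat.prime_two h1 hpart'
        exact (hmemC x).2 (mul_inv_eq_iff_eq_mul.1 h2)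
      have hyC : y ∈ C := C.mul_mem (C.inv_mem hxC) (C.inv_mem (C.mul_mem ((hmemC J).2 rfl) s.2))
      have hq : QuotientGroup.mk' K (⟨x, hxC⟩ : C) * QuotientGroup.mk' K (⟨y, hyC⟩ : C) = π jP := by
        rw [← map_mul, show (⟨x, hxC⟩ : C) * ⟨y, hyC⟩
          = (s : C)⁻¹ * (Subgroup.inclusion hPC jP) from Subtype.ext (by
            show x * y = (s : G)⁻¹ * J
            rw [hxy, mul_inv_rev, hJi]), map_mul,
          show QuotientGroup.mk' K s⁻¹ = 1 from
            (QuotientGroup.eq_one_iff _).2 (K.inv_mem ((hKreg s).1 hs)), one_mul]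
        rfl
      obtain ⟨a, ha⟩ := hπbij.2 (QuotientGroup.mk' K (⟨x, hxC⟩ : C))
      obtain ⟨b, hb⟩ := hπbij.2 (QuotientGroup.mk' K (⟨y, hyC⟩ : C))
      have hxO := hclass a x hxC hx2 ha.symm
      have hyO := hclass b y hyC hy2 hb.symm
      have hne : ∀ (c : ↥(P : Subgroup G)) (z : G), z ∈ O c → orderOf z = 2 → c ≠ 1 := by
        intro c z hz hz2 hc
        obtain ⟨g, -, rfl⟩ := (hOmem c z).1 hz
        rw [hc, OneMemClass.coe_one, mul_one, mul_inv_cancel, orderOf_one] at hz2
        omega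
      have hab : a * b = jP := hπinj (by rw [map_mul, ha, hb]; exact hq)
      have hb' : b = a * jP := by rw [← hab, ← mul_assoc, hexp, one_mul]
      simp only [Finset.mem_union, Finset.mem_product]
      rcases hall a with e | e | e | e
      · exact absurd e (hne a x hxO hx2)
      · exact absurd (by rw [hb', e, hexp]) (hne b y hyO hy2)
      · left; rw [e] at hxO hb'; exact ⟨hxO, hv ▸ hb' ▸ hyO⟩
      · right; rw [e] at hxO hb'
        rw [hv, mul_assoc, hexp, mul_one] at hb'
        exact ⟨hxO, hb' ▸ hyO⟩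
    · rintro ⟨s, x⟩ _ ⟨s', x'⟩ _ h
      simp only [Prod.mk.injEq] at h
      obtain ⟨rfl, h2⟩ := h
      obtain rfl : s = s' := Subtype.ext (mul_left_cancel (inv_injective (mul_left_cancel h2)))
      rfl
    · rintro ⟨x, y⟩ h
      obtain ⟨a, b, hxO, hyO, hab, ha1, hb1⟩ : ∃ a b, x ∈ O a ∧ y ∈ O b ∧ a * b = jP ∧ a ≠ 1 ∧ b ≠ 1 := by
        simp only [Finset.mem_union, Finset.mem_product] at h
        rcases h with ⟨h1, h2⟩ | ⟨h1, h2⟩
        · exact ⟨u, v, h1, h2, by rw [hv, ← mul_assoc, hexp, one_mul], hu1, hv1⟩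
        · exact ⟨v, u, h1, h2, by rw [hv, mul_assoc, hPcomm jP u, ← mul_assoc, hexp, one_mul],
            hv1, hu1⟩
      obtain ⟨hxC, hxq⟩ := hOC a x hxO
      obtain ⟨hyC, hyq⟩ := hOC b y hyO
      set jC : C := Subgroup.inclusion hPC jP
      have hsK : jC⁻¹ * ((⟨x, hxC⟩ : C) * ⟨y, hyC⟩)⁻¹ ∈ K := by
        apply (QuotientGroup.eq_one_iff _).1
        show QuotientGroup.mk' K _ = 1
        rw [map_mul, map_inv, map_inv, map_mul, hxq, hyq, ← map_mul, hab,
          show QuotientGroup.mk' K jC = π jP from rfl, ← map_inv, ← map_mul,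
          ← mul_inv_rev, hexp, inv_one, map_one]
      refine ⟨⟨jC⁻¹ * ((⟨x, hxC⟩ : C) * ⟨y, hyC⟩)⁻¹, x⟩, ?_, ?_⟩
      · simp only [Finset.mem_sigma, Finset.mem_filter, Finset.mem_univ, true_and]
        refine ⟨(hKreg _).2 hsK, hOconj a ha1 x hxO, ?_⟩
        convert hOconj b hb1 y hyO using 1
        show x⁻¹ * (J * (J⁻¹ * (x * y)⁻¹))⁻¹ = y
        simp
      · refine Prod.ext rfl ?_
        show x⁻¹ * (J * (J⁻¹ * (x * y)⁻¹))⁻¹ = y
        simp
  have hdisj : Disjoint (O u ×ˢ O v) (O v ×ˢ O u) := by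
    rw [Finset.disjoint_left]
    rintro ⟨x, y⟩ h1 h2
    obtain ⟨hxC, e1⟩ := hOC u x (Finset.mem_product.1 h1).1
    obtain ⟨_, e2⟩ := hOC v x (Finset.mem_product.1 h2).1
    exact hjP1 (mul_eq_left.1 (hv ▸ (hπinj (e1.symm.trans e2)).symm))
  rw [hmain, Finset.card_union_of_disjoint hdisj, Finset.card_product, Finset.card_product]
  have h1 : ((O u).card : ℂ) * (Nat.card (Subgroup.centralizer ((P : Subgroup G) : Set G)) : ℂ)
      = (Nat.card C : ℂ) := by exact_mod_cast hcardO u (Or.inl rfl)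
  have h2 : ((O v).card : ℂ) * (Nat.card (Subgroup.centralizer ((P : Subgroup G) : Set G)) : ℂ)
      = (Nat.card C : ℂ) := by exact_mod_cast hcardO v (Or.inr rfl)
  push_cast
  linear_combination (2 * ((O v).card : ℂ) *
    (Nat.card (Subgroup.centralizer ((P : Subgroup G) : Set G)) : ℂ)) * h1
    + (2 * (Nat.card C : ℂ)) * h2

/-- **The order formula.** -/
theorem order_formula {M : Ideal AlgInt} (hM : IsPModular 2 M) (P : Sylow 2 G) (hP : Nat.card P = 4)
    (hexp : ∀ x : P, x * x = 1)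
    (hone : ∀ s t : G, orderOf s = 2 → orderOf t = 2 → IsConj s t)
    {J : G} (hJ : J ∈ (P : Subgroup G)) (hJ2 : orderOf J = 2) :
    (Nat.card G : ℂ) * (∑ χ ∈ (principalBlock M G).toFinset,
        (χ : G → ℂ) J ^ 3 / (χ : G → ℂ) 1)
      * (Nat.card (Subgroup.centralizer ((P : Subgroup G) : Set G)) : ℂ) ^ 2
      = 8 * (Nat.card (Subgroup.centralizer ({J} : Set G)) : ℂ) ^ 3 := by
  have hF := frobSylow_four P hP hexp
  have hJ1 : J ≠ 1 := fun e => by rw [e, orderOf_one] at hJ2; omega
  have hz : ∃ k, orderOf J = 2 ^ k := ⟨1, by rw [hJ2, pow_one]⟩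
  set C := Subgroup.centralizer ({J} : Set G) with hC
  have hsum : ∑ s : C with IsPRegular 2 s, ∑ χ : IrrCharacter G,
      (χ : G → ℂ) J ^ 2 * (χ : G → ℂ) (J * (s : G)) / (χ : G → ℂ) 1
      = (regCard 2 J : ℂ) * ∑ χ ∈ (principalBlock M G).toFinset,
        (χ : G → ℂ) J ^ 3 / (χ : G → ℂ) 1 := by
    rw [Finset.sum_comm, Finset.mul_sum,
      ← Finset.sum_subset (Finset.subset_univ (principalBlock M G).toFinset) fun χ _ hχ => ?_]
    · refine Finset.sum_congr rfl fun χ hχ => ?_
      rw [Finset.sum_congr rfl fun s hs => by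
        rw [apply_section hF hM (Set.mem_toFinset.1 hχ) hz hJ1 s (Finset.mem_filter.1 hs).2],
        Finset.sum_const, nsmul_eq_mul, regCard]
      ring
    · rw [← Finset.sum_div, ← Finset.mul_sum,
        sum_section_eq_zero hF hM (by simpa using hχ) hz hJ1, mul_zero, zero_div]
  have hcount := pair_count hF hP hexp hone hJ hJ2
  have h1 : (Nat.card G : ℂ) * ((regCard 2 J : ℂ) * ∑ χ ∈ (principalBlock M G).toFinset,
        (χ : G → ℂ) J ^ 3 / (χ : G → ℂ) 1)
      = (Nat.card C : ℂ) ^ 2 * ∑ s : C with IsPRegular 2 s,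
        ∑ x : G, classInd J x * classInd J (x⁻¹ * (J * (s : G))⁻¹) := by
    rw [← hsum, Finset.mul_sum, Finset.mul_sum]
    exact Finset.sum_congr rfl fun s _ => sum_sq_mul_div_eq J _
  have hreg := TIAbelian.regCard_mul hF hz hJ1
  have hP' : Nat.card ↥(P : Subgroup G) = 4 := hP
  rw [hP'] at hreg
  push_cast at hreg
  have hc : (Nat.card C : ℂ) ≠ 0 := Nat.cast_ne_zero.2 Nat.card_pos.ne'
  apply mul_left_cancel₀ hc
  set S := ∑ χ ∈ (principalBlock M G).toFinset, (χ : G → ℂ) J ^ 3 / (χ : G → ℂ) 1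
  set cP := (Nat.card (Subgroup.centralizer ((P : Subgroup G) : Set G)) : ℂ)
  linear_combination (-(Nat.card G : ℂ) * S * cP ^ 2) * hreg + 4 * cP ^ 2 * h1
    + 4 * (Nat.card C : ℂ) ^ 2 * hcount

/-- The hypotheses on a Sylow subgroup of order four without normal complement. -/
theorem setup_four (P : Sylow 2 G) (g₀ : ℕ) (hg₀ : Odd g₀) (hG : Nat.card G = 4 * g₀)
    (hnc : ¬ ∃ N : Subgroup G, N.Normal ∧ Nat.card N = g₀) :
    Nat.card P = 4 ∧ (∀ x : P, x * x = 1) ∧
      ∀ s t : G, orderOf s = 2 → orderOf t = 2 → IsConj s t := by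
  have hodd : ¬ 2 ∣ g₀ := fun h => Nat.not_even_iff_odd.2 hg₀ (even_iff_two_dvd.2 h)
  have hg0 : g₀ ≠ 0 := fun h => hodd (h ▸ dvd_zero 2)
  have hcard : Nat.card P = 4 := by
    rw [P.card_eq_multiplicity, hG, Nat.factorization_mul (by norm_num) hg0, Finsupp.add_apply,
      show (4 : ℕ) = 2 ^ 2 by norm_num, Nat.prime_two.factorization_pow,
      Nat.factorization_eq_zero_of_not_dvd hodd]
    simp
  have hnpc : ¬ Cfsg.HasNormalPComplement 2 G := by
    rintro ⟨Q, N, hN, hC⟩
    refine hnc ⟨N, hN, ?_⟩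
    have h := hC.card_mul_card
    rw [Nat.card_congr (Q.equiv P).toEquiv, hcard, hG, mul_comm 4] at h
    exact Nat.eq_of_mul_eq_mul_right (by norm_num) h
  have hexp : ∀ x : P, x * x = 1 := by
    intro x
    by_contra hx
    have hd : orderOf x ∣ 2 ^ 2 := by
      rw [show (2 : ℕ) ^ 2 = 4 by norm_num, ← hcard]
      exact orderOf_dvd_natCard x
    obtain ⟨j, hj, hj'⟩ := (Nat.dvd_prime_pow Nat.prime_two).1 hd
    have hj2 : j = 2 := by
      by_contra hne
      have hdiv : orderOf x ∣ 2 := by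
        rw [hj']
        calc 2 ^ j ∣ 2 ^ 1 := Nat.pow_dvd_pow 2 (by omega)
          _ = 2 := pow_one 2
      exact hx (by rw [← pow_two]; exact orderOf_dvd_iff_pow_eq_one.1 hdiv)
    have hcyc : IsCyclic ↥(P : Subgroup G) := isCyclic_of_orderOf_eq_card x (by
      rw [hj', hj2]; exact hcard.symm)
    have hmin : (Nat.card G).minFac = 2 := by
      rw [Nat.minFac_eq_two_iff, hG]; exact Dvd.dvd.mul_right (by norm_num) _
    exact hnpc (CfsgLib.Fusion.Abelian.npc_of_normalizer_le_centralizer P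
      (hcyc.normalizer_le_centralizer hmin))
  exact ⟨hcard, hexp, fun s t => isConj_involutions hcard hexp hnpc⟩

/-- A sum over the number of square roots. -/
theorem sum_sqrt_mul (F : G → ℂ) :
    ∑ z : G, ((Finset.univ.filter fun g : G => g * g = z).card : ℂ) * F z = ∑ g : G, F (g * g) := by
  rw [← Finset.sum_fiberwise Finset.univ (fun g : G => g * g) (fun g => F (g * g))]
  refine Finset.sum_congr rfl fun z _ => ?_
  rw [Finset.sum_congr rfl (g := fun _ => F z) fun g hg => by rw [(Finset.mem_filter.1 hg).2],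
    Finset.sum_const, nsmul_eq_mul]

/-- The indicators annihilate the column of the involution on the principal block. -/
theorem sum_indicator_mul {M : Ideal AlgInt} (hM : IsPModular 2 M) (P : Sylow 2 G) (hP : Nat.card P = 4)
    (hexp : ∀ x : P, x * x = 1) {J : G} (hJ : J ∈ (P : Subgroup G)) (hJ2 : orderOf J = 2) :
    ∑ χ ∈ (principalBlock M G).toFinset,
      conj ((Nat.card G : ℂ)⁻¹ * ∑ g : G, (χ : G → ℂ) (g * g)) * (χ : G → ℂ) J = 0 := by
  have hF := frobSylow_four P hP hexp
  have hJ1 : J ≠ 1 := fun e => by rw [e, orderOf_one] at hJ2; omega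
  have hz : ∃ k, orderOf J = 2 ^ k := ⟨1, by rw [hJ2, pow_one]⟩
  set θ : G → ℂ := fun z => ((Finset.univ.filter fun g : G => g * g = z).card : ℂ)
  have hθ : IsClassFunction G θ := fun x y => by
    show ((Finset.univ.filter fun g : G => g * g = y * x * y⁻¹).card : ℂ) = _
    congr 1
    refine Finset.card_bij (fun g _ => y⁻¹ * g * y) ?_ ?_ ?_
    · intro g hg
      refine Finset.mem_filter.2 ⟨Finset.mem_univ _, ?_⟩
      have h := (Finset.mem_filter.1 hg).2
      rw [show y⁻¹ * g * y * (y⁻¹ * g * y) = y⁻¹ * (g * g) * y by simp [mul_assoc], h]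
      simp [mul_assoc]
    · intro g _ g' _ h
      exact mul_left_cancel (mul_right_cancel h)
    · intro g hg
      refine ⟨y * g * y⁻¹, Finset.mem_filter.2 ⟨Finset.mem_univ _, ?_⟩, by simp [mul_assoc]⟩
      have h := (Finset.mem_filter.1 hg).2
      rw [show y * g * y⁻¹ * (y * g * y⁻¹) = y * (g * g) * y⁻¹ by simp [mul_assoc], h]
  have hexpand : ∀ z, θ z = ∑ χ : IrrCharacter G,
      conj ((Nat.card G : ℂ)⁻¹ * ∑ g : G, (χ : G → ℂ) (g * g)) * (χ : G → ℂ) z := by
    intro z
    conv_lhs => rw [CfsgLib.Char.IsClassFunction.eq_sum_irr hθ]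
    simp only [Finset.sum_apply, Pi.smul_apply, smul_eq_mul]
    refine Finset.sum_congr rfl fun χ _ => ?_
    congr 1
    rw [Cfsg.classInner, sum_sqrt_mul (fun z => conj ((χ : G → ℂ) z)), map_mul, map_sum, map_inv₀,
      map_natCast]
  set C := Subgroup.centralizer ({J} : Set G) with hC
  have hnpc := hF.npc_centralizer hJ hJ1
  set K := Cfsg.pResidual 2 ↥C with hK
  have hKodd : ¬ 2 ∣ Nat.card K :=
    (Nat.Prime.coprime_iff_not_dvd Nat.prime_two).mp
      (CfsgLib.Fusion.Basic.npc_iff_coprime.mp hnpc).symm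
  have hvan : ∀ s : C, IsPRegular 2 s → θ (J * (s : G)) = 0 := by
    intro s hs
    refine Nat.cast_eq_zero.2 (Finset.card_eq_zero.2 (Finset.filter_eq_empty_iff.2 fun g _ hg => ?_))
    have hcomm : Commute J (s : G) := (Subgroup.mem_centralizer_singleton_iff.1 s.2).symm
    have hpart : IsPPart 2 (J * (s : G)) J := isPPart_mul hcomm (k := 1) (by rw [hJ2, pow_one])
      (by rw [Subgroup.orderOf_coe]; exact hs)
    have hgC : g ∈ C := by
      have h1 := isPPart_conj hpart g
      rw [show g * (J * (s : G)) * g⁻¹ = J * (s : G) by rw [← hg]; simp [mul_assoc]] at h1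
      exact Subgroup.mem_centralizer_singleton_iff.2
        (mul_inv_eq_iff_eq_mul.1 (isPPart_unique Nat.prime_two h1 hpart))
    have hsK : s ∈ K := CfsgLib.Fusion.Basic.mem_pResidual_of_coprime
      ((Nat.Prime.coprime_iff_not_dvd Nat.prime_two).mpr hs).symm
    have hPC : (P : Subgroup G) ≤ C := hF.sylow_le_centralizer hJ
    -- the image of `g` in the quotient by `K`
    have hq2 : (QuotientGroup.mk' K (⟨g, hgC⟩ : C)) ^ 2 = 1 := by
      set Q : Sylow 2 ↥C := P.subtype hPC
      have h1 : Nat.card (↥C ⧸ K) = 4 := by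
        have hr := TIAbelian.regCard_mul hF (z := J) ⟨1, by rw [hJ2, pow_one]⟩ hJ1
        have h2 : regCard 2 J = Nat.card K := by
          rw [regCard, Nat.card_eq_fintype_card, Fintype.card_subtype]
          refine congrArg Finset.card (Finset.filter_congr fun t _ => ?_)
          exact ⟨fun ht => CfsgLib.Fusion.Basic.mem_pResidual_of_coprime
            ((Nat.Prime.coprime_iff_not_dvd Nat.prime_two).mpr ht).symm,
            fun ht h => hKodd (h.trans (Subgroup.orderOf_dvd_natCard K ht))⟩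
        have h3 : Nat.card K * K.index = Nat.card C := Subgroup.card_mul_index K
        have h4 : Nat.card K * 4 = Nat.card C := by
          have hP' : Nat.card ↥(P : Subgroup G) = 4 := hP
          rw [h2, hP'] at hr
          exact_mod_cast hr
        rw [← Subgroup.index_eq_card]
        exact Nat.eq_of_mul_eq_mul_left Nat.card_pos (h3.trans h4.symm)
      let π : ↥(P : Subgroup G) →* ↥C ⧸ K := (QuotientGroup.mk' K).comp (Subgroup.inclusion hPC)
      have hπinj : Function.Injective π := by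
        rw [injective_iff_map_eq_one]
        intro a ha
        by_contra ha1
        have hK' : Subgroup.inclusion hPC a ∈ K := (QuotientGroup.eq_one_iff _).1 ha
        refine hKodd ((dvd_of_eq ?_).trans (Subgroup.orderOf_dvd_natCard K hK'))
        rw [orderOf_injective _ (Subgroup.inclusion_injective hPC),
          orderOf_eq_prime (by rw [pow_two]; exact hexp a) ha1]
      obtain ⟨a, ha⟩ := (Function.Injective.bijective_of_nat_card_le hπinj
        (by rw [h1]; exact hP.ge)).2 (QuotientGroup.mk' K (⟨g, hgC⟩ : C))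
      rw [← ha, ← map_pow, pow_two, hexp, map_one]
    rw [← map_pow, show (⟨g, hgC⟩ : C) ^ 2
        = (⟨J, Subgroup.mem_centralizer_singleton_iff.2 rfl⟩ : C) * s from Subtype.ext (by
          rw [SubgroupClass.coe_pow, pow_two]; exact hg), map_mul,
      show QuotientGroup.mk' K s = 1 from (QuotientGroup.eq_one_iff _).2 hsK, mul_one] at hq2
    refine hKodd (Dvd.dvd.trans ?_ (Subgroup.orderOf_dvd_natCard K ((QuotientGroup.eq_one_iff _).1 hq2)))
    rw [Subgroup.orderOf_mk, hJ2]
  have hsum : (regCard 2 J : ℂ) * ∑ χ ∈ (principalBlock M G).toFinset,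
      conj ((Nat.card G : ℂ)⁻¹ * ∑ g : G, (χ : G → ℂ) (g * g)) * (χ : G → ℂ) J = 0 := by
    have h0 : ∑ s : C with IsPRegular 2 s, θ (J * (s : G)) = 0 :=
      Finset.sum_eq_zero fun s hs => hvan s (Finset.mem_filter.1 hs).2
    simp only [hexpand] at h0
    rw [Finset.sum_comm,
      ← Finset.sum_subset (Finset.subset_univ (principalBlock M G).toFinset) (fun χ _ hχ => by
        rw [← Finset.mul_sum, sum_section_eq_zero hF hM (by simpa using hχ) hz hJ1, mul_zero])] at h0
    rw [Finset.mul_sum]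
    refine Eq.trans (Finset.sum_congr rfl fun χ hχ => ?_) h0
    symm
    calc _ = ∑ _s : C with IsPRegular 2 _s,
          conj ((Nat.card G : ℂ)⁻¹ * ∑ g : G, (χ : G → ℂ) (g * g)) * (χ : G → ℂ) J :=
        Finset.sum_congr rfl fun t ht => congrArg _
          (apply_section hF hM (Set.mem_toFinset.1 hχ) hz hJ1 t (Finset.mem_filter.1 ht).2)
      _ = _ := by rw [Finset.sum_const, nsmul_eq_mul, regCard]
  refine (mul_eq_zero.1 hsum).resolve_left fun h => ?_
  have hr := TIAbelian.regCard_mul hF hz hJ1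
  rw [h, zero_mul] at hr
  exact Nat.cast_ne_zero.2 Nat.card_pos.ne' hr.symm

/-- The multiplicity of the trivial character on the four group. -/
theorem exists_mult_four (P : Sylow 2 G) (hP : Nat.card P = 4) (hexp : ∀ x : P, x * x = 1)
    (hone : ∀ s t : G, orderOf s = 2 → orderOf t = 2 → IsConj s t)
    {J : G} (hJ2 : orderOf J = 2) (χ : IrrCharacter G) {ε : ℤ} (hε : (χ : G → ℂ) J = (ε : ℂ)) :
    ∃ n : ℕ, (charDegree (χ : G → ℂ) : ℤ) + 3 * ε = 4 * n := by
  have hcardP : Nat.card ↥(P : Subgroup G) = 4 := hP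
  obtain ⟨n, hn⟩ := Char.IsCharacter.classInner_nat
    (Char.IsCharacter.restrict (Char.isCharacter_irr χ) (P : Subgroup G))
    (Char.isCharacter_one (G := ↥(P : Subgroup G)))
  have hchar : ∀ y : ↥(P : Subgroup G), y ≠ 1 → (χ : G → ℂ) (y : G) = (ε : ℂ) := fun y hy => by
    have hy2 : orderOf (y : G) = 2 := by
      rw [Subgroup.orderOf_coe]
      exact orderOf_eq_prime (by rw [pow_two]; exact hexp y) hy
    obtain ⟨u, hu⟩ := isConj_iff.1 (hone _ _ hJ2 hy2)
    rw [← hu, irr_conj_apply, hε]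
  rw [Char.classInner_fun_one_right, ← Finset.add_sum_erase _ _ (Finset.mem_univ (1 : ↥(P : Subgroup G))),
    Finset.sum_congr rfl (fun y hy => hchar y (Finset.mem_erase.1 hy).1), Finset.sum_const,
    Finset.card_erase_of_mem (Finset.mem_univ _), Finset.card_univ, ← Nat.card_eq_fintype_card, hcardP,
    OneMemClass.coe_one, irr_one_eq, nsmul_eq_mul] at hn
  refine ⟨n, ?_⟩
  norm_num at hn
  have h : (((charDegree (χ : G → ℂ) : ℤ) + 3 * ε : ℤ) : ℂ) = ((4 * n : ℤ) : ℂ) := by
    push_cast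
    linear_combination 4 * hn
  exact_mod_cast h

/-- Sums over a principal block with four members. -/
theorem sum_four {M : Ideal AlgInt} {χ₁ χ₂ χ₃ : IrrCharacter G}
    (hB : principalBlock M G = {χ : IrrCharacter G | (χ : G → ℂ) = (fun _ => 1) ∨ χ = χ₁ ∨ χ = χ₂ ∨ χ = χ₃})
    (h1 : (χ₁ : G → ℂ) ≠ fun _ => 1) (h2 : (χ₂ : G → ℂ) ≠ fun _ => 1) (h3 : (χ₃ : G → ℂ) ≠ fun _ => 1)
    (h12 : χ₁ ≠ χ₂) (h13 : χ₁ ≠ χ₃) (h23 : χ₂ ≠ χ₃) (F : IrrCharacter G → ℂ) :
    ∑ χ ∈ (principalBlock M G).toFinset, F χ = F (trivChar G) + F χ₁ + F χ₂ + F χ₃ := by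
  have hset : (principalBlock M G).toFinset = {trivChar G, χ₁, χ₂, χ₃} := by
    ext χ
    rw [Set.mem_toFinset, hB, Set.mem_setOf_eq]
    simp only [Finset.mem_insert, Finset.mem_singleton]
    exact or_congr_left ⟨fun h => Subtype.ext h, fun h => congrArg Subtype.val h⟩
  have e1 : trivChar G ≠ χ₁ := fun e => h1 (congrArg Subtype.val e).symm
  have e2 : trivChar G ≠ χ₂ := fun e => h2 (congrArg Subtype.val e).symm
  have e3 : trivChar G ≠ χ₃ := fun e => h3 (congrArg Subtype.val e).symm
  rw [hset, Finset.sum_insert (by simp [e1, e2, e3]), Finset.sum_insert (by simp [h12, h13]),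
    Finset.sum_pair h23]
  ring

end CfsgLib.Blocks.FourGroup
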