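import Cfsg.Agent.Lib.Involution.DihedralSylowFusion
import Cfsg.Agent.Lib.Blocks.FourGroupOrder
import Cfsg.Agent.Lib.Char.Linear
import Mathlib.RingTheory.RootsOfUnity.Complex

/-!
# The rotation part of the centralizer of the central involution of a dihedral Sylow subgroup
-/

set_option autoImplicit false
set_option maxHeartbeats 800000

namespace CfsgLib.Blocks.DihedralOrder

open Cfsg CfsgLib.Blocks CfsgLib.Involution.DihedralSylow
open scoped Classical ComplexConjugate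

variable {G : Type*} [Group G] [Fintype G] {S : Sylow 2 G} {σ τ : G} {k : ℕ}

/-- The centralizer of the central involution. -/
abbrev cJ (σ : G) (k : ℕ) : Subgroup G := Subgroup.centralizer ({σ ^ ((2 : ℤ) ^ k)} : Set G)

/-- The retraction of the centralizer of the central involution on the Sylow subgroup. -/
theorem exists_retraction (h : Gen (S : Subgroup G) σ τ k) :
    ∃ π : cJ σ k →* (S : Subgroup G),
      (∀ (u : (S : Subgroup G)) (hu : (u : G) ∈ cJ σ k), π ⟨u, hu⟩ = u) ∧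
        ¬ 2 ∣ Nat.card π.ker := by
  haveI : Fact (Nat.Prime 2) := ⟨Nat.prime_two⟩
  have hnpc := npc_centralizer h
  have hle : (S : Subgroup G) ≤ cJ σ k := fun x hx =>
    Subgroup.mem_centralizer_singleton_iff.2 (z_comm h x hx).eq.symm
  obtain ⟨Q, K, hK, hC⟩ := hnpc
  haveI := hK
  have hodd : ¬ 2 ∣ Nat.card K := by
    rw [← hC.index_eq_card]
    exact Q.not_dvd_index
  set φ : (S : Subgroup G) →* ↥(cJ σ k) ⧸ K := (QuotientGroup.mk' K).comp (Subgroup.inclusion hle)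
  have hinj : Function.Injective φ := by
    rw [injective_iff_map_eq_one]
    intro u hu
    by_contra hu1
    have hK' : Subgroup.inclusion hle u ∈ K := (QuotientGroup.eq_one_iff _).1 hu
    have h1 := Subgroup.orderOf_dvd_natCard K hK'
    rw [orderOf_injective _ (Subgroup.inclusion_injective hle)] at h1
    obtain ⟨j, hj⟩ := S.2 u
    obtain ⟨i, -, hi⟩ := (Nat.dvd_prime_pow Nat.prime_two).1 (orderOf_dvd_of_pow_eq_one hj)
    rcases Nat.eq_zero_or_pos i with hi0 | hi0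
    · rw [hi0, pow_zero] at hi; exact hu1 (orderOf_eq_one_iff.1 hi)
    · exact hodd ((dvd_trans (dvd_pow_self 2 hi0.ne') hi.symm.dvd).trans h1)
  have hcard : Nat.card (↥(cJ σ k) ⧸ K) = Nat.card (S : Subgroup G) := by
    rw [← Subgroup.index_eq_card, hC.symm.index_eq_card, Nat.card_congr (Q.equiv (S.subtype hle)).toEquiv]
    exact Nat.card_congr (Subgroup.subgroupOfEquivOfLe hle).toEquiv
  set e := MulEquiv.ofBijective φ (Function.Injective.bijective_of_nat_card_le hinj hcard.le)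
  refine ⟨e.symm.toMonoidHom.comp (QuotientGroup.mk' K), fun u hu => ?_, ?_⟩
  · show e.symm (QuotientGroup.mk' K ⟨u, hu⟩) = u
    rw [MulEquiv.symm_apply_eq]
    rfl
  · rw [show (e.symm.toMonoidHom.comp (QuotientGroup.mk' K)).ker = K from ?_]
    · exact hodd
    · ext x
      simp [MonoidHom.mem_ker]

variable {π : cJ σ k →* (S : Subgroup G)}

/-- The preimage of the rotations. -/
def rotPart (π : cJ σ k →* (S : Subgroup G)) : Subgroup G :=
  (((Subgroup.zpowers σ).subgroupOf (S : Subgroup G)).comap π).map (cJ σ k).subtype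

theorem rotPart_le (π : cJ σ k →* (S : Subgroup G)) : rotPart π ≤ cJ σ k :=
  Subgroup.map_subtype_le _

theorem mem_rotPart {g : G} (hg : g ∈ cJ σ k) :
    g ∈ rotPart π ↔ ((π ⟨g, hg⟩ : (S : Subgroup G)) : G) ∈ Subgroup.zpowers σ := by
  constructor
  · rintro ⟨c, hc, rfl⟩
    exact hc
  · exact fun hh => ⟨⟨g, hg⟩, hh, rfl⟩

theorem exists_rot (g : rotPart π) :
    ∃ i : ℤ, ((π ⟨g, rotPart_le π g.2⟩ : (S : Subgroup G)) : G) = σ ^ i := by
  obtain ⟨i, hi⟩ := Subgroup.mem_zpowers_iff.1 ((mem_rotPart (rotPart_le π g.2)).1 g.2)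
  exact ⟨i, hi.symm⟩

theorem exists_refl (h : Gen (S : Subgroup G) σ τ k) {c : cJ σ k} (hc : (c : G) ∉ rotPart π) :
    ∃ i : ℤ, ((π c : (S : Subgroup G)) : G) = σ ^ i * τ := by
  rcases h.cases _ (π c).2 with ⟨i, hi⟩ | hi
  · exact absurd ((mem_rotPart c.2).2 (hi ▸ Subgroup.zpow_mem _ (Subgroup.mem_zpowers σ) i)) hc
  · exact hi

theorem mul_mem_of_notMem (h : Gen (S : Subgroup G) σ τ k) {x y : G} (hx : x ∈ cJ σ k)
    (hxH : x ∉ rotPart π) (hy : y ∈ cJ σ k) (hyH : y ∉ rotPart π) : x * y ∈ rotPart π := by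
  refine (mem_rotPart ((cJ σ k).mul_mem hx hy)).2 ?_
  rw [show (⟨x * y, (cJ σ k).mul_mem hx hy⟩ : cJ σ k) = ⟨x, hx⟩ * ⟨y, hy⟩ from rfl, map_mul,
    Subgroup.coe_mul]
  obtain ⟨i, hi⟩ := exists_refl (c := ⟨x, hx⟩) h hxH
  obtain ⟨j, hj⟩ := exists_refl (c := ⟨y, hy⟩) h hyH
  rw [hi, hj, refl_mul h]
  exact Subgroup.zpow_mem _ (Subgroup.mem_zpowers σ) _

theorem rot_conj (h : Gen (S : Subgroup G) σ τ k) (x : cJ σ k) (g : rotPart π) (i : ℤ)
    (hi : ((π ⟨g, rotPart_le π g.2⟩ : (S : Subgroup G)) : G) = σ ^ i) :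
    ((π (x * ⟨g, rotPart_le π g.2⟩ * x⁻¹) : (S : Subgroup G)) : G)
      = σ ^ (if (x : G) ∈ rotPart π then i else -i) := by
  rw [map_mul, map_mul, map_inv, Subgroup.coe_mul, Subgroup.coe_mul, Subgroup.coe_inv, hi]
  split_ifs with hx
  · obtain ⟨j, hj⟩ := Subgroup.mem_zpowers_iff.1 ((mem_rotPart x.2).1 hx)
    have hj' : ((π x : (S : Subgroup G)) : G) = σ ^ j := hj.symm
    rw [hj', ← zpow_neg, ← zpow_add, ← zpow_add]
    congr 1; ring
  · obtain ⟨j, hj⟩ := exists_refl h hx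
    rw [hj, mul_assoc (σ ^ j) τ, b_mul h, mul_inv_rev, ← mul_assoc (σ ^ j), ← zpow_add,
      mul_assoc (σ ^ (j + -i)), mul_inv_cancel_left, ← zpow_neg, ← zpow_add]
    congr 1; ring

theorem conj_mem_rotPart (h : Gen (S : Subgroup G) σ τ k) {x : G} (hx : x ∈ cJ σ k) {g : G}
    (hg : g ∈ rotPart π) : x * g * x⁻¹ ∈ rotPart π := by
  have hgC := rotPart_le π hg
  obtain ⟨i, hi⟩ := exists_rot (π := π) ⟨g, hg⟩
  refine (mem_rotPart ((cJ σ k).mul_mem ((cJ σ k).mul_mem hx hgC) ((cJ σ k).inv_mem hx))).2 ?_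
  have e := rot_conj h ⟨x, hx⟩ ⟨g, hg⟩ i hi
  show ((π (⟨x, hx⟩ * ⟨g, hgC⟩ * (⟨x, hx⟩ : cJ σ k)⁻¹) : (S : Subgroup G)) : G) ∈ _
  rw [e]
  exact Subgroup.zpow_mem _ (Subgroup.mem_zpowers σ) _

/-- A primitive root of unity of order `2 ^ (k + 1)`. -/
noncomputable def zeta (k : ℕ) : ℂˣ :=
  ((Complex.isPrimitiveRoot_exp (2 ^ (k + 1)) (by positivity)).isUnit (by positivity)).unit

theorem zeta_prim (k : ℕ) : IsPrimitiveRoot (zeta k) (2 ^ (k + 1)) :=
  IsPrimitiveRoot.coe_units_iff.1 (by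
    rw [zeta, IsUnit.unit_spec]; exact Complex.isPrimitiveRoot_exp _ (by positivity))

theorem zeta_zpow (h : Gen (S : Subgroup G) σ τ k) (i : ℤ) : zeta k ^ i = 1 ↔ σ ^ i = 1 := by
  rw [← orderOf_dvd_iff_zpow_eq_one, ← orderOf_dvd_iff_zpow_eq_one, ← (zeta_prim k).eq_orderOf, h.ord]

/-- The faithful character of the rotations. -/
noncomputable def lam (h : Gen (S : Subgroup G) σ τ k) : Subgroup.zpowers σ →* ℂˣ :=
  monoidHomOfForallMemZpowers
    (g := (⟨σ, Subgroup.mem_zpowers σ⟩ : Subgroup.zpowers σ))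
    (fun x => by
      obtain ⟨i, hi⟩ := Subgroup.mem_zpowers_iff.1 x.2
      exact Subgroup.mem_zpowers_iff.2 ⟨i, Subtype.ext (by rw [SubgroupClass.coe_zpow]; exact hi)⟩)
    (g' := zeta k) (by rw [← (zeta_prim k).eq_orderOf, Subgroup.orderOf_mk, h.ord])

/-- The linear character of the rotation part. -/
noncomputable def rho (h : Gen (S : Subgroup G) σ τ k) (π : cJ σ k →* (S : Subgroup G)) :
    rotPart π →* ℂˣ where
  toFun g := lam h ⟨((π ⟨g, rotPart_le π g.2⟩ : (S : Subgroup G)) : G),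
    (mem_rotPart (rotPart_le π g.2)).1 g.2⟩
  map_one' := by
    rw [← map_one (lam h)]
    refine congrArg (lam h) (Subtype.ext ?_)
    exact congrArg (fun u : (S : Subgroup G) => (u : G)) (map_one π)
  map_mul' a b := by
    rw [← map_mul]
    refine congrArg (lam h) (Subtype.ext ?_)
    exact congrArg (fun u : (S : Subgroup G) => (u : G))
      (map_mul π ⟨(a : G), rotPart_le π a.2⟩ ⟨(b : G), rotPart_le π b.2⟩)

theorem rho_eq (h : Gen (S : Subgroup G) σ τ k) (g : rotPart π) (i : ℤ)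
    (hi : ((π ⟨g, rotPart_le π g.2⟩ : (S : Subgroup G)) : G) = σ ^ i) :
    rho h π g = zeta k ^ i := by
  show lam h _ = _
  rw [show (⟨_, (mem_rotPart (rotPart_le π g.2)).1 g.2⟩ : Subgroup.zpowers σ)
      = ⟨σ, Subgroup.mem_zpowers σ⟩ ^ i from Subtype.ext (by rw [SubgroupClass.coe_zpow]; exact hi),
    map_zpow, lam, monoidHomOfForallMemZpowers_apply_gen]

theorem rho_eq_one_iff (h : Gen (S : Subgroup G) σ τ k) (g : rotPart π) :
    rho h π g = 1 ↔ π ⟨g, rotPart_le π g.2⟩ = 1 := by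
  obtain ⟨i, hi⟩ := exists_rot g
  rw [rho_eq h g i hi, zeta_zpow h, ← hi]
  exact ⟨fun e => Subtype.ext e, fun e => by rw [e]; rfl⟩

theorem rho_conj (h : Gen (S : Subgroup G) σ τ k) {x : G} (hx : x ∈ cJ σ k) (g : rotPart π) :
    rho h π ⟨x * (g : G) * x⁻¹, conj_mem_rotPart h hx g.2⟩
      = if x ∈ rotPart π then rho h π g else (rho h π g)⁻¹ := by
  obtain ⟨i, hi⟩ := exists_rot g
  have e := rot_conj h ⟨x, hx⟩ g i hi
  rw [rho_eq h _ _ e, rho_eq h g i hi]
  split_ifs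
  · rfl
  · rw [zpow_neg]

theorem odd_of_map_one (hodd : ¬ 2 ∣ Nat.card π.ker) {c : cJ σ k} (hc : π c = 1) :
    ¬ 2 ∣ orderOf (c : G) := fun hd => by
  rw [Subgroup.orderOf_coe] at hd
  exact hodd (hd.trans (Subgroup.orderOf_dvd_natCard π.ker hc))

theorem map_one_of_odd {c : cJ σ k} (hc : ¬ 2 ∣ orderOf (c : G)) : π c = 1 := by
  haveI : Fact (Nat.Prime 2) := ⟨Nat.prime_two⟩
  rw [Subgroup.orderOf_coe] at hc
  obtain ⟨j, hj⟩ := S.2 (π c)
  exact orderOf_eq_one_iff.1 (Nat.eq_one_of_dvd_coprimes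
    (Nat.Coprime.pow_left j ((Nat.Prime.coprime_iff_not_dvd Nat.prime_two).2 hc))
    (orderOf_dvd_of_pow_eq_one hj) (orderOf_map_dvd π c))

/-- The only involution of the rotation part is the central one. -/
theorem involution_rot (h : Gen (S : Subgroup G) σ τ k)
    (hπ : ∀ (u : (S : Subgroup G)) (hu : (u : G) ∈ cJ σ k), π ⟨u, hu⟩ = u)
    (hodd : ¬ 2 ∣ Nat.card π.ker) {y : G} (hy : y ∈ rotPart π) (hy2 : orderOf y = 2) :
    y = σ ^ ((2 : ℤ) ^ k) := by
  haveI : Fact (Nat.Prime 2) := ⟨Nat.prime_two⟩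
  set J := σ ^ ((2 : ℤ) ^ k) with hJ
  have hyC := rotPart_le π hy
  have hJC : J ∈ cJ σ k := Subgroup.mem_centralizer_singleton_iff.2 rfl
  have hJJ : J * J = 1 := z_sq h
  have hyy : y * y = 1 := by rw [← pow_two, ← hy2, pow_orderOf_eq_one]
  obtain ⟨i, hi⟩ := exists_rot (π := π) ⟨y, hy⟩
  have hii : σ ^ i * σ ^ i = 1 := by
    rw [← hi, ← Subgroup.coe_mul, ← map_mul,
      show (⟨y, hyC⟩ : cJ σ k) * ⟨y, hyC⟩ = 1 from Subtype.ext hyy, map_one]
    rfl
  have hπy : π ⟨y, hyC⟩ = π ⟨J, hJC⟩ := by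
    rcases zpow_involution h hii with e | e
    · exfalso
      exact odd_of_map_one hodd (c := ⟨y, hyC⟩) (Subtype.ext (by rw [hi, e]; rfl))
        (dvd_of_eq hy2.symm)
    · refine Subtype.ext ?_
      rw [hπ ⟨J, zpow_mem h _⟩ hJC]
      exact hi.trans e
  by_contra hne
  have hc : Commute y J := Subgroup.mem_centralizer_singleton_iff.1 hyC
  have hyJ : orderOf (y * J) = 2 := by
    refine orderOf_eq_prime ?_ fun e => hne ?_
    · rw [hc.mul_pow, pow_two y, pow_two J, hyy, hJJ, one_mul]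
    · rw [mul_eq_one_iff_eq_inv.1 e]
      exact inv_eq_of_mul_eq_one_right hJJ
  refine odd_of_map_one hodd (c := ⟨y, hyC⟩ * ⟨J, hJC⟩) ?_ (dvd_of_eq hyJ.symm)
  rw [map_mul, hπy, ← map_mul, show (⟨J, hJC⟩ : cJ σ k) * ⟨J, hJC⟩ = 1 from Subtype.ext hJJ, map_one]

/-- An element of the rotation part off the kernel has the central involution as a power. -/
theorem exists_pow_J (h : Gen (S : Subgroup G) σ τ k)
    (hπ : ∀ (u : (S : Subgroup G)) (hu : (u : G) ∈ cJ σ k), π ⟨u, hu⟩ = u)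
    (hodd : ¬ 2 ∣ Nat.card π.ker) {g : rotPart π} (hg : rho h π g ≠ 1) :
    ∃ m : ℕ, (g : G) ^ m = σ ^ ((2 : ℤ) ^ k) := by
  have hev : 2 ∣ orderOf (g : G) := by
    by_contra hg'
    exact hg ((rho_eq_one_iff h g).2 (map_one_of_odd (π := π) (c := (⟨(g : G), rotPart_le π g.2⟩ : cJ σ k)) hg'))
  refine ⟨orderOf (g : G) / 2, involution_rot h hπ hodd ((rotPart π).pow_mem g.2 _) ?_⟩
  exact orderOf_pow_orderOf_div (orderOf_pos _).ne' hev

/-- The rotation part has trivial intersection with its conjugates off the centralizer. -/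
theorem mem_cJ_of_conj (h : Gen (S : Subgroup G) σ τ k)
    (hπ : ∀ (u : (S : Subgroup G)) (hu : (u : G) ∈ cJ σ k), π ⟨u, hu⟩ = u)
    (hodd : ¬ 2 ∣ Nat.card π.ker) {g g' : rotPart π} {x : G}
    (hx : x⁻¹ * (g : G) * x = (g' : G)) (hg' : rho h π g' ≠ 1) : x ∈ cJ σ k := by
  obtain ⟨m, hm⟩ := exists_pow_J h hπ hodd hg'
  have hJ' : (g : G) ^ m = x * σ ^ ((2 : ℤ) ^ k) * x⁻¹ := by
    rw [← hm, ← hx, show x⁻¹ * (g : G) * x = MulAut.conj x⁻¹ (g : G) by simp, ← map_pow]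
    simp [mul_assoc]
  have hgJ : (g : G) ^ m = σ ^ ((2 : ℤ) ^ k) := by
    refine involution_rot h hπ hodd ((rotPart π).pow_mem g.2 _) ?_
    rw [hJ', show x * σ ^ ((2 : ℤ) ^ k) * x⁻¹ = MulAut.conj x (σ ^ ((2 : ℤ) ^ k)) from rfl,
      MulEquiv.orderOf_eq, z_orderOf h]
  rw [hgJ] at hJ'
  exact Subgroup.mem_centralizer_singleton_iff.2 (mul_inv_eq_iff_eq_mul.1 hJ'.symm)

theorem card_cJ (h : Gen (S : Subgroup G) σ τ k)
    (hπ : ∀ (u : (S : Subgroup G)) (hu : (u : G) ∈ cJ σ k), π ⟨u, hu⟩ = u) :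
    Nat.card (cJ σ k) = 2 * Nat.card (rotPart π) := by
  haveI : Fact (Nat.Prime 2) := ⟨Nat.prime_two⟩
  set R := (Subgroup.zpowers σ).subgroupOf (S : Subgroup G) with hR
  have hsurj : Function.Surjective π := fun u =>
    ⟨⟨u, Subgroup.mem_centralizer_singleton_iff.2 (z_comm h u u.2).eq.symm⟩, hπ u _⟩
  have h2 : (R.comap π).index = 2 := by
    rw [Subgroup.index_comap_of_surjective R hsurj]
    have h3 := Subgroup.card_mul_index R
    rw [hR, Nat.card_congr (Subgroup.subgroupOfEquivOfLe (Subgroup.zpowers_le.2 h.amem)).toEquiv,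
      Nat.card_zpowers, h.ord, show Nat.card ↥(S : Subgroup G) = 2 ^ (k + 2) from card_sylow h,
      pow_succ 2 (k + 1)] at h3
    exact Nat.eq_of_mul_eq_mul_left (by positivity) h3
  rw [show Nat.card (rotPart π) = Nat.card (R.comap π) from
      Subgroup.card_map_of_injective (cJ σ k).subtype_injective,
    ← Subgroup.card_mul_index (R.comap π), h2, mul_comm]

end CfsgLib.Blocks.DihedralOrder
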