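import Cfsg.Agent.Lib.Blocks.Section
import Cfsg.Agent.Lib.Blocks.NormalP
import Cfsg.Agent.Lib.Blocks.Height
import Cfsg.Agent.Lib.Blocks.Parts
import Cfsg.Agent.Lib.BrauerSuzuki.PrincipalSection
import Cfsg.Agent.Lib.BrauerSuzuki.Setup
import Cfsg.Agent.Lib.BrauerSuzuki.OrderFun
import Cfsg.Agent.Lib.Fusion.Abelian
import Cfsg.Agent.S0936

/-!
# An abelian Sylow subgroup with semiregular automizer: functions of the p-part

`FrobSylow P`: `P` is abelian and the normalizer of `P` meets the centralizer of each nonidentity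
element of `P` in the centralizer of `P`.
-/

set_option autoImplicit false

namespace CfsgLib.Blocks.TIAbelian

open Cfsg CfsgLib.Blocks CfsgLib.BrauerSuzuki
open scoped Classical ComplexConjugate

variable {G : Type*} [Group G] [Fintype G] {p : ℕ} [hp : Fact p.Prime] {P : Sylow p G}

/-- Abelian, with semiregular automizer. -/
structure FrobSylow (P : Sylow p G) : Prop where
  comm : ∀ x ∈ (P : Subgroup G), ∀ y ∈ (P : Subgroup G), x * y = y * x
  fpf : ∀ y ∈ (P : Subgroup G), y ≠ 1 →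
    Subgroup.centralizer ({y} : Set G) ⊓ Subgroup.normalizer ((P : Subgroup G) : Set G) ≤
      Subgroup.centralizer ((P : Subgroup G) : Set G)

/-- The automorphisms of `P` induced by the normalizer. -/
def autGroup (P : Sylow p G) : Subgroup (MulAut ↥(P : Subgroup G)) :=
  (P : Subgroup G).normalizerMonoidHom.range

/-- The order of the automizer. -/
noncomputable def autCard (P : Sylow p G) : ℕ := Nat.card (autGroup P)

theorem autCard_eq (P : Sylow p G) :
    autCard P = (Subgroup.centralizer ((P : Subgroup G) : Set G)).relIndex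
      (Subgroup.normalizer ((P : Subgroup G) : Set G)) := by
  rw [autCard, autGroup, ← Subgroup.index_ker, Subgroup.normalizerMonoidHom_ker]
  rfl

theorem isConj_of_mem_autGroup {α : MulAut ↥(P : Subgroup G)} (hα : α ∈ autGroup P)
    (x : ↥(P : Subgroup G)) : IsConj (x : G) ((α x : ↥(P : Subgroup G)) : G) := by
  obtain ⟨g, rfl⟩ := hα
  exact isConj_iff.2 ⟨(g : G), rfl⟩

omit hp in
theorem exists_conj_mem_sylow_p (P : Sylow p G) [Fact p.Prime] {R : Subgroup G} (hR : IsPGroup p R) :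
    ∃ g : G, ∀ r ∈ R, g * r * g⁻¹ ∈ (P : Subgroup G) := by
  obtain ⟨T, hT⟩ := hR.exists_le_sylow
  obtain ⟨g, hg⟩ := MulAction.exists_smul_eq G T P
  refine ⟨g, fun r hr => ?_⟩
  rw [← hg, Sylow.coe_subgroup_smul]
  exact Subgroup.smul_mem_pointwise_smul r (MulAut.conj g) _ (hT hr)

namespace FrobSylow

variable (h : FrobSylow P)
include h

theorem autCard_pos : 0 < autCard P := Nat.card_pos

theorem eq_one_of_fixed {α : MulAut ↥(P : Subgroup G)} (hα : α ∈ autGroup P) {x : ↥(P : Subgroup G)}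
    (hx : x ≠ 1) (hfix : α x = x) : α = 1 := by
  obtain ⟨g, rfl⟩ := hα
  have hgx : (g : G) * (x : G) * (g : G)⁻¹ = x := congrArg Subtype.val hfix
  have hg := h.fpf x x.2 (fun e => hx (Subtype.ext e))
    (Subgroup.mem_inf.2 ⟨Subgroup.mem_centralizer_singleton_iff.2 (mul_inv_eq_iff_eq_mul.1 hgx), g.2⟩)
  ext y
  show (g : G) * (y : G) * (g : G)⁻¹ = y
  rw [← Subgroup.mem_centralizer_iff.1 hg y y.2, mul_inv_cancel_right]

theorem exists_aut_of_isConj {x y : ↥(P : Subgroup G)} (hc : IsConj (x : G) (y : G)) :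
    ∃ α ∈ autGroup P, α x = y := by
  haveI : IsMulCommutative ↥(P : Subgroup G) := ⟨⟨fun a b => Subtype.ext (h.comm a a.2 b b.2)⟩⟩
  obtain ⟨g, hg⟩ := isConj_iff.1 hc
  obtain ⟨k, hk, e⟩ := Sylow.conj_eq_normalizer_conj_of_mem P (x : G) g⁻¹ x.2 (by rw [inv_inv, hg]; exact y.2)
  rw [inv_inv, hg] at e
  exact ⟨(P : Subgroup G).normalizerMonoidHom ⟨k⁻¹, inv_mem hk⟩, ⟨_, rfl⟩, Subtype.ext (by
    show k⁻¹ * (x : G) * k⁻¹⁻¹ = y
    rw [inv_inv, ← e])⟩

theorem card_conj_inter {x : G} (hx : x ∈ (P : Subgroup G)) (hx1 : x ≠ 1) :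
    (Finset.univ.filter fun y : ↥(P : Subgroup G) => IsConj x (y : G)).card = autCard P := by
  rw [autCard, Nat.card_eq_fintype_card, ← Finset.card_univ]
  symm
  refine Finset.card_bij (fun (α : autGroup P) _ => (α : MulAut ↥(P : Subgroup G)) ⟨x, hx⟩)
    (fun α _ => Finset.mem_filter.2 ⟨Finset.mem_univ _, isConj_of_mem_autGroup α.2 ⟨x, hx⟩⟩) ?_ ?_
  · intro α _ β _ e
    have := h.eq_one_of_fixed (mul_mem (inv_mem β.2) α.2) (x := ⟨x, hx⟩) (fun e => hx1 (congrArg Subtype.val e))
      (by rw [MulAut.mul_apply, e, MulAut.inv_apply, MulEquiv.symm_apply_apply])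
    exact Subtype.ext (inv_mul_eq_one.1 this).symm
  · intro y hy
    obtain ⟨α, hα, e⟩ := h.exists_aut_of_isConj (x := ⟨x, hx⟩) (Finset.mem_filter.1 hy).2
    exact ⟨⟨α, hα⟩, Finset.mem_univ _, e⟩

theorem sylow_le_centralizer {x : G} (hx : x ∈ (P : Subgroup G)) :
    (P : Subgroup G) ≤ Subgroup.centralizer ({x} : Set G) := fun y hy =>
  Subgroup.mem_centralizer_singleton_iff.mpr (h.comm y hy x hx)

theorem npc_centralizer {x : G} (hx : x ∈ (P : Subgroup G)) (hx1 : x ≠ 1) :
    Cfsg.HasNormalPComplement p ↥(Subgroup.centralizer ({x} : Set G)) := by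
  refine CfsgLib.Fusion.Abelian.npc_of_normalizer_le_centralizer (P.subtype (h.sylow_le_centralizer hx))
    fun g hg => Subgroup.mem_centralizer_iff.mpr fun y hy => Subtype.ext ?_
  have hgN : (g : G) ∈ Subgroup.normalizer ((P : Subgroup G) : Set G) := by
    refine Subgroup.mem_normalizer_iff.mpr fun u => ⟨fun hu => ?_, fun hu => ?_⟩
    · exact Subgroup.mem_subgroupOf.mp ((Subgroup.mem_normalizer_iff.mp hg ⟨u, h.sylow_le_centralizer hx hu⟩).mp
        (Subgroup.mem_subgroupOf.mpr hu))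
    · have huC : u ∈ Subgroup.centralizer ({x} : Set G) := by
        have h2 := mul_mem (mul_mem (inv_mem g.2) (h.sylow_le_centralizer hx hu)) g.2
        rwa [show (g : G)⁻¹ * ((g : G) * u * (g : G)⁻¹) * g = u by group] at h2
      exact Subgroup.mem_subgroupOf.mp
        ((Subgroup.mem_normalizer_iff.mp hg ⟨u, huC⟩).mpr (Subgroup.mem_subgroupOf.mpr hu))
  exact Subgroup.mem_centralizer_iff.1 (h.fpf x hx hx1 (Subgroup.mem_inf.2 ⟨g.2, hgN⟩)) (y : G)
    (Subgroup.mem_subgroupOf.mp hy)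

end FrobSylow

/-- A p-part of `g`. -/
noncomputable def pEl (p : ℕ) [hp : Fact p.Prime] (g : G) : G := (exists_isPPart (G := G) hp.out g).choose

theorem pEl_spec (g : G) : IsPPart p g (pEl p g) :=
  (exists_isPPart (G := G) hp.out g).choose_spec.choose_spec.1

theorem pEl_pow (g : G) : ∃ k, orderOf (pEl p g) = p ^ k :=
  (exists_isPPart (G := G) hp.out g).choose_spec.choose_spec.2.2.2.2.1

theorem pEl_eq {g z : G} (h : IsPPart p g z) : pEl p g = z :=
  isPPart_unique hp.out (pEl_spec g) h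

theorem pEl_mul {z y : G} (hzy : Commute z y) {k : ℕ} (hz : orderOf z = p ^ k) (hy : ¬ p ∣ orderOf y) :
    pEl p (z * y) = z := pEl_eq (isPPart_mul hzy hz hy)

theorem pEl_conj (u g : G) : pEl p (u * g * u⁻¹) = u * pEl p g * u⁻¹ :=
  pEl_eq (isPPart_conj (pEl_spec g) u)

omit [Fintype G] in
theorem npc_of_isNilpotent_p (p : ℕ) [Fact p.Prime] [Finite G] [Group.IsNilpotent G] :
    Cfsg.HasNormalPComplement p G := by
  obtain ⟨P⟩ : Nonempty (Sylow p G) := inferInstance
  refine CfsgLib.Fusion.Alperin.npc_of_frobenius P fun Q hQ g _ ho q hq => ?_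
  obtain ⟨j, hj⟩ := IsPGroup.iff_orderOf.mp (P.2.to_le hQ) ⟨q, hq⟩
  rw [Subgroup.orderOf_mk] at hj
  exact CfsgLib.OddOrder.Basic.commute_of_coprime_orderOf (a := q) (b := g)
    (by rw [hj]; exact Nat.Coprime.pow_left j ho.symm)

/-- Invariance under fusion in `P`. -/
def FInv (P : Sylow p G) (f : G → ℂ) : Prop :=
  ∀ g x : G, x ∈ (P : Subgroup G) → g * x * g⁻¹ ∈ (P : Subgroup G) → f (g * x * g⁻¹) = f x

theorem exists_conj_pEl (P : Sylow p G) (g : G) :
    ∃ u : G, u * pEl p g * u⁻¹ ∈ (P : Subgroup G) := by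
  obtain ⟨k, hk⟩ := pEl_pow (p := p) g
  obtain ⟨u, hu⟩ := exists_conj_mem_sylow_p P (R := Subgroup.zpowers (pEl p g))
    (IsPGroup.of_card (n := k) (by rw [Nat.card_zpowers, hk]))
  exact ⟨u, hu _ (Subgroup.mem_zpowers _)⟩

/-- `f` of a conjugate in `P` of the p-part. -/
noncomputable def sFun (P : Sylow p G) (f : G → ℂ) (g : G) : ℂ :=
  f ((exists_conj_pEl P g).choose * pEl p g * (exists_conj_pEl P g).choose⁻¹)

theorem sFun_eq {f : G → ℂ} (hf : FInv P f) {g u : G} (hu : u * pEl p g * u⁻¹ ∈ (P : Subgroup G)) :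
    sFun P f g = f (u * pEl p g * u⁻¹) := by
  unfold sFun
  set w := (exists_conj_pEl P g).choose
  have hw := (exists_conj_pEl P g).choose_spec
  rw [← hf (w * u⁻¹) _ hu (by rwa [show w * u⁻¹ * (u * pEl p g * u⁻¹) * (w * u⁻¹)⁻¹ = w * pEl p g * w⁻¹ by group]),
    show w * u⁻¹ * (u * pEl p g * u⁻¹) * (w * u⁻¹)⁻¹ = w * pEl p g * w⁻¹ by group]

theorem sFun_isClassFunction {f : G → ℂ} (hf : FInv P f) : IsClassFunction G (sFun P f) := fun x g => by
  obtain ⟨u, hu⟩ := exists_conj_pEl P x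
  have e : u * g⁻¹ * pEl p (g * x * g⁻¹) * (u * g⁻¹)⁻¹ = u * pEl p x * u⁻¹ := by
    rw [pEl_conj]; group
  rw [sFun_eq hf hu, sFun_eq hf (u := u * g⁻¹) (by rwa [e]), e]

theorem sFun_coe {f : G → ℂ} (hf : FInv P f) (x : ↥(P : Subgroup G)) : sFun P f (x : G) = f x := by
  obtain ⟨k, hk⟩ := IsPGroup.iff_orderOf.mp P.2 x
  have e : pEl p (x : G) = x := by
    have := pEl_mul (Commute.one_right (x : G)) (by rw [Subgroup.orderOf_coe, hk]) (by rw [orderOf_one]; exact hp.out.not_dvd_one)
    rwa [mul_one] at this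
  rw [sFun_eq hf (u := 1) (by rw [one_mul, inv_one, mul_one, e]; exact x.2), one_mul, inv_one, mul_one, e]

theorem sFun_of_odd {f : G → ℂ} (hf : FInv P f) {g : G} (hg : ¬ p ∣ orderOf g) : sFun P f g = f 1 := by
  have e : pEl p g = 1 := by
    have := pEl_mul (Commute.one_left g) (k := 0) (by rw [orderOf_one, pow_zero]) hg
    rwa [one_mul] at this
  rw [sFun_eq hf (u := 1) (by rw [e, one_mul, inv_one, mul_one]; exact one_mem _), e, one_mul, inv_one, mul_one]

theorem gc_sFun {f : G → ℂ} (hf : FInv P f)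
    (hg : IsGeneralizedCharacter ↥(P : Subgroup G) fun x => f x) : IsGeneralizedCharacter G (sFun P f) := by
  refine CfsgLib.CharDeep.Brauer.isGeneralizedCharacter_of_elementary (sFun_isClassFunction hf)
    fun q hq E hE => ?_
  haveI := isNilpotent_of_isElementary hq hE
  obtain ⟨T⟩ : Nonempty (Sylow p ↥E) := inferInstance
  obtain ⟨π, hπ, hker⟩ := exists_retraction (npc_of_isNilpotent_p p) T
  haveI hTn : (T : Subgroup ↥E).Normal := by
    have := (Group.isNilpotent_of_finite_tfae (G := ↥E)).out 0 3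
    exact this.mp inferInstance p inferInstance T
  obtain ⟨u, hu⟩ := exists_conj_mem_sylow_p P (T.2.map E.subtype)
  let φ : ↥(T : Subgroup ↥E) →* ↥(P : Subgroup G) := MonoidHom.mk'
    (fun q => ⟨u * ((q : ↥E) : G) * u⁻¹, hu _ ⟨_, q.2, rfl⟩⟩) (fun q r => Subtype.ext (by simp [mul_assoc]))
  have heq : (fun x : ↥E => sFun P f (x : G)) = (fun x : ↥(P : Subgroup G) => f x) ∘ (φ.comp π) := by
    funext x
    obtain ⟨z, y, -, hzy, hcomm, hreg, ⟨k, hk⟩, -, -⟩ := exists_isPPart (G := ↥E) hp.out x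
    have hzT : z ∈ (T : Subgroup ↥E) := by
      obtain ⟨w, hw⟩ := exists_conj_mem_sylow_p T (R := Subgroup.zpowers z)
        (IsPGroup.of_card (n := k) (by rw [Nat.card_zpowers, hk]))
      have := hTn.conj_mem _ (hw z (Subgroup.mem_zpowers z)) w⁻¹
      rwa [show w⁻¹ * (w * z * w⁻¹) * w⁻¹⁻¹ = z by group] at this
    have hy1 : π y = 1 := by
      obtain ⟨j, hj⟩ := IsPGroup.iff_orderOf.mp T.2 (π y)
      by_contra hne
      have hj0 : j ≠ 0 := fun h0 => hne (orderOf_eq_one_iff.mp (by rw [hj, h0, pow_zero]))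
      exact hreg (((dvd_pow_self p hj0).trans (dvd_of_eq hj.symm)).trans (orderOf_map_dvd π y))
    have hπx : ((π x : ↥(T : Subgroup ↥E)) : ↥E) = z := by
      rw [← hzy, map_mul, hy1, mul_one]
      exact congrArg Subtype.val (hπ ⟨z, hzT⟩)
    have h2 : pEl p (x : G) = (z : G) := by
      rw [← hzy, Subgroup.coe_mul]
      exact pEl_mul (congrArg Subtype.val hcomm.eq) (by rw [Subgroup.orderOf_coe, hk]) (by rwa [Subgroup.orderOf_coe])
    have hm : u * (z : G) * u⁻¹ ∈ (P : Subgroup G) := hu _ ⟨z, hzT, rfl⟩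
    rw [sFun_eq hf (u := u) (by rw [h2]; exact hm), h2]
    show f (u * (z : G) * u⁻¹) = f (u * (((π x : ↥(T : Subgroup ↥E)) : ↥E) : G) * u⁻¹)
    rw [hπx]
  rw [heq]
  exact gc_comp hg _

/-- The sum over a fibre of the p-part map. -/
theorem sum_fiber (F : G → ℂ) {z : G} {k : ℕ} (hz : orderOf z = p ^ k) :
    ∑ u : G with pEl p u = z, F u
      = ∑ s : Subgroup.centralizer ({z} : Set G) with IsPRegular p s, F (z * (s : G)) := by
  symm
  refine Finset.sum_bij (fun s _ => z * (s : G)) ?_ ?_ ?_ fun s _ => rfl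
  · intro s hs
    refine Finset.mem_filter.2 ⟨Finset.mem_univ _, pEl_mul
      (Subgroup.mem_centralizer_singleton_iff.1 s.2).symm hz ?_⟩
    rw [Subgroup.orderOf_coe]; exact (Finset.mem_filter.1 hs).2
  · exact fun s _ s' _ h => Subtype.ext (mul_left_cancel h)
  · intro u hu
    obtain ⟨y, he, hc, -, hy⟩ := pEl_spec (p := p) u
    rw [(Finset.mem_filter.1 hu).2] at he hc
    refine ⟨⟨y, Subgroup.mem_centralizer_singleton_iff.2 hc.eq.symm⟩, Finset.mem_filter.2 ⟨Finset.mem_univ _, ?_⟩, he⟩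
    show ¬ p ∣ orderOf _
    rwa [← Subgroup.orderOf_coe]

/-- The number of p-regular elements of the centralizer of `z`. -/
noncomputable def regCard (p : ℕ) (z : G) : ℕ :=
  (Finset.univ.filter fun s : Subgroup.centralizer ({z} : Set G) => IsPRegular p s).card

theorem card_filter_conj (x s : G) :
    (Finset.univ.filter fun g : G => g * x * g⁻¹ = s).card
      = if IsConj x s then Nat.card (Subgroup.centralizer ({s} : Set G)) else 0 := by
  split_ifs with hc
  · obtain ⟨w, hw⟩ := isConj_iff.1 hc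
    rw [Nat.card_eq_fintype_card, Fintype.card_subtype]
    refine Finset.card_bij' (fun v _ => v * w⁻¹) (fun v _ => v * w) ?_ ?_ ?_ ?_
    · intro v hv
      simp only [Finset.mem_filter, Finset.mem_univ, true_and, Subgroup.mem_centralizer_singleton_iff] at hv ⊢
      refine mul_inv_eq_iff_eq_mul.1 ?_
      rw [← hw]
      calc v * w⁻¹ * (w * x * w⁻¹) * (v * w⁻¹)⁻¹ = v * x * v⁻¹ := by group
        _ = w * x * w⁻¹ := hv.trans hw.symm
    · intro v hv
      simp only [Finset.mem_filter, Finset.mem_univ, true_and, Subgroup.mem_centralizer_singleton_iff] at hv ⊢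
      calc v * w * x * (v * w)⁻¹ = v * (w * x * w⁻¹) * v⁻¹ := by group
        _ = s := by rw [hw, hv, mul_inv_cancel_right]
    · intro v _; simp
    · intro v _; simp
  · rw [Finset.card_eq_zero, Finset.filter_eq_empty_iff]
    exact fun g _ hg => hc (isConj_iff.2 ⟨g, hg⟩)

section Rot

variable (h : FrobSylow P)
include h

theorem regCard_mul {z : G} (hz : ∃ k, orderOf z = p ^ k) (hz1 : z ≠ 1) :
    (regCard p z : ℂ) * Nat.card (P : Subgroup G) = Nat.card (Subgroup.centralizer ({z} : Set G)) := by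
  obtain ⟨k, hk⟩ := hz
  obtain ⟨u, hu⟩ := exists_conj_mem_sylow_p P (R := Subgroup.zpowers z)
    (IsPGroup.of_card (n := k) (by rw [Nat.card_zpowers, hk]))
  have hx := hu z (Subgroup.mem_zpowers z)
  set x := u * z * u⁻¹ with hxd
  have hx1 : x ≠ 1 := fun e => hz1 (conj_eq_one_iff.mp e)
  let e : ↥(Subgroup.centralizer ({z} : Set G)) ≃ ↥(Subgroup.centralizer ({x} : Set G)) :=
    (MulAut.conj u).toEquiv.subtypeEquiv fun c => by
      rw [Subgroup.mem_centralizer_singleton_iff, Subgroup.mem_centralizer_singleton_iff]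
      show c * z = z * c ↔ u * c * u⁻¹ * x = x * (u * c * u⁻¹)
      rw [hxd]
      constructor
      · intro e; calc u * c * u⁻¹ * (u * z * u⁻¹) = u * (c * z) * u⁻¹ := by group
          _ = u * (z * c) * u⁻¹ := by rw [e]
          _ = _ := by group
      · intro e
        refine mul_left_cancel (a := u) (mul_right_cancel (b := u⁻¹) ?_)
        calc u * (c * z) * u⁻¹ = u * c * u⁻¹ * (u * z * u⁻¹) := by group
          _ = _ := e
          _ = _ := by group
  have hreg : regCard p z = regCard p x := by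
    unfold regCard
    refine Finset.card_equiv e fun s => ?_
    rw [Finset.mem_filter, Finset.mem_filter]
    refine and_congr (by simp) ?_
    show ¬ p ∣ orderOf s ↔ ¬ p ∣ orderOf (e s)
    rw [← Subgroup.orderOf_coe s, ← Subgroup.orderOf_coe (e s),
      show ((e s : G)) = u * (s : G) * u⁻¹ from rfl, orderOf_conj']
  rw [hreg, Nat.card_congr e]
  let C := Subgroup.centralizer ({x} : Set G)
  let T : Sylow p ↥C := P.subtype (h.sylow_le_centralizer hx)
  obtain ⟨π, hπ, hker⟩ := exists_retraction (h.npc_centralizer hx hx1) T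
  have hk' : regCard p x = Nat.card π.ker := by
    rw [regCard, Nat.card_eq_fintype_card, Fintype.card_subtype]
    refine congrArg Finset.card (Finset.filter_congr fun s _ => ?_)
    refine ⟨fun hs => ?_, fun hs => ?_⟩
    · obtain ⟨j, hj⟩ := IsPGroup.iff_orderOf.mp T.2 (π s)
      rw [MonoidHom.mem_ker]
      by_contra hne
      have hj0 : j ≠ 0 := fun h0 => hne (orderOf_eq_one_iff.mp (by rw [hj, h0, pow_zero]))
      exact hs (((dvd_pow_self p hj0).trans (dvd_of_eq hj.symm)).trans (orderOf_map_dvd π s))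
    · exact (Nat.Prime.coprime_iff_not_dvd hp.out).mp (hker s hs).symm
  have hidx : π.ker.index = Nat.card ↥(P : Subgroup G) := by
    rw [Subgroup.index_ker, (MonoidHom.range_eq_top (f := π)).mpr fun q => ⟨q, hπ q⟩, Subgroup.card_top]
    exact Nat.card_congr (Subgroup.subgroupOfEquivOfLe (h.sylow_le_centralizer hx)).toEquiv
  rw [hk', ← hidx, ← Nat.cast_mul, Subgroup.card_mul_index]

/-- The inner product of a function of the p-part with a function constant on its fibres. -/
theorem classInner_sFun {f : G → ℂ} (hf : FInv P f) (hf1 : f 1 = 0) {Ψ : G → ℂ}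
    (hΨ : IsClassFunction G Ψ)
    (hconst : ∀ z : G, (∃ k, orderOf z = p ^ k) → z ≠ 1 →
      ∀ s : Subgroup.centralizer ({z} : Set G), IsPRegular p s → Ψ (z * (s : G)) = Ψ z) :
    classInner (sFun P f) Ψ
      = ((autCard P * Nat.card (P : Subgroup G) : ℕ) : ℂ)⁻¹ * ∑ x : ↥(P : Subgroup G), f x * conj (Ψ x) := by
  set S : Finset G := Finset.univ.filter fun z => ∃ k, orderOf z = p ^ k with hS
  set Φ : G → ℂ := fun g => sFun P f g * conj (Ψ g) with hΦ
  have hΦc : IsClassFunction G Φ := fun x g => by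
    simp only [Φ, sFun_isClassFunction hf x g, hΨ x g]
  have hΦP : ∀ x : ↥(P : Subgroup G), Φ x = f x * conj (Ψ x) := fun x => by
    simp only [Φ, sFun_coe hf]
  have hΦ1 : Φ 1 = 0 := by
    have := hΦP 1
    simp only [OneMemClass.coe_one] at this
    rw [this, hf1, zero_mul]
  -- the sum over the sections
  have hA : ∑ g : G, Φ g = ∑ z ∈ S, Φ z * regCard p z := by
    rw [← Finset.sum_fiberwise_of_maps_to (g := pEl p) (t := S)
      (fun g _ => Finset.mem_filter.2 ⟨Finset.mem_univ _, pEl_pow g⟩)]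
    refine Finset.sum_congr rfl fun z hz => ?_
    obtain ⟨k, hk⟩ := (Finset.mem_filter.1 hz).2
    rw [sum_fiber Φ hk]
    by_cases hz1 : z = 1
    · subst hz1
      rw [hΦ1, zero_mul, Finset.sum_eq_zero]
      intro s hs
      rw [one_mul]
      simp only [Φ]
      rw [sFun_of_odd hf (by rw [Subgroup.orderOf_coe]; exact (Finset.mem_filter.1 hs).2), hf1, zero_mul]
    · rw [Finset.sum_congr rfl (g := fun _ => Φ z) fun s hs => ?_, Finset.sum_const, nsmul_eq_mul,
        mul_comm]
      · rfl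
      · have hcomm : Commute z (s : G) := (Subgroup.mem_centralizer_singleton_iff.1 s.2).symm
        have hsr : ¬ p ∣ orderOf (s : G) := by
          rw [Subgroup.orderOf_coe]; exact (Finset.mem_filter.1 hs).2
        have e1 : pEl p (z * (s : G)) = z := pEl_mul hcomm hk hsr
        have e2 : pEl p z = z := by
          have := pEl_mul (Commute.one_right z) hk (by rw [orderOf_one]; exact hp.out.not_dvd_one)
          rwa [mul_one] at this
        have e3 : sFun P f (z * (s : G)) = sFun P f z := by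
          obtain ⟨u, hu⟩ := exists_conj_pEl P z
          rw [sFun_eq hf hu, sFun_eq hf (u := u) (by rw [e1]; rwa [e2] at hu), e1, e2]
        simp only [Φ, e3, hconst z ⟨k, hk⟩ hz1 s (Finset.mem_filter.1 hs).2]
  -- double counting
  have hB : (Nat.card G : ℂ) * ∑ x : ↥(P : Subgroup G), Φ x
      = ∑ z ∈ S, Φ z * ((autCard P * Nat.card (P : Subgroup G) : ℕ) : ℂ) * regCard p z := by
    have e : ∀ x : ↥(P : Subgroup G), (Nat.card G : ℂ) * Φ x
        = ∑ z ∈ S, ((Finset.univ.filter fun g : G => g * (x : G) * g⁻¹ = z).card : ℂ) * Φ z := by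
      intro x
      obtain ⟨k, hk⟩ := IsPGroup.iff_orderOf.mp P.2 x
      calc (Nat.card G : ℂ) * Φ x = ∑ g : G, Φ (g * (x : G) * g⁻¹) := by
            rw [Finset.sum_congr rfl fun g _ => hΦc (x : G) g, Finset.sum_const, Finset.card_univ,
              Fintype.card_eq_nat_card, nsmul_eq_mul]
        _ = _ := by
            rw [← Finset.sum_fiberwise_of_maps_to (g := fun g : G => g * (x : G) * g⁻¹) (t := S)
              (fun g _ => Finset.mem_filter.2 ⟨Finset.mem_univ _, k, by
                rw [orderOf_conj', Subgroup.orderOf_coe, hk]⟩)]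
            refine Finset.sum_congr rfl fun z _ => ?_
            rw [Finset.sum_congr rfl (g := fun _ => Φ z) fun g hg => by rw [(Finset.mem_filter.1 hg).2],
              Finset.sum_const, nsmul_eq_mul]
    rw [Finset.mul_sum, Finset.sum_congr rfl fun x _ => e x, Finset.sum_comm]
    refine Finset.sum_congr rfl fun z hz => ?_
    rw [← Finset.sum_mul]
    by_cases hz1 : z = 1
    · rw [hz1, hΦ1]; ring
    obtain ⟨k, hk⟩ := (Finset.mem_filter.1 hz).2
    obtain ⟨u, hu⟩ := exists_conj_mem_sylow_p P (R := Subgroup.zpowers z)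
      (IsPGroup.of_card (n := k) (by rw [Nat.card_zpowers, hk]))
    have hx0 := hu z (Subgroup.mem_zpowers z)
    have hc : IsConj z (u * z * u⁻¹) := isConj_iff.2 ⟨u, rfl⟩
    have hcnt : ((∑ x : ↥(P : Subgroup G), (Finset.univ.filter fun g : G => g * (x : G) * g⁻¹ = z).card : ℕ) : ℂ)
        = ((autCard P * Nat.card (Subgroup.centralizer ({z} : Set G)) : ℕ) : ℂ) := by
      congr 1
      rw [Finset.sum_congr rfl fun (x : ↥(P : Subgroup G)) _ => card_filter_conj (x : G) z, Finset.sum_ite,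
        Finset.sum_const_zero, add_zero, Finset.sum_const, smul_eq_mul]
      congr 1
      rw [← h.card_conj_inter hx0 fun e => hz1 (conj_eq_one_iff.mp e)]
      refine congrArg Finset.card (Finset.filter_congr fun y _ => ?_)
      exact ⟨fun e => (e.trans hc).symm, fun e => e.symm.trans hc.symm⟩
    push_cast at hcnt
    rw [hcnt, ← regCard_mul h ⟨k, hk⟩ hz1]
    push_cast
    ring
  rw [Cfsg.classInner, show ∑ g : G, sFun P f g * conj (Ψ g) = ∑ g : G, Φ g from rfl, hA,
    Finset.sum_congr rfl fun x _ => (hΦP x).symm, inv_mul_eq_iff_eq_mul₀ CfsgLib.Char.card_ne_zero,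
    mul_left_comm, hB, Finset.mul_sum]
  refine Finset.sum_congr rfl fun z _ => ?_
  have h3 : ((autCard P * Nat.card (P : Subgroup G) : ℕ) : ℂ) ≠ 0 := by
    have := (Nat.card_pos (α := ↥(P : Subgroup G))).ne'
    exact_mod_cast mul_ne_zero h.autCard_pos.ne' this
  field_simp

variable {M : Ideal AlgInt} (hM : IsPModular p M)
include hM

theorem apply_section {χ : IrrCharacter G} (hχ : χ ∈ principalBlock M G) {z : G}
    (hz : ∃ k, orderOf z = p ^ k) (hz1 : z ≠ 1) (s : Subgroup.centralizer ({z} : Set G))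
    (hs : IsPRegular p s) : (χ : G → ℂ) (z * (s : G)) = (χ : G → ℂ) z := by
  obtain ⟨k, hk⟩ := hz
  obtain ⟨u, hu⟩ := exists_conj_mem_sylow_p P (R := Subgroup.zpowers z)
    (IsPGroup.of_card (n := k) (by rw [Nat.card_zpowers, hk]))
  have hx := hu z (Subgroup.mem_zpowers z)
  set x := u * z * u⁻¹ with hxd
  have hnpc := h.npc_centralizer hx fun e => hz1 (conj_eq_one_iff.mp e)
  have hxs : u * (s : G) * u⁻¹ ∈ Subgroup.centralizer ({x} : Set G) := by
    rw [Subgroup.mem_centralizer_singleton_iff, hxd]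
    have := Subgroup.mem_centralizer_singleton_iff.mp s.2
    calc u * (s : G) * u⁻¹ * (u * z * u⁻¹) = u * ((s : G) * z) * u⁻¹ := by group
      _ = u * (z * (s : G)) * u⁻¹ := by rw [this]
      _ = _ := by group
  have key := principalBlock_apply_section hM (x := x) ⟨k, by rw [hxd, orderOf_conj', hk]⟩ hχ
    (Cfsg.pResidual p ↥(Subgroup.centralizer ({x} : Set G)))
    ((Nat.Prime.coprime_iff_not_dvd hp.out).mp (CfsgLib.Fusion.Basic.npc_iff_coprime.mp hnpc).symm)
    (y := ⟨_, hxs⟩)
    (CfsgLib.Fusion.Basic.mem_pResidual_of_coprime (by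
      rw [Subgroup.orderOf_mk, orderOf_conj', Subgroup.orderOf_coe]
      exact ((Nat.Prime.coprime_iff_not_dvd hp.out).mpr hs).symm))
  simp only [hxd, irr_conj_apply] at key
  rwa [show u * z * u⁻¹ * (u * (s : G) * u⁻¹) = u * (z * (s : G)) * u⁻¹ by group, irr_conj_apply] at key

theorem sum_section_eq_zero {χ : IrrCharacter G} (hχ : χ ∉ principalBlock M G) {z : G}
    (hz : ∃ k, orderOf z = p ^ k) (hz1 : z ≠ 1) :
    ∑ s : Subgroup.centralizer ({z} : Set G) with IsPRegular p s, (χ : G → ℂ) (z * (s : G)) = 0 := by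
  obtain ⟨k, hk⟩ := hz
  set C := Subgroup.centralizer ({z} : Set G) with hC
  obtain ⟨u, hu⟩ := exists_conj_mem_sylow_p P (R := Subgroup.zpowers z)
    (IsPGroup.of_card (n := k) (by rw [Nat.card_zpowers, hk]))
  have hnpc : Cfsg.HasNormalPComplement p ↥C := by
    have hx1 : u * z * u⁻¹ ≠ 1 := fun e => hz1 (conj_eq_one_iff.mp e)
    have := h.npc_centralizer (hu z (Subgroup.mem_zpowers z)) hx1
    let ψ : ↥C →* ↥(Subgroup.centralizer ({u * z * u⁻¹} : Set G)) := MonoidHom.mk'
      (fun c => ⟨u * (c : G) * u⁻¹, Subgroup.mem_centralizer_singleton_iff.mpr (by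
        have := Subgroup.mem_centralizer_singleton_iff.mp c.2
        calc u * (c : G) * u⁻¹ * (u * z * u⁻¹) = u * ((c : G) * z) * u⁻¹ := by group
          _ = u * (z * (c : G)) * u⁻¹ := by rw [this]
          _ = _ := by group)⟩) (fun a b => Subtype.ext (by simp [mul_assoc]))
    exact CfsgLib.Fusion.Basic.npc_of_injective ψ
      (fun a b e => Subtype.ext (mul_left_cancel (mul_right_cancel (congrArg Subtype.val e)))) this
  set b := principalBlock M ↥C
  have hb : IsPBlock M b := isPBlock_principalBlock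
  obtain ⟨B₀, hind⟩ := exists_isInducedBlock_centralizer_singleton hM (x := z) ⟨k, hk⟩ hb
  have hprin : IsInducedBlock M C b (principalBlock M G) :=
    (Cfsg.Agent.S0936.result p M hM C b ⟨B₀, hind⟩).mpr rfl
  have hB : IsPBlock M (blockOf M (χ : G → ℂ)) := isPBlock_blockOf χ
  have hnot : ¬ IsInducedBlock M C b (blockOf M (χ : G → ℂ)) := fun h' =>
    hχ (IsInducedBlock.unique hM h' hprin ▸ SameBlock_refl hM _)
  have h0 := blockPart_section_eq_zero hM (x := z) ⟨k, hk⟩ hB (SameBlock_refl hM _) hb hnot (y := 1)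
    (by rw [orderOf_one]; exact hp.out.not_dvd_one)
  have hker : ∀ s : ↥C, IsPRegular p s → blockCoeff b s = blockCoeff b 1 := by
    intro s hs
    have hsN : s ∈ Cfsg.pResidual p ↥C := CfsgLib.Fusion.Basic.mem_pResidual_of_coprime
      ((Nat.Prime.coprime_iff_not_dvd hp.out).mpr hs).symm
    rw [blockCoeff_eq_fourierInv, blockCoeff_eq_fourierInv, fourierInv, fourierInv]
    congr 1
    refine Finset.sum_congr rfl fun ψ _ => ?_
    by_cases hψ : ψ ∈ b
    · have hk2 := le_irrKer_of_sameBlock hM (N := Cfsg.pResidual p ↥C) inferInstance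
        ((Nat.Prime.coprime_iff_not_dvd hp.out).mp (CfsgLib.Fusion.Basic.npc_iff_coprime.mp hnpc).symm)
        (χ := trivChar ↥C) hψ (fun _ _ => mem_irrKer.2 rfl) (inv_mem hsN)
      rw [mem_irrKer.1 hk2, inv_one]
    · rw [blockInd_of_notMem hψ, zero_mul, zero_mul]
  set ϑ : ↥C → ℂ := fun c => (χ : G → ℂ) (z * (c : G))
  have e : blockPart b ϑ 1 = ∑ c : ↥C, ϑ c * blockCoeff b c := by
    rw [blockPart_eq_sum]
    simp only [Cfsg.classInner, blockCoeff_eq_fourierInv, fourierInv, Finset.mul_sum, Finset.sum_mul,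
      irr_one_eq, ← conj_irr]
    rw [Finset.sum_comm]
    exact Finset.sum_congr rfl fun c _ => Finset.sum_congr rfl fun φ _ => by ring
  rw [e, ← Finset.sum_filter_add_sum_filter_not Finset.univ (fun c : ↥C => IsPRegular p c),
    Finset.sum_eq_zero (s := Finset.univ.filter fun c : ↥C => ¬ IsPRegular p c) fun c hc => by
      rw [IsPBlock.blockCoeff_eq_zero hM hb (not_isPRegular.1 (Finset.mem_filter.1 hc).2), mul_zero],
    add_zero, Finset.sum_congr rfl fun c hc => by rw [hker c (Finset.mem_filter.1 hc).2],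
    ← Finset.sum_mul, mul_eq_zero] at h0
  exact h0.resolve_right (blockCoeff_one_ne_zero hM hb)

/-- Only the principal block occurs in a function of the p-part vanishing at the identity. -/
theorem classInner_sFun_eq_zero {f : G → ℂ} (hf : FInv P f) (hf1 : f 1 = 0) {χ : IrrCharacter G}
    (hχ : χ ∉ principalBlock M G) : classInner (sFun P f) (χ : G → ℂ) = 0 := by
  rw [Cfsg.classInner, ← Finset.sum_fiberwise_of_maps_to (g := pEl p)
    (t := Finset.univ.filter fun z : G => ∃ k, orderOf z = p ^ k)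
    (fun g _ => Finset.mem_filter.2 ⟨Finset.mem_univ _, pEl_pow g⟩), Finset.sum_eq_zero, mul_zero]
  intro z hz
  obtain ⟨k, hk⟩ := (Finset.mem_filter.1 hz).2
  rw [sum_fiber _ hk]
  by_cases hz1 : z = 1
  · subst hz1
    refine Finset.sum_eq_zero fun s hs => ?_
    rw [one_mul, sFun_of_odd hf (by rw [Subgroup.orderOf_coe]; exact (Finset.mem_filter.1 hs).2), hf1, zero_mul]
  obtain ⟨u, hu⟩ := exists_conj_pEl P z
  have e2 : pEl p z = z := by
    have := pEl_mul (Commute.one_right z) hk (by rw [orderOf_one]; exact hp.out.not_dvd_one)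
    rwa [mul_one] at this
  refine (Finset.sum_congr rfl (g := fun (s : ↥(Subgroup.centralizer ({z} : Set G))) => f (u * z * u⁻¹) * conj ((χ : G → ℂ) (z * (s : G)))) fun s hs => ?_).trans ?_
  · have e1 : pEl p (z * (s : G)) = z := pEl_mul (Subgroup.mem_centralizer_singleton_iff.1 s.2).symm hk
      (by rw [Subgroup.orderOf_coe]; exact (Finset.mem_filter.1 hs).2)
    rw [sFun_eq hf (u := u) (by rw [e1]; rwa [e2] at hu), e1]
  · rw [← Finset.mul_sum, ← map_sum, sum_section_eq_zero h hM hχ ⟨k, hk⟩ hz1, map_zero, mul_zero]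

end Rot

end CfsgLib.Blocks.TIAbelian
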