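import Cfsg.Agent.Lib.Blocks.DihedralOrder
import Cfsg.Agent.Lib.Blocks.TIAbelian
import Cfsg.Agent.Lib.Blocks.MajorContrib
import Cfsg.Agent.Lib.Blocks.ContribBound
import Cfsg.Agent.Lib.Blocks.PrincipalColumns

/-!
# The induced generalized characters of a dihedral Sylow 2-subgroup

`thetaN t j` is induced from `1 - ρ ^ (t j)` on the rotation part of the centralizer of the central
involution.
-/

set_option autoImplicit false
set_option maxHeartbeats 1600000

namespace CfsgLib.Blocks.DihedralBlock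

open Cfsg CfsgLib.Blocks CfsgLib.Blocks.DihedralOrder CfsgLib.Involution.DihedralSylow CfsgLib.Char
open CfsgLib.BrauerSuzuki (coeff cast_coeff classInner_eq_sum_coeff eq_sum_coeff)
open scoped Classical ComplexConjugate

variable {G : Type*} [Group G] [Fintype G] {S : Sylow 2 G} {σ τ : G} {k : ℕ}
variable {π : cJ σ k →* (S : Subgroup G)}

/-- Characters outside the principal block sum to zero on a section with 2-nilpotent centralizer. -/
theorem sum_section_eq_zero {M : Ideal AlgInt} (hM : IsPModular 2 M) {χ : IrrCharacter G}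
    (hχ : χ ∉ principalBlock M G) {z : G} (hz : ∃ j, orderOf z = 2 ^ j)
    (hnpc : Cfsg.HasNormalPComplement 2 (Subgroup.centralizer ({z} : Set G))) :
    ∑ s : Subgroup.centralizer ({z} : Set G) with IsPRegular 2 s, (χ : G → ℂ) (z * (s : G)) = 0 := by
  haveI : Fact (Nat.Prime 2) := ⟨Nat.prime_two⟩
  set C := Subgroup.centralizer ({z} : Set G) with hC
  set b := principalBlock M ↥C
  have hb : IsPBlock M b := isPBlock_principalBlock
  obtain ⟨B₀, hind⟩ := exists_isInducedBlock_centralizer_singleton hM (x := z) hz hb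
  have hprin : IsInducedBlock M C b (principalBlock M G) :=
    (Cfsg.Agent.S0936.result 2 M hM C b ⟨B₀, hind⟩).mpr rfl
  have hB : IsPBlock M (blockOf M (χ : G → ℂ)) := isPBlock_blockOf χ
  have hnot : ¬ IsInducedBlock M C b (blockOf M (χ : G → ℂ)) := fun h' =>
    hχ (IsInducedBlock.unique hM h' hprin ▸ SameBlock_refl hM _)
  have h0 := blockPart_section_eq_zero hM (x := z) hz hB (SameBlock_refl hM _) hb hnot (y := 1)
    (by rw [orderOf_one]; exact Nat.prime_two.not_dvd_one)
  have hker : ∀ s : ↥C, IsPRegular 2 s → blockCoeff b s = blockCoeff b 1 := by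
    intro s hs
    have hsN : s ∈ Cfsg.pResidual 2 ↥C := CfsgLib.Fusion.Basic.mem_pResidual_of_coprime
      ((Nat.Prime.coprime_iff_not_dvd Nat.prime_two).mpr hs).symm
    rw [blockCoeff_eq_fourierInv, blockCoeff_eq_fourierInv, fourierInv, fourierInv]
    congr 1
    refine Finset.sum_congr rfl fun ψ _ => ?_
    by_cases hψ : ψ ∈ b
    · have hk2 := le_irrKer_of_sameBlock hM (N := Cfsg.pResidual 2 ↥C) inferInstance
        ((Nat.Prime.coprime_iff_not_dvd Nat.prime_two).mp (CfsgLib.Fusion.Basic.npc_iff_coprime.mp hnpc).symm)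
        (χ := trivChar ↥C) hψ (fun _ _ => mem_irrKer.2 rfl) (inv_mem hsN)
      rw [mem_irrKer.1 hk2, inv_one]
    · rw [blockInd_of_notMem hψ, zero_mul, zero_mul]
  set ϑ : ↥C → ℂ := fun c => (χ : G → ℂ) (z * (c : G))
  have e : blockPart b ϑ 1 = ∑ c : ↥C, ϑ c * blockCoeff b c := by
    rw [blockPart_eq_sum]
    simp only [Cfsg.classInner, blockCoeff_eq_fourierInv, fourierInv, Finset.mul_sum, Finset.sum_mul,
      irr_one_eq, ← conj_irr]
    rw [Finset.sum_comm]
    exact Finset.sum_congr rfl fun c _ => Finset.sum_congr rfl fun φ _ => by ring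
  rw [e, ← Finset.sum_filter_add_sum_filter_not Finset.univ (fun c : ↥C => IsPRegular 2 c),
    Finset.sum_eq_zero (s := Finset.univ.filter fun c : ↥C => ¬ IsPRegular 2 c) fun c hc => by
      rw [IsPBlock.blockCoeff_eq_zero hM hb (not_isPRegular.1 (Finset.mem_filter.1 hc).2), mul_zero],
    add_zero, Finset.sum_congr rfl fun c hc => by rw [hker c (Finset.mem_filter.1 hc).2],
    ← Finset.sum_mul, mul_eq_zero] at h0
  exact h0.resolve_right (blockCoeff_one_ne_zero hM hb)

/-- The chosen primitive root. -/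
noncomputable def zv (k t : ℕ) : ℂ := ((zeta k : ℂˣ) : ℂ) ^ t

theorem zv_prim {k t : ℕ} (ht : t.Coprime 2) : IsPrimitiveRoot (zv k t) (2 ^ (k + 1)) :=
  (IsPrimitiveRoot.coe_units_iff.2 (zeta_prim k)).pow_of_coprime t (Nat.Coprime.pow_right _ ht)

theorem sum_root {z : ℂ} {q : ℕ} (hz : IsPrimitiveRoot z q) (a : ℕ) :
    ∑ l ∈ Finset.range q, z ^ (a * l) = if q ∣ a then (q : ℂ) else 0 := by
  split_ifs with hd
  · rw [Finset.sum_congr rfl (g := fun _ => (1 : ℂ)) fun l _ => by
      rw [pow_mul, (hz.pow_eq_one_iff_dvd a).2 hd, one_pow], Finset.sum_const, Finset.card_range,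
      nsmul_one]
  · simp only [pow_mul]
    rw [geom_sum_eq (fun h => hd ((hz.pow_eq_one_iff_dvd a).1 h)), ← pow_mul, mul_comm, pow_mul,
      hz.pow_eq_one, one_pow, sub_self, zero_div]

/-- One minus a power of the character of the rotation part. -/
noncomputable def phiN (h : Gen (S : Subgroup G) σ τ k) (π : cJ σ k →* (S : Subgroup G)) (t j : ℕ) :
    rotPart π → ℂ := fun g => 1 - ((rho h π g : ℂ) ^ t) ^ j

/-- The induced generalized character. -/
noncomputable def thetaN (h : Gen (S : Subgroup G) σ τ k) (π : cJ σ k →* (S : Subgroup G)) (t j : ℕ) :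
    G → ℂ := indFun (rotPart π) (phiN h π t j)

variable (h : Gen (S : Subgroup G) σ τ k)
  (hπ : ∀ (u : (S : Subgroup G)) (hu : (u : G) ∈ cJ σ k), π ⟨u, hu⟩ = u)
  (hodd : ¬ 2 ∣ Nat.card π.ker)

include h

theorem exists_exp (g : rotPart π) :
    ∃ i, i < 2 ^ (k + 1) ∧ rho h π g = zeta k ^ i := by
  obtain ⟨i, hi⟩ := exists_rot g
  have e := rho_eq h g i hi
  obtain ⟨l, hl, he⟩ := (IsPrimitiveRoot.coe_units_iff.2 (zeta_prim k)).eq_pow_of_pow_eq_one
    (ξ := (rho h π g : ℂ)) (by
      rw [e, Units.val_zpow_eq_zpow_val, ← zpow_natCast _ (2 ^ (k + 1)), ← zpow_mul, mul_comm,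
        zpow_mul, zpow_natCast, (IsPrimitiveRoot.coe_units_iff.2 (zeta_prim k)).pow_eq_one, one_zpow])
  exact ⟨l, hl, Units.ext (by rw [Units.val_pow_eq_pow_val]; exact he.symm)⟩

/-- The exponent of an element of the rotation part. -/
noncomputable def expo (g : rotPart π) : ℕ := (exists_exp h g).choose

theorem expo_lt (g : rotPart π) : expo h g < 2 ^ (k + 1) := (exists_exp h g).choose_spec.1

theorem rho_expo (g : rotPart π) : rho h π g = zeta k ^ expo h g := (exists_exp h g).choose_spec.2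

theorem expo_eq {g : rotPart π} {i : ℕ} (hi : i < 2 ^ (k + 1)) (e : rho h π g = zeta k ^ i) :
    expo h g = i :=
  (zeta_prim k).pow_inj (expo_lt h g) hi ((rho_expo h g).symm.trans e)

theorem phiN_eq (t j : ℕ) (g : rotPart π) : phiN h π t j g = 1 - zv k t ^ (j * expo h g) := by
  rw [phiN, rho_expo h g, Units.val_pow_eq_pow_val, zv, ← pow_mul, ← pow_mul, ← pow_mul]
  congr 2; ring

theorem phiN_of_rho_one (t j : ℕ) {g : rotPart π} (hg : rho h π g = 1) : phiN h π t j g = 0 := by
  rw [phiN, hg, Units.val_one, one_pow, one_pow, sub_self]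

theorem thetaN_gen (t j : ℕ) : IsGeneralizedCharacter G (thetaN h π t j) := by
  refine IsGeneralizedCharacter.indFun _ ⟨fun _ => 1, fun g => (((rho h π ^ t) ^ j) g : ℂ), isCharacter_one,
    isCharacter_hom _, ?_⟩
  funext g
  simp [phiN, MonoidHom.pow_apply]

include hπ

theorem rho_sigma (i : ℕ) :
    rho h π ⟨σ ^ (i : ℤ), zpow_mem_rotPart h hπ i⟩ = zeta k ^ i := by
  rw [rho_zpow h hπ, zpow_natCast]

/-- Sums over the rotation part of functions of the exponent. -/
theorem rot_sum (F : rotPart π → ℂ) (f : ℕ → ℂ) (hF : ∀ g, F g = f (expo h g)) :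
    ((2 ^ (k + 1) : ℕ) : ℂ) * ((Nat.card (rotPart π) : ℂ)⁻¹ * ∑ g : rotPart π, F g)
      = ∑ l ∈ Finset.range (2 ^ (k + 1)), f l := by
  set q := 2 ^ (k + 1) with hq
  set T : ℕ → Finset (rotPart π) := fun i => Finset.univ.filter fun g => expo h g = i with hT
  have hcard : ∀ i, i < q → (T i).card = (T 0).card := by
    intro i hi
    symm
    refine Finset.card_equiv (Equiv.mulLeft (⟨σ ^ (i : ℤ), zpow_mem_rotPart h hπ i⟩ : rotPart π))
      fun g => ?_
    simp only [T, Finset.mem_filter, Finset.mem_univ, true_and, Equiv.coe_mulLeft]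
    constructor
    · intro hg
      refine expo_eq h hi ?_
      rw [map_mul, rho_sigma h hπ, rho_expo h g, hg, pow_zero, mul_one]
    · intro hg
      refine expo_eq h (pow_pos two_pos _) ?_
      have e := rho_expo h (⟨σ ^ (i : ℤ), zpow_mem_rotPart h hπ i⟩ * g)
      rw [hg, map_mul, rho_sigma h hπ] at e
      rw [pow_zero]
      exact mul_eq_left.1 e
  have hgen : ∀ (F : rotPart π → ℂ) (f : ℕ → ℂ), (∀ g, F g = f (expo h g)) →
      ∑ g : rotPart π, F g = ((T 0).card : ℂ) * ∑ l ∈ Finset.range q, f l := by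
    intro F f hF
    rw [← Finset.sum_fiberwise_of_maps_to (g := expo h) (t := Finset.range q)
      (fun g _ => Finset.mem_range.2 (expo_lt h g)), Finset.mul_sum]
    refine Finset.sum_congr rfl fun l hl => ?_
    rw [Finset.sum_congr rfl (g := fun _ => f l) fun g hg => by rw [hF g, (Finset.mem_filter.1 hg).2],
      Finset.sum_const, nsmul_eq_mul, show Finset.univ.filter (fun g => expo h g = l) = T l from rfl,
      hcard l (Finset.mem_range.1 hl)]
  have h1 := hgen (fun _ => 1) (fun _ => 1) fun _ => rfl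
  rw [Finset.sum_const, Finset.sum_const, Finset.card_univ, ← Nat.card_eq_fintype_card, Finset.card_range,
    nsmul_one, nsmul_one] at h1
  have hH : (Nat.card (rotPart π) : ℂ) ≠ 0 := Nat.cast_ne_zero.2 Nat.card_pos.ne'
  have hT0 : ((T 0).card : ℂ) ≠ 0 := fun e => hH (by rw [h1, e, zero_mul])
  rw [hgen F f hF, h1]
  have hq0 : (q : ℂ) ≠ 0 := by rw [hq]; exact_mod_cast (pow_pos two_pos _).ne'
  field_simp

include hodd

theorem thetaN_apply (t j : ℕ) (g : rotPart π) :
    thetaN h π t j (g : G) = phiN h π t j g + conj (phiN h π t j g) := by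
  have key : ∀ x : G, extendByZero (rotPart π) (phiN h π t j) (x⁻¹ * (g : G) * x)
      = (if x ∈ cJ σ k then conj (phiN h π t j g) else 0)
        + (if x ∈ rotPart π then phiN h π t j g - conj (phiN h π t j g) else 0) := by
    intro x
    by_cases hxC : x ∈ cJ σ k
    · have e : rho h π ⟨x⁻¹ * (g : G) * x⁻¹⁻¹, conj_mem_rotPart h ((cJ σ k).inv_mem hxC) g.2⟩
          = if x⁻¹ ∈ rotPart π then rho h π g else (rho h π g)⁻¹ := rho_conj h ((cJ σ k).inv_mem hxC) g
      have e' : extendByZero (rotPart π) (phiN h π t j) (x⁻¹ * (g : G) * x)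
          = 1 - ((((if x ∈ rotPart π then rho h π g else (rho h π g)⁻¹) : ℂˣ) : ℂ) ^ t) ^ j := by
        rw [show x⁻¹ * (g : G) * x = x⁻¹ * (g : G) * x⁻¹⁻¹ by rw [inv_inv],
          extendByZero_apply_mem _ _ (conj_mem_rotPart h ((cJ σ k).inv_mem hxC) g.2), phiN, e]
        simp only [(rotPart π).inv_mem_iff]
      rw [e', if_pos hxC]
      by_cases hxH : x ∈ rotPart π
      · rw [if_pos hxH, if_pos hxH, phiN]
        ring
      · rw [if_neg hxH, if_neg hxH, phiN, map_sub, map_one, map_pow, map_pow, conj_rho, add_zero]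
    · rw [if_neg hxC, if_neg fun hc => hxC (rotPart_le π hc), add_zero]
      by_cases hm : x⁻¹ * (g : G) * x ∈ rotPart π
      · rw [extendByZero_apply_mem _ _ hm]
        by_contra hne
        exact hxC (mem_cJ_of_conj h hπ hodd (g := g) (g' := ⟨_, hm⟩) rfl
          fun e => hne (phiN_of_rho_one h t j e))
      · rw [extendByZero_apply_notMem _ _ hm]
  have hH : (Nat.card (rotPart π) : ℂ) ≠ 0 := Nat.cast_ne_zero.2 Nat.card_pos.ne'
  rw [thetaN, indFun_def, Finset.sum_congr rfl fun x _ => key x, Finset.sum_add_distrib,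
    sum_ite_mem, sum_ite_mem, card_cJ h hπ, Nat.cast_mul]
  field_simp
  ring

omit hπ hodd in
theorem thetaN_odd (t j : ℕ) {ρ : G} (hρ : ¬ 2 ∣ orderOf ρ) : thetaN h π t j ρ = 0 := by
  rw [thetaN, indFun_def, Finset.sum_eq_zero, mul_zero]
  intro x _
  by_cases hm : x⁻¹ * ρ * x ∈ rotPart π
  · rw [extendByZero_apply_mem _ _ hm]
    refine phiN_of_rho_one h t j ((rho_eq_one_iff h _).2 (map_one_of_odd ?_))
    show ¬ 2 ∣ orderOf (x⁻¹ * ρ * x)
    have := BrauerSuzuki.orderOf_conj' x⁻¹ ρ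
    rw [inv_inv] at this
    rwa [this]
  · rw [extendByZero_apply_notMem _ _ hm]

theorem thetaN_inner {t : ℕ} (ht : t.Coprime 2) {i j : ℕ} (hi1 : 1 ≤ i) (hi : i ≤ 2 ^ k) (hj1 : 1 ≤ j)
    (hj : j ≤ 2 ^ k) :
    classInner (thetaN h π t i) (thetaN h π t j)
      = 2 + (if i = j then 1 else 0) + (if i = j ∧ j = 2 ^ k then 1 else 0) := by
  set q := 2 ^ (k + 1) with hq
  have hq2 : q = 2 * 2 ^ k := by rw [hq, pow_succ]; ring
  have hz := zv_prim (k := k) ht
  set z := zv k t
  have hzc : ∀ m, m ≤ q → conj (z ^ m) = z ^ (q - m) := by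
    intro m hm
    have hn : ‖z ^ m‖ = 1 := by rw [norm_pow, hz.norm'_eq_one (NeZero.ne _), one_pow]
    rw [← Complex.inv_eq_conj hn]
    refine inv_eq_of_mul_eq_one_right ?_
    rw [← pow_add, show m + (q - m) = q by omega, hz.pow_eq_one]
  have hjc : IsClassFunction G (thetaN h π t j) := indFun_isClassFunction _ _
  generalize hθj : thetaN h π t j = θj at hjc ⊢
  rw [thetaN, classInner_indFun _ _ hjc, classInner]
  subst hθj
  have hrs := rot_sum h hπ (fun g => phiN h π t i g * conj (thetaN h π t j (g : G)))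
    (fun l => 2 - z ^ (j * l) - z ^ ((q - j) * l) - 2 * z ^ (i * l) + z ^ ((i + j) * l)
      + z ^ ((i + (q - j)) * l)) fun g => by
      rw [thetaN_apply h hπ hodd, map_add, Complex.conj_conj, phiN_eq, phiN_eq, map_sub, map_one]
      have e : conj (z ^ (j * expo h g)) = z ^ ((q - j) * expo h g) := by
        rw [pow_mul, map_pow, hzc j (by omega), ← pow_mul]
      rw [e, add_mul, pow_add, add_mul i, pow_add]
      ring
  simp only [Finset.sum_add_distrib, Finset.sum_sub_distrib, ← Finset.mul_sum, sum_root hz,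
    Finset.sum_const, Finset.card_range, nsmul_eq_mul] at hrs
  rw [← hq, if_neg (Nat.not_dvd_of_pos_of_lt (by omega) (by omega)),
    if_neg (Nat.not_dvd_of_pos_of_lt (by omega) (by omega)),
    if_neg (Nat.not_dvd_of_pos_of_lt (by omega) (by omega))] at hrs
  have d1 : (q ∣ i + j) ↔ (i = j ∧ j = 2 ^ k) := by
    refine ⟨fun hd => ?_, fun ⟨e1, e2⟩ => ⟨1, by omega⟩⟩
    have := Nat.le_of_dvd (by omega) hd
    omega
  have d2 : (q ∣ i + (q - j)) ↔ i = j := by
    refine ⟨fun hd => ?_, fun e1 => ⟨1, by omega⟩⟩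
    obtain ⟨m, hm⟩ := hd
    rcases lt_trichotomy m 1 with hm' | hm' | hm'
    · have : m = 0 := by omega
      subst this; omega
    · subst hm'; omega
    · have : q * 2 ≤ q * m := Nat.mul_le_mul_left q hm'
      omega
  simp only [d1, d2] at hrs
  have hq0 : (q : ℂ) ≠ 0 := Nat.cast_ne_zero.2 (by omega)
  apply mul_left_cancel₀ hq0
  rw [hrs]
  split_ifs <;> ring

theorem thetaN_inner_one {t : ℕ} (ht : t.Coprime 2) {j : ℕ} (hj1 : 1 ≤ j) (hj : j < 2 ^ (k + 1)) :
    classInner (thetaN h π t j) (fun _ => 1) = 1 := by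
  have hz := zv_prim (k := k) ht
  rw [thetaN, classInner_indFun _ _ fun _ _ => rfl, classInner]
  have hrs := rot_sum h hπ (fun g => phiN h π t j g * conj (1 : ℂ))
    (fun l => 1 - zv k t ^ (j * l)) fun g => by rw [map_one, mul_one, phiN_eq]
  rw [Finset.sum_sub_distrib, sum_root hz, if_neg (Nat.not_dvd_of_pos_of_lt hj1 hj), sub_zero,
    Finset.sum_const, Finset.card_range, nsmul_one] at hrs
  exact mul_left_cancel₀ (Nat.cast_ne_zero.2 (pow_pos two_pos _).ne') (hrs.trans (mul_one _).symm)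

/-- The centralizer of a rotation off the kernel. -/
theorem centralizer_le_cJ {w : rotPart π} (hw : rho h π w ≠ 1) :
    Subgroup.centralizer ({(w : G)} : Set G) ≤ cJ σ k := fun c hc => by
  obtain ⟨m, hm⟩ := exists_pow_J h hπ hodd hw
  refine Subgroup.mem_centralizer_singleton_iff.2 ?_
  rw [← hm]
  exact ((show Commute c (w : G) from Subgroup.mem_centralizer_singleton_iff.1 hc).pow_right m).eq

theorem npc_of_rot {w : rotPart π} (hw : rho h π w ≠ 1) :
    Cfsg.HasNormalPComplement 2 (Subgroup.centralizer ({(w : G)} : Set G)) :=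
  haveI : Fact (Nat.Prime 2) := ⟨Nat.prime_two⟩
  CfsgLib.Fusion.Basic.npc_of_le (centralizer_le_cJ h hπ hodd hw) (npc_centralizer h)

omit hπ hodd in
/-- An odd part does not change the rotation character. -/
theorem rho_mul_odd {w y : rotPart π} (hy : ¬ 2 ∣ orderOf (y : G)) :
    rho h π (w * y) = rho h π w := by
  have : rho h π y = 1 := (rho_eq_one_iff h y).2
    (map_one_of_odd (π := π) (c := ⟨(y : G), rotPart_le π y.2⟩) hy)
  rw [map_mul, this, mul_one]

omit hπ hodd in
theorem mem_rot_of_odd {y : G} (hy : y ∈ cJ σ k) (ho : ¬ 2 ∣ orderOf y) : y ∈ rotPart π :=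
  (mem_rotPart hy).2 (by rw [map_one_of_odd (π := π) (c := ⟨y, hy⟩) ho]; exact one_mem _)

/-- Only the principal block occurs in the induced characters. -/
theorem thetaN_eq_zero_of_notMem {M : Ideal AlgInt} (hM : IsPModular 2 M) (t j : ℕ) {χ : IrrCharacter G}
    (hχ : χ ∉ principalBlock M G) : classInner (thetaN h π t j) (χ : G → ℂ) = 0 := by
  haveI : Fact (Nat.Prime 2) := ⟨Nat.prime_two⟩
  rw [thetaN, classInner_indFun _ _ (IsIrrCharacter.isClassFunction χ.2), classInner]
  set T : G → ℂ := fun g => if hg : g ∈ rotPart π then phiN h π t j ⟨g, hg⟩ * conj ((χ : G → ℂ) g) else 0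
  have hsum : ∑ g : rotPart π, phiN h π t j g * conj ((χ : G → ℂ) (g : G)) = ∑ g : G, T g := by
    rw [← Finset.sum_filter_of_ne (s := (Finset.univ : Finset G)) (p := fun g => g ∈ rotPart π) fun g _ hne => by
      by_contra hg; exact hne (dif_neg hg)]
    refine Finset.sum_bij (fun g _ => (g : G)) (fun g _ => Finset.mem_filter.2 ⟨Finset.mem_univ _, g.2⟩)
      (fun g _ g' _ e => Subtype.ext e) (fun g hg => ⟨⟨g, (Finset.mem_filter.1 hg).2⟩, Finset.mem_univ _, rfl⟩)
      fun g _ => ?_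
    simp only [T]
    rw [dif_pos g.2]
  rw [hsum, ← Finset.sum_fiberwise_of_maps_to (g := TIAbelian.pEl 2)
    (t := Finset.univ.filter fun z : G => ∃ i, orderOf z = 2 ^ i)
    (fun g _ => Finset.mem_filter.2 ⟨Finset.mem_univ _, TIAbelian.pEl_pow g⟩), Finset.sum_eq_zero, mul_zero]
  intro z hz
  obtain ⟨i, hi⟩ := (Finset.mem_filter.1 hz).2
  rw [TIAbelian.sum_fiber _ hi]
  by_cases hgood : ∃ hzH : z ∈ rotPart π, rho h π ⟨z, hzH⟩ ≠ 1
  · obtain ⟨hzH, hρz⟩ := hgood
    have hconst : ∀ s ∈ Finset.univ.filter (fun s : Subgroup.centralizer ({z} : Set G) => IsPRegular 2 s),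
        T (z * (s : G)) = phiN h π t j ⟨z, hzH⟩ * conj ((χ : G → ℂ) (z * (s : G))) := by
      intro s hs
      have ho : ¬ 2 ∣ orderOf (s : G) := by
        rw [Subgroup.orderOf_coe]; exact (Finset.mem_filter.1 hs).2
      have hsH : (s : G) ∈ rotPart π :=
        mem_rot_of_odd h (centralizer_le_cJ h hπ hodd (w := ⟨z, hzH⟩) hρz s.2) ho
      simp only [T]
      rw [dif_pos (mul_mem hzH hsH)]
      congr 1
      simp only [phiN]
      rw [show (⟨z * (s : G), mul_mem hzH hsH⟩ : rotPart π) = ⟨z, hzH⟩ * ⟨s, hsH⟩ from rfl,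
        rho_mul_odd h ho]
    rw [Finset.sum_congr rfl hconst, ← Finset.mul_sum, ← map_sum,
      sum_section_eq_zero hM hχ ⟨i, hi⟩ (npc_of_rot h hπ hodd (w := ⟨z, hzH⟩) hρz), map_zero, mul_zero]
  · refine Finset.sum_eq_zero fun s hs => ?_
    have ho : ¬ 2 ∣ orderOf (s : G) := by
      rw [Subgroup.orderOf_coe]; exact (Finset.mem_filter.1 hs).2
    simp only [T]
    split_ifs with hm
    · rw [phiN_of_rho_one h t j, zero_mul]
      by_contra hne
      have hzH : z ∈ rotPart π := by
        obtain ⟨y, he, -, -, -⟩ := TIAbelian.pEl_spec (p := 2) (z * (s : G))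
        obtain ⟨w, y', hp, hwy, hcm, hy', -, hwz, hyz⟩ := exists_isPPart Nat.prime_two (z * (s : G))
        have e1 : w = z := by
          have := TIAbelian.pEl_mul (p := 2) (Subgroup.mem_centralizer_singleton_iff.1 s.2).symm hi ho
          rw [← TIAbelian.pEl_eq hp, this]
        exact e1 ▸ Subgroup.zpowers_le.2 hm hwz
      have hsH : (s : G) ∈ rotPart π := by
        have := mul_mem (inv_mem hzH) hm
        rwa [inv_mul_cancel_left] at this
      refine hgood ⟨hzH, fun e => hne ?_⟩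
      rw [show (⟨z * (s : G), hm⟩ : rotPart π) = ⟨z, hzH⟩ * ⟨s, hsH⟩ from rfl, rho_mul_odd h ho, e]
    · rfl

omit hodd hπ in
theorem val_sigma_neg (χ : IrrCharacter G) (i : ℤ) : (χ : G → ℂ) (σ ^ (-i)) = (χ : G → ℂ) (σ ^ i) := by
  rw [← irr_conj_apply χ (σ ^ i) τ, show τ * σ ^ i * τ⁻¹ = σ ^ (-i) by rw [b_mul h, mul_inv_cancel_right]]

/-- A character of the principal block on the rotation part off the kernel. -/
theorem apply_rot {M : Ideal AlgInt} (hM : IsPModular 2 M) {χ : IrrCharacter G}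
    (hχ : χ ∈ principalBlock M G) {g : rotPart π} (hg : rho h π g ≠ 1) :
    (χ : G → ℂ) (g : G) = (χ : G → ℂ) (σ ^ (expo h g : ℤ)) := by
  haveI : Fact (Nat.Prime 2) := ⟨Nat.prime_two⟩
  obtain ⟨w, y, -, hwy, hcomm, hy, ⟨j, hj⟩, hw, hyz⟩ := exists_isPPart Nat.prime_two (g : G)
  have hwH : w ∈ rotPart π := Subgroup.zpowers_le.2 g.2 hw
  have hyH : y ∈ rotPart π := Subgroup.zpowers_le.2 g.2 hyz
  have hρw : rho h π ⟨w, hwH⟩ = rho h π g := by
    rw [← rho_mul_odd h (w := ⟨w, hwH⟩) (y := ⟨y, hyH⟩) hy]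
    exact congrArg _ (Subtype.ext hwy)
  have hnpc := npc_of_rot h hπ hodd (w := ⟨w, hwH⟩) (by rw [hρw]; exact hg)
  have hyC : y ∈ Subgroup.centralizer ({w} : Set G) :=
    Subgroup.mem_centralizer_singleton_iff.2 hcomm.eq.symm
  have key := BrauerSuzuki.principalBlock_apply_section hM (x := w) ⟨j, hj⟩ hχ
    (Cfsg.pResidual 2 ↥(Subgroup.centralizer ({w} : Set G)))
    ((Nat.Prime.coprime_iff_not_dvd Nat.prime_two).mp (CfsgLib.Fusion.Basic.npc_iff_coprime.mp hnpc).symm)
    (y := ⟨y, hyC⟩)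
    (CfsgLib.Fusion.Basic.mem_pResidual_of_coprime (by
      rw [Subgroup.orderOf_mk]
      exact ((Nat.Prime.coprime_iff_not_dvd Nat.prime_two).mpr hy).symm))
  rw [← hwy, key]
  set SC : Sylow 2 (cJ σ k) := S.subtype fun x hx =>
    Subgroup.mem_centralizer_singleton_iff.2 (z_comm h x hx).eq.symm
  obtain ⟨c, hc⟩ := TIAbelian.exists_conj_mem_sylow_p SC
    (R := Subgroup.zpowers (⟨w, rotPart_le π hwH⟩ : cJ σ k))
    (IsPGroup.of_card (n := j) (by rw [Nat.card_zpowers, Subgroup.orderOf_mk, hj]))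
  have hu : (c : G) * w * (c : G)⁻¹ ∈ (S : Subgroup G) :=
    Subgroup.mem_subgroupOf.mp (hc _ (Subgroup.mem_zpowers _))
  have huH := conj_mem_rotPart (π := π) h c.2 hwH
  obtain ⟨i, hi⟩ := exists_rot (π := π) ⟨_, huH⟩
  have hρu := rho_eq h ⟨_, huH⟩ i hi
  rw [show π ⟨_, rotPart_le π huH⟩ = ⟨_, hu⟩ from hπ ⟨_, hu⟩ _] at hi
  change (c : G) * w * (c : G)⁻¹ = σ ^ i at hi
  have hrc := rho_conj h c.2 (⟨w, hwH⟩ : rotPart π)
  rw [hρu, hρw, rho_expo h g] at hrc
  rw [← irr_conj_apply χ w (c : G), hi]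
  have hz : ∀ a b : ℤ, zeta k ^ a = zeta k ^ b → σ ^ a = σ ^ b := fun a b e => by
    have : zeta k ^ (a - b) = 1 := by rw [zpow_sub, e, mul_inv_cancel]
    rw [zeta_zpow h, zpow_sub, mul_inv_eq_one] at this
    exact this
  split_ifs at hrc with hcH
  · rw [hz i (expo h g) (by rw [hrc, zpow_natCast])]
  · rw [hz i (-(expo h g : ℤ)) (by rw [hrc, zpow_neg, zpow_natCast]), val_sigma_neg h]

/-- The multiplicities in the principal block. -/
theorem coeff_formula {M : Ideal AlgInt} (hM : IsPModular 2 M) (t j : ℕ) {χ : IrrCharacter G}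
    (hχ : χ ∈ principalBlock M G) :
    ((2 ^ (k + 1) : ℕ) : ℂ) * classInner (thetaN h π t j) (χ : G → ℂ)
      = ∑ l ∈ Finset.range (2 ^ (k + 1)), (χ : G → ℂ) (σ ^ (l : ℤ)) * (1 - zv k t ^ (j * l)) := by
  rw [thetaN, classInner_indFun _ _ (IsIrrCharacter.isClassFunction χ.2), classInner]
  refine rot_sum h hπ _ _ fun g => ?_
  rw [phiN_eq]
  by_cases hg : rho h π g = 1
  · have : expo h g = 0 := expo_eq h (pow_pos two_pos _) (by rw [hg, pow_zero])
    simp [this]
  · rw [apply_rot h hπ hodd hM hχ hg, conj_irr, ← zpow_neg, val_sigma_neg h, mul_comm]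

/-- The values on the rotations from the multiplicities. -/
theorem value_formula {M : Ideal AlgInt} (hM : IsPModular 2 M) {t : ℕ} (ht : t.Coprime 2)
    {χ : IrrCharacter G} (hχ : χ ∈ principalBlock M G) {l : ℕ} (hl0 : 0 < l) (hl : l < 2 ^ (k + 1)) :
    (χ : G → ℂ) (σ ^ l) = -∑ j ∈ Finset.range (2 ^ (k + 1)),
      classInner (thetaN h π t j) (χ : G → ℂ) * zv k t ^ ((2 ^ (k + 1) - l) * j) := by
  set q := 2 ^ (k + 1) with hq
  have hz : IsPrimitiveRoot (zv k t) q := zv_prim ht
  set z := zv k t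
  have hq0 : (q : ℂ) ≠ 0 := Nat.cast_ne_zero.2 (by omega)
  apply mul_left_cancel₀ hq0
  rw [mul_neg, Finset.mul_sum, Finset.sum_congr rfl (g := fun j => ∑ i ∈ Finset.range q,
    (χ : G → ℂ) (σ ^ (i : ℤ)) * (z ^ ((q - l) * j) - z ^ ((i + (q - l)) * j))) fun j _ => by
      rw [← mul_assoc, coeff_formula h hπ hodd hM t j hχ, Finset.sum_mul]
      refine Finset.sum_congr rfl fun i _ => ?_
      rw [add_mul, pow_add, mul_comm j i]; ring,
    Finset.sum_comm]
  simp only [← Finset.mul_sum, Finset.sum_sub_distrib, sum_root hz,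
    if_neg (Nat.not_dvd_of_pos_of_lt (show 0 < q - l by omega) (show q - l < q by omega))]
  rw [Finset.sum_eq_single l]
  · rw [if_pos ⟨1, by omega⟩, zpow_natCast]; ring
  · intro i hi hne
    rw [if_neg, sub_zero, mul_zero]
    rintro ⟨m, hm⟩
    have hi' := Finset.mem_range.1 hi
    rcases lt_trichotomy m 1 with hm' | hm' | hm'
    · have : m = 0 := by omega
      subst this; omega
    · subst hm'; omega
    · have : q * 2 ≤ q * m := Nat.mul_le_mul_left q hm'
      omega
  · exact fun hn => absurd (Finset.mem_range.2 hl) hn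

/-- Opposite exponents give the same multiplicities. -/
theorem coeff_symm {M : Ideal AlgInt} (hM : IsPModular 2 M) (t : ℕ) {j : ℕ} (hj : j ≤ 2 ^ (k + 1))
    (ht : t.Coprime 2) {χ : IrrCharacter G} (hχ : χ ∈ principalBlock M G) :
    classInner (thetaN h π t (2 ^ (k + 1) - j)) (χ : G → ℂ) = classInner (thetaN h π t j) (χ : G → ℂ) := by
  have hz := zv_prim (k := k) ht
  have hreal : conj (classInner (thetaN h π t j) (χ : G → ℂ)) = classInner (thetaN h π t j) (χ : G → ℂ) := by
    rw [← cast_coeff (thetaN_gen h t j), map_intCast]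
  rw [← hreal]
  have hq0 : ((2 ^ (k + 1) : ℕ) : ℂ) ≠ 0 := Nat.cast_ne_zero.2 (pow_pos two_pos _).ne'
  apply mul_left_cancel₀ hq0
  rw [coeff_formula h hπ hodd hM t _ hχ]
  have h2 := congrArg conj (coeff_formula h hπ hodd hM t j hχ)
  rw [map_mul, map_natCast, map_sum] at h2
  rw [h2]
  refine Finset.sum_congr rfl fun l _ => ?_
  rw [map_mul, map_sub, map_one, conj_irr, ← zpow_neg, val_sigma_neg h]
  congr 2
  have hn : ‖zv k t ^ (j * l)‖ = 1 := by rw [norm_pow, hz.norm'_eq_one (NeZero.ne _), one_pow]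
  rw [← Complex.inv_eq_conj hn]
  refine (inv_eq_of_mul_eq_one_right ?_).symm
  rw [← pow_add, ← add_mul, Nat.add_sub_cancel' hj, pow_mul, hz.pow_eq_one, one_pow]

omit hπ hodd in
theorem thetaN_zero (t : ℕ) : thetaN h π t 0 = 0 := by
  funext g
  rw [thetaN, indFun_def, Finset.sum_eq_zero, mul_zero, Pi.zero_apply]
  intro x _
  by_cases hm : x⁻¹ * g * x ∈ rotPart π
  · rw [extendByZero_apply_mem _ _ hm]; simp [phiN]
  · rw [extendByZero_apply_notMem _ _ hm]

omit hπ hodd in
/-- No member of the principal block vanishes at the central involution. -/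
theorem apply_J_ne_zero {M : Ideal AlgInt} (hM : IsPModular 2 M) {χ : IrrCharacter G}
    (hχ : χ ∈ principalBlock M G) : (χ : G → ℂ) (σ ^ ((2 : ℤ) ^ k)) ≠ 0 := by
  intro h0
  haveI : Fact (Nat.Prime 2) := ⟨Nat.prime_two⟩
  set J := σ ^ ((2 : ℤ) ^ k) with hJ
  set K := Subgroup.centralizer ({J} : Set G) with hK
  set b := principalBlock M ↥K
  have hx : ∃ i : ℕ, orderOf J = 2 ^ i := ⟨1, by rw [pow_one]; exact z_orderOf h⟩
  obtain ⟨B₀, hind⟩ := exists_isInducedBlock_centralizer_singleton hM (x := J) hx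
    (show IsPBlock M b from isPBlock_principalBlock)
  have hprin : IsInducedBlock M K b (principalBlock M G) :=
    (Cfsg.Agent.S0936.result 2 M hM K b ⟨B₀, hind⟩).mpr rfl
  have hSK : (S : Subgroup G) ≤ K := fun x hx =>
    Subgroup.mem_centralizer_singleton_iff.2 (z_comm h x hx).eq.symm
  have hd : blockDefect 2 b = blockDefect 2 (principalBlock M G) := by
    have key : ∀ (H : Type _) [Group H] [Fintype H],
        blockDefect 2 (principalBlock M H) = (Nat.card H).factorization 2 := fun H _ _ => by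
      have h1 := minDegVal_le (p := 2) (trivChar_mem_principalBlock (G := H) hM)
      have h2 : degVal 2 (trivChar H) = 0 := by
        have : charDegree (trivChar H : H → ℂ) = 1 := by
          have h := irr_one_eq (trivChar H)
          rw [trivChar_apply] at h
          exact_mod_cast h.symm
        rw [degVal, this]; simp
      rw [blockDefect_eq]; omega
    rw [key, key]
    have hidx : ¬ 2 ∣ K.index := fun hdvd =>
      S.not_dvd_index (hdvd.trans (Subgroup.index_dvd_of_le hSK))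
    rw [← Subgroup.card_mul_index K, Nat.factorization_mul Nat.card_pos.ne'
      Subgroup.index_ne_zero_of_finite, Finsupp.add_apply, Nat.factorization_eq_zero_of_not_dvd hidx,
      add_zero]
  set zK : K := ⟨J, Subgroup.mem_centralizer_singleton_iff.2 rfl⟩
  have hzK : zK ∈ Subgroup.center K := Subgroup.mem_center_iff.2 fun c =>
    Subtype.ext (Subgroup.mem_centralizer_singleton_iff.1 c.2)
  have hz2 : zK ^ 2 ^ 1 = 1 := Subtype.ext (by
    rw [Subgroup.coe_pow, pow_one, pow_two]; exact z_sq h)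
  obtain ⟨w, hw, hcongr⟩ := MajorContrib.exists_scaled hM hprin hd (z := zK) rfl hzK (trivChar G)
  have hsec : ∀ s : K, IsPRegular 2 s → secPart J K b χ s = 0 := fun s hs => by
    have e := blockPart_sectionSet hM rfl hx (isPBlock_principalBlock (G := G)) χ hs
    rw [sectionSet_principal hM hx, blockInd_of_mem hχ, one_mul] at e
    have hnpc : Cfsg.HasNormalPComplement 2 K := npc_centralizer h
    rw [secPart, e, BrauerSuzuki.principalBlock_apply_section hM hx hχ (Cfsg.pResidual 2 ↥K)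
      ((Nat.Prime.coprime_iff_not_dvd Nat.prime_two).mp (CfsgLib.Fusion.Basic.npc_iff_coprime.mp hnpc).symm)
      (CfsgLib.Fusion.Basic.mem_pResidual_of_coprime
        ((Nat.Prime.coprime_iff_not_dvd Nat.prime_two).mpr hs).symm)]
    exact h0
  have hc0 : contrib 2 J K b χ (trivChar G) = 0 := by
    rw [contrib, Finset.sum_eq_zero fun s hs => by rw [hsec s (Finset.mem_filter.1 hs).2, zero_mul],
      mul_zero]
  have hwχ : w χ = 0 := by
    have e := (hw χ hχ).2
    rw [hc0, zero_div] at e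
    exact (mul_eq_zero.1 e.symm).resolve_left (pow_ne_zero _ (by norm_num))
  have htm := trivChar_mem_principalBlock (G := G) hM
  have hmin : degVal 2 (trivChar G) = minDegVal 2 (principalBlock M G) := by
    have h1 := minDegVal_le (p := 2) htm
    have h2 : degVal 2 (trivChar G) = 0 := by
      have : charDegree (trivChar G : G → ℂ) = 1 := by
        have h := irr_one_eq (trivChar G)
        rw [trivChar_apply] at h
        exact_mod_cast h.symm
      rw [degVal, this]; simp
    omega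
  refine contrib_not_LI_of_min hM hprin (z := zK) rfl hzK hz2 htm htm hmin hmin ?_
  rw [(hw _ htm).2, hmin, Nat.sub_self, pow_zero, one_mul]
  exact hcongr χ hχ _ htm (by rw [hwχ]; exact LI.zero hM)

end CfsgLib.Blocks.DihedralBlock
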