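import Cfsg.Agent.Lib.Blocks.PCentralizer
import Cfsg.Agent.Lib.Blocks.Local2
import Cfsg.Agent.Lib.Blocks.Complement
import Cfsg.Agent.Lib.Char.CliffordCorr
import Cfsg.Agent.S0887

/-!
# Heights in a block with normal defect group
-/

set_option autoImplicit false

namespace CfsgLib.Blocks

open Cfsg
open scoped Classical ComplexConjugate

variable {G : Type*} [Group G] [Fintype G] {p : ℕ} {M : Ideal AlgInt} {B : Set (IrrCharacter G)}
  {P L : Subgroup G} [P.Normal] [L.Normal]

/-- The block of a constituent on `L ⊇ C_G(P)` induces the block of `χ`. -/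
theorem isInducedBlock_of_over (hM : IsPModular p M) (hP : IsPGroup p P)
    (hCL : Subgroup.centralizer (P : Set G) ≤ L) (hB : IsPBlock M B) {χ : IrrCharacter G}
    (hχ : χ ∈ B) {θ : IrrCharacter L}
    (h : classInner (fun n : L => (χ : G → ℂ) n) (θ : L → ℂ) ≠ 0) :
    IsInducedBlock M L (blockOf M (θ : L → ℂ)) B := by
  refine ⟨isPBlock_blockOf θ, hB, fun θ' hθ' χ' hχ' g => ?_⟩
  rw [inducedCentralChar_eq]
  refine LI.trans hM (omega_congr hM (SameBlock_symm (mem_blockOf.1 hθ'))
    (resFun_isClassFunction L (classInd_isClassFunction g)) fun k => classInd_LR hM g k) ?_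
  refine LI.trans hM ?_ (IsPBlock.sameBlock hM hB hχ hχ' g)
  rw [← omega_eq_of_over h (f := fun l : L => classInd g (l : G)) (fun w n => by
    rw [MulAut.conjNormal_apply]; exact classInd_isClassFunction g (n : G) w)]
  by_cases hg : g ∈ L
  · have e : (fun x => if hx : x ∈ L then classInd g ((⟨x, hx⟩ : L) : G) else 0) = classInd g := by
      funext x
      by_cases hx : x ∈ L
      · rw [dif_pos hx]
      · rw [dif_neg hx, classInd, if_neg]
        intro hc
        obtain ⟨c, rfl⟩ := isConj_iff.1 hc
        exact hx (Subgroup.Normal.conj_mem inferInstance g hg c)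
    rw [← omega_extend χ (fun l : L => classInd g (l : G)), e, omega_classInd, sub_self]
    exact LI.zero hM
  · have e : ∀ l : L, classInd g (l : G) = 0 := fun l => by
      rw [classInd, if_neg]
      intro hc
      obtain ⟨c, hc⟩ := isConj_iff.1 hc.symm
      exact hg (hc ▸ Subgroup.Normal.conj_mem inferInstance (l : G) l.2 c)
    simp only [e, zero_mul, Finset.sum_const_zero, zero_div, zero_sub]
    exact LI.neg (centralChar_LI_of_notMem hM hP χ fun hc => hg (hCL hc))

theorem factorization_index_eq_add (hPL : P ≤ L) :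
    P.index.factorization p = L.index.factorization p + (P.subgroupOf L).index.factorization p := by
  rw [← Subgroup.relIndex_mul_index hPL, Nat.factorization_mul ?_ Subgroup.index_ne_zero_of_finite,
    Finsupp.add_apply, add_comm]
  · rfl
  · exact Subgroup.index_ne_zero_of_finite

theorem factorization_index_add_card (hP : IsPGroup p P) (hp : p.Prime) :
    ∃ d, Nat.card P = p ^ d ∧ (Nat.card G).factorization p = d + P.index.factorization p := by
  haveI := Fact.mk hp
  obtain ⟨d, hd⟩ := IsPGroup.iff_card.1 hP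
  refine ⟨d, hd, ?_⟩
  rw [← Subgroup.card_mul_index P, hd, Nat.factorization_mul (pow_ne_zero _ hp.ne_zero)
    Subgroup.index_ne_zero_of_finite, Finsupp.add_apply, Nat.Prime.factorization_pow hp,
    Finsupp.single_eq_same]

theorem minDegVal_eq_of_defectGroup (hM : IsPModular p M) (hB : IsPBlock M B)
    (hD : IsDefectGroup p M B P) : minDegVal p B = P.index.factorization p := by
  obtain ⟨d, hd, hfac⟩ := factorization_index_add_card (isPGroup_defectGroup hD) hM.1
  have h1 : blockDefect p B = d :=
    Nat.pow_right_injective hM.1.two_le ((card_defectGroup hM hB hD).symm.trans hd)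
  have h2 := blockDefect_add_min (p := p) (IsPBlock.nonempty hM hB)
  omega

theorem isDefectGroup_subgroupOf_of_induced (hM : IsPModular p M) (hD : IsDefectGroup p M B P)
    (hPL : P ≤ L) {b : Set (IrrCharacter L)} (hind : IsInducedBlock M L b B) :
    IsDefectGroup p M b (P.subgroupOf L) := by
  haveI := Fact.mk hM.1
  have hPp : IsPGroup p (P.subgroupOf L) := (isPGroup_defectGroup hD).of_injective
    (Subgroup.subgroupOfEquivOfLe hPL).toMonoidHom (Subgroup.subgroupOfEquivOfLe hPL).injective
  obtain ⟨E, hE⟩ := exists_isDefectGroup hM hind.1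
  have hle := le_defectGroup_of_normal hM hind.1 hPp hE
  obtain ⟨D, hD', hED⟩ := exists_defectGroup_ge_of_induced hM hind hE
  rwa [Subgroup.eq_of_le_of_card_ge hle (by
    rw [Nat.card_congr (Subgroup.subgroupOfEquivOfLe hPL).toEquiv, card_defectGroup hM hind.2.1 hD,
      ← card_defectGroup hM hind.2.1 hD', ← Subgroup.card_map_of_injective L.subtype_injective]
    exact Subgroup.card_le_of_le hED)]

theorem sup_centralizer_subgroupOf (hPL : P ≤ L) (hCL : Subgroup.centralizer (P : Set G) ≤ L)
    (hL : L ≤ P ⊔ Subgroup.centralizer (P : Set G)) :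
    P.subgroupOf L ⊔ Subgroup.centralizer (P.subgroupOf L : Set L) = ⊤ := by
  have hC : (Subgroup.centralizer (P : Set G)).subgroupOf L
      = Subgroup.centralizer (P.subgroupOf L : Set L) :=
    SetLike.ext fun x => by rw [Subgroup.mem_subgroupOf, mem_centralizer_subgroupOf hPL]
  rw [← hC, ← Subgroup.subgroupOf_sup hPL hCL, Subgroup.subgroupOf_eq_top]
  exact hL

/-- The inertial index is prime to `p`. -/
theorem factorization_index_stab_eq (hM : IsPModular p M) (hB : IsPBlock M B)
    (hD : IsDefectGroup p M B P) (hPL : P ≤ L) (hCL : Subgroup.centralizer (P : Set G) ≤ L)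
    {θ : IrrCharacter L} (hind : IsInducedBlock M L (blockOf M (θ : L → ℂ)) B)
    (hdeg : degVal p θ = (P.subgroupOf L).index.factorization p) :
    (CfsgLib.Char.stab (θ : L → ℂ)).index.factorization p = L.index.factorization p := by
  haveI := Fact.mk hM.1
  have hp := hM.1
  set T := CfsgLib.Char.stab (θ : L → ℂ)
  have hLT : L ≤ T := CfsgLib.Char.le_stab (CfsgLib.Char.IsIrrCharacter.isClassFunction θ.2)
  have hT := CfsgLib.Char.isInertia_stab (θ : L → ℂ)
  choose c hc using fun χ : IrrCharacter G => CfsgLib.Char.IsCharacter.classInner_nat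
    (CfsgLib.Char.IsCharacter.restrict (CfsgLib.Char.isCharacter_irr χ) L)
    (CfsgLib.Char.isCharacter_irr θ)
  have hdegT : ∀ χ : IrrCharacter G, c χ ≠ 0 →
      (charDegree (χ : G → ℂ) : ℕ) = T.index * c χ * charDegree (θ : L → ℂ) := fun χ h => by
    have h1 := CfsgLib.CharDeep.Clifford.apply_one_eq χ.2 θ.2
      (by rw [hc]; exact Nat.cast_ne_zero.2 h) T hT
    rw [hc, irr_one_eq, irr_one_eq] at h1
    exact_mod_cast h1
  have hsum : L.index = T.index * ∑ χ : IrrCharacter G, c χ * c χ := by
    have h1 := congrFun (CfsgLib.Char.IsClassFunction.eq_sum_irr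
      (CfsgLib.Char.IsCharacter.isClassFunction
        (CfsgLib.Char.IsCharacter.indFun L (CfsgLib.Char.isCharacter_irr θ)))) 1
    rw [CfsgLib.Char.indFun_one, Finset.sum_apply, irr_one_eq] at h1
    have h2 : (L.index : ℂ) * (charDegree (θ : L → ℂ) : ℂ)
        = ((T.index * ∑ χ : IrrCharacter G, c χ * c χ : ℕ) : ℂ) * (charDegree (θ : L → ℂ) : ℂ) := by
      rw [h1]
      push_cast
      rw [Finset.mul_sum, Finset.sum_mul]
      refine Finset.sum_congr rfl fun χ _ => ?_
      rw [Pi.smul_apply, smul_eq_mul,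
        CfsgLib.Char.classInner_indFun L _ (CfsgLib.Char.IsIrrCharacter.isClassFunction χ.2),
        CfsgLib.Char.IsCharacter.classInner_comm (CfsgLib.Char.isCharacter_irr θ)
          (CfsgLib.Char.IsCharacter.restrict (CfsgLib.Char.isCharacter_irr χ) L), hc, irr_one_eq]
      by_cases h : c χ = 0
      · simp [h]
      · rw [hdegT χ h]; push_cast; ring
    exact_mod_cast mul_right_cancel₀ (Nat.cast_ne_zero.2 (charDegree_pos θ).ne') h2
  have hne : (∑ χ : IrrCharacter G, c χ * c χ) ≠ 0 := fun h => by
    rw [h, mul_zero] at hsum; exact Subgroup.index_ne_zero_of_finite hsum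
  set t := (∑ χ : IrrCharacter G, c χ * c χ).factorization p
  have hLfac : L.index.factorization p = T.index.factorization p + t := by
    rw [hsum, Nat.factorization_mul Subgroup.index_ne_zero_of_finite hne, Finsupp.add_apply]
  have hdvd : p ^ (t + t) ∣ ∑ χ : IrrCharacter G, c χ * c χ := by
    refine Finset.dvd_sum fun χ _ => ?_
    by_cases h : c χ = 0
    · simp [h]
    have hne' : classInner (fun n : L => (χ : G → ℂ) n) (θ : L → ℂ) ≠ 0 := by
      rw [hc]; exact Nat.cast_ne_zero.2 h
    have hχB : χ ∈ B := by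
      rw [IsInducedBlock.unique hM hind (isInducedBlock_of_over hM (isPGroup_defectGroup hD) hCL
        (isPBlock_blockOf χ) (SameBlock_refl hM _) hne')]
      exact SameBlock_refl hM _
    have h1 : degVal p χ = T.index.factorization p + (c χ).factorization p + degVal p θ := by
      rw [degVal, hdegT χ h, Nat.factorization_mul (mul_ne_zero Subgroup.index_ne_zero_of_finite h)
        (charDegree_pos θ).ne', Finsupp.add_apply,
        Nat.factorization_mul Subgroup.index_ne_zero_of_finite h, Finsupp.add_apply]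
      rfl
    have h2 := minDegVal_le (p := p) hχB
    rw [minDegVal_eq_of_defectGroup hM hB hD, factorization_index_eq_add hPL, h1, hdeg, hLfac] at h2
    have h3 : p ^ t ∣ c χ := (hp.pow_dvd_iff_le_factorization h).2 (by omega)
    rw [pow_add]
    exact mul_dvd_mul h3 h3
  have := (hp.pow_dvd_iff_le_factorization hne).1 hdvd
  omega

theorem degVal_prodChar {H : Type*} [Group H] [Fintype H] {Q : Subgroup H} [Q.Normal]
    (hp : p.Prime) (hQ : IsPGroup p Q) {ψ : IrrCharacter (H ⧸ Q)}
    (hψ : degVal p ψ = Q.index.factorization p) {θ : IrrCharacter H} {ζ : IrrCharacter Q}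
    (hθ : (θ : H → ℂ) = prodChar p Q (ζ : Q → ℂ) (inflate Q ψ : H → ℂ)) :
    degVal p θ = (charDegree (ζ : Q → ℂ)).factorization p + Q.index.factorization p := by
  have h1 := prodChar_mul (ψ := ψ) (ζ := (ζ : Q → ℂ)) hp hQ 1 (s := 1)
    (by simp [hp.ne_one]) (Commute.one_right _)
  rw [OneMemClass.coe_one, mul_one, ← hθ, irr_one_eq, irr_one_eq, irr_one_eq] at h1
  have h2 : charDegree (θ : H → ℂ)
      = charDegree (ζ : Q → ℂ) * charDegree (inflate Q ψ : H → ℂ) := by exact_mod_cast h1
  rw [degVal, h2, Nat.factorization_mul (charDegree_pos ζ).ne' (charDegree_pos _).ne',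
    Finsupp.add_apply, ← hψ, ← degVal_inflate ψ, degVal]

/-- With `P` normal and abelian all heights vanish; otherwise one of them does not. -/
theorem comm_iff_heights (hM : IsPModular p M) (hB : IsPBlock M B) (hD : IsDefectGroup p M B P) :
    (∀ a b : P, a * b = b * a) ↔ ∀ χ ∈ B, degVal p χ = minDegVal p B := by
  haveI := Fact.mk hM.1
  have hp := hM.1
  haveI hCn : (Subgroup.centralizer (P : Set G)).Normal := ⟨fun x hx g =>
    mem_centralizer_conj (by rw [Subgroup.normalizer_eq_top]; exact Subgroup.mem_top g) hx⟩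
  set L : Subgroup G := P ⊔ Subgroup.centralizer (P : Set G)
  have hPL : P ≤ L := le_sup_left
  have hCL : Subgroup.centralizer (P : Set G) ≤ L := le_sup_right
  have hPp := isPGroup_defectGroup hD
  have hP'p : IsPGroup p (P.subgroupOf L) := hPp.of_injective
    (Subgroup.subgroupOfEquivOfLe hPL).toMonoidHom (Subgroup.subgroupOfEquivOfLe hPL).injective
  have htop := sup_centralizer_subgroupOf hPL hCL le_rfl
  have hC' := index_centralizer_of_sup_eq_top hp hP'p htop
  have hmin := minDegVal_eq_of_defectGroup hM hB hD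
  have hadd := factorization_index_eq_add (p := p) hPL
  -- degrees of members over a constituent
  have hover : ∀ χ ∈ B, ∀ θ : IrrCharacter L,
      classInner (fun n : L => (χ : G → ℂ) n) (θ : L → ℂ) ≠ 0 →
      ∃ m : ℕ, m ∣ L.index ∧
        (CfsgLib.Char.stab (θ : L → ℂ)).index.factorization p ≤ m.factorization p ∧
        degVal p χ = m.factorization p + degVal p θ ∧
        L.index.factorization p ≤ (CfsgLib.Char.stab (θ : L → ℂ)).index.factorization p := by
    intro χ hχ θ hne
    have hind := isInducedBlock_of_over hM hPp hCL hB hχ hne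
    have hbD := isDefectGroup_subgroupOf_of_induced hM hD hPL hind
    obtain ⟨ψ, hψb, hψ, hex, hall⟩ := exists_canonical hM hP'p htop hind.1 hbD
    obtain ⟨⟨m, hm⟩, hdvd⟩ := Cfsg.Agent.S0887.result L χ χ.2 θ θ.2 hne
      (charDegree (χ : G → ℂ)) (charDegree (θ : L → ℂ)) (irr_one_eq χ) (irr_one_eq θ)
    rw [hm, Nat.mul_div_cancel_left _ (charDegree_pos θ)] at hdvd
    set T := CfsgLib.Char.stab (θ : L → ℂ)
    obtain ⟨e, he⟩ := CfsgLib.Char.IsCharacter.classInner_nat
      (CfsgLib.Char.IsCharacter.restrict (CfsgLib.Char.isCharacter_irr χ) L)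
      (CfsgLib.Char.isCharacter_irr θ)
    have hme : m = T.index * e := by
      have h1 := CfsgLib.CharDeep.Clifford.apply_one_eq χ.2 θ.2 hne T
        (CfsgLib.Char.isInertia_stab (θ : L → ℂ))
      rw [he, irr_one_eq, irr_one_eq, hm] at h1
      have h2 : charDegree (θ : L → ℂ) * m = T.index * e * charDegree (θ : L → ℂ) := by
        exact_mod_cast h1
      rw [mul_comm (T.index * e)] at h2
      exact Nat.eq_of_mul_eq_mul_left (charDegree_pos θ) h2
    have hm0 : m ≠ 0 := fun h => (charDegree_pos χ).ne' (by rw [hm, h, mul_zero])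
    refine ⟨m, hdvd, (Nat.factorization_le_iff_dvd Subgroup.index_ne_zero_of_finite hm0).2
      ⟨e, hme⟩ p, ?_, ?_⟩
    · rw [degVal, hm, Nat.factorization_mul (charDegree_pos θ).ne' hm0, Finsupp.add_apply, degVal]
      ring
    · -- the stabilizer of `θ` fixes the canonical character of its block
      set θ₀ := inflate (P.subgroupOf L) ψ
      rw [← factorization_index_stab_eq hM hB hD hPL hCL (θ := θ₀) (by
        rwa [← IsPBlock.eq_blockOf hM (isPBlock_blockOf θ) hψb])
        ((degVal_inflate ψ).trans hψ)]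
      refine (Nat.factorization_le_iff_dvd Subgroup.index_ne_zero_of_finite
        Subgroup.index_ne_zero_of_finite).2 (Subgroup.index_dvd_of_le fun g hg => ?_) p
      rw [CfsgLib.Char.mem_stab] at hg ⊢
      let c : L ≃* L := MulAut.conjNormal g
      have hcfix : irrRelabel c θ = θ := Subtype.ext (funext fun n => by
        conv_rhs => rw [← hg]
        rw [CfsgLib.Char.conjG]
        exact congrArg (θ : L → ℂ) (Subtype.ext (MulAut.conjNormal_apply g n)))
      have hmem : irrRelabel c θ₀ ∈ blockOf M (θ : L → ℂ) := by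
        have h1 : SameBlock M (irrRelabel c θ : L → ℂ) (irrRelabel c θ₀ : L → ℂ) :=
          sameBlock_irrRelabel c (mem_blockOf.1 hψb)
        rw [hcfix] at h1
        exact mem_blockOf.2 h1
      have hker : ∀ x ∈ P.subgroupOf L,
          (irrRelabel c θ₀ : L → ℂ) x = (irrRelabel c θ₀ : L → ℂ) 1 := fun x hx => by
        show (θ₀ : L → ℂ) (c x) = (θ₀ : L → ℂ) (c 1)
        rw [map_one]
        refine inflate_ker ψ (Subgroup.mem_subgroupOf.2 ?_)
        rw [MulAut.conjNormal_apply]
        exact Subgroup.Normal.conj_mem inferInstance _ (Subgroup.mem_subgroupOf.1 hx) g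
      obtain ⟨η, hη⟩ := hall _ hmem
      have heq : (irrRelabel c θ₀ : L → ℂ) = (θ₀ : L → ℂ) := by
        have hv : ∀ u : P.subgroupOf L, (η : P.subgroupOf L → ℂ) u = (η : P.subgroupOf L → ℂ) 1 := fun u => by
          have h1 := hker u u.2
          rw [hη] at h1
          have h2 : ∀ w : P.subgroupOf L, prodChar p (P.subgroupOf L) (η : P.subgroupOf L → ℂ) (θ₀ : L → ℂ) w
              = (η : P.subgroupOf L → ℂ) w * (θ₀ : L → ℂ) 1 := fun w => by
            have := prodChar_mul (ψ := ψ) (ζ := (η : P.subgroupOf L → ℂ)) hp hP'p w (s := 1)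
              (by simp [hp.ne_one]) (Commute.one_right _)
            rwa [mul_one] at this
          rw [show (1 : L) = ((1 : P.subgroupOf L) : L) from rfl, h2, h2] at h1
          exact mul_right_cancel₀ (irr_one_ne_zero θ₀) h1
        have hη1 : (η : P.subgroupOf L → ℂ) 1 = 1 := by
          have h1 : (irrRelabel c θ₀ : L → ℂ) 1 = (θ₀ : L → ℂ) 1 := by
            show (θ₀ : L → ℂ) (c 1) = _; rw [map_one]
          have h2 := prodChar_mul (ψ := ψ) (ζ := (η : P.subgroupOf L → ℂ)) hp hP'p 1 (s := 1)
            (by simp [hp.ne_one]) (Commute.one_right _)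
          rw [OneMemClass.coe_one, mul_one, ← hη, h1] at h2
          exact (mul_eq_right₀ (irr_one_ne_zero θ₀)).1 h2.symm
        rw [hη]
        funext x
        by_cases hx : pPart p x ∈ P.subgroupOf L
        · rw [prodChar, dif_pos hx, hv, hη1, one_mul]
        · rw [prodChar, dif_neg hx]
          exact (inflate_eq_zero hM hψ hx).symm
      funext n
      rw [CfsgLib.Char.conjG]
      refine Eq.trans ?_ (congrFun heq n)
      exact congrArg (θ₀ : L → ℂ) (Subtype.ext (MulAut.conjNormal_apply g n).symm)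
  constructor
  · intro hcomm χ hχ
    obtain ⟨θ, hne⟩ := exists_over (N := L) χ
    obtain ⟨m, hm, -, hdeg, -⟩ := hover χ hχ θ hne
    have hind := isInducedBlock_of_over hM hPp hCL hB hχ hne
    obtain ⟨ψ, -, hψ, -, hall⟩ := exists_canonical hM hP'p htop hind.1
      (isDefectGroup_subgroupOf_of_induced hM hD hPL hind)
    obtain ⟨ζ, hζ⟩ := hall θ (SameBlock_refl hM _)
    rw [degVal_prodChar hp hP'p hψ hζ] at hdeg
    have hζ1 : charDegree (ζ : P.subgroupOf L → ℂ) = 1 := by
      have h := CfsgLib.Char.apply_one_eq_one_of_comm (χ := (ζ : P.subgroupOf L → ℂ))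
        (fun a b => Subtype.ext (Subtype.ext (congrArg Subtype.val
          (hcomm ⟨((a : L) : G), a.2⟩ ⟨((b : L) : G), b.2⟩) :
            ((a : L) : G) * ((b : L) : G) = ((b : L) : G) * ((a : L) : G)))) ζ.2
      rw [irr_one_eq] at h
      exact_mod_cast h
    rw [hζ1, Nat.factorization_one, Finsupp.zero_apply, zero_add] at hdeg
    have hm0 : m ≠ 0 := fun h => Subgroup.index_ne_zero_of_finite (H := L) (zero_dvd_iff.1 (h ▸ hm))
    have h1 : m.factorization p ≤ L.index.factorization p :=
      (Nat.factorization_le_iff_dvd hm0 Subgroup.index_ne_zero_of_finite).2 hm p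
    have h2 := minDegVal_le (p := p) hχ
    omega
  · intro hht
    by_contra hne
    have hnl : ∃ ζ : IrrCharacter (P.subgroupOf L), (ζ : P.subgroupOf L → ℂ) 1 ≠ 1 := by
      by_contra hall
      push Not at hall
      refine hne fun a b => ?_
      have h := CfsgLib.Char.comm_iff_forall_linear.2 hall
        ((Subgroup.subgroupOfEquivOfLe hPL).symm a) ((Subgroup.subgroupOfEquivOfLe hPL).symm b)
      simpa using congrArg (Subgroup.subgroupOfEquivOfLe hPL) h
    obtain ⟨ζ, hζ⟩ := hnl
    obtain ⟨χ₀, hχ₀⟩ := IsPBlock.nonempty hM hB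
    obtain ⟨θ₁, hne₁⟩ := exists_over (N := L) χ₀
    have hind := isInducedBlock_of_over hM hPp hCL hB hχ₀ hne₁
    have hbD := isDefectGroup_subgroupOf_of_induced hM hD hPL hind
    obtain ⟨ψ, hψb, hψ, hex, -⟩ := exists_canonical hM hP'p htop hind.1 hbD
    obtain ⟨θ, hθb, hθ⟩ := hex ζ
    obtain ⟨χ, hχ, hne'⟩ := CfsgLib.Char.IsCharacter.exists_constituent
      (CfsgLib.Char.IsCharacter.indFun L (CfsgLib.Char.isCharacter_irr θ)) fun h => by
        have h1 := congrFun h 1
        rw [CfsgLib.Char.indFun_one] at h1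
        exact mul_ne_zero (Nat.cast_ne_zero.2 Subgroup.index_ne_zero_of_finite)
          (irr_one_ne_zero θ) h1
    have hover' : classInner (fun n : L => χ n) (θ : L → ℂ) ≠ 0 := by
      rw [CfsgLib.Char.classInner_indFun L _ (CfsgLib.Char.IsIrrCharacter.isClassFunction hχ),
        CfsgLib.Char.IsCharacter.classInner_comm (CfsgLib.Char.isCharacter_irr θ)
          (CfsgLib.Char.IsCharacter.restrict (CfsgLib.Char.IsIrrCharacter.isCharacter hχ) L)] at hne'
      exact hne'
    have hχB : (⟨χ, hχ⟩ : IrrCharacter G) ∈ B := by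
      have h1 := isInducedBlock_of_over hM hPp hCL (isPBlock_blockOf (⟨χ, hχ⟩ : IrrCharacter G))
        (SameBlock_refl hM _) (θ := θ) hover'
      rw [← IsPBlock.eq_blockOf hM hind.1 hθb] at h1
      rw [IsInducedBlock.unique hM hind h1]
      exact SameBlock_refl hM _
    obtain ⟨m, -, hTm, hdeg, hLT⟩ := hover ⟨χ, hχ⟩ hχB θ hover'
    have hval := hht ⟨χ, hχ⟩ hχB
    have hpz : p ∣ charDegree (ζ : P.subgroupOf L → ℂ) := by
      obtain ⟨j, hj⟩ := IsPGroup.iff_card.1 hP'p
      obtain ⟨i, -, hi⟩ := (Nat.dvd_prime_pow hp).1 (hj ▸ charDegree_dvd ζ)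
      rcases Nat.eq_zero_or_pos i with h0 | h0
      · exact absurd (by rw [irr_one_eq, hi, h0, pow_zero, Nat.cast_one]) hζ
      · exact hi ▸ dvd_pow_self p h0.ne'
    have hpos := (hp.dvd_iff_one_le_factorization (charDegree_pos ζ).ne').1 hpz
    rw [degVal_prodChar hp hP'p hψ hθ] at hdeg
    omega

end CfsgLib.Blocks
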