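import Cfsg.Agent.Lib.Blocks.TIAbelianExceptional
import Cfsg.Agent.Lib.Blocks.SectionCentral
import Cfsg.Agent.Lib.Blocks.Rank

/-!
# The principal block for a four group with one class of involutions
-/

set_option autoImplicit false

namespace CfsgLib.Blocks.FourGroup

open Cfsg CfsgLib.Blocks CfsgLib.BrauerSuzuki CfsgLib.Blocks.TIAbelian
open scoped Classical ComplexConjugate

variable {G : Type*} [Group G] [Fintype G] [Fact (Nat.Prime 2)]

theorem frobSylow_four (P : Sylow 2 G) (hP : Nat.card P = 4) (hexp : ∀ x : P, x * x = 1) : FrobSylow P where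
  comm x hx y hy := by
    have h : ∀ a : P, a⁻¹ = a := fun a => inv_eq_of_mul_eq_one_right (hexp a)
    have := congrArg Subtype.val (show (⟨x, hx⟩ : P) * ⟨y, hy⟩ = ⟨y, hy⟩ * ⟨x, hx⟩ by
      rw [← h (⟨x, hx⟩ * ⟨y, hy⟩), mul_inv_rev, h, h])
    exact this
  fpf y hy hy1 := by
    intro g hg
    obtain ⟨hgy, hgN⟩ := Subgroup.mem_inf.1 hg
    set α : MulAut ↥(P : Subgroup G) := (P : Subgroup G).normalizerMonoidHom ⟨g, hgN⟩ with hα
    have hfix : α ⟨y, hy⟩ = ⟨y, hy⟩ := Subtype.ext (by
      show g * y * g⁻¹ = y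
      rw [show g * y = y * g from Subgroup.mem_centralizer_singleton_iff.1 hgy, mul_inv_cancel_right])
    have hα2 : α ^ 2 = 1 := by
      ext u
      rw [pow_two]
      show ((α (α u) : ↥(P : Subgroup G)) : G) = (u : G)
      congr 1
      by_contra hne
      have h1 : α 1 = 1 := map_one α
      have hu : u ≠ 1 := fun e => hne (by rw [e, h1, h1])
      have huy : u ≠ ⟨y, hy⟩ := fun e => hne (by rw [e, hfix, hfix])
      set y' : ↥(P : Subgroup G) := ⟨y, hy⟩ with hy'
      have hy0 : y' ≠ 1 := fun e => hy1 (congrArg Subtype.val e)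
      have hfour : ∀ v : ↥(P : Subgroup G), v = 1 ∨ v = y' ∨ v = u ∨ v = u * y' := by
        have hc : Fintype.card ↥(P : Subgroup G) = 4 := by rw [← Nat.card_eq_fintype_card]; exact hP
        have hne4 : u * y' ≠ 1 := fun e => huy (mul_eq_one_iff_eq_inv.1 e |>.trans
          (inv_eq_of_mul_eq_one_right (hexp y')))
        have hne5 : u * y' ≠ y' := fun e => hu (mul_eq_right.1 e)
        have hne6 : u * y' ≠ u := fun e => hy0 (mul_eq_left.1 e)
        intro v
        have hall : ({1, y', u, u * y'} : Finset ↥(P : Subgroup G)) = Finset.univ := by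
          refine Finset.eq_univ_of_card _ ?_
          rw [hc, Finset.card_insert_of_notMem, Finset.card_insert_of_notMem, Finset.card_pair hne6.symm]
          · simp [huy.symm, hne5.symm]
          · simp [hy0.symm, hu.symm, hne4.symm]
        have hv := Finset.mem_univ v
        rw [← hall] at hv
        simpa using hv
      rcases hfour (α u) with e | e | e | e
      · exact hu (α.injective (e.trans h1.symm))
      · exact huy (α.injective (e.trans hfix.symm))
      · exact hne (by rw [e, e])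
      · exact hne (by rw [e, map_mul, e, hfix, mul_assoc, hexp y', mul_one])
    have hodd : ¬ 2 ∣ autCard P := by
      intro hd
      have hPC : (P : Subgroup G) ≤ Subgroup.centralizer ((P : Subgroup G) : Set G) := fun a ha =>
        Subgroup.mem_centralizer_iff.2 fun b hb => by
          have h : ∀ a : P, a⁻¹ = a := fun a => inv_eq_of_mul_eq_one_right (hexp a)
          exact congrArg Subtype.val (show (⟨b, hb⟩ : P) * ⟨a, ha⟩ = ⟨a, ha⟩ * ⟨b, hb⟩ by
            rw [← h (⟨b, hb⟩ * ⟨a, ha⟩), mul_inv_rev, h, h])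
      rw [autCard_eq] at hd
      exact P.not_dvd_index (hd.trans ((Subgroup.relIndex_dvd_of_le_left _ hPC).trans
        (Dvd.intro _ (Subgroup.relIndex_mul_index Subgroup.le_normalizer))))
    have hα1 : α = 1 := by
      have hmem : α ∈ autGroup P := ⟨⟨g, hgN⟩, rfl⟩
      have h1 : orderOf (⟨α, hmem⟩ : autGroup P) ∣ 2 := orderOf_dvd_iff_pow_eq_one.2 (Subtype.ext hα2)
      have h2 : orderOf (⟨α, hmem⟩ : autGroup P) ∣ autCard P := orderOf_dvd_natCard _
      rcases (Nat.dvd_prime Nat.prime_two).1 h1 with h | h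
      · exact congrArg Subtype.val (orderOf_eq_one_iff.1 h)
      · rw [h] at h2; exact absurd h2 hodd
    refine Subgroup.mem_centralizer_iff.2 fun u hu => ?_
    have h3 : g * u * g⁻¹ = u := congrArg Subtype.val
      (show α ⟨u, hu⟩ = ⟨u, hu⟩ by rw [hα1]; rfl)
    exact (mul_inv_eq_iff_eq_mul.1 h3).symm

theorem blockRank_eq_three {M : Ideal AlgInt} (hM : IsPModular 2 M) (P : Sylow 2 G) (hP : Nat.card P = 4)
    (hexp : ∀ x : P, x * x = 1) (hone : ∀ s t : G, orderOf s = 2 → orderOf t = 2 → IsConj s t) :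
    blockRank 2 (principalBlock M G) = 3 := by
  have hF := frobSylow_four P hP hexp
  have hcardP : Nat.card ↥(P : Subgroup G) = 4 := hP
  have hord : ∀ y : ↥(P : Subgroup G), y ≠ 1 → orderOf (y : G) = 2 := fun y hy => by
    rw [Subgroup.orderOf_coe]
    exact orderOf_eq_prime (by rw [pow_two]; exact hexp y) hy
  obtain ⟨x, hx0⟩ : ∃ x : ↥(P : Subgroup G), x ≠ 1 := by
    have : Nontrivial ↥(P : Subgroup G) := Finite.one_lt_card_iff_nontrivial.1 (by rw [hcardP]; omega)
    exact exists_ne 1
  have hx1 : (x : G) ≠ 1 := fun e => hx0 (Subtype.ext e)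
  have hchar : ∀ χ : IrrCharacter G, ∀ y : ↥(P : Subgroup G), y ≠ 1 → (χ : G → ℂ) y = (χ : G → ℂ) (x : G) :=
    fun χ y hy => by
      obtain ⟨u, hu⟩ := isConj_iff.1 (hone _ _ (hord x hx0) (hord y hy))
      rw [← hu, irr_conj_apply]
  have hm : autCard P = 3 := by
    rw [← hF.card_conj_inter x.2 hx1, show (Finset.univ.filter fun y : ↥(P : Subgroup G) => IsConj (x : G) (y : G))
      = Finset.univ.erase 1 from ?_, Finset.card_erase_of_mem (Finset.mem_univ _), Finset.card_univ,
      ← Nat.card_eq_fintype_card, hcardP]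
    ext y
    simp only [Finset.mem_filter, Finset.mem_erase, Finset.mem_univ, true_and, and_true]
    refine ⟨fun h e => ?_, fun h => hone _ _ (hord x hx0) (hord y h)⟩
    rw [e, OneMemClass.coe_one, isConj_one_left] at h
    exact hx1 h
  have hint : ∀ χ : IrrCharacter G, ∃ a : ℤ, (χ : G → ℂ) (x : G) = (a : ℂ) := by
    intro χ
    obtain ⟨n, hn⟩ := Char.IsCharacter.classInner_nat
      (Char.IsCharacter.restrict (Char.isCharacter_irr χ) (P : Subgroup G)) (Char.isCharacter_one (G := ↥(P : Subgroup G)))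
    rw [Char.classInner_fun_one_right, ← Finset.add_sum_erase _ _ (Finset.mem_univ (1 : ↥(P : Subgroup G))),
      Finset.sum_congr rfl (fun y hy => hchar χ y (Finset.mem_erase.1 hy).1), Finset.sum_const,
      Finset.card_erase_of_mem (Finset.mem_univ _), Finset.card_univ, ← Nat.card_eq_fintype_card, hcardP,
      OneMemClass.coe_one, irr_one_eq, nsmul_eq_mul] at hn
    refine Char.exists_int_of_isIntegral_rat (irr_isIntegral χ _)
      (q := (4 * (n : ℚ) - charDegree (χ : G → ℂ)) / 3) ?_
    push_cast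
    norm_num at hn ⊢
    linear_combination (4 / 3 : ℂ) * hn
  choose a ha using hint
  have hsingular : ∀ g : G, 2 ∣ orderOf g → ∃ (u : G) (y : ↥(P : Subgroup G)),
      IsPPart 2 (u * g * u⁻¹) (y : G) ∧ y ≠ 1 := by
    intro g hg
    obtain ⟨u, hu⟩ := exists_conj_pEl P g
    refine ⟨u, ⟨_, hu⟩, isPPart_conj (pEl_spec g) u, fun e => ?_⟩
    have hy1 : pEl 2 g = 1 := conj_eq_one_iff.mp (congrArg Subtype.val e)
    obtain ⟨s, hs, -, -, hsr⟩ := pEl_spec (p := 2) g
    rw [hy1, one_mul] at hs
    exact hsr (hs ▸ hg)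
  have hvalB : ∀ χ ∈ principalBlock M G, ∀ g : G, 2 ∣ orderOf g → (χ : G → ℂ) g = (a χ : ℂ) := by
    intro χ hχ g hg
    obtain ⟨u, y, ⟨s, hs, hys, hk, hsr⟩, hy⟩ := hsingular g hg
    rw [← irr_conj_apply χ g u, ← hs, apply_section hF hM hχ hk (fun e => hy (Subtype.ext e))
      ⟨s, Subgroup.mem_centralizer_singleton_iff.2 hys.eq.symm⟩
      (by show ¬ 2 ∣ orderOf _; rwa [Subgroup.orderOf_mk]), hchar χ y hy, ha]
  -- the function `4` on involutions of `P`
  set f : G → ℂ := fun g => if g = 1 then 0 else 4 with hf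
  have hinv : FInv P f := fun g y _ _ => by simp [f]
  have hf1 : f 1 = 0 := by simp [f]
  have hfP : ∀ y : ↥(P : Subgroup G), f (y : G) = if y = 1 then 0 else 4 := fun y => by simp [f]
  set F := sFun P f with hFdef
  have hgc : IsGeneralizedCharacter G F := by
    refine gc_sFun hinv ?_
    have e : (fun y : ↥(P : Subgroup G) => f y) = 4 • (fun _ : ↥(P : Subgroup G) => (1 : ℂ)) -
        (Representation.leftRegular ℂ ↥(P : Subgroup G)).character := by
      funext y
      rw [hfP, Pi.sub_apply, Pi.smul_apply, Char.leftRegular_character]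
      split_ifs with hy
      · simp [← Nat.card_eq_fintype_card, hcardP]
      · simp
    rw [e]
    exact gc_sub (gc_nsmul gc_one 4) (Char.IsCharacter.isGeneralizedCharacter (Char.isCharacter_of_rep _))
  have hsumP : ∀ w : ↥(P : Subgroup G) → ℂ, (∀ y, y ≠ 1 → w y = w x) →
      ∑ y : ↥(P : Subgroup G), f y * w y = 12 * w x := fun w hw => by
    rw [← Finset.add_sum_erase _ _ (Finset.mem_univ 1), OneMemClass.coe_one, hf1, zero_mul, zero_add,
      Finset.sum_congr rfl (g := fun _ => 4 * w x) fun y hy => by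
        rw [hfP, if_neg (Finset.mem_erase.1 hy).1, hw y (Finset.mem_erase.1 hy).1],
      Finset.sum_const, Finset.card_erase_of_mem (Finset.mem_univ _), Finset.card_univ,
      ← Nat.card_eq_fintype_card, hcardP, nsmul_eq_mul]
    push_cast; ring
  have hmne : ((autCard P * Nat.card ↥(P : Subgroup G) : ℕ) : ℂ) = 12 := by rw [hm, hcardP]; norm_num
  have hcoef : ∀ χ, coeff F χ = if χ ∈ principalBlock M G then a χ else 0 := by
    intro χ
    apply Int.cast_injective (α := ℂ)
    rw [cast_coeff hgc, hFdef]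
    split_ifs with hB
    · rw [classInner_sFun hF hinv hf1 (Char.IsIrrCharacter.isClassFunction χ.2)
        (fun z hz hz1 s hs => apply_section hF hM hB hz hz1 s hs),
        hsumP (fun y => conj ((χ : G → ℂ) y)) (fun y hy => by rw [hchar χ y hy]), hmne, ha, map_intCast]
      ring
    · rw [classInner_sFun_eq_zero hF hM hinv hf1 hB, Int.cast_zero]
  set Bf := Finset.univ.filter (fun χ : IrrCharacter G => χ ∈ principalBlock M G) with hBf
  have hmemBf : ∀ χ, χ ∈ Bf ↔ χ ∈ principalBlock M G := fun χ => by simp [Bf]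
  have hFconst : ∀ z : G, (∃ k, orderOf z = 2 ^ k) → z ≠ 1 → ∀ s : Subgroup.centralizer ({z} : Set G),
      IsPRegular 2 s → F (z * (s : G)) = F z := by
    rintro z ⟨j, hj⟩ - s hs
    have e1 : pEl 2 (z * (s : G)) = z := pEl_mul (Subgroup.mem_centralizer_singleton_iff.1 s.2).symm hj
      (by rw [Subgroup.orderOf_coe]; exact hs)
    have e2 : pEl 2 z = z := by
      have := pEl_mul (Commute.one_right z) hj (by rw [orderOf_one]; exact Nat.prime_two.not_dvd_one)
      rwa [mul_one] at this
    obtain ⟨u, hu⟩ := exists_conj_pEl P z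
    rw [hFdef, sFun_eq hinv hu, sFun_eq hinv (u := u) (by rw [e1]; rwa [e2] at hu), e1, e2]
  have hnormF : ∑ χ ∈ Bf, a χ * a χ = 4 := by
    have e1 := classInner_eq_sum_coeff hgc hgc
    rw [show classInner F F = classInner (sFun P f) F from rfl,
      classInner_sFun hF hinv hf1 (hFdef ▸ sFun_isClassFunction hinv) hFconst] at e1
    simp only [hFdef, sFun_coe hinv] at e1
    rw [hsumP (fun y => conj (f y)) (fun y hy => by rw [hfP, if_neg hy, hfP, if_neg hx0]), hmne, hfP,
      if_neg hx0, show (starRingEnd ℂ) 4 = 4 from map_ofNat _ 4] at e1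
    norm_num at e1
    have e2 : (4 : ℤ) = ∑ χ, coeff F χ * coeff F χ := by exact_mod_cast e1
    rw [e2, Finset.sum_filter]
    exact Finset.sum_congr rfl fun χ _ => by rw [hcoef]; split_ifs <;> simp
  have htriv : trivChar G ∈ principalBlock M G := trivChar_mem_principalBlock hM
  have hatriv : a (trivChar G) = 1 := by
    have := ha (trivChar G)
    rw [show ((trivChar G : IrrCharacter G) : G → ℂ) (x : G) = 1 from rfl] at this
    exact_mod_cast this.symm
  have hane : ∀ χ ∈ Bf, a χ ≠ 0 := by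
    intro χ hχ h0
    have hne : χ ≠ trivChar G := fun e => by rw [e, hatriv] at h0; exact one_ne_zero h0
    obtain ⟨g, hg, hgne⟩ := SectionCentral.exists_singular_ne_zero hM isPBlock_principalBlock
      ((hmemBf χ).1 hχ) htriv hne
    exact hgne (by rw [hvalB χ ((hmemBf χ).1 hχ) g hg, h0, Int.cast_zero])
  have hsq1 : ∀ χ ∈ Bf, a χ * a χ = 1 := by
    intro χ hχ
    by_contra hne
    have h1 : ∀ φ ∈ Bf, (1 : ℤ) ≤ a φ * a φ := fun φ hφ => by
      nlinarith [Int.one_le_abs (hane φ hφ), abs_mul_abs_self (a φ)]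
    have h4 : 4 ≤ a χ * a χ := by
      have h2 : |a χ| ≠ 1 := fun e => hne (by rw [← abs_mul_abs_self, e]; norm_num)
      nlinarith [Int.one_le_abs (hane χ hχ), abs_mul_abs_self (a χ),
        show 2 ≤ |a χ| by have := Int.one_le_abs (hane χ hχ); omega]
    have hχt : trivChar G ≠ χ := fun e => hne (by rw [← e, hatriv]; norm_num)
    have h5 : a (trivChar G) * a (trivChar G) + a χ * a χ ≤ ∑ φ ∈ Bf, a φ * a φ := by
      rw [← Finset.sum_pair hχt (f := fun φ => a φ * a φ)]
      refine Finset.sum_le_sum_of_subset_of_nonneg ?_ fun φ _ _ => mul_self_nonneg _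
      intro φ hφ
      rcases Finset.mem_insert.1 hφ with rfl | hφ
      · exact (hmemBf _).2 htriv
      · exact Finset.mem_singleton.1 hφ ▸ hχ
    rw [hnormF, hatriv] at h5
    omega
  have hBcard : Bf.card = 4 := by
    rw [Finset.sum_congr rfl hsq1, Finset.sum_const, nsmul_eq_mul, mul_one] at hnormF
    exact_mod_cast hnormF
  -- the singular elements are a quarter of the group
  set f₀ : G → ℂ := fun g => if g = 1 then 0 else 1 with hf₀
  have hinv₀ : FInv P f₀ := fun g y _ _ => by simp [f₀]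
  have hf₀1 : f₀ 1 = 0 := by simp [f₀]
  have hf₀P : ∀ y : ↥(P : Subgroup G), y ≠ 1 → f₀ (y : G) = 1 := fun y hy => by simp [f₀, hy]
  have hcnt : ∑ g : G, (if IsPRegular 2 g then (0 : ℂ) else 1) = (Nat.card G : ℂ) / 4 := by
    have e := classInner_sFun hF hinv₀ hf₀1 (Ψ := fun _ => (1 : ℂ)) (fun _ _ => rfl) (fun _ _ _ _ _ => rfl)
    rw [hmne, Char.classInner_fun_one_right] at e
    simp only [map_one, mul_one] at e
    rw [← Finset.add_sum_erase _ _ (Finset.mem_univ (1 : ↥(P : Subgroup G))), OneMemClass.coe_one, hf₀1, zero_add,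
      Finset.sum_congr rfl (g := fun _ => (1 : ℂ)) (fun y hy => hf₀P y (Finset.mem_erase.1 hy).1),
      Finset.sum_const, Finset.card_erase_of_mem (Finset.mem_univ _), Finset.card_univ, ← Nat.card_eq_fintype_card,
      hcardP, nsmul_eq_mul, inv_mul_eq_iff_eq_mul₀ Char.card_ne_zero] at e
    rw [Finset.sum_congr rfl (g := fun g => sFun P f₀ g) fun g _ => ?_, e]
    · norm_num; ring
    · by_cases hg : IsPRegular 2 g
      · rw [if_pos hg, sFun_of_odd hinv₀ hg, hf₀1]
      · rw [if_neg hg]
        obtain ⟨u, hu⟩ := exists_conj_pEl P g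
        rw [sFun_eq hinv₀ hu]
        refine (if_neg fun e' => ?_).symm
        have hy1 : pEl 2 g = 1 := conj_eq_one_iff.mp e'
        obtain ⟨s, hs, -, -, hsr⟩ := pEl_spec (p := 2) g
        rw [hy1, one_mul] at hs
        exact hg (hs ▸ hsr)
  have hrank := card_mul_blockRank hM (isPBlock_principalBlock (M := M) (G := G))
  rw [Finset.sum_congr rfl (g := fun g => (∑ χ ∈ Bf, (χ : G → ℂ) g * (χ : G → ℂ) g⁻¹)
      - 4 * (if IsPRegular 2 g then (0 : ℂ) else 1)) fun g _ => ?_, Finset.sum_sub_distrib, Finset.sum_comm,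
    ← Finset.mul_sum, hcnt, Finset.sum_congr rfl (g := fun _ => (Nat.card G : ℂ)) fun χ _ => by
      rw [sum_mul_inv, if_pos rfl], Finset.sum_const, hBcard, nsmul_eq_mul] at hrank
  · have h3 : (blockRank 2 (principalBlock M G) : ℂ) = 3 := by
      refine mul_left_cancel₀ (Char.card_ne_zero (G := G)) ?_
      rw [hrank]; push_cast; ring
    exact_mod_cast h3
  · rw [finsum_mem_eq_toFinset_sum, show (principalBlock M G).toFinset = Bf by ext χ; simp [Bf]]
    by_cases hg : IsPRegular 2 g
    · simp [hg, pRegularPart_apply]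
    · have hg' : 2 ∣ orderOf g := not_isPRegular.1 hg
      rw [if_neg hg, Finset.sum_eq_zero fun χ _ => by rw [pRegularPart_apply, if_neg hg, zero_mul],
        Finset.sum_congr rfl (g := fun _ => (1 : ℂ)) fun χ hχ => by
          rw [hvalB χ ((hmemBf χ).1 hχ) g hg', hvalB χ ((hmemBf χ).1 hχ) g⁻¹ (by rwa [orderOf_inv]),
            ← Int.cast_mul, hsq1 χ hχ, Int.cast_one], Finset.sum_const, hBcard]
      norm_num

end CfsgLib.Blocks.FourGroup
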