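import Cfsg.Agent.Lib.Blocks.Defect2
import Cfsg.Agent.Lib.Blocks.Kernel
import Cfsg.Agent.Lib.Char.Monomial
import Cfsg.Agent.Lib.Fusion.Tate
import Cfsg.Agent.Lib.PGroup.Frattini

/-!
# Galois-fixed characters of odd degree in the principal 2-block and normal 2-complements

Let `k` fix the elements of odd order and act on the 2-elements as an element of 2-power
multiplicative order.  For a linear character `μ` with `μ² = 1` of a Sylow 2-subgroup `P` the
integer `∑ χ(1) ⟨χ|P, μ⟩` over the principal block is odd, so some member fixed by `g ↦ g ^ k` has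
odd degree and contains `μ` oddly often.  If these members are linear, every such `μ` extends to
`G`, so `P ∩ O²(G) ≤ Φ(P)` and Tate's criterion gives a normal 2-complement.
-/

set_option autoImplicit false

open scoped Classical ComplexConjugate

namespace CfsgLib.Blocks.GaloisLinear

open Cfsg CfsgLib CfsgLib.Blocks

universe u

/-- A 2-power periodic permutation reduces a sum modulo 2 to its fixed points. -/
theorem sum_fixed {α : Type*} (f : α → ZMod 2) :
    ∀ (j : ℕ) (s : Finset α) (π : α → α), (∀ x ∈ s, π^[2 ^ j] x = x) → (∀ x ∈ s, π x ∈ s) →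
      (∀ x ∈ s, f (π x) = f x) → ∑ x ∈ s, f x = ∑ x ∈ s.filter (fun x => π x = x), f x := by
  intro j
  induction j with
  | zero =>
    intro s π h1 _ _
    rw [Finset.filter_true_of_mem fun x hx => by simpa using h1 x hx]
  | succ j ih =>
    intro s π h1 h2 h3
    have hiter : ∀ (n : ℕ) (x : α), x ∈ s → π^[n] x ∈ s ∧ f (π^[n] x) = f x := by
      intro n
      induction n with
      | zero => exact fun x hx => ⟨hx, rfl⟩
      | succ n ihn =>
        intro x hx
        rw [Function.iterate_succ_apply']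
        exact ⟨h2 _ (ihn x hx).1, (h3 _ (ihn x hx).1).trans (ihn x hx).2⟩
    have hρ : ∀ x ∈ s, π^[2 ^ j] (π^[2 ^ j] x) = x := fun x hx => by
      rw [← Function.iterate_add_apply, ← two_mul, ← pow_succ']
      exact h1 x hx
    have hzero : ∑ x ∈ s.filter (fun x => ¬ π^[2 ^ j] x = x), f x = 0 := by
      refine Finset.sum_involution (fun x _ => π^[2 ^ j] x) (fun x hx => ?_) (fun x hx _ => ?_)
        (fun x hx => ?_) (fun x hx => ?_)
      · rw [(hiter _ x (Finset.mem_filter.1 hx).1).2]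
        exact CharTwo.add_self_eq_zero _
      · exact (Finset.mem_filter.1 hx).2
      · obtain ⟨hs, hne⟩ := Finset.mem_filter.1 hx
        refine Finset.mem_filter.2 ⟨(hiter _ x hs).1, ?_⟩
        rw [hρ x hs]
        exact Ne.symm hne
      · exact hρ x (Finset.mem_filter.1 hx).1
    rw [← Finset.sum_filter_add_sum_filter_not s (fun x => π^[2 ^ j] x = x), hzero, add_zero,
      ih (s.filter fun x => π^[2 ^ j] x = x) π (fun x hx => (Finset.mem_filter.1 hx).2)
        (fun x hx => Finset.mem_filter.2 ⟨h2 x (Finset.mem_filter.1 hx).1, by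
          rw [← Function.iterate_succ_apply, Function.iterate_succ_apply', (Finset.mem_filter.1 hx).2]⟩)
        (fun x hx => h3 x (Finset.mem_filter.1 hx).1),
      Finset.filter_filter]
    refine Finset.sum_congr (Finset.filter_congr fun x _ => ⟨fun h => h.2, fun h => ⟨?_, h⟩⟩) fun _ _ => rfl
    exact Function.iterate_fixed h _

variable {G : Type u} [Group G] [Fintype G] {M : Ideal AlgInt} {k : ℕ}

omit [Fintype G] in
theorem coprime_card [Finite G] (hk₁ : ∀ g : G, (∃ j : ℕ, orderOf g = 2 ^ j) → g ^ k = g ^ 3)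
    (hk₂ : ∀ g : G, Odd (orderOf g) → g ^ k = g) : (Nat.card G).Coprime k := by
  refine Nat.coprime_of_dvd fun q hq hqG hqk => ?_
  haveI := Fact.mk hq
  obtain ⟨x, hx⟩ := exists_prime_orderOf_dvd_card' (G := G) q hqG
  have h1 : x ^ k = 1 := orderOf_dvd_iff_pow_eq_one.1 (by rw [hx]; exact hqk)
  have hne : x ≠ 1 := fun e => by rw [e, orderOf_one] at hx; exact hq.one_lt.ne hx
  rcases hq.eq_two_or_odd' with h | h
  · subst h
    rw [hk₁ x ⟨1, by rw [hx, pow_one]⟩, pow_succ, (hx ▸ pow_orderOf_eq_one x : x ^ 2 = 1), one_mul] at h1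
    exact hne h1
  · rw [hk₂ x (hx ▸ h)] at h1
    exact hne h1

omit [Fintype G] in
theorem pow_pow_period [Finite G] (hk₁ : ∀ g : G, (∃ j : ℕ, orderOf g = 2 ^ j) → g ^ k = g ^ 3)
    (hk₂ : ∀ g : G, Odd (orderOf g) → g ^ k = g) (g : G) :
    g ^ k ^ 2 ^ (Nat.card G).factorization 2 = g := by
  set a := (Nat.card G).factorization 2
  obtain ⟨j, m, hm, hn⟩ := Nat.exists_eq_two_pow_mul_odd (orderOf_pos g).ne'
  have hja : j ≤ a := (Nat.prime_two.pow_dvd_iff_le_factorization Nat.card_pos.ne').1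
    ((dvd_mul_right _ m).trans (hn ▸ orderOf_dvd_natCard g))
  have ho2 : orderOf (g ^ m) = 2 ^ j := by
    rw [orderOf_pow_of_dvd hm.pos.ne' (hn ▸ dvd_mul_left m _), hn, Nat.mul_div_cancel _ hm.pos]
  have hom : orderOf (g ^ 2 ^ j) = m := by
    rw [orderOf_pow_of_dvd (pow_ne_zero _ two_ne_zero) (hn ▸ dvd_mul_right _ _), hn,
      Nat.mul_div_cancel_left _ (pow_pos two_pos _)]
  have h2 : k ≡ 3 [MOD 2 ^ j] := by
    rw [← ho2, ← pow_eq_pow_iff_modEq]
    exact hk₁ _ ⟨j, ho2⟩
  have hmm : k ≡ 1 [MOD m] := by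
    rw [← hom, ← pow_eq_pow_iff_modEq, pow_one]
    exact hk₂ _ (hom.symm ▸ hm)
  have h3 : 3 ^ 2 ^ a ≡ 1 [MOD 2 ^ j] := by
    have ht : Nat.totient (2 ^ j) ∣ 2 ^ a := by
      cases j with
      | zero => simp
      | succ j =>
        rw [Nat.totient_prime_pow_succ Nat.prime_two, show 2 - 1 = 1 from rfl, mul_one]
        exact pow_dvd_pow _ (by omega)
    obtain ⟨c, hc⟩ := ht
    rw [hc, pow_mul]
    simpa using (Nat.ModEq.pow_totient ((Nat.Coprime.pow_right j (by norm_num : Nat.Coprime 3 2)))).pow c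
  have hall : k ^ 2 ^ a ≡ 1 [MOD orderOf g] := by
    rw [hn]
    refine (Nat.modEq_and_modEq_iff_modEq_mul (Nat.Coprime.pow_left j ?_)).1 ⟨(h2.pow _).trans h3, ?_⟩
    · exact Nat.coprime_two_left.2 hm
    · simpa using hmm.pow (2 ^ a)
  conv_rhs => rw [← pow_one g]
  exact pow_eq_pow_iff_modEq.2 hall

omit [Fintype G] in
theorem centralizer_pow [Finite G] (hk : (Nat.card G).Coprime k) (g : G) :
    Subgroup.centralizer ({g ^ k} : Set G) = Subgroup.centralizer ({g} : Set G) := by
  ext x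
  simp only [Subgroup.mem_centralizer_singleton_iff]
  obtain ⟨m, hm⟩ := exists_pow_eq_self_of_coprime ((hk.coprime_dvd_left (orderOf_dvd_natCard g)).symm)
  refine ⟨fun h => ?_, fun h => ?_⟩
  · have := (Commute.pow_right (h : Commute x (g ^ k)) m).eq
    rwa [hm] at this
  · have h' : Commute x g := h
    exact (h'.pow_right k).eq

/-- The conjugate `g ↦ χ (g ^ k)` of an irreducible character. -/
noncomputable def twist (hk : (Nat.card G).Coprime k) (χ : IrrCharacter G) : IrrCharacter G :=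
  ⟨fun g => (χ : G → ℂ) (g ^ k), Char.IsIrrCharacter.comp_pow χ.2 k hk⟩

theorem twist_iterate (hk : (Nat.card G).Coprime k) :
    ∀ (n : ℕ) (χ : IrrCharacter G) (g : G),
      ((twist hk)^[n] χ : G → ℂ) g = (χ : G → ℂ) (g ^ k ^ n) := by
  intro n
  induction n with
  | zero => intro χ g; simp
  | succ n ih =>
    intro χ g
    rw [Function.iterate_succ_apply, ih]
    show (χ : G → ℂ) ((g ^ k ^ n) ^ k) = _
    rw [← pow_mul, pow_succ]

theorem deg_twist (hk : (Nat.card G).Coprime k) (χ : IrrCharacter G) :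
    charDegree (twist hk χ : G → ℂ) = charDegree (χ : G → ℂ) := by
  simp [charDegree, twist]

theorem twist_mem (hk : (Nat.card G).Coprime k) {χ : IrrCharacter G} (hχ : χ ∈ principalBlock M G) :
    twist hk χ ∈ principalBlock M G := fun g => by
  have h := hχ (g ^ k)
  rw [centralChar, centralChar, centralizer_pow hk g] at h
  simp only [centralChar, twist, one_pow]
  exact h

theorem blockDefect_principal (hM : IsPModular 2 M) :
    blockDefect 2 (principalBlock M G) = (Nat.card G).factorization 2 := by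
  have h : sInf ((fun χ : IrrCharacter G => (charDegree (χ : G → ℂ)).factorization 2) ''
      principalBlock M G) = 0 :=
    Nat.sInf_eq_zero.2 (Or.inl ⟨trivChar G, trivChar_mem_principalBlock hM, by
      simp [charDegree, trivChar_apply]⟩)
  rw [blockDefect, h, Nat.sub_zero]

variable (P : Sylow 2 G)

/-- An involutory linear character of `P` lies oddly often in a fixed member of odd degree. -/
theorem exists_fixed (hM : IsPModular 2 M) (hk₁ : ∀ g : G, (∃ j : ℕ, orderOf g = 2 ^ j) → g ^ k = g ^ 3)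
    (hk₂ : ∀ g : G, Odd (orderOf g) → g ^ k = g) (μ : (P : Subgroup G) →* ℂˣ) (hμ : ∀ s, μ s * μ s = 1) :
    ∃ χ ∈ principalBlock M G, Odd (charDegree (χ : G → ℂ)) ∧
      (∀ g : G, (χ : G → ℂ) (g ^ k) = (χ : G → ℂ) g) ∧
      classInner (fun s : (P : Subgroup G) => (χ : G → ℂ) s) (fun s => (μ s : ℂ)) ≠ 0 := by
  have hk := coprime_card hk₁ hk₂
  have hkP : (Nat.card (P : Subgroup G)).Coprime k := hk.coprime_dvd_left (Subgroup.card_subgroup_dvd_card _)
  set B := principalBlock M G
  have hB : IsPBlock M B := isPBlock_principalBlock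
  set a := (Nat.card G).factorization 2 with ha
  choose m hm using fun χ : IrrCharacter G =>
    Char.IsCharacter.classInner_nat (Char.IsCharacter.restrict (Char.isCharacter_irr χ) (P : Subgroup G))
      (Char.isCharacter_hom μ)
  have hμr : ∀ s, conj (μ s : ℂ) = (μ s : ℂ) := fun s => by
    have h : (μ s : ℂ) * (μ s : ℂ) = 1 := by rw [← Units.val_mul, hμ, Units.val_one]
    rcases mul_self_eq_one_iff.1 h with h | h <;> rw [h] <;> simp
  -- the multiplicity is invariant
  have hinv : ∀ χ, m (twist hk χ) = m χ := fun χ => by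
    apply Nat.cast_injective (R := ℂ)
    rw [← hm, ← hm, Cfsg.classInner, Cfsg.classInner]
    congr 1
    refine Fintype.sum_equiv (powCoprime hkP) _ _ fun s => ?_
    have hμk : μ (s ^ k) = μ s := by
      obtain ⟨c, hc⟩ : Odd k ∨ Nat.card (P : Subgroup G) = 1 := by
        by_cases h1 : Nat.card (P : Subgroup G) = 1
        · exact Or.inr h1
        · refine Or.inl (Nat.coprime_two_left.1 (hkP.coprime_dvd_left ?_))
          exact (P.2.card_eq_or_dvd).resolve_left h1
      · rw [map_pow, hc, pow_succ, pow_mul, pow_two, hμ, one_pow, one_mul]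
      · haveI := (Nat.card_eq_one_iff_unique.1 (by assumption)).1
        rw [Subsingleton.elim (s ^ k) s]
    show (χ : G → ℂ) ((s : G) ^ k) * conj (μ s : ℂ) = (χ : G → ℂ) ((s ^ k : (P : Subgroup G)) : G) * _
    rw [SubgroupClass.coe_pow, powCoprime_apply, hμk]
  -- the sum is odd
  set N := ∑ χ ∈ B.toFinset, charDegree (χ : G → ℂ) ^ 2 with hN
  have hkey : Nat.card (P : Subgroup G) * ∑ χ ∈ B.toFinset, charDegree (χ : G → ℂ) * m χ = N := by
    apply Nat.cast_injective (R := ℂ)
    push_cast [hN]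
    have h1 : ∀ χ : IrrCharacter G, (Nat.card (P : Subgroup G) : ℂ) * ((charDegree (χ : G → ℂ) : ℂ) * (m χ : ℂ))
        = ∑ s : (P : Subgroup G), (μ s : ℂ) * ((χ : G → ℂ) s * (χ : G → ℂ) 1) := fun χ => by
      rw [← hm, Cfsg.classInner, mul_left_comm _ (charDegree (χ : G → ℂ) : ℂ), mul_inv_cancel_left₀ Char.card_ne_zero,
        Finset.mul_sum]
      exact Finset.sum_congr rfl fun s _ => by rw [hμr, irr_one_eq]; ring
    rw [Finset.mul_sum, Finset.sum_congr rfl fun χ _ => h1 χ, Finset.sum_comm,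
      Finset.sum_eq_single (1 : (P : Subgroup G))]
    · exact Finset.sum_congr rfl fun χ _ => by
        rw [map_one, Units.val_one, OneMemClass.coe_one, irr_one_eq]; ring
    · intro s _ hs
      have h0 := IsPBlock.sum_mul_eq_zero hM hB (g := (s : G)) (h := (1 : G)) (by
          obtain ⟨j, hj⟩ := IsPGroup.iff_orderOf.1 P.2 s
          rw [Subgroup.orderOf_coe, hj]
          exact dvd_pow_self 2 fun h0 => hs (orderOf_eq_one_iff.1 (by rw [hj, h0, pow_zero])))
        (by simp)
      rw [← Finset.mul_sum]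
      refine mul_eq_zero_of_right _ (Eq.trans ?_ h0)
      refine (Finset.sum_congr rfl fun χ hχ => ?_).trans (Finset.sum_subset (Finset.subset_univ _) fun χ _ hχ => ?_)
      · rw [blockInd_of_mem (Set.mem_toFinset.1 hχ), one_mul]
      · rw [blockInd_of_notMem (by simpa using hχ), zero_mul]
    · exact fun h => absurd (Finset.mem_univ _) h
  have hNf : N.factorization 2 = a := by
    rw [hN, factorization_sum_sq hM hB, blockDefect_principal hM]
    omega
  have hN0 : N ≠ 0 := by
    obtain ⟨χ, hχ⟩ := IsPBlock.nonempty hM hB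
    exact (Finset.sum_pos (fun ψ _ => pow_pos (charDegree_pos ψ) 2) ⟨χ, Set.mem_toFinset.2 hχ⟩).ne'
  have hodd : ¬ 2 ∣ ∑ χ ∈ B.toFinset, charDegree (χ : G → ℂ) * m χ := fun h => by
    have h2 : 2 ^ (a + 1) ∣ N := by
      rw [← hkey, pow_succ, P.card_eq_multiplicity]
      exact mul_dvd_mul dvd_rfl h
    have := (Nat.prime_two.pow_dvd_iff_le_factorization hN0).1 h2
    omega
  -- fixed points
  set f : IrrCharacter G → ZMod 2 := fun χ => ((charDegree (χ : G → ℂ) * m χ : ℕ) : ZMod 2) with hf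
  have hsum := sum_fixed f a B.toFinset (twist hk)
    (fun χ _ => Subtype.ext (funext fun g => by rw [twist_iterate, pow_pow_period hk₁ hk₂]))
    (fun χ hχ => Set.mem_toFinset.2 (twist_mem hk (Set.mem_toFinset.1 hχ)))
    (fun χ _ => by simp only [hf, deg_twist, hinv])
  have hne : ∑ χ ∈ B.toFinset.filter (fun χ => twist hk χ = χ), f χ ≠ 0 := by
    intro h0
    have h1 : ∑ χ ∈ B.toFinset, f χ = 0 := by
      rw [hsum, ← h0]
      exact Finset.sum_congr (Finset.filter_congr_decidable _ _ _) fun _ _ => rfl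
    rw [hf, ← Nat.cast_sum, ZMod.natCast_eq_zero_iff_even, even_iff_two_dvd] at h1
    exact hodd h1
  obtain ⟨χ, hχ, hfχ⟩ := Finset.exists_ne_zero_of_sum_ne_zero hne
  obtain ⟨hχB, hfix⟩ := Finset.mem_filter.1 hχ
  rw [hf, Ne, ZMod.natCast_eq_zero_iff_even, Nat.even_mul, not_or, Nat.not_even_iff_odd] at hfχ
  refine ⟨χ, Set.mem_toFinset.1 hχB, hfχ.1, fun g => congrFun (congrArg Subtype.val hfix) g, ?_⟩
  rw [hm, Nat.cast_ne_zero]
  intro h
  exact hfχ.2 (h ▸ ⟨0, rfl⟩)

theorem npc_of_linear (P : Sylow 2 G) (hM : IsPModular 2 M) (hk₁ : ∀ g : G, (∃ j : ℕ, orderOf g = 2 ^ j) → g ^ k = g ^ 3)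
    (hk₂ : ∀ g : G, Odd (orderOf g) → g ^ k = g)
    (hlin : ∀ χ ∈ principalBlock M G, Odd (charDegree (χ : G → ℂ)) →
      (∀ g : G, (χ : G → ℂ) (g ^ k) = (χ : G → ℂ) g) → charDegree (χ : G → ℂ) = 1) :
    HasNormalPComplement 2 G := by
  haveI : Fact (Nat.Prime 2) := ⟨Nat.prime_two⟩
  refine CfsgLib.Fusion.Tate.npc_of_inf_pResidual_le_frattini P fun x hx0 => ?_
  have hx : x ∈ (P : Subgroup G) ∧ x ∈ pResidual 2 G := Subgroup.mem_inf.1 hx0
  refine Subgroup.mem_map.2 ⟨⟨x, hx.1⟩, ?_, rfl⟩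
  by_contra hxF
  obtain ⟨K, hK, hxK⟩ : ∃ K : Subgroup (P : Subgroup G), IsCoatom K ∧ (⟨x, hx.1⟩ : (P : Subgroup G)) ∉ K := by
    by_contra h
    push Not at h
    apply hxF
    rw [frattini, Order.radical]
    simp only [Subgroup.mem_iInf]
    exact h
  have hi := CfsgLib.PGroup.Frattini.index_of_isCoatom P.2 hK
  let μ : (P : Subgroup G) →* ℂˣ :=
    { toFun := fun s => if s ∈ K then 1 else -1
      map_one' := if_pos K.one_mem
      map_mul' := fun s t => by
        have := Subgroup.mul_mem_iff_of_index_two hi (a := s) (b := t)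
        by_cases hs : s ∈ K <;> by_cases ht : t ∈ K <;> simp_all }
  have hμ : ∀ s, μ s * μ s = 1 := fun s => by
    show (if s ∈ K then (1 : ℂˣ) else -1) * (if s ∈ K then (1 : ℂˣ) else -1) = 1
    split_ifs <;> simp
  have hμx : μ ⟨x, hx.1⟩ = -1 := if_neg hxK
  obtain ⟨χ, hχ, hodd, hfix, hne⟩ := exists_fixed P hM hk₁ hk₂ μ hμ
  have h1 : (χ : G → ℂ) 1 = 1 := by rw [irr_one_eq, hlin χ hχ hodd hfix, Nat.cast_one]
  obtain ⟨φ, hφ⟩ := Char.exists_hom_of_apply_one_eq_one (Char.isCharacter_irr χ) h1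
  have hres : ∀ s : (P : Subgroup G), φ s = μ s := fun s => by
    by_contra hs
    refine hne (Char.classInner_irr_ne ?_ (Char.isIrrCharacter_hom μ) fun e => hs ?_)
    · rw [hφ]
      exact Char.isIrrCharacter_hom (φ.comp (P : Subgroup G).subtype)
    · have := congrFun e s
      rw [hφ] at this
      exact Units.ext this
  set a := (Nat.card G).factorization 2 with ha
  set n := Nat.card G / 2 ^ a with hn
  have hnG : n * 2 ^ a = Nat.card G := Nat.div_mul_cancel (Nat.ordProj_dvd _ _)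
  have hnodd : Odd n := by
    rw [← Nat.not_even_iff_odd, even_iff_two_dvd]
    exact Nat.not_dvd_ordCompl Nat.prime_two Nat.card_pos.ne'
  set ψ : G →* ℂˣ := φ ^ n with hψ
  have hP2 : IsPGroup 2 ψ.range := by
    rintro ⟨y, g, rfl⟩
    refine ⟨a, Subtype.ext ?_⟩
    show (ψ g) ^ 2 ^ a = 1
    rw [hψ, MonoidHom.pow_apply, ← pow_mul, hnG, ← map_pow, pow_card_eq_one', map_one]
  have hker := CfsgLib.Fusion.Basic.pResidual_le_ker ψ.rangeRestrict hP2 hx.2
  have h2 : φ x ^ n = 1 := by
    have := congrArg Subtype.val (MonoidHom.mem_ker.1 hker)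
    simpa [hψ] using this
  rw [show φ x = -1 from (hres ⟨x, hx.1⟩).trans hμx, hnodd.neg_one_pow] at h2
  have h3 := congrArg Units.val h2
  norm_num at h3

/-- With a normal 2-complement the members of odd degree of the principal block are linear. -/
theorem linear_of_npc (hM : IsPModular 2 M) (h : HasNormalPComplement 2 G) {χ : IrrCharacter G}
    (hχ : χ ∈ principalBlock M G) (hodd : Odd (charDegree (χ : G → ℂ))) : charDegree (χ : G → ℂ) = 1 := by
  haveI : Fact (Nat.Prime 2) := ⟨Nat.prime_two⟩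
  obtain ⟨P, N, hN, hc⟩ := h
  have hcop : ¬ 2 ∣ Nat.card N := fun h2 => by
    have h3 : 2 ^ ((Nat.card G).factorization 2 + 1) ∣ Nat.card G := by
      rw [pow_succ, ← P.card_eq_multiplicity, ← hc.card_mul, mul_comm (Nat.card N)]
      exact mul_dvd_mul dvd_rfl h2
    have := (Nat.prime_two.pow_dvd_iff_le_factorization Nat.card_pos.ne').1 h3
    omega
  have hker : N ≤ irrKer χ :=
    le_irrKer_of_sameBlock hM hN hcop (χ := trivChar G) hχ fun n _ => by
      rw [mem_irrKer]; simp [trivChar_apply]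
  have hinv : ∀ (n : G), n ∈ N → ∀ s : G, (χ : G → ℂ) (n * s) = (χ : G → ℂ) s := by
    intro n hn s
    obtain ⟨d, ρ, hρ, he⟩ := χ.2
    have h1 := mem_irrKer.1 (hker hn)
    simp only [← he, Representation.char_one, CfsgLib.Char.char_eq_finrank_iff] at h1
    show (χ : G → ℂ) (n * s) = _
    rw [← he]
    show LinearMap.trace ℂ _ (ρ (n * s)) = LinearMap.trace ℂ _ (ρ s)
    rw [map_mul, h1]
    rfl
  have hirr : IsIrrCharacter (P : Subgroup G) fun s => (χ : G → ℂ) s := by
    refine Char.IsCharacter.isIrrCharacter_of_norm_one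
      (Char.IsCharacter.restrict (Char.isCharacter_irr χ) _) ?_
    have h1 := Char.classInner_irr_self χ.2
    rw [Cfsg.classInner, inv_mul_eq_iff_eq_mul₀ Char.card_ne_zero, mul_one] at h1
    rw [Cfsg.classInner, inv_mul_eq_iff_eq_mul₀ Char.card_ne_zero, mul_one]
    have h2 : ∑ g : G, (χ : G → ℂ) g * conj ((χ : G → ℂ) g)
        = ∑ q : N × (P : Subgroup G), (χ : G → ℂ) q.2 * conj ((χ : G → ℂ) q.2) :=
      (Fintype.sum_bijective (fun q : N × (P : Subgroup G) => (q.1 : G) * (q.2 : G)) hc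
        (fun q => (χ : G → ℂ) q.2 * conj ((χ : G → ℂ) q.2))
        (fun g => (χ : G → ℂ) g * conj ((χ : G → ℂ) g)) fun q => by
          simp only [hinv _ q.1.2]).symm
    rw [h2, Fintype.sum_prod_type] at h1
    simp only [] at h1
    rw [Finset.sum_const, Finset.card_univ, ← Nat.card_eq_fintype_card, nsmul_eq_mul,
      ← hc.card_mul, Nat.cast_mul] at h1
    exact mul_left_cancel₀ (Nat.cast_ne_zero.2 Nat.card_pos.ne') h1
  have hd : charDegree (χ : G → ℂ) ∣ Nat.card (P : Subgroup G) := charDegree_dvd ⟨_, hirr⟩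
  obtain ⟨j, -, hj⟩ := (Nat.dvd_prime_pow Nat.prime_two).1 (P.card_eq_multiplicity ▸ hd)
  rcases Nat.eq_zero_or_pos j with rfl | hj0
  · rw [hj, pow_zero]
  · exfalso
    rw [hj] at hodd
    exact (Nat.not_even_iff_odd.2 hodd) (even_iff_two_dvd.2 (dvd_pow_self 2 hj0.ne'))

end CfsgLib.Blocks.GaloisLinear
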