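import Cfsg.Agent.Lib.Blocks.CyclotomicSum
import Mathlib.RingTheory.Polynomial.Cyclotomic.Roots
import Mathlib.RingTheory.RootsOfUnity.Complex

/-!
# Galois-stable families of positive algebraic integers

A polynomial expression in a primitive root of unity with the same value at all primitive roots is
a rational integer, so a Galois-stable family of positive algebraic integers has sum at least its
size.
-/

set_option autoImplicit false

namespace CfsgLib.Blocks.GaloisProduct

open Polynomial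
open scoped Classical

theorem eq_intCast_of_aeval_const {n : ℕ} (hn : 0 < n) (P : ℤ[X]) (q : ℂ)
    (h : ∀ μ : ℂ, IsPrimitiveRoot μ n → aeval μ P = q) : ∃ m : ℤ, q = (m : ℂ) := by
  set f := cyclotomic n ℤ
  set R := P %ₘ f with hR
  have hmon : f.Monic := cyclotomic.monic n ℤ
  have hval : ∀ μ : ℂ, IsPrimitiveRoot μ n → aeval μ R = q := by
    intro μ hμ
    have hf : aeval μ f = 0 := by
      rw [aeval_def, eval₂_eq_eval_map, map_cyclotomic]
      exact hμ.isRoot_cyclotomic hn
    have e := congrArg (aeval μ) (modByMonic_add_div P f)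
    rw [map_add, map_mul, hf, zero_mul, add_zero] at e
    exact e.trans (h μ hμ)
  have hdeg : R.natDegree < n.totient := by
    have h1 := natDegree_modByMonic_lt P hmon (fun e => by
      have := congrArg natDegree e
      rw [natDegree_cyclotomic, natDegree_one] at this
      exact (Nat.totient_pos.2 hn).ne' this)
    rwa [natDegree_cyclotomic] at h1
  set S := R.map (Int.castRingHom ℂ) - C q with hS
  have hS0 : S = 0 := by
    refine eq_zero_of_natDegree_lt_card_of_eval_eq_zero' S (primitiveRoots n ℂ) (fun μ hμ => ?_) ?_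
    · rw [hS, eval_sub, eval_C, ← eval₂_eq_eval_map, sub_eq_zero, ← hval μ ((mem_primitiveRoots hn).1 hμ),
        aeval_def]
      rfl
    · rw [(Complex.isPrimitiveRoot_exp n hn.ne').card_primitiveRoots]
      refine lt_of_le_of_lt ?_ hdeg
      rw [hS, natDegree_sub_C]
      exact natDegree_map_le
  refine ⟨R.coeff 0, ?_⟩
  have h0 := congrArg (fun T => coeff T 0) hS0
  simp only [hS, coeff_sub, coeff_map, coeff_C_zero, coeff_zero, sub_eq_zero] at h0
  rw [← h0]
  rfl

/-- The sum of a Galois-stable family of positive multiples of `c` is at least `c` times its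
size. -/
theorem card_mul_le_sum {ι : Type*} [Fintype ι] {n : ℕ} (hn : 0 < n) {ζ : ℂ}
    (hζ : IsPrimitiveRoot ζ n) (x : ι → ℝ) (hpos : ∀ i, 0 < x i) (P : ι → ℤ[X])
    (hperm : ∀ j : ℕ, j.Coprime n → ∃ σ : ι ≃ ι, ∀ i, aeval (ζ ^ j) (P i) = (x (σ i) : ℂ))
    {c : ℕ} (hc : 0 < c) (hint : ∀ i, IsIntegral ℤ ((x i : ℂ) / (c : ℂ))) :
    (c : ℝ) * Fintype.card ι ≤ ∑ i, x i := by
  set q : ℂ := ∏ i, (x i : ℂ) with hq
  obtain ⟨m, hm⟩ : ∃ m : ℤ, q = (m : ℂ) := by
    refine eq_intCast_of_aeval_const hn (∏ i, P i) q fun μ hμ => ?_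
    haveI : NeZero n := ⟨hn.ne'⟩
    obtain ⟨j, -, hj, rfl⟩ := hζ.isPrimitiveRoot_iff.1 hμ
    obtain ⟨σ, hσ⟩ := hperm j hj
    rw [map_prod, Finset.prod_congr rfl fun i _ => hσ i, hq]
    exact Equiv.prod_comp σ (fun i => (x i : ℂ))
  have hint' : IsIntegral ℤ (∏ i, (x i : ℂ) / (c : ℂ)) := IsIntegral.prod _ fun i _ => hint i
  have e1 : ∏ i, (x i : ℂ) / (c : ℂ)
      = algebraMap ℚ ℂ ((m : ℚ) / (c : ℚ) ^ Fintype.card ι) := by
    rw [Finset.prod_div_distrib, ← hq, hm, Finset.prod_const, Finset.card_univ]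
    simp
  rw [e1] at hint'
  obtain ⟨k, hk⟩ := (IsIntegrallyClosed.isIntegral_iff (R := ℤ) (K := ℚ)).1
    ((isIntegral_algebraMap_iff (A := ℚ) (B := ℂ) (algebraMap ℚ ℂ).injective).1 hint')
  have e2 : ∏ i, x i / (c : ℝ) = (k : ℝ) := by
    apply Complex.ofReal_injective
    push_cast
    rw [e1, ← hk]
    simp
  have hk0 : (0 : ℝ) < (k : ℝ) := e2 ▸ Finset.prod_pos fun i _ => div_pos (hpos i) (Nat.cast_pos.2 hc)
  have h1 : (1 : ℝ) ≤ ∏ i, x i / (c : ℝ) := by
    rw [e2]
    exact_mod_cast (Int.cast_pos.1 hk0 : (0 : ℤ) < k)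
  have h2 := card_le_sum_of_one_le_prod Finset.univ (fun i => x i / (c : ℝ))
    (fun i _ => div_pos (hpos i) (Nat.cast_pos.2 hc)) h1
  rw [Finset.card_univ, ← Finset.sum_div, le_div_iff₀ (Nat.cast_pos.2 hc)] at h2
  linarith

end CfsgLib.Blocks.GaloisProduct
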