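import Cfsg.Agent.Lib.Blocks.SectionCentral
import Cfsg.Agent.Lib.Blocks.DefectGroup
import Cfsg.Agent.Lib.Blocks.Local2
import Cfsg.Agent.Lib.Blocks.ContribBound
import Cfsg.Agent.Lib.Blocks.DefectOneSetup
import Cfsg.Agent.Lib.Blocks.DefectOneCoherence

/-!
# Blocks with a defect group of order `p` in an arbitrary group

The coherent family attached to the sections at the generators of the defect group, and the integral
functionals on the restrictions to `p`-regular elements that it yields.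
-/

set_option autoImplicit false
set_option linter.unusedSectionVars false

namespace CfsgLib.Blocks.GenDefectOne

open Cfsg CfsgLib.Blocks
open scoped Classical ComplexConjugate

variable {G : Type*} [Group G] [Fintype G] {p : ℕ} [hp : Fact p.Prime] {M : Ideal AlgInt}

/-- The centralizer of `y`. -/
abbrev cy (y : G) : Subgroup G := Subgroup.centralizer ({y} : Set G)

/-- A block with defect group `⟨y⟩` of order `p` and a block of `C(y)` inducing it. -/
structure Data (p : ℕ) (M : Ideal AlgInt) (B : Set (IrrCharacter G)) where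
  y : G
  hM : IsPModular p M
  ord : orderOf y = p
  hD : IsDefectGroup p M B (Subgroup.zpowers y)
  b : Set (IrrCharacter (cy y))
  ind : IsInducedBlock M (cy y) b B
  θ : IrrCharacter (cy y)
  hθ : θ ∈ b

theorem exists_data (hM : IsPModular p M) {B : Set (IrrCharacter G)} (hB : IsPBlock M B) {y : G}
    (hy : orderOf y = p) (hD : IsDefectGroup p M B (Subgroup.zpowers y)) :
    Nonempty (Data p M B) := by
  have hK := centralizer_zpowers y
  obtain ⟨b, -, hb⟩ := exists_defectGroup_inducing_local (L := cy y) hM hB hD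
    (Subgroup.zpowers_le.2 (Subgroup.mem_centralizer_singleton_iff.2 rfl)) hK.le
    (hK.symm.le.trans (centralizer_le_normalizer _))
  obtain ⟨θ, hθ⟩ := IsPBlock.nonempty hM hb.1
  exact ⟨⟨y, hM, hy, hD, b, hb, θ, hθ⟩⟩

namespace Data

variable {B : Set (IrrCharacter G)} (D : Data p M B)

theorem mem_cy : D.y ∈ cy D.y := Subgroup.mem_centralizer_singleton_iff.2 rfl

theorem commute_y (c : cy D.y) : Commute (c : G) D.y :=
  Subgroup.mem_centralizer_singleton_iff.1 c.2

/-- `y` in its centralizer. -/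
def z : cy D.y := ⟨D.y, D.mem_cy⟩

theorem z_mem_center : D.z ∈ Subgroup.center (cy D.y) :=
  Subgroup.mem_center_iff.2 fun c => Subtype.ext (D.commute_y c).eq

theorem z_pow : D.z ^ p = 1 := Subtype.ext (by
  rw [SubgroupClass.coe_pow, OneMemClass.coe_one]
  exact orderOf_dvd_iff_pow_eq_one.1 (dvd_of_eq D.ord))

theorem isPPow : ∃ k : ℕ, orderOf D.y = p ^ k := ⟨1, by rw [pow_one, D.ord]⟩

theorem members :
    (∀ φ ∈ D.b, ∀ φ' ∈ D.b, ∀ s : cy D.y, ¬ p ∣ orderOf s →
      (φ : cy D.y → ℂ) s = (φ' : cy D.y → ℂ) s) ∧ Nat.card D.b = p := by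
  have hle : Subgroup.zpowers D.y ≤ cy D.y := Subgroup.zpowers_le.2 D.mem_cy
  have hbD := SectionCentral.isDefectGroup_of_induced D.hM D.isPPow D.hD D.ind
  obtain ⟨h1, h2⟩ := SectionCentral.central_members D.hM D.ind.1
    (P := (Subgroup.zpowers D.y).subgroupOf (cy D.y)) (fun u hu => by
      obtain ⟨i, hi⟩ := Subgroup.mem_zpowers_iff.1 (Subgroup.mem_subgroupOf.1 hu)
      refine Subgroup.mem_center_iff.2 fun g => Subtype.ext ?_
      show (g : G) * (u : G) = (u : G) * (g : G)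
      rw [← hi]; exact ((D.commute_y g).zpow_right i).eq) hbD
  refine ⟨h1, ?_⟩
  rw [h2, Nat.card_congr (Subgroup.subgroupOfEquivOfLe hle).toEquiv, Nat.card_zpowers, D.ord]

theorem agree {ψ : IrrCharacter (cy D.y)} (hψ : ψ ∈ D.b) {s : cy D.y} (hs : ¬ p ∣ orderOf s) :
    (ψ : cy D.y → ℂ) s = (D.θ : cy D.y → ℂ) s := D.members.1 ψ hψ D.θ D.hθ s hs

theorem agree_one {ψ : IrrCharacter (cy D.y)} (hψ : ψ ∈ D.b) :
    (ψ : cy D.y → ℂ) 1 = (D.θ : cy D.y → ℂ) 1 :=
  D.agree hψ (by rw [orderOf_one]; exact hp.out.not_dvd_one)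

/-- The sum of the members. -/
noncomputable def tot (c : cy D.y) : ℂ :=
  ∑ ψ : IrrCharacter (cy D.y), blockInd D.b ψ * (ψ : cy D.y → ℂ) c

theorem tot_of_regular {s : cy D.y} (hs : ¬ p ∣ orderOf s) :
    D.tot s = (p : ℂ) * (D.θ : cy D.y → ℂ) s := by
  rw [tot, show (p : ℂ) = (Nat.card D.b : ℂ) from congrArg Nat.cast D.members.2.symm,
    Nat.card_eq_fintype_card, ← Set.toFinset_card, Finset.card_eq_sum_ones, Nat.cast_sum,
    Finset.sum_mul]
  refine ((Finset.sum_congr rfl fun ψ hψ => ?_).trans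
    (Finset.sum_subset (Finset.subset_univ _) fun ψ _ hψ => by
      rw [blockInd_of_notMem (by simpa using hψ), zero_mul])).symm
  rw [blockInd_of_mem (Set.mem_toFinset.1 hψ), Nat.cast_one, D.agree (Set.mem_toFinset.1 hψ) hs]

theorem tot_of_singular {c : cy D.y} (hc : p ∣ orderOf c) : D.tot c = 0 := by
  obtain ⟨w, s, hw, hws, hcomm, hs, -⟩ := exists_isPPart hp.out c
  have h1 : IsPPart p (1 : cy D.y) 1 := isPPart_one_of_regular (by
    rw [orderOf_one]; exact hp.out.not_dvd_one)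
  have hne : ¬ IsConj w 1 := fun h => by
    rw [isConj_one_left.1 h] at hws
    rw [one_mul] at hws
    exact hs (hws ▸ hc)
  have h := sum_block_mul_eq_zero D.hM D.ind.1 hw h1 hne
  have e : ∀ ψ : IrrCharacter (cy D.y), blockInd D.b ψ * ((ψ : cy D.y → ℂ) c *
      (ψ : cy D.y → ℂ) 1⁻¹)
      = (D.θ : cy D.y → ℂ) 1 * (blockInd D.b ψ * (ψ : cy D.y → ℂ) c) := fun ψ => by
    by_cases hψ : ψ ∈ D.b
    · rw [inv_one, D.agree_one hψ]; ring
    · rw [blockInd_of_notMem hψ]; ring
  rw [Finset.sum_congr rfl fun ψ _ => e ψ, ← Finset.mul_sum, mul_eq_zero] at h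
  exact h.resolve_left (irr_one_ne_zero D.θ)

theorem classInner_tot (F : cy D.y → ℂ) :
    classInner F D.tot
      = ∑ ψ : IrrCharacter (cy D.y), blockInd D.b ψ * classInner F (ψ : cy D.y → ℂ) := by
  simp only [Cfsg.classInner, tot, map_sum, map_mul, Finset.mul_sum]
  rw [Finset.sum_comm]
  refine Finset.sum_congr rfl fun ψ _ => Finset.sum_congr rfl fun c _ => ?_
  by_cases hψ : ψ ∈ D.b <;> simp [blockInd, hψ]

theorem classInner_tot_regular (F : cy D.y → ℂ) :
    classInner F D.tot = (p : ℂ) * (Nat.card (cy D.y) : ℂ)⁻¹ *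
      ∑ u : cy D.y with IsPRegular p u, F u * (D.θ : cy D.y → ℂ) u⁻¹ := by
  rw [Cfsg.classInner, Finset.sum_filter, Finset.mul_sum, Finset.mul_sum]
  refine Finset.sum_congr rfl fun u _ => ?_
  split_ifs with hu
  · rw [D.tot_of_regular hu, map_mul, map_natCast, conj_irr]; ring
  · rw [D.tot_of_singular (not_isPRegular.1 hu), map_zero]; ring

/-! ### Powers of `y` -/

theorem pw_eq (n : ℕ) : D.y ^ (n : ZMod p).val = D.y ^ n := by
  rw [ZMod.val_natCast, pow_eq_pow_iff_modEq, D.ord]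
  exact Nat.mod_modEq n p

theorem pw_inj {a c : ZMod p} (h : D.y ^ a.val = D.y ^ c.val) : a = c := by
  rw [pow_eq_pow_iff_modEq, D.ord] at h
  exact ZMod.val_injective p (Nat.ModEq.eq_of_lt_of_lt h a.val_lt c.val_lt)

theorem pw_mul (a c : ZMod p) : (D.y ^ a.val) ^ c.val = D.y ^ (a * c).val := by
  rw [← pow_mul, ← D.pw_eq (a.val * c.val), Nat.cast_mul, ZMod.natCast_zmod_val,
    ZMod.natCast_zmod_val]

theorem ord_pw {a : ZMod p} (ha : a ≠ 0) : orderOf (D.y ^ a.val) = p := by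
  refine orderOf_eq_prime ?_ fun h => ha (D.pw_inj (by rw [h, ZMod.val_zero, pow_zero]))
  rw [← pow_mul, mul_comm, pow_mul, orderOf_dvd_iff_pow_eq_one.1 (dvd_of_eq D.ord), one_pow]

theorem cy_pw {a : ZMod p} (ha : a ≠ 0) :
    cy D.y = Subgroup.centralizer ({D.y ^ a.val} : Set G) := by
  ext c
  simp only [Subgroup.mem_centralizer_singleton_iff]
  refine ⟨fun h => ((show Commute c D.y from h).pow_right _).eq, fun h => ?_⟩
  have h1 : D.y = (D.y ^ a.val) ^ (a⁻¹ : ZMod p).val := by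
    rw [D.pw_mul, mul_inv_cancel₀ ha, ZMod.val_one, pow_one]
  rw [h1]
  exact ((show Commute c (D.y ^ a.val) from h).pow_right _).eq

theorem ppow_pw {a : ZMod p} (ha : a ≠ 0) : ∃ k : ℕ, orderOf (D.y ^ a.val) = p ^ k :=
  ⟨1, by rw [pow_one, D.ord_pw ha]⟩

/-! ### The coefficients -/

/-- The coefficient of `θ` in the section at `y ^ a`. -/
noncomputable def sec (χ : IrrCharacter G) (a : ZMod p) : ℂ :=
  classInner (fun c : cy D.y => (χ : G → ℂ) (D.y ^ a.val * (c : G))) D.tot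

theorem classInner_translate (χ : IrrCharacter G) (ψ : IrrCharacter (cy D.y)) (n : ℕ) :
    classInner (fun c : cy D.y => (χ : G → ℂ) (D.y ^ n * (c : G))) (ψ : cy D.y → ℂ)
      = resMult χ ψ * centScalar ψ (D.z ^ n) := by
  rw [resMult, Cfsg.classInner, Cfsg.classInner, mul_assoc, Finset.sum_mul]
  congr 1
  refine Fintype.sum_equiv (Equiv.mulLeft (D.z ^ n)) _ _ fun c => ?_
  simp only [Equiv.coe_mulLeft, Subgroup.coe_mul, SubgroupClass.coe_pow, conj_irr, mul_inv_rev]
  rw [show ((D.z : cy D.y) : G) = D.y from rfl, mul_assoc,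
    mul_comm ((ψ : cy D.y → ℂ) _) (centScalar ψ (D.z ^ n)),
    ← centScalar_mul ψ (pow_mem D.z_mem_center n), inv_mul_cancel_right]

theorem exists_label (ψ : IrrCharacter (cy D.y)) :
    ∃ k : ZMod p, ∀ a : ZMod p,
      centScalar ψ (D.z ^ a.val) = (ZMod.stdAddChar (k * a) : ℂ) := by
  have hω : IsPrimitiveRoot (ZMod.stdAddChar (1 : ZMod p) : ℂ) p := by
    refine IsPrimitiveRoot.iff_orderOf.2 (orderOf_eq_prime ?_ fun h1 => one_ne_zero
      (ZMod.injective_stdAddChar (h1.trans (AddChar.map_zero_eq_one _).symm)))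
    rw [← AddChar.map_nsmul_eq_pow, nsmul_eq_mul, ZMod.natCast_self, zero_mul,
      AddChar.map_zero_eq_one]
  haveI : NeZero p := ⟨hp.out.ne_zero⟩
  obtain ⟨i, -, hi⟩ := hω.eq_pow_of_pow_eq_one (centScalar_pow_eq_one ψ D.z_mem_center D.z_pow)
  refine ⟨i, fun a => ?_⟩
  rw [show centScalar ψ (D.z ^ a.val) = centScalar ψ D.z ^ a.val from by
    rw [centScalar, centScalar_pow ψ D.z_mem_center a.val, mul_div_cancel_right₀ _ (irr_one_ne_zero ψ)], ← hi, ← pow_mul, ← AddChar.map_nsmul_eq_pow, nsmul_eq_mul,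
    mul_one, Nat.cast_mul, ZMod.natCast_zmod_val]

/-- The label of a member. -/
noncomputable def label (ψ : IrrCharacter (cy D.y)) : ZMod p := (D.exists_label ψ).choose

/-- The multiplicity of the members with label `k`. -/
noncomputable def mult (χ : IrrCharacter G) (k : ZMod p) : ℕ :=
  ∑ ψ ∈ D.b.toFinset.filter fun ψ => D.label ψ = k, (resMult_nat χ ψ).choose

theorem sec_eq_mult (χ : IrrCharacter G) (a : ZMod p) :
    D.sec χ a = ∑ k : ZMod p, (D.mult χ k : ℂ) * (ZMod.stdAddChar (k * a) : ℂ) := by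
  rw [sec, classInner_tot]
  simp only [mult, Nat.cast_sum, Finset.sum_mul]
  rw [Finset.sum_congr rfl (s₁ := (Finset.univ : Finset (ZMod p))) fun k _ =>
    Finset.sum_congr rfl (s₁ := D.b.toFinset.filter fun ψ => D.label ψ = k)
      (g := fun ψ => classInner (fun c : cy D.y => (χ : G → ℂ) (D.y ^ a.val * (c : G)))
        (ψ : cy D.y → ℂ)) fun ψ hψ => ?_, Finset.sum_fiberwise]
  · refine ((Finset.sum_congr rfl fun ψ hψ => ?_).trans
      (Finset.sum_subset (Finset.subset_univ _) fun ψ _ hψ => ?_)).symm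
    · rw [blockInd_of_mem (Set.mem_toFinset.1 hψ), one_mul]
    · rw [blockInd_of_notMem (by simpa using hψ), zero_mul]
  · rw [D.classInner_translate, ← (resMult_nat χ ψ).choose_spec,
      (D.exists_label ψ).choose_spec a]
    rw [show (D.exists_label ψ).choose = k from (Finset.mem_filter.1 hψ).2]

include D in
theorem sum_std (c : ZMod p) :
    ∑ a : ZMod p, (ZMod.stdAddChar (a * c) : ℂ) = if c = 0 then (p : ℂ) else 0 := by
  have h := AddChar.sum_mulShift (R' := ℂ) c (ZMod.isPrimitive_stdAddChar p)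
  rw [h, ZMod.card]
  split_ifs <;> simp

include D in
theorem sum_std' (c : ZMod p) :
    ∑ a : ZMod p, (ZMod.stdAddChar (c * a) : ℂ) = if c = 0 then (p : ℂ) else 0 := by
  rw [← D.sum_std]
  exact Finset.sum_congr rfl fun a _ => by rw [mul_comm]

include D in
theorem conj_std (a : ZMod p) :
    conj (ZMod.stdAddChar a : ℂ) = ZMod.stdAddChar (-a) := by
  rw [AddChar.map_neg_eq_conj]

/-- The difference of the multiplicities. -/
noncomputable def diff (χ : IrrCharacter G) (k : ZMod p) : ℤ :=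
  (D.mult χ 0 : ℤ) - D.mult χ k

theorem diff_zero (χ : IrrCharacter G) : D.diff χ 0 = 0 := sub_self _

theorem mult_eq (χ : IrrCharacter G) (k : ZMod p) :
    ∑ a : ZMod p, D.sec χ a * (ZMod.stdAddChar (-(k * a)) : ℂ) = (p : ℂ) * D.mult χ k := by
  simp only [D.sec_eq_mult, Finset.sum_mul, mul_assoc, ← AddChar.map_add_eq_mul, ← sub_eq_add_neg,
    ← sub_mul]
  rw [Finset.sum_comm]
  simp only [← Finset.mul_sum, D.sum_std', sub_eq_zero, mul_ite, mul_zero, Finset.sum_ite_eq',
    Finset.mem_univ, if_true]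
  ring

theorem cast_diff (χ : IrrCharacter G) (k : ZMod p) :
    (D.diff χ k : ℂ)
      = (p : ℂ)⁻¹ * ∑ a : ZMod p, D.sec χ a * (1 - ZMod.stdAddChar (-(k * a))) := by
  have h0 := D.mult_eq χ 0
  simp only [zero_mul, neg_zero, AddChar.map_zero_eq_one, mul_one] at h0
  simp only [mul_sub, mul_one, Finset.sum_sub_distrib, h0, D.mult_eq, diff, Int.cast_sub,
    Int.cast_natCast]
  have : (p : ℂ) ≠ 0 := Nat.cast_ne_zero.2 hp.out.ne_zero
  field_simp

theorem sec_eq_diff (χ : IrrCharacter G) {a : ZMod p} (ha : a ≠ 0) :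
    D.sec χ a = - ∑ k : ZMod p, (D.diff χ k : ℂ) * ZMod.stdAddChar (k * a) := by
  simp only [diff, Int.cast_sub, Int.cast_natCast, sub_mul, Finset.sum_sub_distrib,
    ← Finset.mul_sum, D.sum_std, if_neg ha, mul_zero, zero_sub, neg_neg, D.sec_eq_mult]

theorem sec_eq_zero_of_notMem {χ : IrrCharacter G} (hχ : χ ∉ B) {a : ZMod p} (ha : a ≠ 0) :
    D.sec χ a = 0 := by
  have h1 : ¬ p ∣ orderOf (1 : cy D.y) := by rw [orderOf_one]; exact hp.out.not_dvd_one
  have h := secPart_eq_zero_of_notMem D.hM (D.cy_pw ha) (D.ppow_pw ha) D.ind hχ h1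
  rw [secPart, blockPart_eq_sum] at h
  rw [sec, classInner_tot]
  refine (mul_eq_zero.1 (?_ : (D.θ : cy D.y → ℂ) 1 * _ = 0)).resolve_left (irr_one_ne_zero D.θ)
  rw [← h, Finset.mul_sum]
  refine Finset.sum_congr rfl fun ψ _ => ?_
  by_cases hψ : ψ ∈ D.b
  · rw [D.agree_one hψ]; ring
  · rw [blockInd_of_notMem hψ]; ring

theorem sec_eq_regular (χ : IrrCharacter G) (a : ZMod p) :
    D.sec χ a = (p : ℂ) * (Nat.card (cy D.y) : ℂ)⁻¹ * ∑ u : cy D.y with IsPRegular p u,
      (χ : G → ℂ) (D.y ^ a.val * (u : G)) * (D.θ : cy D.y → ℂ) u⁻¹ :=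
  D.classInner_tot_regular _

theorem isPPart_pw {a : ZMod p} (ha : a ≠ 0) {u : cy D.y} (hu : ¬ p ∣ orderOf u) :
    IsPPart p (D.y ^ a.val * (u : G)) (D.y ^ a.val) :=
  ⟨u, rfl, ((D.commute_y u).symm.pow_left _), D.ppow_pw ha, by rwa [Subgroup.orderOf_coe]⟩

theorem sum_sec_mul_apply {a : ZMod p} (ha : a ≠ 0) {s : G} (hs : ¬ p ∣ orderOf s) :
    ∑ χ : IrrCharacter G, D.sec χ a * (χ : G → ℂ) s = 0 := by
  simp only [D.sec_eq_regular, Finset.sum_mul, Finset.mul_sum]
  rw [Finset.sum_comm]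
  refine Finset.sum_eq_zero fun u hu => ?_
  rw [Finset.sum_congr rfl (g := fun χ : IrrCharacter G => (p : ℂ) * (Nat.card (cy D.y) : ℂ)⁻¹ *
    (D.θ : cy D.y → ℂ) u⁻¹ * ((χ : G → ℂ) (D.y ^ a.val * (u : G)) * (χ : G → ℂ) (s⁻¹)⁻¹))
    fun χ _ => by rw [inv_inv]; ring, ← Finset.mul_sum, sum_irr_mul_inv,
    Finset.filter_false_of_mem, Finset.card_empty, Nat.cast_zero, mul_zero]
  intro g _ e
  have h1 := isPPart_conj (D.isPPart_pw ha (Finset.mem_filter.1 hu).2) g
  rw [e] at h1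
  have h2 := isPPart_unique hp.out h1 (isPPart_one_of_regular (by rwa [orderOf_inv]))
  rw [conj_eq_one_iff] at h2
  exact hp.out.one_lt.ne (by rw [← D.ord_pw ha, h2, orderOf_one])

/-! ### The normalizer -/

/-- The normalizer of `⟨y⟩`. -/
abbrev nrm : Subgroup G := Subgroup.normalizer ((Subgroup.zpowers D.y : Subgroup G) : Set G)

theorem exists_exp (g : D.nrm) : ∃ i : ℕ, D.y ^ i = (g : G) * D.y * (g : G)⁻¹ :=
  (isOfFinOrder_of_finite D.y).mem_powers_iff_mem_zpowers.2
    ((Subgroup.mem_normalizer_iff.1 g.2 _).1 (Subgroup.mem_zpowers D.y))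

/-- The action on `⟨y⟩`. -/
noncomputable def act : D.nrm →* (ZMod p)ˣ :=
  MonoidHom.toHomUnits
    { toFun := fun g => ((D.exists_exp g).choose : ZMod p)
      map_one' := D.pw_inj (by
        rw [D.pw_eq, (D.exists_exp 1).choose_spec, ZMod.val_one, pow_one]; simp)
      map_mul' := fun a c => D.pw_inj (by
        rw [← Nat.cast_mul, D.pw_eq, D.pw_eq, (D.exists_exp (a * c)).choose_spec, pow_mul,
          (D.exists_exp a).choose_spec, conj_pow, (D.exists_exp c).choose_spec]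
        simp [mul_assoc]) }

theorem conj_pw (g : D.nrm) (a : ZMod p) :
    (g : G) * D.y ^ a.val * (g : G)⁻¹ = D.y ^ ((D.act g : ZMod p) * a).val := by
  rw [← conj_pow, show (g : G) * D.y * (g : G)⁻¹ = D.y ^ (D.act g : ZMod p).val from
    ((D.exists_exp g).choose_spec.symm.trans (D.pw_eq _).symm), D.pw_mul]

theorem conj_mem (g : D.nrm) {c : G} (hc : c ∈ cy D.y) : (g : G) * c * (g : G)⁻¹ ∈ cy D.y := by
  rw [D.cy_pw (Units.ne_zero (D.act g)), Subgroup.mem_centralizer_singleton_iff]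
  have h1 := D.conj_pw g 1
  rw [mul_one, ZMod.val_one, pow_one] at h1
  rw [← h1]
  have h2 : c * D.y = D.y * c := Subgroup.mem_centralizer_singleton_iff.1 hc
  simp only [mul_assoc, inv_mul_cancel_left]
  rw [← mul_assoc c, h2, mul_assoc]

/-- Conjugation on the centralizer. -/
noncomputable def cK (g : D.nrm) : cy D.y ≃* cy D.y where
  toFun c := ⟨(g : G) * c * (g : G)⁻¹, D.conj_mem g c.2⟩
  invFun c := ⟨(g : G)⁻¹ * c * (g : G), by simpa using D.conj_mem g⁻¹ c.2⟩
  left_inv c := Subtype.ext (by simp [mul_assoc])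
  right_inv c := Subtype.ext (by simp [mul_assoc])
  map_mul' c d := Subtype.ext (by simp [mul_assoc])

theorem coe_cK (g : D.nrm) (c : cy D.y) : (D.cK g c : G) = (g : G) * c * (g : G)⁻¹ := rfl

theorem relabel_mul (g h : D.nrm) (φ : IrrCharacter (cy D.y)) :
    irrRelabel (D.cK g) (irrRelabel (D.cK h) φ) = irrRelabel (D.cK (h * g)) φ :=
  Subtype.ext (funext fun x => congrArg (φ : cy D.y → ℂ) (Subtype.ext (by
    simp [coe_cK, mul_assoc])))

/-- The stabilizer of the block. -/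
noncomputable def stab : Subgroup D.nrm where
  carrier := {g | irrRelabel (D.cK g) D.θ ∈ D.b}
  one_mem' := by
    show irrRelabel (D.cK 1) D.θ ∈ D.b
    rw [show irrRelabel (D.cK 1) D.θ = D.θ from Subtype.ext (funext fun x =>
      congrArg (D.θ : cy D.y → ℂ) (Subtype.ext (by simp [coe_cK])))]
    exact D.hθ
  mul_mem' {g h} hg hh := by
    show irrRelabel (D.cK (g * h)) D.θ ∈ D.b
    rw [← D.relabel_mul h g]
    exact (IsPBlock.mem_iff D.hM D.ind.1 hh).2
      (sameBlock_irrRelabel (D.cK h) (IsPBlock.sameBlock D.hM D.ind.1 D.hθ hg))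
  inv_mem' {g} hg := by
    show irrRelabel (D.cK g⁻¹) D.θ ∈ D.b
    have h1 : irrRelabel (D.cK g⁻¹) (irrRelabel (D.cK g) D.θ) = D.θ := by
      rw [D.relabel_mul, mul_inv_cancel]
      exact Subtype.ext (funext fun x =>
        congrArg (D.θ : cy D.y → ℂ) (Subtype.ext (by simp [coe_cK])))
    refine (IsPBlock.mem_iff D.hM D.ind.1 D.hθ).2 (SameBlock_symm ?_)
    have h2 := sameBlock_irrRelabel (M := M) (D.cK g⁻¹)
      (IsPBlock.sameBlock D.hM D.ind.1 D.hθ hg)
    rwa [h1] at h2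

/-- The inertial automizer. -/
noncomputable def autE : Subgroup (ZMod p)ˣ := D.stab.map D.act

theorem act_eq_one_iff (g : D.nrm) : D.act g = 1 ↔ (g : G) ∈ cy D.y := by
  have h1 := D.conj_pw g 1
  rw [mul_one, ZMod.val_one, pow_one] at h1
  rw [Subgroup.mem_centralizer_singleton_iff, ← mul_inv_eq_iff_eq_mul, h1, Units.ext_iff,
    Units.val_one]
  refine ⟨fun h => by rw [h, ZMod.val_one, pow_one], fun h => D.pw_inj ?_⟩
  rw [h, ZMod.val_one, pow_one]

theorem relabel_of_cent {g : D.nrm} (hg : (g : G) ∈ cy D.y) (φ : IrrCharacter (cy D.y)) :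
    irrRelabel (D.cK g) φ = φ := Subtype.ext (funext fun x => by
  rw [irrRelabel_apply, show D.cK g x = (⟨_, hg⟩ : cy D.y) * x * (⟨_, hg⟩ : cy D.y)⁻¹ from
    Subtype.ext rfl, irr_conj_apply])

theorem card_fiber (u : (ZMod p)ˣ) :
    ((Finset.univ.filter fun g : D.nrm => D.act g = u ∧ g ∈ D.stab).card : ℂ)
      = if u ∈ D.autE then (Nat.card (cy D.y) : ℂ) else 0 := by
  split_ifs with hu
  · obtain ⟨g₀, hg₀, rfl⟩ := hu
    rw [Nat.card_eq_fintype_card, ← Finset.card_univ, Nat.cast_inj]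
    refine (Finset.card_bij (fun (c : cy D.y) _ => g₀ * (⟨c, ?_⟩ : D.nrm)) ?_ ?_ ?_).symm
    · exact centralizer_le_normalizer _ (by rw [centralizer_zpowers]; exact c.2)
    · intro c _
      refine Finset.mem_filter.2 ⟨Finset.mem_univ _, ?_, mul_mem hg₀ ?_⟩
      · rw [map_mul, (D.act_eq_one_iff ⟨(c : G), _⟩).2 c.2, mul_one]
      · show irrRelabel (D.cK _) D.θ ∈ D.b
        rw [D.relabel_of_cent c.2]; exact D.hθ
    · intro c _ d _ h
      exact Subtype.ext (congrArg (fun x : D.nrm => (x : G)) (mul_left_cancel h) :)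
    · intro g hg
      obtain ⟨-, hga, -⟩ := Finset.mem_filter.1 hg
      exact ⟨⟨(g₀⁻¹ * g : D.nrm), (D.act_eq_one_iff _).1 (by rw [map_mul, map_inv, hga, inv_mul_cancel])⟩,
        Finset.mem_univ _, mul_inv_cancel_left g₀ g⟩
  · rw [Finset.filter_false_of_mem, Finset.card_empty, Nat.cast_zero]
    exact fun g _ h => hu ⟨g, h.2, h.1⟩

theorem sum_regular_relabel (g : D.nrm) :
    ∑ u : cy D.y with IsPRegular p u, (irrRelabel (D.cK g) D.θ : cy D.y → ℂ) u *
      (D.θ : cy D.y → ℂ) u⁻¹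
      = if g ∈ D.stab then (Nat.card (cy D.y) : ℂ) * (p : ℂ)⁻¹ else 0 := by
  have hK : (Nat.card (cy D.y) : ℂ) ≠ 0 := CfsgLib.Char.card_ne_zero
  have hp0 : (p : ℂ) ≠ 0 := Nat.cast_ne_zero.2 hp.out.ne_zero
  have h := D.classInner_tot_regular (irrRelabel (D.cK g) D.θ : cy D.y → ℂ)
  have h2 : classInner (irrRelabel (D.cK g) D.θ : cy D.y → ℂ) D.tot
      = if g ∈ D.stab then 1 else 0 := by
    rw [classInner_tot]
    simp only [CfsgLib.Char.classInner_irrCharacter, mul_ite, mul_one, mul_zero,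
      Finset.sum_ite_eq, Finset.mem_univ, if_true]
    show blockInd D.b _ = if irrRelabel (D.cK g) D.θ ∈ D.b then (1 : ℂ) else 0
    rfl
  rw [h2] at h
  split_ifs at h ⊢
  · field_simp at h ⊢
    linear_combination -h
  · exact (mul_eq_zero.1 h.symm).resolve_left (mul_ne_zero hp0 (inv_ne_zero hK))

theorem sum_sec_mul_conj (a c : (ZMod p)ˣ) :
    ∑ χ : IrrCharacter G, D.sec χ (a : ZMod p) * conj (D.sec χ (c : ZMod p))
      = if c * a⁻¹ ∈ D.autE then (p : ℂ) else 0 := by
  have hK : (Nat.card (cy D.y) : ℂ) ≠ 0 := CfsgLib.Char.card_ne_zero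
  set R := Finset.univ.filter fun u : cy D.y => IsPRegular p u with hR
  set κ : ℂ := (p : ℂ) * (Nat.card (cy D.y) : ℂ)⁻¹ with hκ
  have e1 : ∀ χ : IrrCharacter G, D.sec χ (a : ZMod p) * conj (D.sec χ (c : ZMod p)) = κ * κ *
      ∑ u ∈ R, ∑ v ∈ R, (D.θ : cy D.y → ℂ) u⁻¹ * (D.θ : cy D.y → ℂ) v *
        ((χ : G → ℂ) (D.y ^ (a : ZMod p).val * (u : G)) *
          (χ : G → ℂ) (D.y ^ (c : ZMod p).val * (v : G))⁻¹) := by
    intro χ
    simp only [D.sec_eq_regular, ← hκ, ← hR, map_mul, map_sum]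
    rw [show conj κ = κ by simp [hκ], mul_mul_mul_comm, Finset.sum_mul_sum]
    congr 1
    refine Finset.sum_congr rfl fun u _ => Finset.sum_congr rfl fun v _ => ?_
    rw [conj_irr χ, conj_irr D.θ, inv_inv]; ring
  simp only [e1, ← Finset.mul_sum]
  rw [Finset.sum_comm]
  simp only [Finset.sum_comm (s := (Finset.univ : Finset (IrrCharacter G))), ← Finset.mul_sum,
    sum_irr_mul_inv]
  have hcard : ∀ u ∈ R, ∀ v ∈ R,
      ((Finset.univ.filter fun g : G => g * (D.y ^ (a : ZMod p).val * (u : G)) * g⁻¹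
        = D.y ^ (c : ZMod p).val * (v : G)).card : ℂ)
      = ∑ g : D.nrm, if D.act g = c * a⁻¹ ∧ D.cK g u = v then (1 : ℂ) else 0 := by
    intro u hu v hv
    rw [Finset.sum_boole, Nat.cast_inj]
    symm
    refine Finset.card_bij (fun (g : D.nrm) _ => (g : G)) (fun g hg => ?_)
      (fun g _ g' _ e => Subtype.ext e) fun g hg => ?_
    · obtain ⟨-, hga, hgu⟩ := Finset.mem_filter.1 hg
      refine Finset.mem_filter.2 ⟨Finset.mem_univ _, ?_⟩
      rw [← conj_mul, D.conj_pw, hga, ← hgu, Units.val_mul, mul_assoc,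
        show ((a⁻¹ : (ZMod p)ˣ) : ZMod p) * (a : ZMod p) = 1 by
          rw [← Units.val_mul, inv_mul_cancel, Units.val_one], mul_one]
      rfl
    · have he := (Finset.mem_filter.1 hg).2
      have h1 := isPPart_conj (D.isPPart_pw a.ne_zero (Finset.mem_filter.1 hu).2) g
      rw [he] at h1
      have h2 := isPPart_unique hp.out h1 (D.isPPart_pw c.ne_zero (Finset.mem_filter.1 hv).2)
      have hgN : g ∈ D.nrm := by
        refine mem_normalizer_of_conj D.ord (a := D.y ^ (a : ZMod p).val) ?_ ?_ ?_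
        · exact pow_mem (Subgroup.mem_zpowers _) _
        · intro e1; exact absurd (congrArg orderOf e1) (by
            rw [D.ord_pw a.ne_zero, orderOf_one]; exact hp.out.one_lt.ne')
        · rw [h2]; exact pow_mem (Subgroup.mem_zpowers _) _
      refine ⟨⟨g, hgN⟩, Finset.mem_filter.2 ⟨Finset.mem_univ _, ?_, ?_⟩, rfl⟩
      · have h3 := D.conj_pw ⟨g, hgN⟩ (a : ZMod p)
        rw [h2] at h3
        rw [eq_mul_inv_iff_mul_eq, Units.ext_iff, Units.val_mul]
        exact (D.pw_inj h3).symm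
      · refine Subtype.ext (mul_left_cancel (a := D.y ^ (c : ZMod p).val) ?_)
        rw [coe_cK]
        conv_lhs => rw [← h2]
        rw [← he]; exact conj_mul
  rw [Finset.sum_congr rfl fun u hu => Finset.sum_congr rfl fun v hv => by rw [hcard u hu v hv]]
  simp only [Finset.mul_sum (s := (Finset.univ : Finset D.nrm))]
  rw [Finset.sum_congr rfl fun u (_ : u ∈ R) => Finset.sum_comm, Finset.sum_comm]
  rw [Finset.sum_congr rfl (g := fun g : D.nrm =>
    if D.act g = c * a⁻¹ ∧ g ∈ D.stab then (Nat.card (cy D.y) : ℂ) * (p : ℂ)⁻¹ else 0)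
    fun g _ => ?_, ← Finset.sum_filter, Finset.sum_const, nsmul_eq_mul, D.card_fiber]
  · have hp0 : (p : ℂ) ≠ 0 := Nat.cast_ne_zero.2 hp.out.ne_zero
    split_ifs
    · rw [hκ]; field_simp
    · rw [zero_mul, mul_zero]
  · by_cases hg : D.act g = c * a⁻¹
    · simp only [hg, true_and]
      rw [Finset.sum_congr rfl (g := fun u => (irrRelabel (D.cK g) D.θ : cy D.y → ℂ) u *
        (D.θ : cy D.y → ℂ) u⁻¹) fun u hu => ?_, D.sum_regular_relabel g]
      · rw [Finset.sum_eq_single (D.cK g u)]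
        · rw [if_pos rfl, irrRelabel_apply]; ring
        · intro v _ hne
          rw [if_neg (Ne.symm hne)]; ring
        · intro h
          refine absurd (Finset.mem_filter.2 ⟨Finset.mem_univ _, ?_⟩) h
          show ¬ p ∣ orderOf (D.cK g u)
          rw [(D.cK g).orderOf_eq]
          exact (Finset.mem_filter.1 hu).2
    · simp [hg]
where
  mem_normalizer_of_conj {y g a : G} (hy : orderOf y = p) (ha : a ∈ Subgroup.zpowers y)
      (ha1 : a ≠ 1) (h : g * a * g⁻¹ ∈ Subgroup.zpowers y) :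
      g ∈ Subgroup.normalizer ((Subgroup.zpowers y : Subgroup G) : Set G) := by
    haveI : Fact (Nat.card (Subgroup.zpowers y)).Prime :=
      ⟨by rw [Nat.card_zpowers, hy]; exact hp.out⟩
    have hgen : Subgroup.zpowers a = Subgroup.zpowers y := by
      refine Subgroup.eq_of_le_of_card_ge (Subgroup.zpowers_le.2 ha) ?_
      rw [Nat.card_zpowers, Nat.card_zpowers, hy, Nat.le_iff_lt_or_eq]
      right
      have hd := Subgroup.card_dvd_of_le (Subgroup.zpowers_le.2 ha)
      rw [Nat.card_zpowers, Nat.card_zpowers, hy] at hd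
      rcases (Nat.dvd_prime hp.out).1 hd with e | e
      · exact absurd (orderOf_eq_one_iff.1 e) ha1
      · exact e.symm
    rw [← hgen] at h ⊢
    obtain ⟨i, hi⟩ := Subgroup.mem_zpowers_iff.1 h
    refine mem_normalizer_of_finite' fun n hn => ?_
    obtain ⟨j, rfl⟩ := Subgroup.mem_zpowers_iff.1 hn
    rw [← conj_zpow, ← hi]
    exact zpow_mem (zpow_mem (Subgroup.mem_zpowers a) _) _
  mem_normalizer_of_finite' {H : Subgroup G} {g : G} (h : ∀ n ∈ H, g * n * g⁻¹ ∈ H) :
      g ∈ Subgroup.normalizer (H : Set G) := by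
    refine Subgroup.mem_normalizer_fintype fun n hn => h n hn

/-- The inner products of the differences. -/
theorem sum_diff_mul (k l : (ZMod p)ˣ) :
    ∑ χ : IrrCharacter G, D.diff χ k * D.diff χ l
      = (Nat.card D.autE : ℤ) + if k⁻¹ * l ∈ D.autE then 1 else 0 := by
  apply Int.cast_injective (α := ℂ)
  have hp0 : (p : ℂ) ≠ 0 := Nat.cast_ne_zero.2 hp.out.ne_zero
  rw [Int.cast_sum]
  have e1 : ∀ χ : IrrCharacter G, ((D.diff χ k * D.diff χ l : ℤ) : ℂ) = (p : ℂ)⁻¹ * (p : ℂ)⁻¹ *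
      ∑ a : ZMod p, ∑ c : ZMod p, (1 - ZMod.stdAddChar (-((k : ZMod p) * a))) *
        (1 - ZMod.stdAddChar ((l : ZMod p) * c)) * (D.sec χ a * conj (D.sec χ c)) := by
    intro χ
    have hr : ((D.diff χ l : ℤ) : ℂ) = conj ((D.diff χ l : ℤ) : ℂ) := (map_intCast _ _).symm
    rw [Int.cast_mul, hr, cast_diff, cast_diff]
    simp only [map_mul, map_inv₀, map_natCast, map_sum, map_sub, map_one]
    rw [mul_mul_mul_comm, Finset.sum_mul_sum]
    congr 1
    refine Finset.sum_congr rfl fun a _ => Finset.sum_congr rfl fun c _ => ?_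
    rw [D.conj_std, neg_neg]
    ring
  simp only [e1, ← Finset.mul_sum]
  rw [Finset.sum_comm, Finset.sum_congr rfl (g := fun a : ZMod p => ∑ c : ZMod p,
    (1 - ZMod.stdAddChar (-((k : ZMod p) * a))) * (1 - ZMod.stdAddChar ((l : ZMod p) * c)) *
      (∑ χ : IrrCharacter G, D.sec χ a * conj (D.sec χ c))) fun a _ => by
    rw [Finset.sum_comm]
    exact Finset.sum_congr rfl fun c _ => (Finset.mul_sum _ _ _).symm]
  have e2 : ∀ a : ZMod p, ∑ c : ZMod p, (1 - ZMod.stdAddChar (-((k : ZMod p) * a))) *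
      (1 - ZMod.stdAddChar ((l : ZMod p) * c)) * (∑ χ : IrrCharacter G, D.sec χ a * conj (D.sec χ c))
      = (p : ℂ) * ∑ ε : D.autE, (1 - ZMod.stdAddChar (-((k : ZMod p) * a))) *
          (1 - ZMod.stdAddChar ((l : ZMod p) * (((ε : (ZMod p)ˣ) : ZMod p) * a))) := by
    intro a
    by_cases ha : a = 0
    · simp [ha]
    rw [Finset.mul_sum, ← Finset.sum_subset (Finset.subset_univ
      (Finset.image (fun ε : D.autE => ((ε : (ZMod p)ˣ) : ZMod p) * a) Finset.univ)) fun c _ hc => ?_,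
      Finset.sum_image fun ε _ ε' _ e => Subtype.ext (Units.ext (mul_right_cancel₀ ha e))]
    · refine Finset.sum_congr rfl fun ε _ => ?_
      have h := D.sum_sec_mul_conj (Units.mk0 a ha) ((ε : (ZMod p)ˣ) * Units.mk0 a ha)
      rw [Units.val_mk0, Units.val_mul, Units.val_mk0,
        if_pos (by rw [mul_inv_cancel_right]; exact ε.2)] at h
      rw [h]; ring
    · by_cases hc0 : c = 0
      · simp [hc0]
      have h := D.sum_sec_mul_conj (Units.mk0 a ha) (Units.mk0 c hc0)
      rw [Units.val_mk0, Units.val_mk0, if_neg] at h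
      · rw [h, mul_zero]
      · intro hm
        refine hc (Finset.mem_image.2 ⟨⟨_, hm⟩, Finset.mem_univ _, ?_⟩)
        simp [ha]
  rw [Finset.sum_congr rfl fun a _ => e2 a, ← Finset.mul_sum, Finset.sum_comm]
  have e3 : ∀ ε : D.autE, ∑ a : ZMod p, (1 - ZMod.stdAddChar (-((k : ZMod p) * a))) *
      (1 - ZMod.stdAddChar ((l : ZMod p) * (((ε : (ZMod p)ˣ) : ZMod p) * a)))
      = (p : ℂ) + if k = l * ε then (p : ℂ) else 0 := by
    intro ε
    simp only [sub_mul, mul_sub, one_mul, mul_one, Finset.sum_sub_distrib, Finset.sum_const,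
      Finset.card_univ, ZMod.card, nsmul_eq_mul, ← neg_mul, ← AddChar.map_add_eq_mul, ← mul_assoc,
      ← add_mul, D.sum_std']
    rw [if_neg (mul_ne_zero (Units.ne_zero l) (Units.ne_zero _)),
      if_neg (neg_ne_zero.2 (Units.ne_zero k)), sub_zero, zero_sub, sub_neg_eq_add,
      if_congr (show (-(k : ZMod p) + (l : ZMod p) * ((ε : (ZMod p)ˣ) : ZMod p) = 0) ↔ k = l * ε by
        rw [neg_add_eq_zero, Units.ext_iff, Units.val_mul]) rfl rfl]
  rw [Finset.sum_congr rfl fun ε _ => e3 ε, Finset.sum_add_distrib, Finset.sum_const,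
    Finset.card_univ, nsmul_eq_mul, ← Nat.card_eq_fintype_card]
  have e4 : ∑ ε : D.autE, (if k = l * ε then (p : ℂ) else 0)
      = if k⁻¹ * l ∈ D.autE then (p : ℂ) else 0 := by
    split_ifs with h
    · rw [Finset.sum_eq_single (⟨l⁻¹ * k, by simpa using D.autE.inv_mem h⟩ : D.autE), if_pos (by simp)]
      · intro ε _ hne
        rw [if_neg]
        intro e
        exact hne (Subtype.ext (show (ε : (ZMod p)ˣ) = l⁻¹ * k from eq_inv_mul_iff_mul_eq.2 e.symm))
      · exact fun h' => absurd (Finset.mem_univ _) h'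
    · refine Finset.sum_eq_zero fun ε _ => if_neg fun e => h ?_
      rw [e, mul_inv_rev, mul_assoc, inv_mul_cancel, mul_one]
      exact D.autE.inv_mem ε.2
  rw [e4]
  push_cast
  split_ifs <;> field_simp <;> ring

/-! ### Values at singular elements -/

/-- A combination orthogonal to the coefficients vanishes at singular elements. -/
theorem sum_apply_singular (w : IrrCharacter G → ℂ) (hw : ∀ χ ∉ B, w χ = 0)
    (hsec : ∀ a : ZMod p, a ≠ 0 → ∑ χ, w χ * D.sec χ a = 0) {g : G} (hg : p ∣ orderOf g) :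
    ∑ χ : IrrCharacter G, w χ * (χ : G → ℂ) g = 0 := by
  have hB : IsPBlock M B := D.ind.2.1
  obtain ⟨x, s, hpart, hxs, hcomm, hs, hxk, -⟩ := exists_isPPart hp.out g
  by_cases hmem : ∃ D' : Subgroup G, IsDefectGroup p M B D' ∧ x ∈ D'
  · obtain ⟨D', hD', hxD'⟩ := hmem
    obtain ⟨t, rfl⟩ := exists_conj_eq_defectGroup D.hM hB D.hD hD'
    obtain ⟨x₀, hx₀, hx₀x⟩ := hxD'
    obtain ⟨i, rfl⟩ : x₀ ∈ Submonoid.powers D.y :=
      (isOfFinOrder_of_finite D.y).mem_powers_iff_mem_zpowers.2 hx₀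
    change D.y ^ i ∈ Subgroup.zpowers D.y at hx₀
    simp only [MulEquiv.toMonoidHom_eq_coe, MonoidHom.coe_coe, MulAut.conj_apply] at hx₀x
    set a : ZMod p := (i : ZMod p) with ha'
    have ha : a ≠ 0 := fun h => by
      refine hs (?_ : p ∣ orderOf s)
      have h1 : x = 1 := by
        rw [← hx₀x, ← D.pw_eq i, ← ha', h, ZMod.val_zero, pow_zero, mul_one, mul_inv_cancel]
      rwa [← hxs, h1, one_mul] at hg
    -- move to `y ^ a`
    have hconjg : ∀ χ : IrrCharacter G,
        (χ : G → ℂ) g = (χ : G → ℂ) (D.y ^ a.val * (t⁻¹ * s * t)) := fun χ => by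
      rw [← irr_conj_apply χ g t⁻¹, inv_inv, ← hxs, ha', D.pw_eq, ← hx₀x]
      congr 1
      simp [mul_assoc]
    have hsK : t⁻¹ * s * t ∈ cy D.y := by
      rw [D.cy_pw ha, Subgroup.mem_centralizer_singleton_iff, ha', D.pw_eq]
      have hc : Commute (t * D.y ^ i * t⁻¹) s := hx₀x ▸ hcomm
      have := congrArg (fun r => t⁻¹ * r * t) hc.eq
      simp only [mul_assoc, inv_mul_cancel_left, inv_mul_cancel, mul_one] at this ⊢
      exact this.symm
    have hsr : ¬ p ∣ orderOf (⟨_, hsK⟩ : cy D.y) := by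
      have e : orderOf (t⁻¹ * s * t) = orderOf s := by
        have := (MulAut.conj t⁻¹).orderOf_eq s
        simpa using this
      rw [← Subgroup.orderOf_coe]
      show ¬ p ∣ orderOf (t⁻¹ * s * t)
      rwa [e]
    set S := sectionSet M (cy D.y) B
    set F : cy D.y → ℂ := fun c => ∑ χ : IrrCharacter G, w χ * (χ : G → ℂ) (D.y ^ a.val * (c : G))
    have hval : ∑ χ : IrrCharacter G, w χ * (χ : G → ℂ) g
        = ∑ ψ : IrrCharacter (cy D.y), blockInd S ψ *
            (classInner F (ψ : cy D.y → ℂ) * (ψ : cy D.y → ℂ) ⟨_, hsK⟩) := by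
      rw [show F = ∑ χ : IrrCharacter G, w χ • fun c : cy D.y =>
        (χ : G → ℂ) (D.y ^ a.val * (c : G)) from funext fun c => by simp [F]]
      simp only [CfsgLib.Char.classInner_sum_left, CfsgLib.Char.classInner_smul_left,
        Finset.sum_mul, Finset.mul_sum]
      rw [Finset.sum_comm]
      refine Finset.sum_congr rfl fun χ _ => ?_
      by_cases hχ : χ ∈ B
      · have h := blockPart_sectionSet D.hM (D.cy_pw ha) (D.ppow_pw ha) hB χ hsr
        rw [blockInd_of_mem hχ, one_mul, blockPart_eq_sum] at h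
        rw [hconjg, show D.y ^ a.val * (t⁻¹ * s * t)
          = D.y ^ a.val * ((⟨_, hsK⟩ : cy D.y) : G) from rfl, ← h, Finset.mul_sum]
        exact Finset.sum_congr rfl fun ψ _ => by ring
      · rw [hw χ hχ, zero_mul]
        symm
        exact Finset.sum_eq_zero fun ψ _ => by ring
    rw [hval]
    simp only [blockInd_sectionSet, S]
    rw [sum_eq_sum_blocks D.hM (fun b' => if IsInducedBlock M (cy D.y) b' B then (1 : ℂ) else 0)]
    refine Finset.sum_eq_zero fun b' _ => ?_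
    by_cases hind : IsInducedBlock M (cy D.y) b' B
    swap
    · rw [if_neg hind, zero_mul]
    rw [if_pos hind, one_mul]
    have hK := centralizer_zpowers D.y
    obtain ⟨n, hn, hmap⟩ := exists_conj_of_induced_local D.hM D.hD
      (Subgroup.zpowers_le.2 D.mem_cy) hK.le (hK.symm.le.trans (centralizer_le_normalizer _))
      (fun n hn x hx => D.conj_mem ⟨n, hn⟩ hx) D.ind hind
    set g' : D.nrm := ⟨n, hn⟩
    obtain ⟨θ', hθ', hθ'v⟩ := hmap D.θ D.hθ
    have hθ'eq : θ' = irrRelabel (D.cK g') D.θ :=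
      Subtype.ext (funext fun x => hθ'v x (D.conj_mem g' x.2))
    let e : IrrCharacter (cy D.y) ≃ IrrCharacter (cy D.y) :=
      ⟨irrRelabel (D.cK g'), irrRelabel (D.cK g'⁻¹),
        fun φ => by rw [D.relabel_mul, mul_inv_cancel]; exact relabel_one φ,
        fun φ => by rw [D.relabel_mul, inv_mul_cancel]; exact relabel_one φ⟩
    have hind' : ∀ φ, blockInd b' (e φ) = blockInd D.b φ := by
      intro φ
      by_cases hφ : φ ∈ D.b
      · rw [blockInd_of_mem hφ, blockInd_of_mem]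
        refine (IsPBlock.mem_iff D.hM hind.1 hθ').2 ?_
        rw [hθ'eq]
        exact sameBlock_irrRelabel (D.cK g') (IsPBlock.sameBlock D.hM D.ind.1 D.hθ hφ)
      · rw [blockInd_of_notMem hφ, blockInd_of_notMem]
        intro hm
        refine hφ ((IsPBlock.mem_iff D.hM D.ind.1 D.hθ).2 ?_)
        have h2 := sameBlock_irrRelabel (M := M) (D.cK g'⁻¹)
          (IsPBlock.sameBlock D.hM hind.1 hθ' hm)
        rw [hθ'eq, show irrRelabel (D.cK g'⁻¹) (irrRelabel (D.cK g') D.θ) = D.θ from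
          e.left_inv D.θ, show irrRelabel (D.cK g'⁻¹) (e φ) = φ from e.left_inv φ] at h2
        exact h2
    rw [← e.sum_comp]
    simp only [hind']
    have hs' : ¬ p ∣ orderOf (D.cK g' ⟨_, hsK⟩) := by rwa [(D.cK g').orderOf_eq]
    rw [Finset.sum_congr rfl (g := fun φ : IrrCharacter (cy D.y) => (D.θ : cy D.y → ℂ)
      (D.cK g' ⟨_, hsK⟩) * (blockInd D.b φ * classInner F (e φ : cy D.y → ℂ))) fun φ _ => by
        by_cases hφ : φ ∈ D.b
        · rw [show (e φ : cy D.y → ℂ) ⟨_, hsK⟩ = (φ : cy D.y → ℂ) (D.cK g' ⟨_, hsK⟩) from rfl,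
            D.agree hφ hs']; ring
        · rw [blockInd_of_notMem hφ]; ring, ← Finset.mul_sum]
    refine mul_eq_zero_of_right _ ?_
    -- transport the coefficient
    set a' : ZMod p := (D.act g' : ZMod p) * a
    have ha'0 : a' ≠ 0 := mul_ne_zero (Units.ne_zero _) ha
    have hF : ∀ φ : IrrCharacter (cy D.y), classInner F (e φ : cy D.y → ℂ)
        = classInner (fun c : cy D.y => ∑ χ : IrrCharacter G, w χ *
            (χ : G → ℂ) (D.y ^ a'.val * (c : G))) (φ : cy D.y → ℂ) := by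
      intro φ
      rw [show (e φ : cy D.y → ℂ) = (φ : cy D.y → ℂ) ∘ D.cK g' from rfl,
        ← CfsgLib.Char.classInner_reindex (D.cK g')
          (fun c : cy D.y => ∑ χ : IrrCharacter G, w χ * (χ : G → ℂ) (D.y ^ a'.val * (c : G)))]
      congr 1
      funext c
      refine Finset.sum_congr rfl fun χ _ => ?_
      rw [coe_cK, ← D.conj_pw g' a, conj_mul, irr_conj_apply]
    simp only [hF]
    rw [← classInner_tot, ← hsec a' ha'0,
      show (fun c : cy D.y => ∑ χ : IrrCharacter G, w χ * (χ : G → ℂ) (D.y ^ a'.val * (c : G)))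
        = ∑ χ : IrrCharacter G, w χ • fun c : cy D.y => (χ : G → ℂ) (D.y ^ a'.val * (c : G))
      from funext fun c => by simp, CfsgLib.Char.classInner_sum_left]
    exact Finset.sum_congr rfl fun χ _ => CfsgLib.Char.classInner_smul_left _ _ _
  · push Not at hmem
    refine Finset.sum_eq_zero fun χ _ => ?_
    by_cases hχ : χ ∈ B
    · rw [char_eq_zero_of_not_mem_defectGroup D.hM hB hχ hpart hmem, mul_zero]
    · rw [hw χ hχ, zero_mul]
where
  relabel_one (φ : IrrCharacter (cy D.y)) : irrRelabel (D.cK 1) φ = φ :=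
    Subtype.ext (funext fun x => congrArg (φ : cy D.y → ℂ) (Subtype.ext (by simp [coe_cK])))

/-- A member of a block with another member has a nonzero coefficient. -/
theorem exists_sec_ne_zero {χ χ' : IrrCharacter G} (hχ : χ ∈ B) (hχ' : χ' ∈ B) (hne : χ ≠ χ') :
    ∃ a : ZMod p, a ≠ 0 ∧ D.sec χ a ≠ 0 := by
  obtain ⟨g, hg, hgne⟩ := SectionCentral.exists_singular_ne_zero D.hM D.ind.2.1 hχ hχ' hne
  by_contra hno
  push Not at hno
  refine hgne ?_
  have h := D.sum_apply_singular (fun φ => if φ = χ then 1 else 0)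
    (fun φ hφ => if_neg fun e => hφ (by rw [e]; exact hχ))
    (fun a ha => by simp [hno a ha]) hg
  simpa using h

end Data

/-! ### The functionals

Integral functionals on the restrictions of a block with defect group of order `p` to the `p`-regular
elements, with small square sum and large support. -/

set_option maxHeartbeats 1000000 in
/-- The functionals. -/
theorem exists_functionals (hM : IsPModular p M) {B : Set (IrrCharacter G)} (hB : IsPBlock M B)
    {y : G} (hy : orderOf y = p) (hD : IsDefectGroup p M B (Subgroup.zpowers y)) :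
    ∃ (I : Finset (IrrCharacter G × IrrCharacter G)) (n : ℕ)
      (u : IrrCharacter G × IrrCharacter G → IrrCharacter G → ℤ), 0 < n ∧
      (∀ i, ∀ χ ∉ B, u i χ = 0) ∧
      (∀ i ∈ I, ∀ g : G, p ∣ orderOf g → ∑ χ, (u i χ : ℂ) * (χ : G → ℂ) g = 0) ∧
      (∑ i ∈ I, ∑ χ, u i χ ^ 2 ≤ (n : ℤ) * p) ∧
      ∀ w : IrrCharacter G → ℂ, (∀ χ ∉ B, w χ = 0) →
        (∃ s : G, ¬ p ∣ orderOf s ∧ ∑ χ, w χ * (χ : G → ℂ) s ≠ 0) →
        n ≤ (I.filter fun i => ∑ χ, (u i χ : ℂ) * w χ ≠ 0).card := by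
  obtain ⟨D⟩ := exists_data hM hB hy hD
  set e := Nat.card D.autE with he
  have hdiffreg : ∀ (k : (ZMod p)ˣ) (s : G), ¬ p ∣ orderOf s →
      ∑ χ : IrrCharacter G, (D.diff χ k : ℂ) * (χ : G → ℂ) s = 0 := by
    intro k s hs
    simp only [D.cast_diff, Finset.mul_sum, Finset.sum_mul]
    rw [Finset.sum_comm]
    refine Finset.sum_eq_zero fun a _ => ?_
    by_cases ha : a = 0
    · simp [ha]
    rw [Finset.sum_congr rfl (g := fun χ : IrrCharacter G => (p : ℂ)⁻¹ *
      (1 - ZMod.stdAddChar (-((k : ZMod p) * a))) * (D.sec χ a * (χ : G → ℂ) s)) fun χ _ => by ring,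
      ← Finset.mul_sum, D.sum_sec_mul_apply ha hs, mul_zero]
  obtain ⟨ζ, δ, g, hδ, hζiff, hζc, hgconst, hζne⟩ := DefectOne.coherent D.autE
    (fun k χ => D.diff χ k) e (Nat.cast_nonneg _) D.sum_diff_mul
    fun k => hdiffreg k 1 (by rw [orderOf_one]; exact hp.out.not_dvd_one)
  have hδsq : δ * δ = 1 := by rcases hδ with h | h <;> rw [h] <;> norm_num
  have hdiff0 : ∀ χ, χ ∉ B → ∀ k : ZMod p, D.diff χ k = 0 := by
    intro χ hχ k
    apply Int.cast_injective (α := ℂ)
    rw [D.cast_diff, Int.cast_zero, Finset.sum_eq_zero, mul_zero]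
    intro a _
    by_cases ha : a = 0
    · simp [ha]
    · rw [D.sec_eq_zero_of_notMem hχ ha, zero_mul]
  have hζB : ∀ k, ζ k ∈ B := fun k => by
    by_contra hk
    obtain ⟨l, hl⟩ := hζne k
    exact hl (hdiff0 _ hk _)
  set Y := Finset.univ.image ζ with hYdef
  set η₀ := ζ 1 with hη₀
  set d := g η₀ with hd
  have hYmem : ∀ η, η ∈ Y ↔ ∃ k, ζ k = η := fun η => by simp [hYdef]
  have hη₀Y : η₀ ∈ Y := (hYmem _).2 ⟨1, rfl⟩
  have hgY : ∀ η ∈ Y, g η = d := fun η hη => by
    obtain ⟨k, rfl⟩ := (hYmem η).1 hη; exact hgconst k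
  set r := Y.card with hr
  set c : ℤ := (r : ℤ) * d - δ with hc
  have hg0 : ∀ χ, χ ∉ B → g χ = 0 := by
    intro χ hχ
    have h1 := hdiff0 χ hχ (1 : (ZMod p)ˣ)
    have h2 := hζc 1 χ
    rw [h1, if_neg (fun e1 : χ = ζ 1 => hχ (e1 ▸ hζB 1)), mul_zero, sub_zero] at h2
    exact h2.symm
  set X := Finset.univ.filter fun χ => χ ∈ B ∧ χ ∉ Y with hXdef
  have hXmem : ∀ χ, χ ∈ X ↔ χ ∈ B ∧ χ ∉ Y := fun χ => by simp [hXdef]
  have hdisj : Disjoint X Y := Finset.disjoint_left.2 fun χ hχ hY => ((hXmem χ).1 hχ).2 hY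
  have hXY : B.toFinset = X ∪ Y := by
    ext χ
    rw [Set.mem_toFinset, Finset.mem_union, hXmem]
    refine ⟨fun h => ?_, ?_⟩
    · by_cases hY : χ ∈ Y
      · exact Or.inr hY
      · exact Or.inl ⟨h, hY⟩
    · rintro (h | h)
      · exact h.1
      · obtain ⟨k, rfl⟩ := (hYmem χ).1 h; exact hζB k
  -- the coefficients on `Y` add up to `c`
  have hcY : ∀ k : (ZMod p)ˣ, ∑ η ∈ Y, D.diff η k = c := fun k => by
    simp only [hζc, Finset.sum_sub_distrib, ← Finset.mul_sum, Finset.sum_ite_eq',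
      if_pos ((hYmem _).2 ⟨k, rfl⟩), mul_one]
    rw [Finset.sum_congr rfl hgY, Finset.sum_const, nsmul_eq_mul, hc]
  have hcX : ∀ k : (ZMod p)ˣ, ∀ χ ∈ X, D.diff χ k = g χ := fun k χ hχ => by
    rw [hζc, if_neg fun e1 => ((hXmem χ).1 hχ).2 ((hYmem χ).2 ⟨k, e1.symm⟩), mul_zero, sub_zero]
  have hc0 : c ≠ 0 := by
    intro hc0
    have hrd : (r : ℤ) * d = δ := by linarith
    have hr1 : r = 1 := by
      have : (r : ℤ) ∣ 1 := ⟨d * δ, by rw [← mul_assoc, hrd, hδsq]⟩
      exact_mod_cast Int.eq_one_of_dvd_one (Int.natCast_nonneg r) this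
    obtain ⟨l, hl⟩ := hζne 1
    obtain ⟨η, hY1⟩ := Finset.card_eq_one.1 (hr ▸ hr1 : Y.card = 1)
    have h1 : ζ l = η₀ := by
      have a1 := hη₀Y
      have a2 : ζ l ∈ Y := (hYmem _).2 ⟨l, rfl⟩
      rw [hY1, Finset.mem_singleton] at a1 a2
      rw [a1, a2]
    refine hl ?_
    rw [← hη₀, hζc, if_pos h1.symm, mul_one, ← hd, ← hrd, hr1, Nat.cast_one, one_mul, sub_self]
  -- the relation at regular elements
  have hagree : ∀ η ∈ Y, ∀ s : G, ¬ p ∣ orderOf s → (η : G → ℂ) s = (η₀ : G → ℂ) s := by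
    intro η hη s hs
    obtain ⟨k, rfl⟩ := (hYmem η).1 hη
    have h1 := hdiffreg k s hs
    have h2 := hdiffreg 1 s hs
    simp only [hζc, Int.cast_sub, Int.cast_mul, sub_mul, Finset.sum_sub_distrib, Int.cast_ite,
      Int.cast_one, Int.cast_zero, mul_ite, mul_one, mul_zero, ite_mul, zero_mul,
      Finset.sum_ite_eq', Finset.mem_univ, if_true] at h1 h2
    refine mul_left_cancel₀ (?_ : (δ : ℂ) ≠ 0) (by rw [← hη₀] at h2; linear_combination h2 - h1)
    rcases hδ with hh | hh <;> rw [hh] <;> norm_num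
  have hsplit : ∀ F : IrrCharacter G → ℂ, (∀ χ ∉ B, F χ = 0) →
      ∑ χ, F χ = ∑ χ ∈ X, F χ + ∑ η ∈ Y, F η := fun F hF => by
    rw [← Finset.sum_union hdisj, ← hXY]
    exact (Finset.sum_subset (Finset.subset_univ _) fun χ _ hχ => hF χ (by simpa using hχ)).symm
  have hrel : ∀ s : G, ¬ p ∣ orderOf s →
      ∑ χ ∈ X, (g χ : ℂ) * (χ : G → ℂ) s + (c : ℂ) * (η₀ : G → ℂ) s = 0 := by
    intro s hs
    have h1 := hdiffreg 1 s hs
    rw [hsplit _ fun χ hχ => by rw [hdiff0 χ hχ, Int.cast_zero, zero_mul],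
      Finset.sum_congr rfl (s₁ := X) fun χ hχ => by rw [hcX 1 χ hχ],
      Finset.sum_congr rfl (s₁ := Y) fun η hη => by rw [hagree η hη s hs],
      ← Finset.sum_mul, ← Int.cast_sum, hcY] at h1
    exact h1
  have hXne : X.Nonempty := by
    by_contra hX
    rw [Finset.not_nonempty_iff_eq_empty] at hX
    have h1 := hrel 1 (by rw [orderOf_one]; exact hp.out.not_dvd_one)
    rw [hX, Finset.sum_empty, zero_add, mul_eq_zero] at h1
    rcases h1 with h1 | h1
    · exact hc0 (by exact_mod_cast h1)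
    · exact irr_one_ne_zero _ h1
  have hgne : ∀ χ ∈ X, g χ ≠ 0 := by
    intro χ hχ h0
    obtain ⟨a, ha, hne⟩ := D.exists_sec_ne_zero ((hXmem χ).1 hχ).1 (hζB 1)
      fun e1 => ((hXmem χ).1 hχ).2 (e1 ▸ hη₀Y)
    refine hne ?_
    rw [D.sec_eq_diff χ ha, neg_eq_zero]
    refine Finset.sum_eq_zero fun k _ => ?_
    by_cases hk : k = 0
    · rw [hk, D.diff_zero, Int.cast_zero, zero_mul]
    · have := hcX (Units.mk0 k hk) χ hχ
      rw [Units.val_mk0] at this
      rw [this, h0, Int.cast_zero, zero_mul]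
  -- vertices
  set V := insert η₀ X with hV
  have hη₀X : η₀ ∉ X := fun h => ((hXmem _).1 h).2 hη₀Y
  let π : IrrCharacter G → IrrCharacter G := fun χ => if χ ∈ Y then η₀ else χ
  let v : IrrCharacter G → ℤ := fun i => if i = η₀ then c else g i
  have hvne : ∀ i ∈ V, v i ≠ 0 := by
    intro i hi
    simp only [v]
    split_ifs with h
    · exact hc0
    · exact hgne i ((Finset.mem_insert.1 hi).resolve_left h)
  have hπX : ∀ χ ∈ X, π χ = χ := fun χ hχ => if_neg ((hXmem χ).1 hχ).2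
  have hπY : ∀ η ∈ Y, π η = η₀ := fun η hη => if_pos hη
  have hπV : ∀ χ ∈ B, π χ ∈ V := fun χ hχ => by
    by_cases hY : χ ∈ Y
    · rw [hπY χ hY]; exact Finset.mem_insert_self _ _
    · rw [hπX χ ((hXmem χ).2 ⟨hχ, hY⟩)]; exact Finset.mem_insert_of_mem ((hXmem χ).2 ⟨hχ, hY⟩)
  let u : IrrCharacter G × IrrCharacter G → IrrCharacter G → ℤ := fun i χ =>
    if χ ∈ B then (if π χ = i.1 then v i.2 else 0) - (if π χ = i.2 then v i.1 else 0) else 0
  set n := X.card with hn
  -- pairing with a vector supported on the block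
  have hpair : ∀ i ∈ V.offDiag, ∀ w : IrrCharacter G → ℂ, (∀ χ ∉ B, w χ = 0) →
      ∑ χ, (u i χ : ℂ) * w χ = (v i.2 : ℂ) * (∑ χ ∈ B.toFinset with π χ = i.1, w χ)
        - (v i.1 : ℂ) * (∑ χ ∈ B.toFinset with π χ = i.2, w χ) := by
    intro i _ w hw
    rw [Finset.sum_filter, Finset.sum_filter, Finset.mul_sum, Finset.mul_sum,
      ← Finset.sum_sub_distrib]
    refine (Finset.sum_subset (Finset.subset_univ B.toFinset) fun χ _ hχ => by
      rw [hw χ (by simpa using hχ), mul_zero]).symm.trans (Finset.sum_congr rfl fun χ hχ => ?_)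
    simp only [u, if_pos (Set.mem_toFinset.1 hχ)]
    push_cast
    split_ifs <;> ring
  have hfibX : ∀ i ∈ X, ∀ w : IrrCharacter G → ℂ,
      ∑ χ ∈ B.toFinset with π χ = i, w χ = w i := by
    intro i hi w
    rw [Finset.sum_eq_single i]
    · intro χ hχ hne
      obtain ⟨hχB, hπ⟩ := Finset.mem_filter.1 hχ
      by_cases hY : χ ∈ Y
      · exact absurd ((hπY χ hY).symm.trans hπ) fun e1 => hη₀X (e1 ▸ hi)
      · exact absurd ((hπX χ ((hXmem χ).2 ⟨Set.mem_toFinset.1 hχB, hY⟩)).symm.trans hπ) hne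
    · intro h
      exfalso
      apply h
      rw [Finset.mem_filter]
      exact ⟨Set.mem_toFinset.2 ((hXmem i).1 hi).1, hπX i hi⟩
  have hfibY : ∀ w : IrrCharacter G → ℂ,
      ∑ χ ∈ B.toFinset with π χ = η₀, w χ = ∑ η ∈ Y, w η := by
    intro w
    refine Finset.sum_congr ?_ fun _ _ => rfl
    ext χ
    rw [Finset.mem_filter, hXY, Finset.mem_union]
    refine ⟨fun h => h.1.resolve_left fun hX => hη₀X ?_, fun h => ⟨Or.inr h, hπY χ h⟩⟩
    rw [← h.2, hπX χ hX]; exact hX
  refine ⟨V.offDiag, 2 * n, u, by have := hXne.card_pos; omega, fun i χ hχ => if_neg hχ, ?_, ?_, ?_⟩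
  · -- vanishing at singular elements
    intro i hi g₁ hg₁
    refine D.sum_apply_singular (fun χ => (u i χ : ℂ))
      (fun χ hχ => by simp [u, hχ]) (fun a ha => ?_) hg₁
    rw [Finset.sum_congr rfl fun χ _ => by rw [D.sec_eq_diff χ ha, mul_neg, Finset.mul_sum],
      Finset.sum_neg_distrib, Finset.sum_comm, neg_eq_zero]
    refine Finset.sum_eq_zero fun k _ => ?_
    simp only [← mul_assoc]
    rw [← Finset.sum_mul]
    refine mul_eq_zero_of_left ?_ _
    by_cases hk : k = 0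
    · simp [hk, D.diff_zero]
    rw [hpair i hi (fun χ => (D.diff χ k : ℂ)) fun χ hχ => by rw [hdiff0 χ hχ, Int.cast_zero]]
    have hfib : ∀ j ∈ V, ∑ χ ∈ B.toFinset with π χ = j, (D.diff χ k : ℂ) = (v j : ℂ) := by
      intro j hj
      rw [show k = ((Units.mk0 k hk : (ZMod p)ˣ) : ZMod p) from rfl]
      rcases Finset.mem_insert.1 hj with rfl | hjX
      · rw [hfibY, ← Int.cast_sum, hcY]; simp [v]
      · rw [hfibX j hjX, hcX _ j hjX, Int.cast_inj]
        exact (if_neg fun e1 : j = η₀ => hη₀X (e1 ▸ hjX)).symm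
    rw [Finset.mem_offDiag] at hi
    rw [hfib i.1 hi.1, hfib i.2 hi.2.1]
    ring
  · -- the square sum
    set G₂ : ℤ := ∑ χ ∈ X, g χ ^ 2 with hG₂
    have hsq : ∑ j ∈ V, v j ^ 2 = G₂ + c ^ 2 := by
      rw [hV, Finset.sum_insert hη₀X, add_comm]
      congr 1
      · exact Finset.sum_congr rfl fun j hj => by
          simp only [v]; rw [if_neg fun e1 : j = η₀ => hη₀X (e1 ▸ hj)]
      · simp [v]
    have hone : ∀ χ ∈ B, ∑ i ∈ V.offDiag, u i χ ^ 2 = 2 * (∑ j ∈ V, v j ^ 2 - v (π χ) ^ 2) := by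
      intro χ hχ
      have h1 : ∀ i ∈ V.offDiag, u i χ ^ 2 = (if π χ = i.1 then v i.2 ^ 2 else 0)
          + (if π χ = i.2 then v i.1 ^ 2 else 0) := by
        intro i hi
        rw [Finset.mem_offDiag] at hi
        simp only [u, if_pos hχ]
        split_ifs with h1 h2
        · exact absurd (h1.symm.trans h2) hi.2.2
        all_goals ring
      rw [Finset.sum_congr rfl h1, Finset.sum_add_distrib, two_mul]
      have e1 : ∑ i ∈ V.offDiag, (if π χ = i.1 then v i.2 ^ 2 else 0)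
          = ∑ j ∈ V, v j ^ 2 - v (π χ) ^ 2 := by
        rw [← Finset.sum_filter, ← Finset.sum_erase_eq_sub (hπV χ hχ)]
        refine Finset.sum_bij (fun i _ => i.2) (fun i hi => ?_) (fun i hi i' hi' e1 => ?_)
          (fun j hj => ?_) fun _ _ => rfl
        · obtain ⟨h2, h3⟩ := Finset.mem_filter.1 hi
          rw [Finset.mem_offDiag] at h2
          exact Finset.mem_erase.2 ⟨fun e2 => h2.2.2 (by rw [e2, h3]), h2.2.1⟩
        · exact Prod.ext ((Finset.mem_filter.1 hi).2.symm.trans (Finset.mem_filter.1 hi').2) e1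
        · obtain ⟨hne, hjV⟩ := Finset.mem_erase.1 hj
          exact ⟨(π χ, j), Finset.mem_filter.2 ⟨Finset.mem_offDiag.2 ⟨hπV χ hχ, hjV, Ne.symm hne⟩,
            rfl⟩, rfl⟩
      have e2 : ∑ i ∈ V.offDiag, (if π χ = i.2 then v i.1 ^ 2 else 0)
          = ∑ i ∈ V.offDiag, (if π χ = i.1 then v i.2 ^ 2 else 0) :=
        Finset.sum_bij (fun i _ => (i.2, i.1))
          (fun i hi => by
            rw [Finset.mem_offDiag] at hi ⊢; exact ⟨hi.2.1, hi.1, hi.2.2.symm⟩)
          (fun i _ i' _ e1 => by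
            simp only [Prod.mk.injEq] at e1; exact Prod.ext e1.2 e1.1)
          (fun i hi => ⟨(i.2, i.1), by
            rw [Finset.mem_offDiag] at hi ⊢; exact ⟨hi.2.1, hi.1, hi.2.2.symm⟩, rfl⟩)
          fun i _ => rfl
      rw [e2, e1]
    rw [Finset.sum_comm, ← Finset.sum_subset (Finset.subset_univ B.toFinset) fun χ _ hχ =>
      Finset.sum_eq_zero fun i _ => by simp [u, show χ ∉ B by simpa using hχ],
      Finset.sum_congr rfl fun χ hχ => hone χ (Set.mem_toFinset.1 hχ), hXY,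
      Finset.sum_union hdisj, hsq,
      Finset.sum_congr rfl (s₁ := X) fun χ hχ => by
        rw [show v (π χ) = g χ by
          rw [hπX χ hχ]; simp only [v]; rw [if_neg fun e1 : χ = η₀ => hη₀X (e1 ▸ hχ)]],
      Finset.sum_congr rfl (s₁ := Y) fun η hη => by
        rw [show v (π η) = c by rw [hπY η hη]; simp [v]],
      ← Finset.mul_sum, Finset.sum_sub_distrib, Finset.sum_const, nsmul_eq_mul,
      Finset.sum_const, nsmul_eq_mul, ← hG₂, ← hn, ← hr]
    -- the fibres of `ζ`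
    have hfib : ∀ k, (Finset.univ.filter fun l => ζ l = ζ k).card = e := by
      intro k
      rw [he, Nat.card_eq_fintype_card, ← Finset.card_univ]
      refine Finset.card_bij'
        (fun l hl => (⟨k⁻¹ * l, (hζiff k l).1 (Finset.mem_filter.1 hl).2.symm⟩ : D.autE))
        (fun ε _ => k * (ε : (ZMod p)ˣ)) (fun l _ => Finset.mem_univ _)
        (fun ε _ => Finset.mem_filter.2 ⟨Finset.mem_univ _, ((hζiff _ _).2 (by
          rw [inv_mul_cancel_left]; exact ε.2)).symm⟩) ?_ ?_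
      · intro l _; exact mul_inv_cancel_left k l
      · intro ε _; exact Subtype.ext (inv_mul_cancel_left k (ε : (ZMod p)ˣ))
    have her : (e : ℤ) * r = (p : ℤ) - 1 := by
      have h1 := Finset.card_eq_sum_card_fiberwise (s := (Finset.univ : Finset (ZMod p)ˣ))
        (t := Y) (f := ζ) fun l _ => Finset.mem_image_of_mem _ (Finset.mem_univ l)
      rw [Finset.card_univ, ZMod.card_units, Finset.sum_congr rfl (g := fun _ => e) fun η hη => by
        obtain ⟨k, rfl⟩ := (hYmem η).1 hη; exact hfib k, Finset.sum_const, smul_eq_mul] at h1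
      rw [← Nat.cast_mul, show e * r = p - 1 by rw [h1, hr, mul_comm],
        Nat.cast_sub hp.out.one_le, Nat.cast_one]
    have hnorm : G₂ + (r : ℤ) * (d * d) - 2 * δ * d = e := by
      have h1 := D.sum_diff_mul 1 1
      rw [inv_one, one_mul, if_pos D.autE.one_mem] at h1
      rw [← Finset.sum_subset (Finset.subset_univ (X ∪ Y)) fun χ _ hχ => by
        rw [hdiff0 χ fun hB' => hχ (hXY ▸ Set.mem_toFinset.2 hB'), mul_zero],
        Finset.sum_union hdisj,
        Finset.sum_congr rfl (s₁ := X) fun χ hχ => by rw [hcX 1 χ hχ, ← sq],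
        Finset.sum_congr rfl (s₁ := Y) (g := fun η => d * d - 2 * δ * d *
          (if η = η₀ then 1 else 0) + if η = η₀ then 1 else 0) fun η hη => by
            rw [hζc, hgY η hη, ← hη₀]; split_ifs
            · linear_combination hδsq
            · ring,
        Finset.sum_add_distrib, Finset.sum_sub_distrib, Finset.sum_const, nsmul_eq_mul,
        ← Finset.mul_sum, Finset.sum_ite_eq', if_pos hη₀Y, ← hG₂, ← he] at h1
      rw [hr]; linarith
    have hG0 : 0 ≤ G₂ := Finset.sum_nonneg fun χ _ => sq_nonneg _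
    have hn1 : (1 : ℤ) ≤ n := by have := hXne.card_pos; omega
    have hr1 : (1 : ℤ) ≤ r := by
      have : 0 < r := Finset.card_pos.2 ⟨η₀, hη₀Y⟩
      omega
    have key : (r : ℤ) * G₂ + c ^ 2 = p := by
      linear_combination (r : ℤ) * hnorm + her + hδsq
        + ((r : ℤ) * d - δ + c) * hc
    rw [Nat.cast_mul, Nat.cast_two, ← key]
    nlinarith [mul_nonneg (mul_nonneg (sub_nonneg.2 hn1) (sub_nonneg.2 hr1)) hG0]
  · -- large support
    intro w hw hne
    let W : IrrCharacter G → ℂ := fun j => ∑ χ ∈ B.toFinset with π χ = j, w χ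
    obtain ⟨s, hs, hsum⟩ := hne
    set q : IrrCharacter G → ℂ := fun j => W j / (v j : ℂ) with hq
    have hqne : ∃ j ∈ X, q j ≠ q η₀ := by
      by_contra hall
      push Not at hall
      refine hsum ?_
      rw [hsplit _ fun χ hχ => by rw [hw χ hχ, zero_mul],
        Finset.sum_congr rfl (s₁ := Y) fun η hη => by rw [hagree η hη s hs],
        ← Finset.sum_mul, ← hfibY,
        Finset.sum_congr rfl (s₁ := X) (g := fun χ => q η₀ * ((g χ : ℂ) * (χ : G → ℂ) s))
          fun χ hχ => ?_,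
        ← Finset.mul_sum]
      · have h1 : W η₀ = q η₀ * (c : ℂ) := by
          simp only [hq, v, if_true, eq_self_iff_true]
          rw [div_mul_cancel₀]
          exact_mod_cast hc0
        show _ + W η₀ * _ = 0
        rw [h1]
        linear_combination q η₀ * hrel s hs
      · rw [← hall χ hχ]
        have hv : v χ = g χ := if_neg fun e1 : χ = η₀ => hη₀X (e1 ▸ hχ)
        simp only [hq, W, hfibX χ hχ, hv]
        have := hgne χ hχ
        field_simp
    obtain ⟨j₀, hj₀, hj₀q⟩ := hqne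
    -- pairs with different quotients
    set A := V.filter fun j => q j = q η₀
    set A' := V.filter fun j => q j ≠ q η₀
    have hAA : A.card + A'.card = n + 1 := by
      rw [Finset.card_filter_add_card_filter_not, hV, Finset.card_insert_of_notMem hη₀X]
    have hA : 0 < A.card := Finset.card_pos.2 ⟨η₀, Finset.mem_filter.2
      ⟨Finset.mem_insert_self _ _, rfl⟩⟩
    have hA' : 0 < A'.card := Finset.card_pos.2 ⟨j₀, Finset.mem_filter.2
      ⟨Finset.mem_insert_of_mem hj₀, hj₀q⟩⟩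
    refine le_trans ?_ (Finset.card_le_card (s := A ×ˢ A' ∪ A' ×ˢ A) ?_)
    · rw [Finset.card_union_of_disjoint, Finset.card_product, Finset.card_product,
        mul_comm A'.card, ← two_mul]
      · refine Nat.mul_le_mul_left 2 ?_
        nlinarith
      · rw [Finset.disjoint_left]
        intro i h1 h2
        exact (Finset.mem_filter.1 (Finset.mem_product.1 h2).1).2
          (Finset.mem_filter.1 (Finset.mem_product.1 h1).1).2
    · intro i hi
      have h3 : i.1 ∈ V ∧ i.2 ∈ V ∧ q i.1 ≠ q i.2 := by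
        rcases Finset.mem_union.1 hi with h | h <;>
          obtain ⟨ha, hb⟩ := Finset.mem_product.1 h <;>
          obtain ⟨ha1, ha2⟩ := Finset.mem_filter.1 ha <;>
          obtain ⟨hb1, hb2⟩ := Finset.mem_filter.1 hb
        · exact ⟨ha1, hb1, fun e1 => hb2 (e1.symm.trans ha2)⟩
        · exact ⟨ha1, hb1, fun e1 => ha2 (e1.trans hb2)⟩
      have hoff : i ∈ V.offDiag :=
        Finset.mem_offDiag.2 ⟨h3.1, h3.2.1, fun e1 => h3.2.2 (by rw [e1])⟩
      refine Finset.mem_filter.2 ⟨hoff, ?_⟩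
      rw [hpair i hoff w hw, sub_ne_zero]
      intro e1
      refine h3.2.2 ?_
      have v1 : (v i.1 : ℂ) ≠ 0 := Int.cast_ne_zero.2 (hvne _ h3.1)
      have v2 : (v i.2 : ℂ) ≠ 0 := Int.cast_ne_zero.2 (hvne _ h3.2.1)
      simp only [hq, W, div_eq_div_iff v1 v2]
      linear_combination e1

end CfsgLib.Blocks.GenDefectOne
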