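import Cfsg.Agent.Lib.Blocks.CoverPrincipal
import Cfsg.Agent.Lib.Blocks.CoverDefect
import Cfsg.Agent.Lib.Blocks.FirstMain
import Cfsg.Agent.Lib.Blocks.Defect2
import Cfsg.Agent.Lib.Blocks.Local
import Cfsg.Prelude.Def_BlockLocal
import Cfsg.Agent.Lib.BrauerPairs.Transport
import Cfsg.Agent.Lib.Char.Perm

/-!
# The Harris–Knörr correspondence
-/

set_option autoImplicit false
set_option linter.unusedSectionVars false

namespace CfsgLib.Blocks.HarrisKnorr

open Cfsg CfsgLib CfsgLib.Blocks CfsgLib.BrauerPairs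
open scoped Classical

/-! ### General lemmas -/

section General

variable {A B : Type*} [Group A] [Group B] [Fintype A] [Fintype B] {p : ℕ} {M : Ideal AlgInt}

theorem blockDefect_image (φ : A ≃* B) (e : Set (IrrCharacter B)) :
    blockDefect p (irrEquiv φ '' e) = blockDefect p e := by
  rw [Cfsg.blockDefect, Cfsg.blockDefect, Nat.card_congr φ.toEquiv, Set.image_image]
  congr 3
  funext χ
  simp [Cfsg.charDegree, irrEquiv_apply, map_one]

/-- A normal `p`-subgroup of the order of a defect group is the defect group. -/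
theorem eq_of_normal_card (hM : IsPModular p M) {b : Set (IrrCharacter A)} (hb : IsPBlock M b)
    {R : Subgroup A} [R.Normal] (hR : IsPGroup p R) (hcard : Nat.card R = p ^ blockDefect p b)
    {D : Subgroup A} (hD : IsDefectGroup p M b D) : D = R :=
  (Subgroup.eq_of_le_of_card_ge (le_defectGroup_of_normal hM hb hR hD)
    (by rw [card_defectGroup hM hb hD, hcard])).symm

theorem isDefectGroup_of_normal_card (hM : IsPModular p M) {b : Set (IrrCharacter A)}
    (hb : IsPBlock M b) {R : Subgroup A} [R.Normal] (hR : IsPGroup p R)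
    (hcard : Nat.card R = p ^ blockDefect p b) : IsDefectGroup p M b R := by
  obtain ⟨D, hD⟩ := exists_isDefectGroup hM hb
  rwa [eq_of_normal_card hM hb hR hcard hD] at hD

/-- Induced blocks along compatible isomorphisms. -/
theorem isInducedBlock_image {K : Subgroup A} {K' : Subgroup B} (α : A ≃* B) (β : K ≃* K')
    (hαβ : ∀ k, (β k : B) = α k) {b : Set (IrrCharacter K')} {c : Set (IrrCharacter B)}
    (h : IsInducedBlock M K' b c) :
    IsInducedBlock M K (irrEquiv β '' b) (irrEquiv α '' c) := by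
  refine ⟨BrauerPairs.isPBlock_image β h.1, BrauerPairs.isPBlock_image α h.2.1, ?_⟩
  rintro _ ⟨ξ, hξ, rfl⟩ _ ⟨χ, hχ, rfl⟩ a
  have h1 : inducedCentralChar K ((irrEquiv β ξ : IrrCharacter K) : K → ℂ) a
      = inducedCentralChar K' (ξ : K' → ℂ) (α a) := by
    rw [inducedCentralChar_eq, inducedCentralChar_eq, omega, omega, irrEquiv_apply, map_one]
    congr 1
    refine Fintype.sum_equiv β.toEquiv _ _ fun k => ?_
    rw [irrEquiv_apply]
    show classInd a (k : A) * _ = classInd (α a) ((β k : K') : B) * _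
    rw [hαβ, classInd, classInd, if_congr (isConj_map_iff α) rfl rfl]
    rfl
  have h2 : centralChar ((irrEquiv α χ : IrrCharacter A) : A → ℂ) a
      = centralChar (χ : B → ℂ) (α a) := centralChar_irrEquiv α (χ : B → ℂ) a
  rw [h1, h2]
  exact h.2.2 ξ hξ χ hχ (α a)

theorem centralChar_of_isConj (χ : IrrCharacter A) {a b : A} (h : IsConj a b) :
    centralChar (χ : A → ℂ) a = centralChar (χ : A → ℂ) b := by
  rw [← omega_classInd, ← omega_classInd]
  congr 1
  funext x
  exact if_congr ⟨fun h' => h.symm.trans h', fun h' => h.trans h'⟩ rfl rfl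

theorem centExp_of_isConj {a b : A} (h : IsConj a b) : centExp p a = centExp p b := by
  rw [centExp, centExp, Char.card_centralizer_eq_of_isConj h]

theorem blockCoeff_LR_saturated (hM : IsPModular p M) {S : Set (IrrCharacter A)}
    (hS : ∀ χ ∈ S, ∀ ψ : IrrCharacter A, SameBlock M (χ : A → ℂ) (ψ : A → ℂ) → ψ ∈ S) (g : A) :
    MemLocalRing M (blockCoeff S g) := by
  rw [blockCoeff_eq_fourierInv]
  refine (IsLocalOn.blockInd_of_separated (C := (⊤ : Subgroup A)) hM (fun χ hχ ψ hψ => ?_) g).1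
  by_contra hne
  push Not at hne
  exact hψ (hS χ hχ ψ fun y => hne y (Subgroup.mem_top y))

end General

/-! ### Classes of defect `D` -/

section UnitClass

variable {G : Type*} [Group G] [Fintype G] {p : ℕ} {M : Ideal AlgInt} {H : Subgroup G}

theorem centExp_and_fusion (hM : IsPModular p M) {D : Subgroup H} (hDp : IsPGroup p D)
    (hN : Subgroup.normalizer ((D.map H.subtype : Subgroup G) : Set G) ≤ H) {x : H}
    (hx : x ∈ Subgroup.centralizer (D : Set H)) (hxd : p ^ centExp p x = Nat.card D) :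
    centExp p (x : G) = centExp p x ∧
      ∀ k : H, IsConj (x : G) (k : G) → k ∈ Subgroup.centralizer (D : Set H) → IsConj x k := by
  set DG := D.map H.subtype
  have hDGp : IsPGroup p DG := hDp.map _
  have hcard : Nat.card DG = Nat.card D :=
    Subgroup.card_map_of_injective H.subtype_injective
  have hcen : ∀ k : H, k ∈ Subgroup.centralizer (D : Set H) →
      (k : G) ∈ Subgroup.centralizer (DG : Set G) := fun k hk => by
    refine Subgroup.mem_centralizer_iff.2 ?_
    rintro _ ⟨u, hu, rfl⟩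
    exact congrArg Subtype.val (Subgroup.mem_centralizer_iff.1 hk u hu)
  set y : Subgroup.normalizer (DG : Set G) :=
    ⟨(x : G), centralizer_le_normalizer DG (hcen x hx)⟩
  have hy : p ^ centExp p y = Nat.card DG := by
    haveI := Fact.mk hM.1
    have h1 : centExp p y ≤ centExp p x := by
      let f : Subgroup.centralizer ({y} : Set (Subgroup.normalizer (DG : Set G)))
          →* Subgroup.centralizer ({x} : Set H) :=
        { toFun := fun u => ⟨⟨((u : Subgroup.normalizer (DG : Set G)) : G), hN u.1.2⟩,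
            Subgroup.mem_centralizer_singleton_iff.2 (Subtype.ext
              (congrArg Subtype.val (Subgroup.mem_centralizer_singleton_iff.1 u.2) :))⟩
          map_one' := rfl
          map_mul' := fun _ _ => rfl }
      have hf : Function.Injective f := fun u v h => by
        refine Subtype.ext (Subtype.ext ?_)
        exact congrArg (fun z : Subgroup.centralizer ({x} : Set H) => ((z : H) : G)) h
      exact (Nat.factorization_le_iff_dvd Nat.card_pos.ne' Nat.card_pos.ne').2
        (Subgroup.card_dvd_of_injective f hf) p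
    have h2 : centExp p x ≤ centExp p y := by
      refine (hM.1.pow_dvd_iff_le_factorization Nat.card_pos.ne').1 ?_
      rw [hxd, ← hcard]
      let f : DG →* Subgroup.centralizer ({y} : Set (Subgroup.normalizer (DG : Set G))) :=
        { toFun := fun u => ⟨⟨(u : G), Subgroup.le_normalizer u.2⟩,
            Subgroup.mem_centralizer_singleton_iff.2 (Subtype.ext
              (Subgroup.mem_centralizer_iff.1 (hcen x hx) u u.2))⟩
          map_one' := rfl
          map_mul' := fun _ _ => rfl }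
      have hf : Function.Injective f := fun u v h => by
        refine Subtype.ext ?_
        exact congrArg (fun z : Subgroup.centralizer ({y} : Set (Subgroup.normalizer (DG : Set G)))
          => ((z : Subgroup.normalizer (DG : Set G)) : G)) h
      exact Subgroup.card_dvd_of_injective f hf
    rw [le_antisymm h1 h2, hxd, hcard]
  obtain ⟨heq, hS⟩ := centExp_eq_of_normalizer hM.1 hDGp (c := y) (hcen x hx) hy
  refine ⟨?_, fun k hk hkD => ?_⟩
  · show centExp p (y : G) = _
    rw [heq]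
    exact Nat.pow_right_injective hM.1.two_le (hy.trans (hcard.trans hxd.symm))
  · have h := congrFun (trunc_classInd_eq hM.1 (c := y) (hcen x hx) hS hDGp)
      ⟨(k : G), centralizer_le_normalizer DG (hcen k hkD)⟩
    have hk' : IsConj (y : G) (k : G) := hk
    rw [brTrunc, if_pos (hcen k hkD), classInd, if_pos hk', classInd] at h
    have hconj : IsConj y ⟨(k : G), centralizer_le_normalizer DG (hcen k hkD)⟩ := by
      by_contra hne
      rw [if_neg hne] at h
      exact one_ne_zero h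
    obtain ⟨w, hw⟩ := isConj_iff.1 hconj
    exact isConj_iff.2 ⟨⟨(w : G), hN w.2⟩, Subtype.ext (congrArg Subtype.val hw :)⟩

theorem centralChar_congr_unit_class (hM : IsPModular p M) {c : Set (IrrCharacter H)}
    {B : Set (IrrCharacter G)} (hind : IsInducedBlock M H c B) {D : Subgroup H}
    (hD : IsDefectGroup p M c D)
    (hN : Subgroup.normalizer ((D.map H.subtype : Subgroup G) : Set G) ≤ H)
    {ξ : IrrCharacter H} (hξ : ξ ∈ c) {χ : IrrCharacter G} (hχ : χ ∈ B) {x : H}
    (hx : x ∈ Subgroup.centralizer (D : Set H)) (hxd : p ^ centExp p x = Nat.card D) :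
    MemLocalIdeal M (centralChar (ξ : H → ℂ) x - centralChar (χ : G → ℂ) (x : G)) := by
  obtain ⟨-, hfus⟩ := centExp_and_fusion hM (isPGroup_defectGroup hD) hN hx hxd
  have h1 := hind.2.2 ξ hξ χ hχ (x : G)
  rw [inducedCentralChar_eq] at h1
  refine LI.trans hM (LI.sub_comm ?_) h1
  set f : H → ℂ := fun k => classInd (x : G) (k : G) - classInd x k
  have hf : IsClassFunction H f := fun a b => congrArg₂ (fun u v : ℂ => u - v)
    (classInd_isClassFunction (x : G) (a : G) (b : G)) (classInd_isClassFunction x a b)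
  have e : omega (ξ : H → ℂ) (fun k : H => classInd (x : G) (k : G)) - centralChar (ξ : H → ℂ) x
      = omega (ξ : H → ℂ) f := by
    rw [← omega_classInd]
    simp only [f, omega, sub_mul, Finset.sum_sub_distrib, sub_div]
  rw [e, omega_eq_sum_centralChar ξ hf]
  refine LI.sum hM fun C _ => ?_
  have hLR : MemLocalRing M (f C.out) := LR.sub hM (classInd_LR hM _ _) (classInd_LR hM _ _)
  by_cases hC : MemLocalIdeal M (centralChar (ξ : H → ℂ) C.out)
  · exact LI.mul_left hM hLR hC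
  suffices h0 : f C.out = 0 by rw [h0, zero_mul]; exact LI.zero hM
  by_cases hG : IsConj (x : G) (C.out : G)
  · obtain ⟨k, hk, hkD⟩ := exists_conj_centralizes_defectGroup hM hind.1 hD hξ hC
    have hxk : IsConj x k := hfus k (hG.trans (H.subtype.map_isConj hk)) hkD
    show classInd (x : G) (C.out : G) - classInd x C.out = 0
    rw [classInd, classInd, if_pos hG, if_pos (hxk.trans hk.symm), sub_self]
  · have hH : ¬ IsConj x C.out := fun h => hG (H.subtype.map_isConj h)
    show classInd (x : G) (C.out : G) - classInd x C.out = 0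
    rw [classInd, classInd, if_neg hG, if_neg hH, sub_self]

/-- The defect group of such a block of `H` is a defect group of the induced block. -/
theorem isDefectGroup_induced (hM : IsPModular p M) {c : Set (IrrCharacter H)}
    {B : Set (IrrCharacter G)} (hind : IsInducedBlock M H c B) {D : Subgroup H}
    (hD : IsDefectGroup p M c D)
    (hN : Subgroup.normalizer ((D.map H.subtype : Subgroup G) : Set G) ≤ H) :
    IsDefectGroup p M B (D.map H.subtype) := by
  obtain ⟨x, hx, hcl⟩ := exists_unit_coeff_centralizer hM hD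
  obtain ⟨ξ, hξ⟩ := IsPBlock.nonempty hM hind.1
  obtain ⟨χ, hχ⟩ := IsPBlock.nonempty hM hind.2.1
  have hxd : p ^ centExp p x = Nat.card D := by
    rw [centExp_eq_of_isDefectClass hM hind.1 hcl, card_defectGroup hM hind.1 hD]
  have hu : ¬ MemLocalIdeal M (centralChar (χ : G → ℂ) (x : G)) := fun hI => hcl.2.2 ξ hξ (by
    have := LI.add hM (centralChar_congr_unit_class hM hind hD hN hξ hχ hx hxd) hI
    rwa [sub_add_cancel] at this)
  have h1 := blockDefect_le_centExp hM hind.2.1 hχ hu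
  rw [(centExp_and_fusion hM (isPGroup_defectGroup hD) hN hx hxd).1] at h1
  obtain ⟨E, hE, hle⟩ := exists_defectGroup_ge_of_induced hM hind hD
  rwa [Subgroup.eq_of_le_of_card_ge hle (by
    rw [card_defectGroup hM hind.2.1 hE, Subgroup.card_map_of_injective H.subtype_injective,
      ← hxd]
    exact Nat.pow_le_pow_right hM.1.pos h1)]

end UnitClass

/-! ### The setting -/

section Setting

variable {G : Type*} [Group G] [Fintype G] {p : ℕ} {M : Ideal AlgInt} (N : Subgroup G) [N.Normal]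
  (Q : Subgroup G)

/-- `Q` inside `N`. -/
abbrev QN : Subgroup N := Q.subgroupOf N

/-- `N_N(Q)` as a subgroup of `N`. -/
abbrev L : Subgroup N := Subgroup.normalizer ((Q.subgroupOf N : Subgroup N) : Set N)

/-- `N_G(Q)`. -/
abbrev NH : Subgroup G := Subgroup.normalizer (Q : Set G)

/-- `N_N(Q)` as a normal subgroup of `N_G(Q)`. -/
abbrev LH : Subgroup (NH Q) := N.subgroupOf (NH Q)

variable {N Q}

theorem mem_L (hQN : Q ≤ N) {n : N} : n ∈ L N Q ↔ (n : G) ∈ NH Q := by
  rw [Subgroup.mem_normalizer_iff, Subgroup.mem_normalizer_iff]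
  constructor
  · intro h u
    refine ⟨fun hu => (h ⟨u, hQN hu⟩).1 hu, fun hu => ?_⟩
    have huN : u ∈ N := by
      have := (inferInstance : N.Normal).conj_mem _ (hQN hu) (n : G)⁻¹
      simpa [mul_assoc] using this
    exact (h ⟨u, huN⟩).2 hu
  · exact fun h u => h u

/-- `N_N(Q)` in its two guises. -/
def isoL (hQN : Q ≤ N) : LH N Q ≃* L N Q where
  toFun x := ⟨⟨((x : NH Q) : G), x.2⟩, (mem_L hQN).2 x.1.2⟩
  invFun y := ⟨⟨((y : N) : G), (mem_L hQN).1 y.2⟩, y.1.2⟩
  left_inv _ := rfl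
  right_inv _ := rfl
  map_mul' _ _ := rfl

/-- `N_N(Q)` as an intersection. -/
def isoInf (hQN : Q ≤ N) : L N Q ≃* (NH Q ⊓ N : Subgroup G) where
  toFun y := ⟨((y : N) : G), (mem_L hQN).1 y.2, y.1.2⟩
  invFun z := ⟨⟨(z : G), z.2.2⟩, (mem_L hQN).2 z.2.1⟩
  left_inv _ := rfl
  right_inv _ := rfl
  map_mul' _ _ := rfl

/-- The union of the conjugates of `d`. -/
def orbit (d : Set (IrrCharacter N)) : Set (IrrCharacter N) :=
  {φ | ∃ g : G, irrEquiv (MulAut.conjNormal g : MulAut N) φ ∈ d}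

theorem irrEquiv_conj_mul (g h : G) (φ : IrrCharacter N) :
    irrEquiv (MulAut.conjNormal g : MulAut N) (irrEquiv (MulAut.conjNormal h : MulAut N) φ)
      = irrEquiv (MulAut.conjNormal (h * g) : MulAut N) φ :=
  Subtype.ext (funext fun n => by
    simp only [irrEquiv_apply, map_mul]
    rfl)

theorem self_mem_orbit {d : Set (IrrCharacter N)} {θ : IrrCharacter N} (hθ : θ ∈ d) :
    θ ∈ orbit d :=
  ⟨1, by
    have : irrEquiv (MulAut.conjNormal (1 : G) : MulAut N) θ = θ :=
      Subtype.ext (funext fun n => by simp [irrEquiv_apply])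
    rwa [this]⟩

theorem orbit_conj_iff (d : Set (IrrCharacter N)) (g : G) (φ : IrrCharacter N) :
    irrEquiv (MulAut.conjNormal g : MulAut N) φ ∈ orbit d ↔ φ ∈ orbit d := by
  constructor
  · rintro ⟨h, hh⟩
    exact ⟨g * h, by rwa [irrEquiv_conj_mul] at hh⟩
  · rintro ⟨h, hh⟩
    exact ⟨g⁻¹ * h, by rwa [irrEquiv_conj_mul, mul_inv_cancel_left]⟩

theorem orbit_saturated (hM : IsPModular p M) {d : Set (IrrCharacter N)} (hd : IsPBlock M d) :
    ∀ φ ∈ orbit d, ∀ ψ : IrrCharacter N, SameBlock M (φ : N → ℂ) (ψ : N → ℂ) → ψ ∈ orbit d := by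
  rintro φ ⟨g, hg⟩ ψ h
  refine ⟨g, (IsPBlock.mem_iff hM hd hg).2 ?_⟩
  exact (sameBlock_irrEquiv (MulAut.conjNormal g : MulAut N) (φ : N → ℂ) (ψ : N → ℂ)).2 h

theorem orbit_coeff_conj (d : Set (IrrCharacter N)) (g : G) (n : N) :
    blockCoeff (orbit d) (MulAut.conjNormal g n) = blockCoeff (orbit d) n := by
  rw [← blockCoeff_image (MulAut.conjNormal g : MulAut N)]
  congr 1
  ext φ
  obtain ⟨φ, rfl⟩ := (irrEquiv (MulAut.conjNormal g : MulAut N)).surjective φ
  rw [(irrEquiv _).injective.mem_set_image, orbit_conj_iff]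

/-- The idempotent of the orbit, on `G`. -/
noncomputable def orbitFun (d : Set (IrrCharacter N)) : G → ℂ :=
  fun x => if h : x ∈ N then blockCoeff (orbit d) ⟨x, h⟩ else 0

theorem orbitFun_isClassFunction (d : Set (IrrCharacter N)) : IsClassFunction G (orbitFun d) := by
  intro x y
  unfold orbitFun
  by_cases hx : x ∈ N
  · rw [dif_pos hx, dif_pos ((inferInstance : N.Normal).conj_mem x hx y)]
    exact (congrArg (blockCoeff (orbit d)) (Subtype.ext (MulAut.conjNormal_apply y ⟨x, hx⟩).symm)).trans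
      (orbit_coeff_conj d y ⟨x, hx⟩)
  · rw [dif_neg hx, dif_neg fun h => hx (by
      simpa [mul_assoc] using (inferInstance : N.Normal).conj_mem _ h y⁻¹)]

theorem orbitFun_LR (hM : IsPModular p M) {d : Set (IrrCharacter N)} (hd : IsPBlock M d) (x : G) :
    MemLocalRing M (orbitFun d x) := by
  unfold orbitFun
  split
  · exact blockCoeff_LR_saturated hM (orbit_saturated hM hd) _
  · exact LR.zero hM

/-- `χ` lies over the block `d`. -/
def Over (χ : IrrCharacter G) (d : Set (IrrCharacter N)) : Prop :=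
  ∃ θ ∈ d, classInner (fun n : N => (χ : G → ℂ) n) (θ : N → ℂ) ≠ 0

theorem exists_constituent_normal (K : Subgroup G) (χ : IrrCharacter G) :
    ∃ η : IrrCharacter K, classInner (fun n : K => (χ : G → ℂ) n) (η : K → ℂ) ≠ 0 := by
  obtain ⟨ψ, hψ, h⟩ := Char.IsCharacter.exists_constituent
    (Char.IsCharacter.restrict (Char.isCharacter_irr χ) K) (fun h => irr_one_ne_zero χ (by
      have := congrFun h 1
      simpa using this))
  exact ⟨⟨ψ, hψ⟩, h⟩

theorem omega_orbitFun {χ : IrrCharacter G} {θ₀ : IrrCharacter N} (d : Set (IrrCharacter N))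
    (h0 : classInner (fun n : N => (χ : G → ℂ) n) (θ₀ : N → ℂ) ≠ 0) :
    omega (χ : G → ℂ) (orbitFun d) = blockInd (orbit d) θ₀ := by
  show omega (χ : G → ℂ) (fun x => if h : x ∈ N then blockCoeff (orbit d) ⟨x, h⟩ else 0) = _
  rw [omega_extend χ (fun n => blockCoeff (orbit d) n),
    omega_eq_of_over h0 (orbit_coeff_conj d), omega_blockCoeff]

theorem over_iff {χ : IrrCharacter G} {θ₀ : IrrCharacter N} {d : Set (IrrCharacter N)}
    (h0 : classInner (fun n : N => (χ : G → ℂ) n) (θ₀ : N → ℂ) ≠ 0) :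
    Over χ d ↔ θ₀ ∈ orbit d := by
  constructor
  · rintro ⟨θ, hθ, h⟩
    obtain ⟨g, hg⟩ := CharDeep.Clifford.exists_conj_of_constituent N χ.2 θ₀.2 θ.2 h0 h
    refine ⟨g, ?_⟩
    have : irrEquiv (MulAut.conjNormal g : MulAut N) θ₀ = θ := Subtype.ext hg.symm
    rwa [this]
  · rintro ⟨g, hg⟩
    refine ⟨_, hg, ?_⟩
    show classInner _ (CharDeep.Clifford.conjFun N g (θ₀ : N → ℂ)) ≠ 0
    rwa [CharDeep.Clifford.classInner_restrict_conjFun N g
      (Char.IsIrrCharacter.isClassFunction χ.2)]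

/-- The value of the orbit idempotent at a character of `N_G(Q)`. -/
theorem omega_orbitFun_local (hM : IsPModular p M) (hQN : Q ≤ N) {d : Set (IrrCharacter N)}
    (hd : IsPBlock M d) {ψ : IrrCharacter (NH Q)} {η : IrrCharacter (L N Q)}
    (hη : classInner (fun l : LH N Q => (ψ : NH Q → ℂ) l)
      (irrEquiv (isoL hQN) η : LH N Q → ℂ) ≠ 0)
    {e₁ : Set (IrrCharacter (L N Q))} (hηe : η ∈ e₁) {d₁ : Set (IrrCharacter N)}
    (hind : IsInducedBlock M (L N Q) e₁ d₁) {θ : IrrCharacter N} (hθ : θ ∈ d₁) :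
    MemLocalIdeal M (omega (ψ : NH Q → ℂ) (fun k : NH Q => orbitFun d k)
      - blockInd (orbit d) θ) := by
  set w : LH N Q → ℂ := fun l => blockCoeff (orbit d) ⟨((l : NH Q) : G), l.2⟩
  have e1 : (fun k : NH Q => orbitFun d k)
      = fun k : NH Q => if hk : k ∈ LH N Q then w ⟨k, hk⟩ else 0 := by
    funext k
    unfold orbitFun
    by_cases hk : (k : G) ∈ N
    · rw [dif_pos hk, dif_pos (show k ∈ LH N Q from hk)]
    · rw [dif_neg hk, dif_neg (show k ∉ LH N Q from hk)]
  have hw : ∀ (g : NH Q) (l : LH N Q), w (MulAut.conjNormal g l) = w l := fun g l => by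
    refine Eq.trans (congrArg (blockCoeff (orbit d)) (Subtype.ext ?_))
      (orbit_coeff_conj d (g : G) ⟨((l : NH Q) : G), l.2⟩)
    simp [MulAut.conjNormal_apply]
  have e2 : omega (irrEquiv (isoL hQN) η : LH N Q → ℂ) w
      = omega (η : L N Q → ℂ) (fun k : L N Q => blockCoeff (orbit d) (k : N)) := by
    rw [omega, omega, irrEquiv_apply, map_one]
    congr 1
    refine Fintype.sum_equiv (isoL hQN).toEquiv _ _ fun l => ?_
    rw [irrEquiv_apply]
    rfl
  rw [e1, omega_extend ψ w, omega_eq_of_over hη hw, e2, ← omega_blockCoeff (orbit d) θ]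
  exact IsInducedBlock.omega_congr hM hind hηe hθ (blockCoeff_isClassFunction _)
    (blockCoeff_LR_saturated hM (orbit_saturated hM hd))

/-- A block of `N_G(Q)` with a constituent in `e` induces only blocks over `d`. -/
theorem over_of_induced (hM : IsPModular p M) (hQN : Q ≤ N) {d : Set (IrrCharacter N)}
    (hd : IsPBlock M d) {e : Set (IrrCharacter (L N Q))} (hed : IsInducedBlock M (L N Q) e d)
    {c : Set (IrrCharacter (NH Q))} {ψ : IrrCharacter (NH Q)} (hψ : ψ ∈ c)
    {η : IrrCharacter (L N Q)} (hηe : η ∈ e)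
    (hη : classInner (fun l : LH N Q => (ψ : NH Q → ℂ) l)
      (irrEquiv (isoL hQN) η : LH N Q → ℂ) ≠ 0)
    {B : Set (IrrCharacter G)} (hind : IsInducedBlock M (NH Q) c B) {χ : IrrCharacter G}
    (hχ : χ ∈ B) : Over χ d := by
  obtain ⟨θ, hθ⟩ := IsPBlock.nonempty hM hd
  obtain ⟨θ₀, h0⟩ := exists_constituent_normal N χ
  have h1 := omega_orbitFun_local hM hQN hd hη hηe hed hθ
  rw [blockInd_of_mem (self_mem_orbit hθ)] at h1
  have h2 := IsInducedBlock.omega_congr hM hind hψ hχ (orbitFun_isClassFunction d)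
    (orbitFun_LR hM hd)
  rw [omega_orbitFun d h0] at h2
  rw [over_iff h0]
  by_contra hne
  rw [blockInd_of_notMem hne, sub_zero] at h2
  exact LI.not_one hM (by
    have := LI.sub hM h2 h1
    rwa [sub_sub_cancel] at this)

/-- A block over `d` is induced from a block of `N_G(Q)` with a constituent in `e`. -/
theorem exists_inducing (hM : IsPModular p M) (hQ : IsPGroup p Q) (hQN : Q ≤ N)
    {d : Set (IrrCharacter N)} (hd : IsPBlock M d) (hdQ : IsDefectGroup p M d (Q.subgroupOf N))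
    {e : Set (IrrCharacter (L N Q))} (he : IsPBlock M e)
    (heQ : IsDefectGroup p M e ((Q.subgroupOf N).subgroupOf (L N Q)))
    (hed : IsInducedBlock M (L N Q) e d) {B : Set (IrrCharacter G)} (hB : IsPBlock M B)
    {χ : IrrCharacter G} (hχ : χ ∈ B) (hcov : Over χ d) :
    ∃ c : Set (IrrCharacter (NH Q)), IsInducedBlock M (NH Q) c B ∧ ∃ ψ ∈ c, ∃ η ∈ e,
      classInner (fun l : LH N Q => (ψ : NH Q → ℂ) l)
        (irrEquiv (isoL hQN) η : LH N Q → ℂ) ≠ 0 := by
  haveI := Fact.mk hM.1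
  -- a unit coefficient on the centralizer of `Q`
  obtain ⟨x, hx, hxu⟩ : ∃ x ∈ Subgroup.centralizer (Q : Set G),
      ¬ MemLocalIdeal M (blockCoeff B x) := by
    by_contra hcon
    push Not at hcon
    set T := CoverDefect.stabilizer hM hd
    have hNT : N ≤ T := CoverDefect.le_stabilizer hM hd
    have hT : ∀ g : G, g ∈ T ↔ ∀ θ ∈ d, FongReynolds.conjIrr g θ ∈ d :=
      CoverDefect.mem_stabilizer hM hd
    obtain ⟨B', hB', ⟨ψ, hψ, hψc⟩, hind⟩ :=
      FongReynolds.exists_inducing hNT hM hd hT hB ⟨χ, hχ, hcov⟩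
    have h1 := CoverDefect.omega_LI_of_centralizer hNT hM hd hT hdQ hψc
      (f := fun t : T => blockCoeff B (t : G))
      (fun a b => blockCoeff_isClassFunction B (a : G) (b : G))
      (fun t => blockCoeff_LR hM hB _) (fun t ht => by
        refine hcon _ (Subgroup.mem_centralizer_iff.2 fun q hq => ?_)
        exact congrArg Subtype.val (Subgroup.mem_centralizer_iff.1 ht
          ⟨q, hNT (hQN hq)⟩ ⟨⟨q, hQN hq⟩, hq, rfl⟩))
    have h2 := IsInducedBlock.omega_congr hM hind hψ hχ (blockCoeff_isClassFunction B)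
      (blockCoeff_LR hM hB)
    rw [omega_blockCoeff, blockInd_of_mem hχ] at h2
    exact LI.not_one hM (by
      have := LI.sub hM h1 h2
      rwa [sub_sub_cancel] at this)
  obtain ⟨c, hind⟩ := exists_inducing_block_local hM hB hQ Subgroup.le_normalizer
    (centralizer_le_normalizer Q) le_rfl hx hxu
  refine ⟨c, hind, ?_⟩
  obtain ⟨ψ, hψ⟩ := IsPBlock.nonempty hM hind.1
  obtain ⟨ηH, hηH⟩ := exists_constituent_normal (LH N Q) ψ
  obtain ⟨η, rfl⟩ := (irrEquiv (isoL hQN)).surjective ηH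
  set e₁ := blockOf M (η : L N Q → ℂ)
  have he₁ : IsPBlock M e₁ := isPBlock_blockOf η
  have hηe₁ : η ∈ e₁ := SameBlock_refl hM _
  have hQN' : IsPGroup p (Q.subgroupOf N) :=
    hQ.of_equiv (Subgroup.subgroupOfEquivOfLe hQN).symm
  have hQL : Q.subgroupOf N ≤ L N Q := Subgroup.le_normalizer
  obtain ⟨d₁, hind₁⟩ := exists_isInducedBlock_local hM hQN' hQL
    (centralizer_le_normalizer _) le_rfl he₁
  obtain ⟨θ₁, hθ₁⟩ := IsPBlock.nonempty hM hind₁.2.1
  obtain ⟨θ₀, h0⟩ := exists_constituent_normal N χ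
  have hθ₁o : θ₁ ∈ orbit d := by
    by_contra hne
    have h1 := omega_orbitFun_local hM hQN hd hηH hηe₁ hind₁ hθ₁
    rw [blockInd_of_notMem hne] at h1
    have h2 := IsInducedBlock.omega_congr hM hind hψ hχ (orbitFun_isClassFunction d)
      (orbitFun_LR hM hd)
    rw [omega_orbitFun d h0, blockInd_of_mem ((over_iff h0).1 hcov)] at h2
    exact LI.not_one hM (by
      have := LI.sub hM h1 h2
      simpa using this)
  obtain ⟨g, hg⟩ := hθ₁o
  have himg : irrEquiv (MulAut.conjNormal g : MulAut N) '' d₁ = d :=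
    IsPBlock.eq_of_mem hM (BrauerPairs.isPBlock_image _ hind₁.2.1) hd ⟨θ₁, hθ₁, rfl⟩ hg
  set QL := (Q.subgroupOf N).subgroupOf (L N Q)
  haveI : QL.Normal := normal_subgroupOf_of_le_normalizer hQL le_rfl
  have hQLp : IsPGroup p QL := isPGroup_subgroupOf_normalizer hQN'
  have hQLc : Nat.card QL = Nat.card (Q.subgroupOf N) :=
    Nat.card_congr (Subgroup.subgroupOfEquivOfLe hQL).toEquiv
  have hcardd : Nat.card QL = p ^ blockDefect p d₁ := by
    rw [hQLc, card_defectGroup hM hd hdQ, ← himg, blockDefect_image]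
  have hcarde₁ : Nat.card QL = p ^ blockDefect p e₁ := by
    refine le_antisymm ?_ (hcardd ▸ Nat.pow_le_pow_right hM.1.pos (blockDefect_le_of_induced hM hind₁))
    obtain ⟨E, hE⟩ := exists_isDefectGroup hM he₁
    rw [← card_defectGroup hM he₁ hE]
    exact Subgroup.card_le_of_le (le_defectGroup_of_normal hM he₁ hQLp hE)
  have hd₁Q : IsDefectGroup p M d₁ (Q.subgroupOf N) := isDefectGroup_of_induced_normalizer hM hQN'
    (isDefectGroup_of_normal_card hM he₁ hQLp hcarde₁) hind₁
  -- move the conjugating element into the normalizer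
  have hd₁Q' : IsDefectGroup p M d₁
      ((Q.subgroupOf N).map (MulAut.conjNormal g : MulAut N).toMonoidHom) :=
    isDefectGroup_map (MulAut.conjNormal g : MulAut N) (by rw [himg]; exact hdQ)
  obtain ⟨n, hn⟩ := exists_conj_eq_defectGroup hM hind₁.2.1 hd₁Q hd₁Q'
  set h : G := (n : G)⁻¹ * g
  have hmem : ∀ u ∈ Q, h * u * h⁻¹ ∈ Q := by
    intro u hu
    have h1 : (MulAut.conjNormal g : MulAut N) ⟨u, hQN hu⟩
        ∈ (Q.subgroupOf N).map (MulAut.conj n).toMonoidHom := by
      rw [← hn]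
      exact ⟨⟨u, hQN hu⟩, hu, rfl⟩
    obtain ⟨v, hv, hvu⟩ := h1
    have hvu' : (n : G) * (v : G) * (n : G)⁻¹ = g * u * g⁻¹ := by
      simpa using congrArg (fun z : N => (z : G)) hvu
    have h2 : h * u * h⁻¹ = v := by
      simp only [h, mul_inv_rev, inv_inv]
      calc (n : G)⁻¹ * g * u * (g⁻¹ * n) = (n : G)⁻¹ * (g * u * g⁻¹) * n := by group
        _ = v := by rw [← hvu']; group
    rw [h2]; exact hv
  have hh : h ∈ NH Q := by
    refine Subgroup.mem_normalizer_iff.2 fun u => ⟨hmem u, fun hu => ?_⟩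
    have hmap : Q.map (MulAut.conj h).toMonoidHom = Q := by
      refine Subgroup.eq_of_le_of_card_ge ?_ (le_of_eq ?_)
      · rintro _ ⟨v, hv, rfl⟩; exact hmem v hv
      · exact (Subgroup.card_map_of_injective (MulAut.conj h).injective).symm
    rw [← hmap] at hu
    obtain ⟨v, hv, hvu⟩ := hu
    have : v = u := by simpa using hvu
    rwa [← this]
  let hH : NH Q := ⟨h, hh⟩
  let β : L N Q ≃* L N Q :=
    ((isoL hQN).symm.trans (MulAut.conjNormal hH : MulAut (LH N Q))).trans (isoL hQN)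
  have hβ : ∀ k, (β k : N) = (MulAut.conjNormal h : MulAut N) (k : N) := fun k => by
    refine Subtype.ext ?_
    simp [β, hH, isoL, MulAut.conjNormal_apply]
  have hhd : irrEquiv (MulAut.conjNormal h : MulAut N) θ₁ ∈ d := by
    have : irrEquiv (MulAut.conjNormal h : MulAut N) θ₁
        = irrEquiv (MulAut.conjNormal g : MulAut N) θ₁ := by
      refine Subtype.ext (funext fun m => ?_)
      rw [irrEquiv_apply, irrEquiv_apply]
      rw [← Char.IsIrrCharacter.isClassFunction θ₁.2 ((MulAut.conjNormal g : MulAut N) m) n⁻¹]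
      refine congrArg _ (Subtype.ext ?_)
      simp [h, MulAut.conjNormal_apply, mul_assoc]
    rwa [this]
  have himg' : irrEquiv (MulAut.conjNormal h : MulAut N) '' d₁ = d :=
    IsPBlock.eq_of_mem hM (BrauerPairs.isPBlock_image _ hind₁.2.1) hd ⟨θ₁, hθ₁, rfl⟩ hhd
  have hind₂ := isInducedBlock_image (MulAut.conjNormal h : MulAut N) β hβ hind₁
  rw [himg'] at hind₂
  have he₂Q : IsDefectGroup p M (irrEquiv β '' e₁) QL :=
    isDefectGroup_of_normal_card hM hind₂.1 hQLp (by rw [blockDefect_image, hcarde₁])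
  obtain ⟨e₀, -, huniq⟩ := existsUnique_correspondent hM hd hdQ
  have heq : irrEquiv β '' e₁ = e :=
    (huniq _ ⟨hind₂.1, he₂Q, hind₂⟩).trans (huniq _ ⟨he, heQ, hed⟩).symm
  refine ⟨ψ, hψ, irrEquiv β η, heq ▸ ⟨η, hηe₁, rfl⟩, ?_⟩
  have hconj : (irrEquiv (isoL hQN) (irrEquiv β η) : LH N Q → ℂ)
      = CharDeep.Clifford.conjFun (LH N Q) hH (irrEquiv (isoL hQN) η : LH N Q → ℂ) := by
    funext l
    simp only [irrEquiv_apply, CharDeep.Clifford.conjFun, Function.comp_apply]
    congr 1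
  rw [hconj, CharDeep.Clifford.classInner_restrict_conjFun (LH N Q) hH
    (Char.IsIrrCharacter.isClassFunction ψ.2)]
  exact hηH

/-- A block of `N_G(Q)` over `e` has a defect group meeting `N` in `Q`. -/
theorem exists_defectGroup (hM : IsPModular p M) (hQ : IsPGroup p Q) (hQN : Q ≤ N)
    {e : Set (IrrCharacter (L N Q))} (he : IsPBlock M e)
    (heQ : IsDefectGroup p M e ((Q.subgroupOf N).subgroupOf (L N Q)))
    {c : Set (IrrCharacter (NH Q))} (hc : IsPBlock M c)
    (hcov : ∃ ψ ∈ c, ∃ η ∈ e, classInner (fun l : LH N Q => (ψ : NH Q → ℂ) l)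
      (irrEquiv (isoL hQN) η : LH N Q → ℂ) ≠ 0) :
    ∃ D : Subgroup (NH Q), IsDefectGroup p M c D ∧
      D.map (NH Q).subtype ⊓ N = Q ∧
      Subgroup.normalizer ((D.map (NH Q).subtype : Subgroup G) : Set G) ≤ NH Q := by
  haveI := Fact.mk hM.1
  set b := irrEquiv (isoL hQN) '' e
  have hb : IsPBlock M b := BrauerPairs.isPBlock_image _ he
  obtain ⟨ψ, hψ, η, hη, hne⟩ := hcov
  set T := CoverDefect.stabilizer (N := LH N Q) hM hb
  have hNT : LH N Q ≤ T := CoverDefect.le_stabilizer hM hb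
  have hT : ∀ g : NH Q, g ∈ T ↔ ∀ θ ∈ b, FongReynolds.conjIrr g θ ∈ b :=
    CoverDefect.mem_stabilizer hM hb
  obtain ⟨B', hB', ⟨ψ', hψ', hψc⟩, hind⟩ := FongReynolds.exists_inducing hNT hM hb hT hc
    ⟨ψ, hψ, _, ⟨η, hη, rfl⟩, hne⟩
  obtain ⟨DT, hDT⟩ := exists_isDefectGroup hM hB'
  have hcomap := CoverDefect.isDefectGroup_comap hNT hM hb hT hB' hψ' hψc hDT
  set QH : Subgroup (NH Q) := Q.subgroupOf (NH Q)
  have hQH : QH ≤ LH N Q := fun u hu => hQN hu
  haveI : QH.Normal := Subgroup.normal_subgroupOf_iff_le_normalizer Subgroup.le_normalizer |>.2 le_rfl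
  haveI : (QH.subgroupOf (LH N Q)).Normal := inferInstance
  have hQHc : Nat.card (QH.subgroupOf (LH N Q)) = Nat.card Q := by
    rw [Nat.card_congr (Subgroup.subgroupOfEquivOfLe hQH).toEquiv,
      Nat.card_congr (Subgroup.subgroupOfEquivOfLe Subgroup.le_normalizer).toEquiv]
  have hQHp : IsPGroup p (QH.subgroupOf (LH N Q)) :=
    (hQ.of_equiv (Subgroup.subgroupOfEquivOfLe Subgroup.le_normalizer).symm).of_equiv
      (Subgroup.subgroupOfEquivOfLe hQH).symm
  have heq := eq_of_normal_card hM hb hQHp (by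
    rw [hQHc, blockDefect_image, ← card_defectGroup hM he heQ,
      Nat.card_congr (Subgroup.subgroupOfEquivOfLe Subgroup.le_normalizer).toEquiv,
      Nat.card_congr (Subgroup.subgroupOfEquivOfLe hQN).toEquiv]) hcomap
  have hDN : (DT.map T.subtype).map (NH Q).subtype ⊓ N = Q := by
    ext u
    constructor
    · rintro ⟨⟨v, ⟨t, ht, rfl⟩, rfl⟩, huN⟩
      have h1 : (⟨(t : NH Q), huN⟩ : LH N Q) ∈ DT.comap (Subgroup.inclusion hNT) := ht
      rw [heq] at h1
      exact h1
    · intro hu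
      refine ⟨?_, hQN hu⟩
      set l : LH N Q := ⟨⟨u, Subgroup.le_normalizer hu⟩, hQN hu⟩
      have h1 : l ∈ QH.subgroupOf (LH N Q) := hu
      rw [← heq] at h1
      exact ⟨_, ⟨_, h1, rfl⟩, rfl⟩
  refine ⟨DT.map T.subtype, (FongReynolds.defectGroup_and_height hNT hM hb hT hB'
    ⟨ψ', hψ', hψc⟩ hind).1 DT hDT, hDN, fun g hg => ?_⟩
  have key : ∀ a ∈ Subgroup.normalizer
      (((DT.map T.subtype).map (NH Q).subtype : Subgroup G) : Set G),
      ∀ u ∈ Q, a * u * a⁻¹ ∈ Q := fun a ha u hu => by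
    rw [← hDN] at hu ⊢
    exact ⟨(Subgroup.mem_normalizer_iff.1 ha u).1 hu.1,
      (inferInstance : N.Normal).conj_mem u hu.2 a⟩
  refine Subgroup.mem_normalizer_iff.2 fun u => ⟨key g hg u, fun hu => ?_⟩
  have := key g⁻¹ (inv_mem hg) _ hu
  simpa [mul_assoc] using this

/-- Injectivity of the correspondence. -/
theorem eq_of_induced (hM : IsPModular p M) (hQ : IsPGroup p Q) (hQN : Q ≤ N)
    {e : Set (IrrCharacter (L N Q))} (he : IsPBlock M e)
    (heQ : IsDefectGroup p M e ((Q.subgroupOf N).subgroupOf (L N Q)))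
    {c c' : Set (IrrCharacter (NH Q))}
    (hcov : ∃ ψ ∈ c, ∃ η ∈ e, classInner (fun l : LH N Q => (ψ : NH Q → ℂ) l)
      (irrEquiv (isoL hQN) η : LH N Q → ℂ) ≠ 0)
    (hcov' : ∃ ψ ∈ c', ∃ η ∈ e, classInner (fun l : LH N Q => (ψ : NH Q → ℂ) l)
      (irrEquiv (isoL hQN) η : LH N Q → ℂ) ≠ 0)
    {B : Set (IrrCharacter G)} (hind : IsInducedBlock M (NH Q) c B)
    (hind' : IsInducedBlock M (NH Q) c' B) : c = c' := by
  obtain ⟨D, hD, hDN, hND⟩ := exists_defectGroup hM hQ hQN he heQ hind.1 hcov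
  obtain ⟨D', hD', hD'N, hND'⟩ := exists_defectGroup hM hQ hQN he heQ hind'.1 hcov'
  have hBD := isDefectGroup_induced hM hind hD hND
  have hBD' := isDefectGroup_induced hM hind' hD' hND'
  obtain ⟨g, hg⟩ := exists_conj_eq_defectGroup hM hind.2.1 hBD hBD'
  have hgH : g ∈ NH Q := by
    refine Subgroup.mem_normalizer_iff.2 fun u => ⟨fun hu => ?_, fun hu => ?_⟩
    · rw [← hD'N]
      refine ⟨?_, (inferInstance : N.Normal).conj_mem u (hQN hu) g⟩
      rw [SetLike.mem_coe, hg]
      exact ⟨u, ((hDN.symm ▸ hu : u ∈ D.map (NH Q).subtype ⊓ N)).1, rfl⟩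
    · rw [← hD'N] at hu
      have h1 : g * u * g⁻¹ ∈ (D.map (NH Q).subtype).map (MulAut.conj g).toMonoidHom := hg ▸ hu.1
      obtain ⟨v, hv, hvu⟩ := h1
      obtain rfl : v = u := by simpa using hvu
      rw [← hDN]
      refine ⟨hv, ?_⟩
      have := (inferInstance : N.Normal).conj_mem _ hu.2 g⁻¹
      simpa [mul_assoc] using this
  set z : NH Q := ⟨g, hgH⟩
  have hDD' : ∀ u : NH Q, u ∈ D ↔ z * u * z⁻¹ ∈ D' := by
    intro u
    constructor
    · intro hu
      have h1 : g * (u : G) * g⁻¹ ∈ D'.map (NH Q).subtype := hg ▸ ⟨(u : G), ⟨u, hu, rfl⟩, rfl⟩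
      obtain ⟨v, hv, hvu⟩ := h1
      rwa [show z * u * z⁻¹ = v from Subtype.ext hvu.symm]
    · intro hu
      have h1 : g * (u : G) * g⁻¹ ∈ (D.map (NH Q).subtype).map (MulAut.conj g).toMonoidHom :=
        hg ▸ ⟨_, hu, rfl⟩
      obtain ⟨v, ⟨w, hw, rfl⟩, hvu⟩ := h1
      obtain rfl : w = u := Subtype.ext (by simpa using hvu)
      exact hw
  have hcen : ∀ k : NH Q, k ∈ Subgroup.centralizer (D : Set (NH Q)) ↔
      z * k * z⁻¹ ∈ Subgroup.centralizer (D' : Set (NH Q)) := by
    intro k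
    simp only [Subgroup.mem_centralizer_iff, SetLike.mem_coe]
    constructor
    · intro hk u hu
      have h1 := hk (z⁻¹ * u * z) ((hDD' _).2 (by simpa [mul_assoc] using hu))
      have h2 := congrArg (fun y => z * y * z⁻¹) h1
      simpa [mul_assoc] using h2
    · intro hk u hu
      have h1 := hk _ ((hDD' u).1 hu)
      have h2 := congrArg (fun y => z⁻¹ * y * z) h1
      simpa [mul_assoc] using h2
  have hcard : Nat.card D' = Nat.card D := by
    refine (Nat.card_congr (Equiv.subtypeEquiv (MulAut.conj z).toEquiv fun u => ?_)).symm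
    exact hDD' u
  have hdef : blockDefect p c' = blockDefect p c := Nat.pow_right_injective hM.1.two_le (by
    show p ^ blockDefect p c' = p ^ blockDefect p c
    rw [← card_defectGroup hM hind'.1 hD', hcard, card_defectGroup hM hind.1 hD])
  obtain ⟨ξ, hξ⟩ := IsPBlock.nonempty hM hind.1
  obtain ⟨ξ', hξ'⟩ := IsPBlock.nonempty hM hind'.1
  obtain ⟨χ, hχ⟩ := IsPBlock.nonempty hM hind.2.1
  refine IsPBlock.eq_of_mem hM hind.1 hind'.1 ((IsPBlock.mem_iff hM hind.1 hξ).2 ?_) hξ'
  refine (sameBlock_iff_defect hM (d := blockDefect p c) ?_ ?_).2 fun x _ hxd => ?_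
  · rw [← IsPBlock.eq_blockOf hM hind.1 hξ]
  · rw [← IsPBlock.eq_blockOf hM hind'.1 hξ', hdef]
  by_cases hx : ∃ y, IsConj x y ∧ y ∈ Subgroup.centralizer (D : Set (NH Q))
  · obtain ⟨y, hxy, hy⟩ := hx
    have hyz : IsConj y (z * y * z⁻¹) := isConj_iff.2 ⟨z, rfl⟩
    have hyd : p ^ centExp p y = Nat.card D := by
      rw [← centExp_of_isConj hxy, hxd, card_defectGroup hM hind.1 hD]
    have hzd : p ^ centExp p (z * y * z⁻¹) = Nat.card D' := by
      rw [← centExp_of_isConj hyz, hyd, hcard]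
    have h1 := centralChar_congr_unit_class hM hind hD hND hξ hχ hy hyd
    have h2 := centralChar_congr_unit_class hM hind' hD' hND' hξ' hχ ((hcen y).1 hy) hzd
    have h3 : IsConj (y : G) ((z * y * z⁻¹ : NH Q) : G) := (NH Q).subtype.map_isConj hyz
    rw [← centralChar_of_isConj χ h3, ← centralChar_of_isConj ξ' hyz,
      ← centralChar_of_isConj ξ' hxy] at h2
    rw [← centralChar_of_isConj ξ hxy] at h1
    exact LI.trans hM h1 (LI.sub_comm h2)
  · push Not at hx
    refine LI.sub hM ?_ ?_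
    · by_contra hne
      obtain ⟨y, hxy, hy⟩ := exists_conj_centralizes_defectGroup hM hind.1 hD hξ hne
      exact hx y hxy hy
    · by_contra hne
      obtain ⟨y, hxy, hy⟩ := exists_conj_centralizes_defectGroup hM hind'.1 hD' hξ' hne
      exact hx (z⁻¹ * y * z) (hxy.trans (isConj_iff.2 ⟨z⁻¹, by simp⟩))
        ((hcen _).2 (by simpa [mul_assoc] using hy))

/-! ### Translation from the intersection `N_G(Q) ⊓ N` -/

theorem isInducedBlock_of_in (hQN : Q ≤ N) {e : Set (IrrCharacter (NH Q ⊓ N : Subgroup G))}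
    {d : Set (IrrCharacter N)} (h : IsInducedBlockIn M N (NH Q ⊓ N) e d) :
    IsInducedBlock M (L N Q) (irrEquiv (isoInf hQN) '' e) d := by
  refine ⟨BrauerPairs.isPBlock_image _ h.1, h.2.1, ?_⟩
  rintro _ ⟨ξ, hξ, rfl⟩ θ hθ n
  have e1 : inducedCentralChar (L N Q) ((irrEquiv (isoInf hQN) ξ : IrrCharacter (L N Q)) : _ → ℂ) n
      = inducedCentralCharIn N (NH Q ⊓ N) (ξ : _ → ℂ) (n : G) := by
    rw [inducedCentralChar, inducedCentralCharIn]
    refine finsum_mem_eq_of_bijOn (isoInf hQN) ⟨?_, (isoInf hQN).injective.injOn, ?_⟩ fun k _ => ?_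
    · intro k hk
      obtain ⟨c, hc⟩ := isConj_iff.1 (hk : IsConj n (k : N)).symm
      exact ⟨c, congrArg Subtype.val hc⟩
    · rintro k ⟨x, hx⟩
      refine ⟨(isoInf hQN).symm k, ?_, (isoInf hQN).apply_symm_apply k⟩
      show IsConj n _
      exact (isConj_iff.2 ⟨x, Subtype.ext hx⟩ : IsConj (((isoInf hQN).symm k : L N Q) : N) n).symm
    · rw [irrEquiv_apply, irrEquiv_apply, map_one]
  rw [e1]
  exact h.2.2 ξ hξ θ hθ n

theorem over_translate (hQN : Q ≤ N) (ψ : IrrCharacter (NH Q))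
    (ξ : IrrCharacter (NH Q ⊓ N : Subgroup G)) :
    classInner (fun l : LH N Q => (ψ : NH Q → ℂ) l)
        (irrEquiv (isoL hQN) (irrEquiv (isoInf hQN) ξ) : LH N Q → ℂ)
      = classInner (fun l : (NH Q ⊓ N : Subgroup G) =>
          (ψ : NH Q → ℂ) (Subgroup.inclusion inf_le_left l)) (ξ : _ → ℂ) :=
  Char.classInner_reindex ((isoL (N := N) (Q := Q) hQN).trans (isoInf hQN))
    (fun l : (NH Q ⊓ N : Subgroup G) => (ψ : NH Q → ℂ) (Subgroup.inclusion inf_le_left l))
    (ξ : (NH Q ⊓ N : Subgroup G) → ℂ)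

/-- The Harris–Knörr correspondence. -/
theorem harris_knorr (hM : IsPModular p M) (hQ : IsPGroup p Q) (hQN : Q ≤ N)
    {d : Set (IrrCharacter N)} (hd : IsPBlock M d) (hdQ : IsDefectGroup p M d (Q.subgroupOf N))
    {e : Set (IrrCharacter (NH Q ⊓ N : Subgroup G))} (he : IsPBlock M e)
    (heQ : IsDefectGroup p M e (Q.subgroupOf (NH Q ⊓ N)))
    (hed : IsInducedBlockIn M N (NH Q ⊓ N) e d) :
    (∀ c : Set (IrrCharacter (NH Q)), IsPBlock M c → (∃ ψ ∈ c, ∃ ξ ∈ e,
        classInner (fun l : (NH Q ⊓ N : Subgroup G) =>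
          (ψ : NH Q → ℂ) (Subgroup.inclusion inf_le_left l)) (ξ : _ → ℂ) ≠ 0) →
      ∃! B : Set (IrrCharacter G), IsInducedBlock M (NH Q) c B ∧ ∃ χ ∈ B, Over χ d) ∧
    ∀ B : Set (IrrCharacter G), IsPBlock M B → (∃ χ ∈ B, Over χ d) →
      ∃! c : Set (IrrCharacter (NH Q)), (IsPBlock M c ∧ ∃ ψ ∈ c, ∃ ξ ∈ e,
        classInner (fun l : (NH Q ⊓ N : Subgroup G) =>
          (ψ : NH Q → ℂ) (Subgroup.inclusion inf_le_left l)) (ξ : _ → ℂ) ≠ 0) ∧
        IsInducedBlock M (NH Q) c B := by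
  set e' := irrEquiv (isoInf hQN) '' e
  have he' : IsPBlock M e' := BrauerPairs.isPBlock_image _ he
  have hQN' : IsPGroup p (Q.subgroupOf N) :=
    hQ.of_equiv (Subgroup.subgroupOfEquivOfLe hQN).symm
  haveI : ((Q.subgroupOf N).subgroupOf (L N Q)).Normal :=
    normal_subgroupOf_of_le_normalizer Subgroup.le_normalizer le_rfl
  have he'Q : IsDefectGroup p M e' ((Q.subgroupOf N).subgroupOf (L N Q)) :=
    isDefectGroup_of_normal_card hM he' (isPGroup_subgroupOf_normalizer hQN') (by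
      rw [blockDefect_image, ← card_defectGroup hM he heQ,
        Nat.card_congr (Subgroup.subgroupOfEquivOfLe Subgroup.le_normalizer).toEquiv,
        Nat.card_congr (Subgroup.subgroupOfEquivOfLe hQN).toEquiv,
        Nat.card_congr (Subgroup.subgroupOfEquivOfLe
          (le_inf Subgroup.le_normalizer hQN : Q ≤ NH Q ⊓ N)).toEquiv])
  have hed' : IsInducedBlock M (L N Q) e' d := isInducedBlock_of_in hQN hed
  have hto : ∀ c : Set (IrrCharacter (NH Q)), (∃ ψ ∈ c, ∃ ξ ∈ e,
      classInner (fun l : (NH Q ⊓ N : Subgroup G) =>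
        (ψ : NH Q → ℂ) (Subgroup.inclusion inf_le_left l)) (ξ : _ → ℂ) ≠ 0) →
      ∃ ψ ∈ c, ∃ η ∈ e', classInner (fun l : LH N Q => (ψ : NH Q → ℂ) l)
        (irrEquiv (isoL hQN) η : LH N Q → ℂ) ≠ 0 := by
    rintro c ⟨ψ, hψ, ξ, hξ, h⟩
    exact ⟨ψ, hψ, _, ⟨ξ, hξ, rfl⟩, by rwa [over_translate]⟩
  refine ⟨fun c hc hcov => ?_, fun B hB ⟨χ, hχ, hover⟩ => ?_⟩
  · obtain ⟨B, hind⟩ := exists_isInducedBlock_local hM hQ Subgroup.le_normalizer
      (centralizer_le_normalizer Q) le_rfl hc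
    obtain ⟨χ, hχ⟩ := IsPBlock.nonempty hM hind.2.1
    obtain ⟨ψ, hψ, η, hη, hne⟩ := hto c hcov
    exact ⟨B, ⟨hind, χ, hχ, over_of_induced hM hQN hd hed' hψ hη hne hind hχ⟩,
      fun B' hB' => IsInducedBlock.unique hM hB'.1 hind⟩
  · obtain ⟨c, hind, ψ, hψ, η, ⟨ξ, hξ, rfl⟩, hne⟩ :=
      exists_inducing hM hQ hQN hd hdQ he' he'Q hed' hB hχ hover
    rw [over_translate] at hne
    exact ⟨c, ⟨⟨hind.1, ψ, hψ, ξ, hξ, hne⟩, hind⟩, fun c' hc' =>
      eq_of_induced hM hQ hQN he' he'Q (hto c' hc'.1.2) (hto c ⟨ψ, hψ, ξ, hξ, hne⟩) hc'.2 hind⟩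

end Setting

end CfsgLib.Blocks.HarrisKnorr
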