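import Cfsg.Agent.Lib.Blocks.PrincipalType
import Cfsg.Agent.Lib.CharDeep.Relative
import Cfsg.Agent.Lib.CharDeep.Glauberman.CoprimeDegree

/-!
# Heights in blocks of `p`-solvable groups and the centre of a defect group

After the reduction to the stabilizer of a character of the `p'`-core the defect groups are Sylow
subgroups and their centres lie in a normal subgroup `A` which is abelian modulo the core.
-/

set_option autoImplicit false
set_option linter.unusedSectionVars false

namespace CfsgLib.Blocks.HeightCenter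

open Cfsg CfsgLib.Blocks CfsgLib.Blocks.FongReynolds CfsgLib.Blocks.CoverDefect
  CfsgLib.Blocks.StableOver CfsgLib.CharDeep.Clifford
open scoped Classical

universe u

/-- With an abelian quotient of coprime order the characters over an invariant one extend it. -/
theorem deg_eq_of_coprime_abelian {A : Type u} [Group A] [Fintype A] (K : Subgroup A) [K.Normal]
    [Fintype K] (hcop : (Nat.card K).Coprime K.index)
    (hab : ∀ x y : A, x * y * x⁻¹ * y⁻¹ ∈ K) (θ : IrrCharacter K)
    (hinv : ∀ (g : A) (n : K), (θ : K → ℂ) ⟨g * n * g⁻¹,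
      (inferInstance : K.Normal).conj_mem (n : A) n.2 g⟩ = (θ : K → ℂ) n)
    (ψ : IrrCharacter A) (h : classInner (fun n : K => (ψ : A → ℂ) n) (θ : K → ℂ) ≠ 0) :
    charDegree (ψ : A → ℂ) = charDegree (θ : K → ℂ) := by
  have hT : CfsgLib.Char.IsInertia (θ : K → ℂ) (⊤ : Subgroup A) := fun g =>
    ⟨fun _ => hinv g, fun _ => Subgroup.mem_top g⟩
  have hab' : ∀ x ∈ (⊤ : Subgroup A), ∀ y ∈ (⊤ : Subgroup A), x * y * x⁻¹ * y⁻¹ ∈ K :=
    fun x _ y _ => hab x y
  obtain ⟨e, C, -, -, hCe, hall, -, -⟩ :=
    CfsgLib.Char.exists_abelian_constituents le_top θ.2 hT hab'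
  have he : e = 1 := CfsgLib.Char.multiplicity_eq_one_of_coprime le_top θ.2 hT hab'
    (by rwa [Subgroup.relIndex_top_right]) hCe hall
  have hψ : IsIrrCharacter (⊤ : Subgroup A) fun x : (⊤ : Subgroup A) => (ψ : A → ℂ) x :=
    CfsgLib.Char.IsIrrCharacter.comp_equiv ψ.2 Subgroup.topEquiv
  have h1 : (ψ : A → ℂ) 1 = (e : ℂ) * (θ : K → ℂ) 1 := (hCe _ (hall _ hψ h)).2
  rw [irr_one_eq ψ, irr_one_eq θ, he, Nat.cast_one, one_mul] at h1
  exact_mod_cast h1

variable {p : ℕ} {M : Ideal AlgInt}

/-- The case of an invariant character of the core. -/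
theorem height_le_of_invariant {G : Type u} [Group G] [Fintype G] (hM : IsPModular p M)
    (hsolv : IsPSolvable p G) {B : Set (IrrCharacter G)} (hB : IsPBlock M B) {D : Subgroup G}
    (hD : IsDefectGroup p M B D) {χ : IrrCharacter G} (hχ : χ ∈ B)
    (K : Subgroup G) [K.Normal] [Fintype K] (hKeq : K = pPrimeCore p G) (θ : IrrCharacter K)
    (hover : classInner (fun n : K => (χ : G → ℂ) n) (θ : K → ℂ) ≠ 0)
    (hθ : ∀ g : G, conjIrr g θ = θ) :
    blockHeight p B (χ : G → ℂ) ≤ ((Subgroup.center D).index).factorization p := by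
  have hp : p.Prime := hM.1
  haveI := Fact.mk hp
  set q := QuotientGroup.mk' K
  have hq : Function.Surjective q := QuotientGroup.mk'_surjective K
  have hKc : (Nat.card K).Coprime p := hKeq ▸ CfsgLib.Solvable.Cores.coprime_card_pPrimeCore p
  have hK : ¬ p ∣ Nat.card K := fun h => hp.coprime_iff_not_dvd.1 hKc.symm h
  set R := pCore p (G ⧸ K)
  have hRp : IsPGroup p R := CfsgLib.Solvable.Cores.isPGroup_pCore p
  have hCR : Subgroup.centralizer (R : Set (G ⧸ K)) ≤ R :=
    CfsgLib.Fusion.PSolvable.centralizer_pCore_le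
      (CfsgLib.Fusion.PSolvable.psolvable_quotient hsolv K)
      (by subst hKeq; exact CfsgLib.Components.pPrimeCore_quotient_eq_bot)
  set L := R.comap q
  have hKL : K ≤ L := QuotientGroup.le_comap_mk' K R
  have hLR : L.map q = R := Subgroup.map_comap_eq_self_of_surjective hq R
  obtain ⟨k, hk⟩ := IsPGroup.iff_card.1 hRp
  have hidx : K.relIndex L = p ^ k := by
    rw [← hk, ← hLR, ← Subgroup.relIndex_ker, QuotientGroup.ker_mk']
  obtain ⟨S⟩ : Nonempty (Sylow p L) := inferInstance
  set Q := (S : Subgroup L).map L.subtype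
  have hQL : Q ≤ L := Subgroup.map_subtype_le _
  have hQp : IsPGroup p Q := S.2.map _
  have hQS : ¬ p ∣ Q.relIndex L := by
    rw [Subgroup.relIndex, Subgroup.subgroupOf,
      Subgroup.comap_map_eq_self_of_injective L.subtype_injective]
    exact S.not_dvd_index
  have hQR : R ≤ Q.map q := by
    have h1 : (Q.map q).relIndex (L.map q) ∣ Q.relIndex L := by
      rw [Subgroup.relIndex_map_map, QuotientGroup.ker_mk', sup_eq_left.2 hKL]
      exact Subgroup.relIndex_dvd_of_le_left L le_sup_left
    rw [hLR] at h1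
    obtain ⟨j, hj⟩ := hRp.index ((Q.map q).subgroupOf R)
    rw [Subgroup.relIndex, hj] at h1
    rcases Nat.eq_zero_or_pos j with rfl | hj0
    · rw [pow_zero] at hj
      exact Subgroup.relIndex_eq_one.1 hj
    · exact absurd ((dvd_pow_self p hj0.ne').trans h1) hQS
  have hCQ : Subgroup.centralizer (Q : Set G) ≤ L := by
    intro x hx
    show q x ∈ R
    refine hCR (Subgroup.mem_centralizer_iff.2 fun a ha => ?_)
    obtain ⟨b, hb, rfl⟩ := hQR ha
    rw [← map_mul, ← map_mul, Subgroup.mem_centralizer_iff.1 hx b hb]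
  obtain ⟨hB₀, -, hD₀⟩ := PrincipalType.block_over (θ := θ) (Q := Q) hM hK hKL hidx hQL hQp hQS hCQ hθ
    (B := {χ : IrrCharacter G | classInner (fun k : K => (χ : G → ℂ) k) (θ : K → ℂ) ≠ 0})
    (fun _ => Iff.rfl)
  have hBB := IsPBlock.eq_of_mem hM hB hB₀ hχ hover
  obtain ⟨S', rfl⟩ := hD₀ D (hBB ▸ hD)
  -- the defect is full
  have hdef : blockDefect p B = (Nat.card G).factorization p := by
    have h := card_defectGroup hM hB hD
    rw [S'.card_eq_multiplicity] at h
    exact (Nat.pow_right_injective hp.two_le h).symm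
  have hmin : minDegVal p B = 0 := by
    have := blockDefect_add_min (p := p) (IsPBlock.nonempty hM hB)
    omega
  -- the normal subgroup containing the centre
  set W := R ⊓ Subgroup.centralizer (R : Set (G ⧸ K)) with hW
  haveI : W.Normal := inferInstance
  set A := W.comap q
  haveI : A.Normal := inferInstance
  have hKA : K ≤ A := QuotientGroup.le_comap_mk' K W
  set Z := (Subgroup.center (S' : Subgroup G)).map (S' : Subgroup G).subtype
  have hZA : Z ≤ A := by
    rintro _ ⟨z, hz, rfl⟩
    have hzc : q (z : G) ∈ Subgroup.centralizer (R : Set (G ⧸ K)) := by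
      refine Subgroup.mem_centralizer_iff.2 fun a ha => ?_
      have h1 : a ∈ (S' : Subgroup G).map q := by
        have := CfsgLib.Solvable.Cores.pCore_le_sylow (S'.mapSurjective hq) ha
        rwa [Sylow.coe_mapSurjective] at this
      obtain ⟨b, hb, rfl⟩ := h1
      rw [← map_mul, ← map_mul]
      exact congrArg q (congrArg Subtype.val (Subgroup.mem_center_iff.1 hz ⟨b, hb⟩))
    exact ⟨hCR hzc, hzc⟩
  -- degrees
  letI : Fintype A := Fintype.ofFinite A
  obtain ⟨η, hη⟩ := CfsgLib.Blocks.exists_over (N := A) χ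
  haveI : (K.subgroupOf A).Normal := inferInstance
  letI : Fintype (K.subgroupOf A) := Fintype.ofFinite _
  let ε : K.subgroupOf A ≃* K := Subgroup.subgroupOfEquivOfLe hKA
  set θA : IrrCharacter (K.subgroupOf A) :=
    ⟨(θ : K → ℂ) ∘ ε, CfsgLib.Char.IsIrrCharacter.comp_equiv θ.2 ε⟩
  have hinvG : ∀ (g : G) (n : K), (θ : K → ℂ) ⟨g * n * g⁻¹,
      (inferInstance : K.Normal).conj_mem (n : G) n.2 g⟩ = (θ : K → ℂ) n := fun g n => by
    exact (conjFun_apply K g (θ : K → ℂ) n).symm.trans (congrFun (congrArg Subtype.val (hθ g)) n)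
  have hover' : classInner (fun n : K.subgroupOf A => (η : A → ℂ) n)
      (θA : K.subgroupOf A → ℂ) ≠ 0 := by
    obtain ⟨φ, hφ⟩ := CfsgLib.Blocks.exists_over (N := K.subgroupOf A) η
    have h1 := classInner_ne_zero_trans
      (CfsgLib.Char.IsCharacter.restrict (CfsgLib.Char.isCharacter_irr χ) A) η.2 hη
      (K.subgroupOf A).subtype (CfsgLib.Char.isCharacter_irr φ) hφ
    obtain ⟨e, -, -, hres⟩ := restrict_eq_smul K χ.2 θ.2 hover hinvG
    have h2 : ((fun a : A => (χ : G → ℂ) a) ∘ (K.subgroupOf A).subtype)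
        = (e : ℂ) • (θA : K.subgroupOf A → ℂ) := funext fun n => congrFun hres (ε n)
    rw [h2, CfsgLib.Char.classInner_smul_left] at h1
    have h3 : θA = φ := by
      by_contra hne
      exact right_ne_zero_of_mul h1
        (CfsgLib.Char.classInner_irr_ne θA.2 φ.2 fun h => hne (Subtype.ext h))
    rw [h3]
    exact hφ
  have hKidx : ∃ j, (K.subgroupOf A).index = p ^ j := by
    obtain ⟨j, hj⟩ := IsPGroup.iff_card.1 (hRp.to_le (inf_le_left (b :=
      Subgroup.centralizer (R : Set (G ⧸ K)))))
    refine ⟨j, ?_⟩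
    show K.relIndex A = p ^ j
    rw [← hj, ← hW, show Nat.card W = Nat.card (A.map q) by
      rw [Subgroup.map_comap_eq_self_of_surjective hq W], ← Subgroup.relIndex_ker,
      QuotientGroup.ker_mk']
  have hdη : charDegree (η : A → ℂ) = charDegree (θA : K.subgroupOf A → ℂ) := by
    refine deg_eq_of_coprime_abelian (K.subgroupOf A) ?_ ?_ θA ?_ η hover'
    · obtain ⟨j, hj⟩ := hKidx
      rw [Nat.card_congr ε.toEquiv, hj]
      exact hKc.pow_right j
    · intro x y
      show ((x * y * x⁻¹ * y⁻¹ : A) : G) ∈ K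
      rw [← QuotientGroup.eq_one_iff]
      have h1 : q (x : G) * q (y : G) = q (y : G) * q (x : G) :=
        Subgroup.mem_centralizer_iff.1 y.2.2 _ x.2.1
      show q ((x : G) * y * (x : G)⁻¹ * (y : G)⁻¹) = 1
      rw [map_mul, map_mul, map_mul, map_inv, map_inv, h1, mul_inv_cancel_right, mul_inv_cancel]
    · intro g n
      exact hinvG (g : G) (ε n)
  have hθdeg : (charDegree (θA : K.subgroupOf A → ℂ)).factorization p = 0 := by
    refine Nat.factorization_eq_zero_of_not_dvd fun h => hK ?_
    rw [← Nat.card_congr ε.toEquiv]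
    exact h.trans (CfsgLib.DegreeTools.deg_dvd_card θA)
  obtain ⟨d, hd, hdvd⟩ := CfsgLib.CharDeep.Relative.degree_ratio_dvd χ.2 A η.2 hη
  have hdeg : charDegree (χ : G → ℂ) = d * charDegree (η : A → ℂ) := by
    rw [irr_one_eq, irr_one_eq] at hd
    exact_mod_cast hd
  have hd0 : d ≠ 0 := fun h => (charDegree_pos χ).ne' (by rw [hdeg, h, zero_mul])
  have hν : degVal p χ ≤ A.index.factorization p := by
    rw [degVal, hdeg, Nat.factorization_mul hd0 (charDegree_pos η).ne', Finsupp.add_apply, hdη,
      hθdeg, add_zero]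
    exact (Nat.factorization_le_iff_dvd hd0 Subgroup.index_ne_zero_of_finite).2 hdvd p
  -- compare indices
  have hZc : Nat.card Z = Nat.card (Subgroup.center (S' : Subgroup G)) :=
    Subgroup.card_map_of_injective (S' : Subgroup G).subtype_injective
  have h1 : (Nat.card Z).factorization p ≤ (Nat.card A).factorization p :=
    (Nat.factorization_le_iff_dvd Nat.card_pos.ne' Nat.card_pos.ne').2
      (Subgroup.card_dvd_of_le hZA) p
  have h2 : (Nat.card G).factorization p
      = A.index.factorization p + (Nat.card A).factorization p := by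
    rw [← Subgroup.index_mul_card A, Nat.factorization_mul Subgroup.index_ne_zero_of_finite
      Nat.card_pos.ne', Finsupp.add_apply]
  have h3 : (Nat.card (S' : Subgroup G)).factorization p
      = (Subgroup.center (S' : Subgroup G)).index.factorization p + (Nat.card Z).factorization p := by
    rw [hZc, ← Subgroup.index_mul_card (Subgroup.center (S' : Subgroup G)),
      Nat.factorization_mul Subgroup.index_ne_zero_of_finite Nat.card_pos.ne', Finsupp.add_apply]
  have h4 : (Nat.card (S' : Subgroup G)).factorization p = (Nat.card G).factorization p := by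
    rw [S'.card_eq_multiplicity, hp.factorization_pow, Finsupp.single_eq_same]
  rw [blockHeight_eq, hmin]
  omega

/-- Isomorphic groups have centres of equal index. -/
theorem center_index_congr {A B : Type*} [Group A] [Group B] (e : A ≃* B) :
    (Subgroup.center A).index = (Subgroup.center B).index := by
  have h : (Subgroup.center B).comap e.toMonoidHom = Subgroup.center A := by
    ext x
    simp only [Subgroup.mem_comap, MulEquiv.coe_toMonoidHom, Subgroup.mem_center_iff]
    exact ⟨fun hx a => e.injective (by rw [map_mul, map_mul, hx]),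
      fun hx b => e.symm.injective (by simp [hx])⟩
  rw [← h]
  exact (Subgroup.center B).index_comap_of_surjective (f := e.toMonoidHom) e.surjective

theorem height_le_aux (hM : IsPModular p M) : ∀ (n : ℕ) {G : Type u} [Group G] [Fintype G],
    Nat.card G = n → IsPSolvable p G → ∀ {B : Set (IrrCharacter G)}, IsPBlock M B →
      ∀ {D : Subgroup G}, IsDefectGroup p M B D → ∀ {χ : IrrCharacter G}, χ ∈ B →
      blockHeight p B (χ : G → ℂ) ≤ ((Subgroup.center D).index).factorization p := by
  intro n
  induction n using Nat.strong_induction_on with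
  | h n ih =>
  intro G _ _ hn hsolv B hB D hD χ hχ
  haveI := Fact.mk hM.1
  set K := pPrimeCore p G
  letI : Fintype K := Fintype.ofFinite K
  have hK : ¬ p ∣ Nat.card K := fun h =>
    hM.1.coprime_iff_not_dvd.1 (CfsgLib.Solvable.Cores.coprime_card_pPrimeCore p).symm h
  obtain ⟨θ, hθ⟩ := CfsgLib.Blocks.exists_over (N := K) χ
  have hb := (isPBlock_singleton hM hK θ).1
  set T := stabilizer hM hb with hTdef
  have hT := mem_stabilizer hM hb
  have hNT : K ≤ T := le_stabilizer hM hb
  by_cases htop : T = ⊤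
  · exact height_le_of_invariant hM hsolv hB hD hχ K rfl θ hθ fun g =>
      Set.mem_singleton_iff.1 ((hT g).1 (show g ∈ T by rw [htop]; exact Subgroup.mem_top g) θ rfl)
  letI : Fintype T := Fintype.ofFinite T
  obtain ⟨B', hB', hcov, hind⟩ := exists_inducing hNT hM hb hT hB ⟨χ, hχ, θ, rfl, hθ⟩
  obtain ⟨B₂, hi, -, -, hiff⟩ := exists_induced hNT hM hb hT hB' hcov
  rw [← IsInducedBlock.unique hM hind hi] at hiff
  obtain ⟨ψ, hψ, he⟩ := (hiff χ).1 hχ
  obtain ⟨hdg, hht⟩ := defectGroup_and_height hNT hM hb hT hB' hcov hind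
  obtain ⟨χ', -, he', hh⟩ := hht ψ hψ
  obtain ⟨D', hD'⟩ := exists_isDefectGroup hM hB'
  obtain ⟨y, hy⟩ := exists_conj_eq_defectGroup hM hB (hdg D' hD') hD
  have hlt : Nat.card T < n := hn ▸ lt_of_le_of_ne (Subgroup.card_le_card_group T)
    fun h => htop (Subgroup.eq_top_of_card_eq T h)
  have := ih _ hlt rfl (CfsgLib.Fusion.PSolvable.psolvable_subgroup hsolv T) hB' hD' hψ
  rw [← hh, he', ← he] at this
  refine this.trans (le_of_eq ?_)
  subst hy
  exact congrArg (fun m : ℕ => m.factorization p) (center_index_congr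
    ((D'.equivMapOfInjective _ T.subtype_injective).trans
      ((D'.map T.subtype).equivMapOfInjective _ (MulAut.conj y).injective)))

theorem height_le {G : Type u} [Group G] [Fintype G] (hM : IsPModular p M)
    (hsolv : IsPSolvable p G) {B : Set (IrrCharacter G)} (hB : IsPBlock M B) {D : Subgroup G}
    (hD : IsDefectGroup p M B D) {χ : IrrCharacter G} (hχ : χ ∈ B) :
    blockHeight p B (χ : G → ℂ) ≤ ((Subgroup.center D).index).factorization p :=
  height_le_aux hM _ rfl hsolv hB hD hχ

end CfsgLib.Blocks.HeightCenter
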