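import Cfsg.Agent.Lib.Blocks.DefectBound
import Cfsg.Agent.Lib.Blocks.PrincipalColumns
import Cfsg.Agent.Lib.Blocks.SectionCentral

/-!
# Characters of height zero and a small centralizer
-/

set_option autoImplicit false

namespace CfsgLib.Blocks.HeightZeroCount

open Cfsg CfsgLib.Blocks
open scoped Classical ComplexConjugate

variable {G : Type*} [Group G] [Fintype G] {p : ℕ} {M : Ideal AlgInt} {K : Subgroup G}

/-- `k(B)^2 ≤ p^(2d) l(b)` for a major subsection on a set of members of height zero. -/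
theorem card_sq_le_of_set (hM : IsPModular p M) {B : Set (IrrCharacter G)}
    {b : Set (IrrCharacter K)} {x : G} (hK : K = Subgroup.centralizer ({x} : Set G))
    (hx : ∃ k : ℕ, orderOf x = p ^ k) (hind : IsInducedBlock M K b B)
    (T : Finset (IrrCharacter G)) (hh : ∀ χ ∈ T, χ ∈ B ∧ degVal p χ = minDegVal p B) :
    T.card ^ 2 ≤ p ^ (2 * blockDefect p b) * blockRank p b := by
  obtain ⟨k, hk⟩ := hx
  have hxK : x ∈ K := by rw [hK, Subgroup.mem_centralizer_singleton_iff]
  set z : K := ⟨x, hxK⟩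
  have hzx : (z : G) = x := rfl
  have hz : z ∈ Subgroup.center K := by
    rw [Subgroup.mem_center_iff]
    intro c
    exact Subtype.ext (Subgroup.mem_centralizer_singleton_iff.1 (hK ▸ c.2))
  have hzk : z ^ p ^ k = 1 := Subtype.ext (by
    rw [Subgroup.coe_pow, Subgroup.coe_one, ← hk]; exact pow_orderOf_eq_one x)
  haveI : NeZero (p ^ k) := ⟨pow_ne_zero _ hM.1.ne_zero⟩
  set ζ := Complex.exp (2 * Real.pi * Complex.I / (p ^ k : ℕ))
  have hζ : IsPrimitiveRoot ζ (p ^ k) := Complex.isPrimitiveRoot_exp _ (NeZero.ne _)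
  set m := minDegVal p b
  let X : IrrCharacter G × IrrCharacter G → ℂ := fun i => contrib p x K b i.1 i.2 / (p : ℂ) ^ m
  set s := Finset.univ.filter fun i => X i ≠ 0
  have hp0 : (p : ℂ) ^ m ≠ 0 := pow_ne_zero _ (by exact_mod_cast hM.1.ne_zero)
  have hq : (pPartCard p K : ℂ) = (p : ℂ) ^ m * (p : ℂ) ^ blockDefect p b := by
    rw [pPartCard, Nat.cast_pow, ← pow_add, add_comm,
      blockDefect_add_min (p := p) (IsPBlock.nonempty hM hind.1)]
  have hsum : ∑ i ∈ s, X i * conj (X i)
      = (((p ^ (2 * blockDefect p b) * blockRank p b : ℕ) : ℚ) : ℂ) := by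
    rw [Finset.sum_filter_of_ne (fun i _ (h : X i * conj (X i) ≠ 0) => left_ne_zero_of_mul h),
      ← Finset.univ_product_univ, Finset.sum_product]
    simp only [X, map_div₀, map_pow, map_natCast, conj_contrib hM.1 hzx hz, div_mul_div_comm,
      ← Finset.sum_div]
    rw [sum_contrib_sq hM hK ⟨k, hk⟩ hind.1, hq]
    push_cast
    field_simp
    ring
  have hle := card_le_of_sum_normSq s (pow_pos hM.1.pos k) hζ.pow_eq_one X
    (fun i _ => contrib_div_mem_adjoin hM hzx hz i.1 i.2 hζ hzk)
    (fun i hi => (Finset.mem_filter.1 hi).2) hsum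
  have hsub : T ×ˢ T ⊆ s := by
    intro i hi
    rw [Finset.mem_product] at hi
    exact Finset.mem_filter.2 ⟨Finset.mem_univ _, div_ne_zero
      (contrib_ne_zero_of_min hM hind hzx hz hzk (hh _ hi.1).1 (hh _ hi.2).1 (hh _ hi.1).2
        (hh _ hi.2).2) hp0⟩
  have h2 := Finset.card_le_card hsub
  rw [Finset.card_product] at h2
  rw [sq]
  exact h2.trans (by exact_mod_cast hle)

/-- A block with a central defect group has rank at most one. -/
theorem blockRank_le_one_of_central (hM : IsPModular p M) {H : Type*} [Group H] [Fintype H]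
    {b : Set (IrrCharacter H)} (hb : IsPBlock M b) {P : Subgroup H} (hPZ : P ≤ Subgroup.center H)
    (hD : IsDefectGroup p M b P) : blockRank p b ≤ 1 := by
  obtain ⟨hag, -⟩ := SectionCentral.central_members hM hb hPZ hD
  obtain ⟨θ, hθ⟩ := IsPBlock.nonempty hM hb
  have hsub : (fun χ : IrrCharacter H => pRegularPart p (χ : H → ℂ)) '' b
      ⊆ ({pRegularPart p (θ : H → ℂ)} : Set (H → ℂ)) := by
    rintro _ ⟨ψ, hψ, rfl⟩
    rw [Set.mem_singleton_iff]
    funext g
    simp only [pRegularPart_apply]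
    split_ifs with hg
    · exact hag ψ hψ θ hθ g hg
    · rfl
  rw [blockRank]
  refine (Submodule.finrank_mono (Submodule.span_mono hsub)).trans ?_
  exact (finrank_span_le_card ({pRegularPart p (θ : H → ℂ)} : Set (H → ℂ))).trans_eq (by simp)

end CfsgLib.Blocks.HeightZeroCount
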