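import Cfsg.Agent.Lib.Blocks.Height
import Cfsg.Agent.Lib.Blocks.Defect
import Cfsg.Agent.Lib.Char.Constituent
import Cfsg.Agent.Lib.Char.Linear

/-!
# Height zero characters have linear constituents on a defect group
-/

set_option autoImplicit false

namespace CfsgLib.Blocks

open Cfsg
open scoped Classical ComplexConjugate

variable {G : Type*} [Group G] [Fintype G] {p : ℕ} {M : Ideal AlgInt} {B : Set (IrrCharacter G)}

/-- The value of a height-zero character at a defect class is a unit. -/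
theorem not_LI_apply_defectClass (hM : IsPModular p M) (hB : IsPBlock M B) {χ : IrrCharacter G}
    (hχ : χ ∈ B) (h0 : blockHeight p B (χ : G → ℂ) = 0) {s : G} (hs : IsDefectClass M B s) :
    ¬ MemLocalIdeal M ((χ : G → ℂ) s) := by
  set C := Subgroup.centralizer ({s} : Set G)
  set d := charDegree (χ : G → ℂ)
  have hv : C.index.factorization p = d.factorization p := by
    have h1 := (blockHeight_eq_zero_iff hχ).1 h0
    have h2 := blockDefect_add_min (p := p) (IsPBlock.nonempty hM hB)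
    have h3 := index_factorization_add (p := p) s
    rw [centExp_eq_of_isDefectClass hM hB hs] at h3
    simp only [degVal] at h1
    simp only [C, d]
    omega
  intro hI
  set i := C.index / p ^ C.index.factorization p
  set c := d / p ^ d.factorization p
  have hi : C.index = p ^ C.index.factorization p * i := (Nat.ordProj_mul_ordCompl_eq_self _ p).symm
  have hc : d = p ^ d.factorization p * c := (Nat.ordProj_mul_ordCompl_eq_self _ p).symm
  have he : (C.index : ℂ) * (χ : G → ℂ) s = centralChar (χ : G → ℂ) s * (d : ℂ) := by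
    rw [centralChar, div_mul_eq_mul_div, ← irr_one_eq χ, mul_div_cancel_right₀ _ (irr_one_ne_zero χ)]
  have he' : (i : ℂ) * (χ : G → ℂ) s = centralChar (χ : G → ℂ) s * (c : ℂ) := by
    have hp0 : ((p : ℂ) ^ d.factorization p) ≠ 0 :=
      pow_ne_zero _ (by exact_mod_cast hM.1.ne_zero)
    refine mul_left_cancel₀ hp0 ?_
    rw [hi, hv, hc] at he
    push_cast at he
    rw [← hc] at he
    linear_combination he
  have h1 : MemLocalIdeal M (centralChar (χ : G → ℂ) s * (c : ℂ)) :=
    he' ▸ LI.mul_left hM (LR.natCast hM i) hI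
  rcases LI.mem_or_mem hM (centralChar_LR hM χ s) (LR.natCast hM c) h1 with h2 | h2
  · exact hs.2.2 χ hχ h2
  · exact Nat.not_dvd_ordCompl hM.1 (charDegree_pos χ).ne' ((LI.natCast_iff hM c).1 h2)

/-- Some linear character of a defect group is a constituent of a height-zero character. -/
theorem exists_linear_constituent (hM : IsPModular p M) (hB : IsPBlock M B) {D : Subgroup G}
    (hD : IsDefectGroup p M B D) {χ : IrrCharacter G} (hχ : χ ∈ B)
    (h0 : blockHeight p B (χ : G → ℂ) = 0) :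
    ∃ μ : D →* ℂˣ, classInner (fun u : D => (χ : G → ℂ) u) (fun u => (μ u : ℂ)) ≠ 0 := by
  haveI := Fact.mk hM.1
  obtain ⟨s, hs, P, hP⟩ := hD
  have hDp : IsPGroup p D := hP ▸ IsPGroup.map P.isPGroup' _
  set C := Subgroup.centralizer ({s} : Set G)
  set E := D ⊔ Subgroup.zpowers s
  have hEC : E ≤ C := sup_le (hP.trans_le (Subgroup.map_subtype_le _))
    (Subgroup.zpowers_le.2 (Subgroup.mem_centralizer_singleton_iff.2 rfl))
  set sE : E := ⟨s, Subgroup.mem_sup_right (Subgroup.mem_zpowers s)⟩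
  set j : D →* E := Subgroup.inclusion le_sup_left
  have hres := CfsgLib.Char.IsCharacter.restrict (CfsgLib.Char.isCharacter_irr χ) E
  obtain ⟨m, hm, hexp⟩ := CfsgLib.Char.IsCharacter.exists_multiplicity hres
  obtain ⟨ψ, hψ, hψp⟩ : ∃ ψ : IrrCharacter E, m ψ ≠ 0 ∧ ¬ p ∣ charDegree (ψ : E → ℂ) := by
    by_contra hcon
    push Not at hcon
    refine not_LI_apply_defectClass hM hB hχ h0 hs ?_
    rw [show (χ : G → ℂ) s = _ from hexp sE]
    refine LI.sum hM fun ψ _ => ?_
    by_cases hψ : m ψ = 0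
    · rw [hψ, Nat.cast_zero, zero_mul]; exact LI.zero hM
    have hcent : Subgroup.centralizer ({sE} : Set E) = ⊤ := by
      rw [eq_top_iff]
      exact fun u _ => Subgroup.mem_centralizer_singleton_iff.2
        (Subtype.ext (Subgroup.mem_centralizer_singleton_iff.1 (hEC u.2)))
    have e : (ψ : E → ℂ) sE = centralChar (ψ : E → ℂ) sE * (charDegree (ψ : E → ℂ) : ℂ) := by
      rw [centralChar, hcent, Subgroup.index_top, Nat.cast_one, one_mul, ← irr_one_eq,
        div_mul_cancel₀ _ (irr_one_ne_zero ψ)]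
    rw [e]
    exact LI.mul_left hM (LR.natCast hM _) (LI.mul_left hM (centralChar_LR hM ψ sE)
      ((LI.natCast_iff hM _).2 (hcon ψ hψ)))
  have hres' := CfsgLib.Char.IsCharacter.comp (CfsgLib.Char.isCharacter_irr ψ) j
  obtain ⟨n, hn, hexp'⟩ := CfsgLib.Char.IsCharacter.exists_multiplicity hres'
  obtain ⟨φ, hφ, hφp⟩ : ∃ φ : IrrCharacter D, n φ ≠ 0 ∧ ¬ p ∣ charDegree (φ : D → ℂ) := by
    by_contra hcon
    push Not at hcon
    refine hψp ((LI.natCast_iff hM _).1 ?_)
    rw [← irr_one_eq ψ, show (ψ : E → ℂ) 1 = ((ψ : E → ℂ) ∘ j) 1 by simp, hexp' 1]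
    refine LI.sum hM fun φ _ => ?_
    by_cases hφ : n φ = 0
    · rw [hφ, Nat.cast_zero, zero_mul]; exact LI.zero hM
    rw [irr_one_eq φ]
    exact LI.mul_left hM (LR.natCast hM _) ((LI.natCast_iff hM _).2 (hcon φ hφ))
  obtain ⟨k, hk⟩ := IsPGroup.iff_card.1 hDp
  obtain ⟨l, -, hl⟩ := (Nat.dvd_prime_pow hM.1).1 (hk ▸ charDegree_dvd φ)
  have hφ1 : (φ : D → ℂ) 1 = 1 := by
    rcases Nat.eq_zero_or_pos l with rfl | hlp
    · rw [irr_one_eq, hl, pow_zero, Nat.cast_one]
    · exact absurd (hl ▸ dvd_pow_self p hlp.ne') hφp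
  obtain ⟨μ, hμ⟩ :=
    CfsgLib.Char.exists_hom_of_apply_one_eq_one (CfsgLib.Char.isCharacter_irr φ) hφ1
  refine ⟨μ, ?_⟩
  rw [← hμ]
  have hsum : classInner (fun u : D => (χ : G → ℂ) u) (φ : D → ℂ)
      = ∑ ψ : IrrCharacter E, (m ψ : ℂ) * classInner ((ψ : E → ℂ) ∘ j) (φ : D → ℂ) := by
    simp only [classInner, Function.comp_apply, Finset.mul_sum]
    rw [Finset.sum_comm]
    refine Finset.sum_congr rfl fun u _ => ?_
    rw [show (χ : G → ℂ) u = _ from hexp (j u), Finset.sum_mul, Finset.mul_sum]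
    exact Finset.sum_congr rfl fun ψ _ => by ring
  have hnat : ∀ ψ' : IrrCharacter E, ∃ t : ℕ, classInner ((ψ' : E → ℂ) ∘ j) (φ : D → ℂ) = t :=
    fun ψ' => CfsgLib.Char.IsCharacter.classInner_nat
      (CfsgLib.Char.IsCharacter.comp (CfsgLib.Char.isCharacter_irr ψ') j)
      (CfsgLib.Char.isCharacter_irr φ)
  choose t ht using hnat
  rw [hsum]
  simp only [ht]
  exact_mod_cast (Finset.sum_pos' (fun ψ' _ => Nat.zero_le (m ψ' * t ψ'))
    ⟨ψ, Finset.mem_univ _, Nat.pos_of_ne_zero (mul_ne_zero hψ fun h => hφ (by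
      have := (hn φ).symm.trans (ht ψ)
      rw [h] at this; exact_mod_cast this))⟩).ne'

/-- A linear constituent agrees with the central character on a central subgroup. -/
theorem linear_constituent_eq_of_central {D : Subgroup G} (μ : D →* ℂˣ) (χ : IrrCharacter G)
    (h : classInner (fun u : D => (χ : G → ℂ) u) (fun u => (μ u : ℂ)) ≠ 0)
    {z : D} {a : ℂ} (hz : ∀ g, (χ : G → ℂ) (g * z) = a * (χ : G → ℂ) g) : a = (μ z : ℂ) := by
  have hshift : classInner (fun u : D => (χ : G → ℂ) u) (fun u => (μ u : ℂ))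
      = a * conj (μ z : ℂ) * classInner (fun u : D => (χ : G → ℂ) u) (fun u => (μ u : ℂ)) := by
    conv_lhs => rw [classInner, ← Equiv.sum_comp (Equiv.mulRight z)]
    rw [classInner, Finset.mul_sum, Finset.mul_sum, Finset.mul_sum]
    refine Finset.sum_congr rfl fun u _ => ?_
    simp only [Equiv.coe_mulRight, Subgroup.coe_mul, map_mul, Units.val_mul, hz]
    ring
  have h1 : a * conj (μ z : ℂ) = 1 := by
    by_contra hne
    exact h (by
      have := sub_eq_zero.2 hshift.symm
      rw [← sub_one_mul] at this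
      exact (mul_eq_zero.1 this).resolve_left (sub_ne_zero.2 hne))
  have hn : (μ z : ℂ) * conj (μ z : ℂ) = 1 := by
    have hu : ‖(μ z : ℂ)‖ = 1 := Complex.norm_eq_one_of_pow_eq_one
      (n := orderOf z) (by rw [← Units.val_pow_eq_pow_val, ← map_pow, pow_orderOf_eq_one, map_one,
        Units.val_one]) (orderOf_pos z).ne'
    rw [Complex.mul_conj, Complex.normSq_eq_norm_sq, hu]; simp
  calc a = a * ((μ z : ℂ) * conj (μ z : ℂ)) := by rw [hn, mul_one]
    _ = a * conj (μ z : ℂ) * (μ z : ℂ) := by ring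
    _ = (μ z : ℂ) := by rw [h1, one_mul]

end CfsgLib.Blocks
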