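import Cfsg.Agent.Lib.Blocks.RankOneFrame
import Cfsg.Agent.Lib.BrouePuig.FreeAbelian
import Cfsg.Agent.Lib.Blocks.Local2
import Cfsg.Agent.S4687

/-!
# Blocks with one Brauer character and at most four ordinary characters

All characters of such a block restrict to the Brauer character, the defect groups have as many
elements as the block has characters, and the block is nilpotent.
-/

set_option autoImplicit false
set_option linter.unusedSectionVars false
set_option maxHeartbeats 1000000

namespace CfsgLib.Blocks.RankOneFew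

open Cfsg CfsgLib.Blocks.ResidueAlgebra CfsgLib.Blocks.TwoCharacters
open scoped Classical

variable {G : Type*} [Group G] [Fintype G] {p : ℕ} {M : Ideal AlgInt}

/-- The defect groups have as many elements as the block has characters. -/
theorem card_eq_pow (hM : IsPModular p M) {B : Set (IrrCharacter G)} (hB : IsPBlock M B)
    (hl : blockRank p B = 1) (hk : Nat.card B ≤ 4) : Nat.card B = p ^ blockDefect p B :=
  RankOneFrame.card_eq_pow hM hB hl fun F => by
    haveI : Module.Finite (Residue hM) (MonoidAlgebra (Residue hM) G) :=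
      Module.Finite.equiv (coord hM (G := G)).symm
    obtain ⟨τ, hτ⟩ := F.loc
    exact hτ.comSub_eq_bot hk F.dimI F.dimR

open CfsgLib.BrouePuig CfsgLib.BrauerPairs in
/-- A block with one Brauer character and at most four characters is nilpotent. -/
theorem main (hM : IsPModular p M) {B : Set (IrrCharacter G)} (hB : IsPBlock M B) {D : Subgroup G}
    (hD : IsDefectGroup p M B D) (hD1 : D ≠ ⊥) (hl : blockRank p B = 1) (hk : Nat.card B ≤ 4) :
    IsNilpotentBlock p M B ∧ Nat.card D = Nat.card B ∧ (p = 2 ∨ p = 3) := by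
  haveI := Fact.mk hM.1
  have hcard := card_eq_pow hM hB hl hk
  have hDc := card_defectGroup hM hB hD
  set t := blockDefect p B
  have ht : t ≠ 0 := fun h => hD1 (Subgroup.eq_bot_of_card_eq D (by rw [hDc, h, pow_zero]))
  have hp4 : p ≤ 4 := le_trans (Nat.le_self_pow ht p) (hcard ▸ hk)
  have hp23 : p = 2 ∨ p = 3 := by
    have := hM.1.two_le
    have : p ≠ 4 := fun h => by rw [h] at hM; exact absurd hM.1 (by norm_num)
    omega
  have ht2 : t ≤ 2 := by
    by_contra h
    have : 2 ^ 3 ≤ p ^ t := (Nat.pow_le_pow_left hM.1.two_le 3).trans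
      (Nat.pow_le_pow_right hM.1.pos (by omega))
    omega
  refine ⟨?_, by rw [hDc, hcard], hp23⟩
  obtain ⟨c, -, hc⟩ := exists_defectGroup_inducing_local (L := Subgroup.centralizer (D : Set G)) hM hB hD
    (Subgroup.le_centralizer_iff_isMulCommutative.2 (by
      rcases Nat.lt_or_ge t 2 with h1 | h1
      · haveI : IsCyclic D := isCyclic_of_prime_card (p := p) (by rw [hDc, show t = 1 by omega, pow_one])
        exact ⟨⟨fun x y => IsCyclic.commGroup.mul_comm x y⟩⟩
      · exact ⟨⟨(IsPGroup.commGroupOfCardEqPrimeSq (p := p) (by rw [hDc, show t = 2 by omega])).mul_comm⟩⟩))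
    le_rfl (centralizer_le_normalizer _)
  have hDp : IsPGroup p D := IsPGroup.of_card hDc
  have hmax := maximal_of_induced hM hD hDp hc
  have hab : ∀ x ∈ D, ∀ y ∈ D, x * y = y * x := by
    intro x hx y hy
    rcases Nat.lt_or_ge t 2 with h1 | h1
    · haveI : IsCyclic D := isCyclic_of_prime_card (p := p) (by rw [hDc, show t = 1 by omega, pow_one])
      exact congrArg Subtype.val (IsCyclic.commGroup.mul_comm (⟨x, hx⟩ : D) ⟨y, hy⟩)
    · exact congrArg Subtype.val ((IsPGroup.commGroupOfCardEqPrimeSq (p := p)
        (G := D) (by rw [hDc, show t = 2 by omega])).mul_comm ⟨x, hx⟩ ⟨y, hy⟩)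
  -- the inertial quotient acts freely
  have hfree : FreeAct D c := by
    intro g hg x hx hx1 hfix
    by_cases hcyc : IsCyclic D
    · exact free_of_cyclic hM hmax hcyc hg hx hx1 hfix
    have hD4 : Nat.card D = 4 := by
      have hcp : t = 2 := by
        by_contra h
        exact hcyc (isCyclic_of_prime_card (p := p) (by rw [hDc, show t = 1 by omega, pow_one]))
      rw [hDc, hcp]
      rcases hp23 with rfl | rfl
      · rfl
      · rw [hcp] at hcard; omega
    have hp2 : p = 2 := by
      rcases hp23 with h | h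
      · exact h
      · exfalso
        rw [hDc, h] at hD4
        rcases t with _ | _ | _ | t <;> simp_all
    have hgN := pairStab_le_normalizer c hg
    let σ : D → D := fun y => ⟨g * y * g⁻¹, (Subgroup.mem_normalizer_iff.1 hgN _).1 y.2⟩
    have hσinj : Function.Injective σ := fun y z h => Subtype.ext (by simpa [σ] using h)
    have hσ1 : σ 1 = 1 := Subtype.ext (by simp [σ])
    have hσx : σ ⟨x, hx⟩ = ⟨x, hx⟩ := Subtype.ext hfix
    have hσσ : ∀ y, σ (σ y) = y := by
      intro y
      by_cases hy1 : y = 1
      · rw [hy1, hσ1, hσ1]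
      by_cases hyx : y = ⟨x, hx⟩
      · rw [hyx, hσx, hσx]
      by_contra hne
      have hxne : (⟨x, hx⟩ : D) ≠ 1 := fun h => hx1 (congrArg Subtype.val h)
      have n1 : σ y ≠ 1 := fun h => hy1 (hσinj (h.trans hσ1.symm))
      have n2 : σ y ≠ ⟨x, hx⟩ := fun h => hyx (hσinj (h.trans hσx.symm))
      have n3 : σ (σ y) ≠ 1 := fun h => n1 (hσinj (h.trans hσ1.symm))
      have n4 : σ (σ y) ≠ ⟨x, hx⟩ := fun h => n2 (hσinj (h.trans hσx.symm))
      have n5 : σ y ≠ y := fun h => hne (by rw [h, h])
      have n6 : σ (σ y) ≠ σ y := fun h => n5 (hσinj h)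
      have hsub : ({1, ⟨x, hx⟩, y, σ y, σ (σ y)} : Finset D).card ≤ 4 := by
        rw [← hD4, Nat.card_eq_fintype_card]
        exact Finset.card_le_univ _
      rw [Finset.card_insert_of_notMem (by simp [hxne.symm, Ne.symm hy1, n1.symm, n3.symm]),
        Finset.card_insert_of_notMem (by simp [Ne.symm hyx, n2.symm, n4.symm]),
        Finset.card_insert_of_notMem (by simp [n5.symm, Ne.symm hne]),
        Finset.card_insert_of_notMem (by simp [n6.symm]), Finset.card_singleton] at hsub
      omega
    have hg2 : g ^ 2 ∈ Subgroup.centralizer (D : Set G) := by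
      refine mem_centralizer_iff_conj.2 fun y hy => ?_
      have := congrArg Subtype.val (hσσ ⟨y, hy⟩)
      simpa [σ, sq, mul_assoc] using this
    haveI : ((Subgroup.centralizer (D : Set G)).subgroupOf (pairStab D c)).Normal :=
      Subgroup.normal_subgroupOf_iff_le_normalizer (centralizer_le_pairStab c) |>.2
        ((pairStab_le_normalizer c).trans (normalizer_le_normalizer_centralizer D))
    set q : pairStab D c ⧸ (Subgroup.centralizer (D : Set G)).subgroupOf (pairStab D c) :=
      QuotientGroup.mk' _ ⟨g, hg⟩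
    have hq2 : q ^ 2 = 1 := by
      rw [← map_pow]
      exact (QuotientGroup.eq_one_iff _).2 hg2
    have hcop : Nat.Coprime 2 (Nat.card
        (pairStab D c ⧸ (Subgroup.centralizer (D : Set G)).subgroupOf (pairStab D c))) := by
      refine (Nat.Prime.coprime_iff_not_dvd Nat.prime_two).2 ?_
      rw [← Subgroup.index_eq_card, ← hp2]
      exact not_dvd_relIndex hM hmax hab
    have hq : q = 1 := orderOf_eq_one_iff.1 (Nat.eq_one_of_dvd_coprimes hcop
      (orderOf_dvd_of_pow_eq_one hq2) (orderOf_dvd_natCard q))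
    exact (QuotientGroup.eq_one_iff (⟨g, hg⟩ : pairStab D c)).1 hq
  have hcount := card_block_free hM hmax hab hfree
  rw [hl, hDc, ← hcard, one_mul] at hcount
  have h2 : 2 ≤ Nat.card B := hcard ▸ le_trans hM.1.two_le (Nat.le_self_pow ht p)
  have he : (Subgroup.centralizer (D : Set G)).relIndex (pairStab D c) = 1 := by
    obtain ⟨j, hj⟩ := Nat.exists_eq_add_of_le h2
    rw [hj] at hcount
    ring_nf at hcount
    nlinarith
  refine (Cfsg.Agent.S4687.result p M hM B D c hmax (fun x hx y hy => hab x hx y hy)).2 fun g hgN hgs => ?_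
  exact Subgroup.relIndex_eq_one.1 he ((mem_pairStab g).2 ⟨hgN, hgs⟩)

end CfsgLib.Blocks.RankOneFew
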