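import Cfsg.Agent.Lib.Blocks.TIAbelianExceptional
import Cfsg.Agent.Lib.Blocks.FourGroupOrder
import Cfsg.Agent.Lib.SmallGroups.SelfInverse

/-!
# The principal block for an abelian Sylow subgroup with semiregular automizer of order three
-/

set_option autoImplicit false
set_option maxHeartbeats 800000

namespace CfsgLib.Blocks.IndexThree

open Cfsg CfsgLib.Blocks CfsgLib.BrauerSuzuki CfsgLib.Blocks.TIAbelian
open scoped Classical ComplexConjugate

/-! ### Arithmetic -/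

theorem one_neg {A B C a b c : ℤ} (hA : 0 < A) (hB : 0 < B) (hC : C < 0) (h0 : 1 + A + B + C = 0)
    (hs : a + b + c = 0) (hrel : a ^ 2 * B * C + b ^ 2 * A * C + c ^ 2 * A * B = 0) : a = 0 ∧ b = 0 := by
  have hC' : C = -1 - A - B := by linarith
  have hc' : c = -a - b := by linarith
  subst hC'; subst hc'
  have key : a ^ 2 * B + b ^ 2 * A + (a * B - b * A) ^ 2 = 0 := by linear_combination (-1 : ℤ) * hrel
  have h1 : 0 ≤ a ^ 2 * B := by positivity
  have h2 : 0 ≤ b ^ 2 * A := by positivity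
  have h3 : 0 ≤ (a * B - b * A) ^ 2 := sq_nonneg _
  exact ⟨by nlinarith [sq_nonneg a], by nlinarith [sq_nonneg b]⟩

theorem two_neg {A B C A' B' C' : ℤ} (hA0 : A ≠ 0) (hB0 : B ≠ 0) (hC0 : C ≠ 0)
    (h0 : 1 + A + B + C = 0) (h1 : 1 + A' + B' + C' = 0)
    (h2 : A * B * C + A' ^ 2 * B * C + B' ^ 2 * A * C + C' ^ 2 * A * B = 0) (hA : A' ≠ A) (hB : B' ≠ B) :
    ((if A < 0 then 1 else 0) + (if B < 0 then 1 else 0) + (if C < 0 then 1 else 0) : ℕ) = 2 ∧
      IsSquare (A * B * C).natAbs := by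
  set a := A' - A with ha
  set b := B' - B with hb
  set c := C' - C with hc
  have hs : a + b + c = 0 := by simp only [ha, hb, hc]; linarith
  have hrel : a ^ 2 * B * C + b ^ 2 * A * C + c ^ 2 * A * B = 0 := by
    simp only [ha, hb, hc]
    linear_combination h2 - 2 * A * B * C * h1 + A * B * C * h0
  have ha0 : a ≠ 0 := sub_ne_zero.2 hA
  have hb0 : b ≠ 0 := sub_ne_zero.2 hB
  constructor
  · rcases lt_or_gt_of_ne hA0 with pA | pA <;> rcases lt_or_gt_of_ne hB0 with pB | pB <;>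
      rcases lt_or_gt_of_ne hC0 with pC | pC <;>
      first
        | (exfalso; linarith)
        | (exfalso; exact ha0 (one_neg pA pB pC h0 hs hrel).1)
        | (exfalso; exact hb0 (one_neg pB pC pA (a := b) (b := c) (c := a) (by linarith) (by linarith)
            (by linear_combination hrel)).1)
        | (exfalso; exact ha0 (one_neg pA pC pB (a := a) (b := c) (c := b) (by linarith) (by linarith)
            (by linear_combination hrel)).1)
        | simp [pA, pB, pC, pA.not_gt, pB.not_gt, pC.not_gt]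
  · have hc' : c = -a - b := by linarith
    rw [hc'] at hrel
    have hsq : (a * B * (C + A) + b * A * B) ^ 2 = b ^ 2 * (A * B * C) := by
      linear_combination (B * (C + A)) * hrel - b ^ 2 * A * B * C * h0
    have hdvd : b ∣ a * B * (C + A) + b * A * B :=
      (Int.pow_dvd_pow_iff two_ne_zero).1 ⟨A * B * C, hsq⟩
    obtain ⟨k, hk⟩ := hdvd
    rw [hk, mul_pow] at hsq
    have hk2 : A * B * C = k ^ 2 := (mul_left_cancel₀ (pow_ne_zero 2 hb0) hsq).symm
    exact ⟨k.natAbs, by rw [hk2, sq, Int.natAbs_mul]⟩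

variable {G : Type*} [Group G] [Fintype G] {p : ℕ} [hp : Fact p.Prime] {P : Sylow p G}

theorem eq_trivChar_of_const (χ : IrrCharacter G) (h : ∀ g, (χ : G → ℂ) g = (χ : G → ℂ) 1) :
    χ = trivChar G := by
  by_contra hne
  have hs := sum_mul_inv χ (trivChar G)
  rw [if_neg hne] at hs
  simp only [trivChar_apply, mul_one, h, Finset.sum_const, Finset.card_univ, nsmul_eq_mul, mul_eq_zero,
    irr_one_ne_zero, or_false, Nat.cast_eq_zero] at hs
  exact Fintype.card_ne_zero hs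

/-- An element of `P` is its own p-part. -/
theorem isPPart_self {y : G} (hy : y ∈ (P : Subgroup G)) : IsPPart p y y := by
  obtain ⟨k, hk⟩ := IsPGroup.iff_orderOf.mp P.2 ⟨y, hy⟩
  rw [Subgroup.orderOf_mk] at hk
  exact ⟨1, mul_one y, Commute.one_right y, ⟨k, hk⟩, by rw [orderOf_one]; exact hp.out.not_dvd_one⟩

/-- The sum of the nontrivial linear characters at a nonidentity element. -/
theorem sum_erase_one [Fintype (↥(P : Subgroup G) →* ℂˣ)] (h : FrobSylow P)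
    {x : ↥(P : Subgroup G)} (hx : x ≠ 1) :
    ∑ ψ ∈ (Finset.univ : Finset (↥(P : Subgroup G) →* ℂˣ)).erase 1, (ψ x : ℂ) = -1 := by
  letI : CommGroup ↥(P : Subgroup G) :=
    { (inferInstance : Group ↥(P : Subgroup G)) with
      mul_comm := fun a b => Subtype.ext (h.comm a a.2 b b.2) }
  rw [Finset.sum_erase_eq_sub (Finset.mem_univ _), Homocyclic.sum_dual, if_neg hx,
    MonoidHom.one_apply, Units.val_one, zero_sub]

omit [Fintype G] in
theorem self_mem_orb [Fintype G] (P : Sylow p G) (ψ : ↥(P : Subgroup G) →* ℂˣ) : ψ ∈ orb P ψ :=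
  Finset.mem_image.2 ⟨1, Finset.mem_univ _, MonoidHom.ext fun _ => rfl⟩

theorem orb_ne_one {ψ μ : ↥(P : Subgroup G) →* ℂˣ} (hψ : ψ ≠ 1) (hμ : μ ∈ orb P ψ) : μ ≠ 1 := by
  obtain ⟨α, -, rfl⟩ := Finset.mem_image.1 hμ
  intro e
  refine hψ (MonoidHom.ext fun x => ?_)
  have := DFunLike.congr_fun e ((α : MulAut ↥(P : Subgroup G)).symm x)
  simpa using this

theorem sum_orb (h : FrobSylow P) {ψ : ↥(P : Subgroup G) →* ℂˣ} (hψ : ψ ≠ 1)
    (F : (↥(P : Subgroup G) →* ℂˣ) → ℂ) :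
    ∑ μ ∈ orb P ψ, F μ = ∑ α : autGroup P, F (ψ.comp (α : MulAut ↥(P : Subgroup G)).toMonoidHom) := by
  refine Finset.sum_image fun α _ β _ e => ?_
  by_contra hne
  apply hψ
  have hinj : Function.Injective fun x : ↥(P : Subgroup G) =>
      ((β : MulAut ↥(P : Subgroup G)) x)⁻¹ * (α : MulAut ↥(P : Subgroup G)) x := by
    intro u v e'
    simp only at e'
    by_contra huv
    have h1 : (α : MulAut ↥(P : Subgroup G)) (u * v⁻¹) = (β : MulAut ↥(P : Subgroup G)) (u * v⁻¹) := by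
      rw [map_mul, map_inv, map_mul, map_inv]
      calc (α : MulAut ↥(P : Subgroup G)) u * ((α : MulAut ↥(P : Subgroup G)) v)⁻¹
          = (β : MulAut ↥(P : Subgroup G)) u * (((β : MulAut ↥(P : Subgroup G)) u)⁻¹
              * (α : MulAut ↥(P : Subgroup G)) u) * ((α : MulAut ↥(P : Subgroup G)) v)⁻¹ := by
            rw [mul_inv_cancel_left]
        _ = (β : MulAut ↥(P : Subgroup G)) u * (((β : MulAut ↥(P : Subgroup G)) v)⁻¹
              * (α : MulAut ↥(P : Subgroup G)) v) * ((α : MulAut ↥(P : Subgroup G)) v)⁻¹ := by rw [e']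
        _ = _ := by rw [mul_assoc, mul_inv_cancel_right]
    have h2 := h.eq_one_of_fixed (mul_mem (inv_mem β.2) α.2) (x := u * v⁻¹)
      (fun e1 => huv (mul_inv_eq_one.1 e1))
      (by rw [MulAut.mul_apply, h1, MulAut.inv_apply, MulEquiv.symm_apply_apply])
    exact hne (Subtype.ext (inv_mul_eq_one.1 h2).symm)
  ext y
  obtain ⟨x, rfl⟩ := Finite.surjective_of_injective hinj y
  have e' : ψ ((α : MulAut ↥(P : Subgroup G)) x) = ψ ((β : MulAut ↥(P : Subgroup G)) x) := DFunLike.congr_fun e x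
  simp [e']

/-- A sum over the nontrivial linear characters, arranged along the exceptional characters. -/
theorem sum_along {Y : Finset (IrrCharacter G)} [Fintype (↥(P : Subgroup G) →* ℂˣ)]
    {ζ : (↥(P : Subgroup G) →* ℂˣ) → IrrCharacter G}
    (hζY : ∀ ψ, ψ ≠ 1 → ζ ψ ∈ Y) (hsurj : ∀ η ∈ Y, ∃ ψ, ψ ≠ 1 ∧ ζ ψ = η)
    (hiff : ∀ ψ μ, ψ ≠ 1 → μ ≠ 1 → (ζ ψ = ζ μ ↔ μ ∈ orb P ψ))
    (F : (↥(P : Subgroup G) →* ℂˣ) → ℂ) (K : IrrCharacter G → ℂ)
    (hK : ∀ ψ, ψ ≠ 1 → K (ζ ψ) = ∑ μ ∈ orb P ψ, F μ) :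
    ∑ η ∈ Y, K η = ∑ ψ ∈ (Finset.univ : Finset (↥(P : Subgroup G) →* ℂˣ)).erase 1, F ψ := by
  rw [← Finset.sum_fiberwise_of_maps_to (g := ζ) (t := Y) fun ψ hψ => hζY ψ (Finset.mem_erase.1 hψ).1]
  refine Finset.sum_congr rfl fun η hη => ?_
  obtain ⟨ψ, hψ, rfl⟩ := hsurj η hη
  rw [hK ψ hψ]
  refine Finset.sum_congr ?_ fun _ _ => rfl
  ext μ
  simp only [Finset.mem_filter, Finset.mem_erase, Finset.mem_univ, and_true]
  exact ⟨fun hμ => ⟨orb_ne_one hψ hμ, ((hiff ψ μ hψ (orb_ne_one hψ hμ)).2 hμ).symm⟩,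
    fun hμ => (hiff ψ μ hψ hμ.1).1 hμ.2.symm⟩

/-- The exceptional data with vanishing constant. -/
theorem normalized (h : FrobSylow P) (hm : autCard P = 3) (h4 : 4 < Nat.card (P : Subgroup G))
    {M : Ideal AlgInt} (hM : IsPModular p M) :
    ∃ (X Y : Finset (IrrCharacter G)) (a : IrrCharacter G → ℤ) (δ : ℤ)
      (ζ : (↥(P : Subgroup G) →* ℂˣ) → IrrCharacter G),
      (∀ χ, χ ∈ principalBlock M G ↔ χ ∈ X ∨ χ ∈ Y) ∧ Disjoint X Y ∧ trivChar G ∈ X ∧ a (trivChar G) = 1 ∧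
      X.card = 3 ∧ 3 * Y.card + 1 = Nat.card (P : Subgroup G) ∧ (δ = 1 ∨ δ = -1) ∧
      (∀ χ ∈ X, (a χ = 1 ∨ a χ = -1) ∧
        ∀ z y : G, IsPPart p z y → y ∈ (P : Subgroup G) → y ≠ 1 → (χ : G → ℂ) z = (a χ : ℂ)) ∧
      (∀ ψ, ψ ≠ 1 → ζ ψ ∈ Y) ∧ (∀ η ∈ Y, ∃ ψ, ψ ≠ 1 ∧ ζ ψ = η) ∧
      (∀ ψ μ, ψ ≠ 1 → μ ≠ 1 → (ζ ψ = ζ μ ↔ μ ∈ orb P ψ)) ∧
      (∀ ψ, ψ ≠ 1 → ∀ (z : G) (y : ↥(P : Subgroup G)), IsPPart p z (y : G) → (y : G) ≠ 1 →
        (ζ ψ : G → ℂ) z = (δ : ℂ) * ∑ μ ∈ orb P ψ, ((μ y : ℂˣ) : ℂ)) ∧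
      (∀ η ∈ Y, ∀ η' ∈ Y, ∀ g : G, ¬ p ∣ orderOf g → (η : G → ℂ) g = (η' : G → ℂ) g) ∧
      ∀ η ∈ Y, ∀ g : G, ¬ p ∣ orderOf g →
        (-(δ : ℂ)) * (η : G → ℂ) g + ∑ χ ∈ X, (a χ : ℂ) * (χ : G → ℂ) g = 0 := by
  obtain ⟨X, Y, a, d, δ, ζ, hB, hdisj, htX, hXm, hYm, hδ, hX, hζY, hsurj, hiff, hval, hnorm, hagree, hrel⟩ :=
    TIAbelian.exceptional h (by rw [hm]; exact h4) hM
  rw [hm] at hXm hYm hnorm
  norm_num only at hnorm
  have hY2 : 2 ≤ Y.card := by omega
  obtain ⟨y₀, hy₀⟩ : ∃ y : ↥(P : Subgroup G), y ≠ 1 := by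
    haveI : Nontrivial ↥(P : Subgroup G) :=
      Fintype.one_lt_card_iff_nontrivial.1 (by rw [← Nat.card_eq_fintype_card]; omega)
    exact exists_ne 1
  have hat : a (trivChar G) = 1 := by
    have e := (hX _ htX).2 _ _ (isPPart_self y₀.2) y₀.2 fun e => hy₀ (Subtype.ext e)
    rw [trivChar_apply] at e
    exact_mod_cast e.symm
  have hsq : ∀ χ ∈ X, 1 ≤ a χ ^ 2 := fun χ hχ => by
    have := (hX χ hχ).1
    have : 0 < a χ ^ 2 := by positivity
    omega
  have hle : (X.card : ℤ) ≤ ∑ χ ∈ X, a χ ^ 2 := by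
    rw [Finset.card_eq_sum_ones, Nat.cast_sum]
    exact Finset.sum_le_sum fun χ hχ => by simpa using hsq χ hχ
  have h1X : 1 ≤ X.card := Finset.card_pos.2 ⟨_, htX⟩
  have h1S : 1 ≤ ∑ χ ∈ X, a χ ^ 2 := le_trans (by exact_mod_cast h1X) hle
  -- all coefficients are signs as soon as their squares sum to three
  have hthree : ∑ χ ∈ X, a χ ^ 2 = 3 → (∀ χ ∈ X, a χ = 1 ∨ a χ = -1) ∧ X.card = 3 := by
    intro h3
    have hall : ∀ χ ∈ X, a χ = 1 ∨ a χ = -1 := by
      intro χ hχ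
      have h1 : a χ ^ 2 ≤ 3 := by
        rw [← h3]; exact Finset.single_le_sum (f := fun χ => a χ ^ 2) (fun i _ => sq_nonneg _) hχ
      have h2 : -2 < a χ := by nlinarith
      have h5 : a χ < 2 := by nlinarith
      have := (hX χ hχ).1
      omega
    refine ⟨hall, ?_⟩
    rw [Finset.sum_congr rfl (g := fun _ => (1 : ℤ)) fun χ hχ => by
      rcases hall χ hχ with e | e <;> rw [e] <;> norm_num] at h3
    exact_mod_cast (by simpa using h3 : (X.card : ℤ) = 3)
  by_cases hd : d = 0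
  · subst hd
    have h3 : ∑ χ ∈ X, a χ ^ 2 = 3 := by
      rcases hδ with e | e <;> rw [e] at hnorm <;> push_cast at hnorm <;> linarith
    obtain ⟨hall, hc⟩ := hthree h3
    refine ⟨X, Y, a, δ, ζ, hB, hdisj, htX, hat, hc, hYm, hδ, fun χ hχ => ⟨hall χ hχ, (hX χ hχ).2⟩, hζY, hsurj,
      hiff, fun ψ hψ z y hzy hy1 => ?_, hagree, fun η hη g hg => ?_⟩
    · rw [hval ψ hψ z y hzy hy1, Int.cast_zero, zero_add]
    · have := hrel η hη g hg
      rwa [Int.cast_zero, mul_zero, zero_sub] at this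
  · have hd2 : 1 ≤ d ^ 2 := by
      have : 0 < d ^ 2 := by positivity
      omega
    have hYz : (2 : ℤ) ≤ Y.card := by exact_mod_cast hY2
    have hd4 : d ^ 2 ≤ 3 := by
      nlinarith [sq_nonneg (d - δ), mul_nonneg (sub_nonneg.2 hYz) (sq_nonneg d)]
    have hd1 : d = δ := by
      have h1 : -2 < d := by nlinarith
      have h2 : d < 2 := by nlinarith
      rcases hδ with e | e <;> rw [e] at hnorm ⊢
      · by_contra hne
        have : d = -1 := by omega
        rw [this] at hnorm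
        norm_num at hnorm
        linarith
      · by_contra hne
        have : d = 1 := by omega
        rw [this] at hnorm
        norm_num at hnorm
        linarith
    subst hd1
    have hdd : d ^ 2 = 1 := by rcases hδ with e | e <;> rw [e] <;> norm_num
    rw [sub_self, hdd] at hnorm
    have hY4 : Y.card ≤ 4 := by
      have : (Y.card : ℤ) ≤ 4 := by linarith
      exact_mod_cast this
    have hcases : Y.card = 2 ∨ Y.card = 3 ∨ Y.card = 4 := by omega
    rcases hcases with hm2 | hm3 | hm4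
    · -- the degenerate configuration for seven points
      have h3 : ∑ χ ∈ X, a χ ^ 2 = 3 := by rw [hm2] at hnorm; push_cast at hnorm; linarith
      obtain ⟨hall, hc⟩ := hthree h3
      obtain ⟨η₁, η₂, h12, hY⟩ := Finset.card_eq_two.1 hm2
      letI : CommGroup ↥(P : Subgroup G) :=
        { (inferInstance : Group ↥(P : Subgroup G)) with
          mul_comm := fun a b => Subtype.ext (h.comm a a.2 b b.2) }
      letI : Fintype (↥(P : Subgroup G) →* ℂˣ) := by
        haveI : Finite (↥(P : Subgroup G) →* ℂˣ) :=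
          Finite.of_equiv _
            (CommGroup.monoidHom_mulEquiv_of_hasEnoughRootsOfUnity ↥(P : Subgroup G) ℂ).some.toEquiv.symm
        exact Fintype.ofFinite _
      let sw : IrrCharacter G → IrrCharacter G := fun η => if η = η₁ then η₂ else η₁
      have hmemY : ∀ η, η ∈ Y ↔ η = η₁ ∨ η = η₂ := fun η => by rw [hY]; simp
      have hswY : ∀ η, sw η ∈ Y := fun η => by
        simp only [sw]; split_ifs <;> simp [hmemY]
      have hswsw : ∀ η ∈ Y, sw (sw η) = η := fun η hη => by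
        rcases (hmemY η).1 hη with rfl | rfl <;> simp [sw, h12.symm]
      have hswne : ∀ η ∈ Y, sw η ≠ η := fun η hη => by
        rcases (hmemY η).1 hη with rfl | rfl <;> simp [sw, h12, h12.symm]
      refine ⟨X, Y, a, -d, fun ψ => sw (ζ ψ), hB, hdisj, htX, hat, hc, hYm, ?_,
        fun χ hχ => ⟨hall χ hχ, (hX χ hχ).2⟩, fun ψ _ => hswY _, fun η hη => ?_, fun ψ μ hψ hμ => ?_,
        fun ψ hψ z y hzy hy1 => ?_, hagree, fun η hη g hg => ?_⟩
      · rcases hδ with e | e <;> rw [e] <;> norm_num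
      · obtain ⟨ψ, hψ, e⟩ := hsurj _ (hswY η)
        exact ⟨ψ, hψ, by show sw (ζ ψ) = η; rw [e, hswsw η hη]⟩
      · rw [← hiff ψ μ hψ hμ]
        exact ⟨fun e => by
            have e' : sw (ζ ψ) = sw (ζ μ) := e
            rw [← hswsw _ (hζY ψ hψ), e', hswsw _ (hζY μ hμ)], fun e => congrArg sw e⟩
      · obtain ⟨ρ, hρ, eρ⟩ := hsurj _ (hswY (ζ ψ))
        have e1 := hval ρ hρ z y hzy hy1
        rw [eρ] at e1
        show (sw (ζ ψ) : G → ℂ) z = _
        rw [e1]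
        have hy1' : y ≠ 1 := fun e => hy1 (congrArg Subtype.val e)
        have e2 := sum_along hζY hsurj hiff (fun μ => ((μ y : ℂˣ) : ℂ))
          (fun η => if η = ζ ψ then ∑ μ ∈ orb P ψ, ((μ y : ℂˣ) : ℂ) else ∑ μ ∈ orb P ρ, ((μ y : ℂˣ) : ℂ))
          (fun φ hφ => by
            show (if ζ φ = ζ ψ then _ else _) = _
            have horb : ∀ χ, χ ≠ 1 → ζ φ = ζ χ → orb P χ = orb P φ := by
              intro χ hχ e
              ext μ
              constructor <;> intro hμ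
              · exact (hiff φ μ hφ (orb_ne_one hχ hμ)).1 (e.trans ((hiff χ μ hχ (orb_ne_one hχ hμ)).2 hμ))
              · exact (hiff χ μ hχ (orb_ne_one hφ hμ)).1 (e.symm.trans ((hiff φ μ hφ (orb_ne_one hφ hμ)).2 hμ))
            split_ifs with hc'
            · rw [horb ψ hψ hc']
            · rw [horb ρ hρ ?_]
              rw [eρ]
              rcases (hmemY _).1 (hζY φ hφ) with e | e <;> rcases (hmemY _).1 (hζY ψ hψ) with e' | e'
              · exact absurd (e.trans e'.symm) hc'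
              · rw [e, e']; simp [sw, h12.symm]
              · rw [e, e']; simp [sw]
              · exact absurd (e.trans e'.symm) hc')
        rw [sum_erase_one h hy1', hY, Finset.sum_pair h12] at e2
        push_cast
        rcases (hmemY _).1 (hζY ψ hψ) with e' | e'
        · rw [e', if_pos rfl, if_neg h12.symm] at e2
          linear_combination (d : ℂ) * e2
        · rw [e', if_pos rfl, if_neg h12] at e2
          linear_combination (d : ℂ) * e2
      · have := hrel η hη g hg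
        rw [hm2] at this
        push_cast at this ⊢
        linear_combination this
    · -- ten is no prime power
      exfalso
      obtain ⟨n, hn⟩ := IsPGroup.iff_card.1 P.2
      have h10 : p ^ n = 10 := by rw [← hn]; omega
      have hn0 : n ≠ 0 := fun e => by rw [e] at h10; norm_num at h10
      have hn4 : n < 4 := by
        by_contra hge
        have : 2 ^ 4 ≤ p ^ n :=
          (Nat.pow_le_pow_left hp.out.two_le 4).trans (Nat.pow_le_pow_right hp.out.pos (by omega))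
        omega
      have hp10 : p ≤ 10 := (Nat.le_self_pow hn0 p).trans h10.le
      interval_cases p <;> interval_cases n <;> first | omega | exact absurd hp.out (by norm_num)
    · -- no room for a single sign
      exfalso
      rw [hm4] at hnorm
      push_cast at hnorm
      have hc1 : X.card = 1 := by omega
      obtain ⟨x, hx⟩ := Finset.card_eq_one.1 hc1
      obtain rfl : trivChar G = x := by rw [hx] at htX; simpa using htX
      obtain ⟨η, hη⟩ : ∃ η, η ∈ Y := Finset.card_pos.1 (by omega)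
      have e := hrel η hη 1 (by rw [orderOf_one]; exact hp.out.not_dvd_one)
      rw [hx, Finset.sum_singleton, hat, trivChar_apply, hm4, irr_one_eq] at e
      have e' : ((4 : ℤ) * d - d) * (charDegree (η : G → ℂ) : ℤ) + 1 = 0 := by
        push_cast at e
        exact_mod_cast (by linear_combination e :
          ((4 : ℂ) * d - d) * (charDegree (η : G → ℂ) : ℂ) + 1 = 0)
      rcases hδ with e2 | e2 <;> rw [e2] at e' <;> omega

/-- No product of two conjugates of `t` lies in the section of `y`: the character sum. -/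
theorem section_sum (h : FrobSylow P) {M : Ideal AlgInt} (hM : IsPModular p M) (t : G) {y : G}
    (hy : y ∈ (P : Subgroup G)) (hy1 : y ≠ 1)
    (hno : ∀ s : Subgroup.centralizer ({y} : Set G), IsPRegular p s → ∀ x : G,
      IsConj t x → ¬ IsConj t (x⁻¹ * (y * (s : G))⁻¹)) :
    ∑ χ ∈ (principalBlock M G).toFinset, (χ : G → ℂ) t ^ 2 * (χ : G → ℂ) y / (χ : G → ℂ) 1 = 0 := by
  haveI : Fact (Nat.Prime 2) := ⟨Nat.prime_two⟩
  obtain ⟨k, hk⟩ := IsPGroup.iff_orderOf.mp P.2 ⟨y, hy⟩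
  rw [Subgroup.orderOf_mk] at hk
  have hz : ∃ k, orderOf y = p ^ k := ⟨k, hk⟩
  set C := Subgroup.centralizer ({y} : Set G) with hC
  have hsum : ∑ s : C with IsPRegular p s, ∑ χ : IrrCharacter G,
      (χ : G → ℂ) t ^ 2 * (χ : G → ℂ) (y * (s : G)) / (χ : G → ℂ) 1
      = (regCard p y : ℂ) * ∑ χ ∈ (principalBlock M G).toFinset,
        (χ : G → ℂ) t ^ 2 * (χ : G → ℂ) y / (χ : G → ℂ) 1 := by
    rw [Finset.sum_comm, Finset.mul_sum,
      ← Finset.sum_subset (Finset.subset_univ (principalBlock M G).toFinset) fun χ _ hχ => ?_]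
    · refine Finset.sum_congr rfl fun χ hχ => ?_
      rw [Finset.sum_congr rfl fun s hs => by
        rw [apply_section h hM (Set.mem_toFinset.1 hχ) hz hy1 s (Finset.mem_filter.1 hs).2],
        Finset.sum_const, nsmul_eq_mul, regCard]
    · rw [← Finset.sum_div, ← Finset.mul_sum,
        sum_section_eq_zero h hM (by simpa using hχ) hz hy1, mul_zero, zero_div]
  have h0 : ∑ s : C with IsPRegular p s, ∑ χ : IrrCharacter G,
      (χ : G → ℂ) t ^ 2 * (χ : G → ℂ) (y * (s : G)) / (χ : G → ℂ) 1 = 0 := by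
    refine Finset.sum_eq_zero fun s hs => ?_
    have e := FourGroup.sum_sq_mul_div_eq (G := G) t (y * (s : G))
    rw [Finset.sum_eq_zero (f := fun x : G => classInd t x * classInd t (x⁻¹ * (y * (s : G))⁻¹))
      fun x _ => ?_, mul_zero] at e
    · exact (mul_eq_zero.1 e).resolve_left CfsgLib.Char.card_ne_zero
    · by_cases hx : IsConj t x
      · simp only [classInd, hx, if_true, one_mul, if_neg (hno s (Finset.mem_filter.1 hs).2 x hx)]
      · simp only [classInd, hx, if_false, zero_mul]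
  have hreg : (regCard p y : ℂ) ≠ 0 := by
    refine Nat.cast_ne_zero.2 (Finset.card_ne_zero.2 ⟨1, Finset.mem_filter.2 ⟨Finset.mem_univ _, ?_⟩⟩)
    show ¬ p ∣ orderOf _
    rw [orderOf_one]; exact hp.out.not_dvd_one
  rw [hsum] at h0
  exact (mul_eq_zero.1 h0).resolve_left hreg

/-- Two involutions with product in the section of `y`: the first inverts `y`. -/
theorem inverts {y s x w : G} (hy : y ∈ (P : Subgroup G)) (hc : Commute y s) (hs : ¬ p ∣ orderOf s)
    (hx : x * x = 1) (hw : w * w = 1) (e : x * w = (y * s)⁻¹) : x * y * x⁻¹ = y⁻¹ := by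
  obtain ⟨k, hk⟩ := IsPGroup.iff_orderOf.mp P.2 ⟨y, hy⟩
  rw [Subgroup.orderOf_mk] at hk
  have e1 : x * (y * s) * x⁻¹ = (y * s)⁻¹ := by
    have hys : y * s = w⁻¹ * x⁻¹ := by rw [← mul_inv_rev, e, inv_inv]
    rw [inv_eq_of_mul_eq_one_right hx, inv_eq_of_mul_eq_one_right hw] at hys
    rw [inv_eq_of_mul_eq_one_right hx, hys, mul_inv_rev, inv_eq_of_mul_eq_one_right hx,
      inv_eq_of_mul_eq_one_right hw, mul_assoc, mul_assoc, hx, mul_one]
  have h1 := isPPart_conj (isPPart_mul hc hk hs) x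
  rw [e1] at h1
  refine isPPart_unique hp.out h1 ?_
  rw [mul_inv_rev, ← hc.inv_inv.eq]
  exact isPPart_mul hc.inv_inv (by rw [orderOf_inv]; exact hk) (by rw [orderOf_inv]; exact hs)

/-- An inverted element of `P` is an involution. -/
theorem sq_one_of_inverted (h : FrobSylow P) (hm : autCard P = 3) {y x : G} (hy : y ∈ (P : Subgroup G))
    (hy1 : y ≠ 1) (hxy : x * y * x⁻¹ = y⁻¹) : y * y = 1 := by
  obtain ⟨α, hα, e⟩ := h.exists_aut_of_isConj (x := ⟨y, hy⟩) (y := ⟨y, hy⟩⁻¹)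
    (isConj_iff.2 ⟨x, hxy⟩)
  have h2 : α * α = 1 := h.eq_one_of_fixed (mul_mem hα hα) (x := ⟨y, hy⟩)
    (fun e' => hy1 (congrArg Subtype.val e')) (by rw [MulAut.mul_apply, e, map_inv, e, inv_inv])
  have h3 : α ^ 3 = 1 := by
    have := pow_card_eq_one' (x := (⟨α, hα⟩ : autGroup P))
    rw [show Nat.card (autGroup P) = 3 from hm] at this
    exact congrArg Subtype.val this
  have h1 : α = 1 := by rwa [pow_succ, pow_two, h2, one_mul] at h3
  rw [h1, MulAut.one_apply] at e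
  have e' : y = y⁻¹ := congrArg Subtype.val e
  nth_rewrite 1 [e']
  exact inv_mul_cancel y

/-- The conjugates in `P` of an involution of `P`. -/
theorem three_involutions (h : FrobSylow P) (hm : autCard P = 3) {u : ↥(P : Subgroup G)} (hu : u * u = 1)
    (hu1 : u ≠ 1) :
    ∃ v w : ↥(P : Subgroup G), v * v = 1 ∧ w * w = 1 ∧ u * v * w = 1 ∧ u ≠ v ∧ u ≠ w ∧ v ≠ w ∧
      ∀ z : ↥(P : Subgroup G), IsConj (u : G) (z : G) ↔ z = u ∨ z = v ∨ z = w := by
  haveI : Nontrivial (autGroup P) :=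
    Fintype.one_lt_card_iff_nontrivial.1 (by rw [← Nat.card_eq_fintype_card, show Nat.card (autGroup P) = 3 from hm]; norm_num)
  obtain ⟨⟨α, hα⟩, hne⟩ := exists_ne (1 : autGroup P)
  have hα1 : α ≠ 1 := fun e => hne (Subtype.ext e)
  have h3 : α ^ 3 = 1 := by
    have := pow_card_eq_one' (x := (⟨α, hα⟩ : autGroup P))
    rw [show Nat.card (autGroup P) = 3 from hm] at this
    exact congrArg Subtype.val this
  have h3' : ∀ z, α (α (α z)) = z := fun z => by
    rw [← MulAut.mul_apply, ← MulAut.mul_apply, ← pow_three', h3, MulAut.one_apply]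
  have hne1 : α u ≠ u := fun e => hα1 (h.eq_one_of_fixed hα hu1 e)
  have hne2 : α (α u) ≠ u := fun e => hne1 (by nth_rewrite 2 [← h3' u]; rw [e])
  have hcomm : ∀ a b : ↥(P : Subgroup G), a * b = b * a := fun a b => Subtype.ext (h.comm a a.2 b b.2)
  have hprod : u * α u * α (α u) = 1 := by
    by_contra hne'
    refine hα1 (h.eq_one_of_fixed hα hne' ?_)
    rw [map_mul, map_mul, h3' u, hcomm (α u * α (α u)) u, mul_assoc]
  refine ⟨α u, α (α u), by rw [← map_mul, hu, map_one], by rw [← map_mul, ← map_mul, hu, map_one, map_one],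
    hprod, hne1.symm, hne2.symm, fun e => hne1 (α.injective e).symm, fun z => ⟨fun hz => ?_, ?_⟩⟩
  · have hu1' : (u : G) ≠ 1 := fun e => hu1 (Subtype.ext e)
    have hc := h.card_conj_inter u.2 hu1'
    rw [hm] at hc
    have hsub : ({u, α u, α (α u)} : Finset ↥(P : Subgroup G)) ⊆
        Finset.univ.filter fun y : ↥(P : Subgroup G) => IsConj (u : G) (y : G) := by
      intro y hy
      simp only [Finset.mem_insert, Finset.mem_singleton] at hy
      refine Finset.mem_filter.2 ⟨Finset.mem_univ _, ?_⟩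
      rcases hy with rfl | rfl | rfl
      · exact IsConj.refl _
      · exact isConj_of_mem_autGroup hα u
      · exact (isConj_of_mem_autGroup hα u).trans (isConj_of_mem_autGroup hα (α u))
    have hcard : ({u, α u, α (α u)} : Finset ↥(P : Subgroup G)).card = 3 := by
      rw [Finset.card_insert_of_notMem (by simp [hne1.symm, hne2.symm]),
        Finset.card_pair fun e => hne1 (α.injective e).symm]
    have heq := Finset.eq_of_subset_of_card_le hsub (by rw [hc, hcard])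
    have : z ∈ ({u, α u, α (α u)} : Finset ↥(P : Subgroup G)) := by
      rw [heq]; exact Finset.mem_filter.2 ⟨Finset.mem_univ _, hz⟩
    simpa using this
  · rintro (rfl | rfl | rfl)
    · exact IsConj.refl _
    · exact isConj_of_mem_autGroup hα u
    · exact (isConj_of_mem_autGroup hα u).trans (isConj_of_mem_autGroup hα (α u))

/-- A conjugate of an involution of `P` lying in the centralizer of `y` retracts into the three involutions. -/
theorem retract_conj {C : Subgroup G} (hPC : (P : Subgroup G) ≤ C)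
    (π : ↥C →* ↥((P.subtype hPC : Sylow p ↥C) : Subgroup ↥C))
    (hπ : ∀ s, π ((s : ↥((P.subtype hPC : Sylow p ↥C) : Subgroup ↥C)) : ↥C) = s)
    (hcomm : ∀ a ∈ (P : Subgroup G), ∀ b ∈ (P : Subgroup G), a * b = b * a)
    {c : ↥C} {k : ℕ} (hc : orderOf (c : G) = p ^ k) : IsConj (c : G) (((π c : ↥C)) : G) := by
  obtain ⟨u, hu⟩ := exists_conj_mem_sylow_p (P.subtype hPC) (R := Subgroup.zpowers c)
    (IsPGroup.of_card (n := k) (by rw [Nat.card_zpowers, ← Subgroup.orderOf_coe, hc]))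
  have hm := hu c (Subgroup.mem_zpowers c)
  have hTc : ∀ a b : ↥((P.subtype hPC : Sylow p ↥C) : Subgroup ↥C), a * b = b * a := fun a b =>
    Subtype.ext (Subtype.ext (hcomm _ (Subgroup.mem_subgroupOf.1 a.2) _ (Subgroup.mem_subgroupOf.1 b.2)))
  have e := hπ ⟨u * c * u⁻¹, hm⟩
  rw [map_mul, map_mul, map_inv, hTc (π u) (π c), mul_assoc, mul_inv_cancel, mul_one] at e
  refine isConj_iff.2 ⟨(u : G), ?_⟩
  rw [e]
  rfl

/-- The exceptional sum and the value at an involution lying in no proper normal subgroup. -/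
theorem involution_equations (h : FrobSylow P) (hm : autCard P = 3) (h4 : 4 < Nat.card (P : Subgroup G))
    {Y : Finset (IrrCharacter G)} {δ : ℤ} (hδ : δ = 1 ∨ δ = -1)
    {ζ : (↥(P : Subgroup G) →* ℂˣ) → IrrCharacter G}
    (hζY : ∀ ψ, ψ ≠ 1 → ζ ψ ∈ Y) (hsurj : ∀ η ∈ Y, ∃ ψ, ψ ≠ 1 ∧ ζ ψ = η)
    (hiff : ∀ ψ μ, ψ ≠ 1 → μ ≠ 1 → (ζ ψ = ζ μ ↔ μ ∈ orb P ψ))
    (hval : ∀ ψ, ψ ≠ 1 → ∀ (z : G) (y : ↥(P : Subgroup G)), IsPPart p z (y : G) → (y : G) ≠ 1 →
        (ζ ψ : G → ℂ) z = (δ : ℂ) * ∑ μ ∈ orb P ψ, ((μ y : ℂˣ) : ℂ))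
    (hagree : ∀ η ∈ Y, ∀ η' ∈ Y, ∀ g : G, ¬ p ∣ orderOf g → (η : G → ℂ) g = (η' : G → ℂ) g)
    {t : G} (ht : orderOf t = 2) {η₀ : IrrCharacter G} (hη₀ : η₀ ∈ Y) :
    ∃ (y : G) (C' : ℤ), y ∈ (P : Subgroup G) ∧ y ≠ 1 ∧
      (∀ s : Subgroup.centralizer ({y} : Set G), IsPRegular p s → ∀ x : G,
        IsConj t x → ¬ IsConj t (x⁻¹ * (y * (s : G))⁻¹)) ∧
      ∑ η ∈ Y, (η : G → ℂ) t ^ 2 * (η : G → ℂ) y = -(δ : ℂ) * (C' : ℂ) ^ 2 ∧
      ((p ≠ 2 ∧ (C' : ℂ) = -(δ : ℂ) * (η₀ : G → ℂ) t) ∨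
        (C' = -3 ∧ ∃ u : G, u ∈ (P : Subgroup G) ∧ u ≠ 1 ∧ IsConj t u)) := by
  letI : CommGroup ↥(P : Subgroup G) :=
    { (inferInstance : Group ↥(P : Subgroup G)) with
      mul_comm := fun a b => Subtype.ext (h.comm a a.2 b b.2) }
  letI : Fintype (↥(P : Subgroup G) →* ℂˣ) := by
    haveI : Finite (↥(P : Subgroup G) →* ℂˣ) :=
      Finite.of_equiv _
        (CommGroup.monoidHom_mulEquiv_of_hasEnoughRootsOfUnity ↥(P : Subgroup G) ℂ).some.toEquiv.symm
    exact Fintype.ofFinite _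
  have htt : t * t = 1 := by rw [← pow_two, ← ht]; exact pow_orderOf_eq_one t
  have hδ2 : (δ : ℂ) * δ = 1 := by rcases hδ with e | e <;> rw [e] <;> norm_num
  have hinv : ∀ {x : G}, IsConj t x → x * x = 1 := fun {x} hx => by
    obtain ⟨g, rfl⟩ := isConj_iff.1 hx
    rw [show g * t * g⁻¹ * (g * t * g⁻¹) = g * (t * t) * g⁻¹ by group, htt, mul_one, mul_inv_cancel]
  -- a factorisation in the section of `y` makes `y` an involution inverted by the first factor
  have hpair : ∀ {y : G}, y ∈ (P : Subgroup G) → y ≠ 1 → ∀ s : Subgroup.centralizer ({y} : Set G),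
      IsPRegular p s → ∀ x : G, IsConj t x → IsConj t (x⁻¹ * (y * (s : G))⁻¹) →
        y * y = 1 ∧ x * y * x⁻¹ = y⁻¹ := by
    intro y hy hy1 s hs x hx hw
    have hinvy := inverts hy (Subgroup.mem_centralizer_singleton_iff.1 s.2).symm
      (by rw [Subgroup.orderOf_coe]; exact hs) (hinv hx) (hinv hw) (mul_inv_cancel_left x _)
    exact ⟨sq_one_of_inverted h hm hy hy1 hinvy, hinvy⟩
  rcases eq_or_ne p 2 with hp2 | hp2
  · subst hp2
    obtain ⟨g, hg⟩ := exists_conj_mem_sylow_p P (R := Subgroup.zpowers t)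
      (IsPGroup.of_card (n := 1) (by rw [Nat.card_zpowers, ht, pow_one]))
    set t₀ : ↥(P : Subgroup G) := ⟨_, hg t (Subgroup.mem_zpowers t)⟩ with ht₀
    have htc : IsConj t (t₀ : G) := isConj_iff.2 ⟨g, rfl⟩
    have ht₀2 : t₀ * t₀ = 1 := Subtype.ext (hinv htc)
    have ht₀1 : t₀ ≠ 1 := fun e => by
      have h1 : t = 1 := conj_eq_one_iff.mp (congrArg Subtype.val e)
      rw [h1, orderOf_one] at ht
      omega
    obtain ⟨v, w, hv2, hw2, hprod, huv, huw, hvw, hO⟩ := three_involutions h hm ht₀2 ht₀1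
    have p1 : t₀ * v = w := by rw [mul_eq_one_iff_eq_inv.1 hprod]; exact inv_eq_of_mul_eq_one_right hw2
    have p2 : t₀ * w = v := by rw [← p1, ← mul_assoc, ht₀2, one_mul]
    have p3 : v * w = t₀ := by rw [← p1, mul_left_comm, hv2, mul_one]
    have hv1 : v ≠ 1 := fun e => huw (by rw [← p1, e, mul_one])
    have hw1 : w ≠ 1 := fun e => huv (by rw [← p2, e, mul_one])
    obtain ⟨y, -, hyO⟩ := Finset.exists_mem_notMem_of_card_lt_card
      (s := ({1, t₀, v, w} : Finset ↥(P : Subgroup G))) (t := Finset.univ) (by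
        rw [Finset.card_univ, ← Nat.card_eq_fintype_card]
        exact lt_of_le_of_lt Finset.card_le_four h4)
    simp only [Finset.mem_insert, Finset.mem_singleton, not_or] at hyO
    obtain ⟨hy1, hyt, hyv, hyw⟩ := hyO
    have hy1' : (y : G) ≠ 1 := fun e => hy1 (Subtype.ext e)
    refine ⟨y, -3, y.2, hy1', fun s hs x hx hw' => ?_, ?_, Or.inr ⟨rfl, t₀, t₀.2, fun e => ht₀1 (Subtype.ext e), htc⟩⟩
    · obtain ⟨hyy, hxy⟩ := hpair y.2 hy1' s hs x hx hw'
      have hxC : x ∈ Subgroup.centralizer ({(y : G)} : Set G) := by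
        rw [Subgroup.mem_centralizer_singleton_iff]
        rw [inv_eq_of_mul_eq_one_right hyy, mul_inv_eq_iff_eq_mul] at hxy
        exact hxy
      have hyC : (y : G) ∈ Subgroup.centralizer ({(y : G)} : Set G) := Subgroup.mem_centralizer_singleton_iff.2 rfl
      have hPC : (P : Subgroup G) ≤ Subgroup.centralizer ({(y : G)} : Set G) := h.sylow_le_centralizer y.2
      obtain ⟨π, hπ, hker⟩ := exists_retraction (h.npc_centralizer y.2 hy1') (P.subtype hPC)
      have hπs : π s = 1 := by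
        obtain ⟨j, hj⟩ := IsPGroup.iff_orderOf.mp (P.subtype hPC).2 (π s)
        by_contra hne
        have hj0 : j ≠ 0 := fun h0 => hne (orderOf_eq_one_iff.mp (by rw [hj, h0, pow_zero]))
        exact hs (((dvd_pow_self 2 hj0).trans (dvd_of_eq hj.symm)).trans (orderOf_map_dvd π s))
      have hloc : ∀ c : ↥(Subgroup.centralizer ({(y : G)} : Set G)), IsConj t (c : G) →
          ∃ z : ↥(P : Subgroup G), (z : G) = ((π c : ↥(Subgroup.centralizer ({(y : G)} : Set G))) : G) ∧ (z = t₀ ∨ z = v ∨ z = w) := by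
        intro c hc
        have ho : orderOf (c : G) = 2 ^ 1 := by
          obtain ⟨g', hg'⟩ := isConj_iff.1 hc
          rw [← hg', orderOf_conj', ht, pow_one]
        refine ⟨⟨_, Subgroup.mem_subgroupOf.1 (π c).2⟩, rfl, (hO _).1 ?_⟩
        exact htc.symm.trans (hc.trans (retract_conj hPC π hπ h.comm ho))
      set xc : ↥(Subgroup.centralizer ({(y : G)} : Set G)) := ⟨x, hxC⟩
      set wc : ↥(Subgroup.centralizer ({(y : G)} : Set G)) := xc⁻¹ * (⟨y, hyC⟩ * s)⁻¹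
      obtain ⟨a, ha, ha'⟩ := hloc xc hx
      obtain ⟨b, hb, hb'⟩ := hloc wc hw'
      have hab : a * b = y⁻¹ := by
        apply Subtype.ext
        rw [Subgroup.coe_mul, ha, hb, ← Subgroup.coe_mul, ← Subgroup.coe_mul, ← map_mul,
          mul_inv_cancel_left, map_inv, map_mul, hπs, mul_one,
          show π (⟨y, hyC⟩ : ↥(Subgroup.centralizer ({(y : G)} : Set G))) = ⟨⟨y, hyC⟩, Subgroup.mem_subgroupOf.2 y.2⟩ from
            hπ ⟨⟨y, hyC⟩, Subgroup.mem_subgroupOf.2 y.2⟩]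
        rfl
      rw [show y⁻¹ = y from Subtype.ext (inv_eq_of_mul_eq_one_right hyy)] at hab
      rcases ha' with rfl | rfl | rfl <;> rcases hb' with rfl | rfl | rfl <;>
        first
          | exact hy1 (hab.symm.trans ht₀2)
          | exact hy1 (hab.symm.trans hv2)
          | exact hy1 (hab.symm.trans hw2)
          | exact hyw (hab.symm.trans p1)
          | exact hyw ((hab.symm.trans (mul_comm _ _)).trans p1)
          | exact hyv (hab.symm.trans p2)
          | exact hyv ((hab.symm.trans (mul_comm _ _)).trans p2)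
          | exact hyt (hab.symm.trans p3)
          | exact hyt ((hab.symm.trans (mul_comm _ _)).trans p3)
    · let S : (↥(P : Subgroup G) →* ℂˣ) → ℂ := fun ψ => (ψ t₀ : ℂ) + (ψ v : ℂ) + (ψ w : ℂ)
      have hS : ∀ ψ, ψ ≠ 1 → ∑ μ ∈ orb P ψ, ((μ t₀ : ℂˣ) : ℂ) = S ψ := by
        intro ψ hψ
        rw [sum_orb h hψ]
        have e : ∑ z ∈ ({t₀, v, w} : Finset ↥(P : Subgroup G)), (ψ z : ℂ) = S ψ := by
          rw [Finset.sum_insert (by simp [huv, huw]), Finset.sum_pair hvw, ← add_assoc]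
        rw [← e]
        refine Finset.sum_bij (fun (α : autGroup P) _ => (α : MulAut ↥(P : Subgroup G)) t₀) ?_ ?_ ?_ fun _ _ => rfl
        · intro α _
          simpa using (hO _).1 (isConj_of_mem_autGroup α.2 t₀)
        · intro α _ β _ e'
          have := h.eq_one_of_fixed (mul_mem (inv_mem β.2) α.2) ht₀1
            (by rw [MulAut.mul_apply, e', MulAut.inv_apply, MulEquiv.symm_apply_apply])
          exact Subtype.ext (inv_mul_eq_one.1 this).symm
        · intro z hz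
          obtain ⟨α, hα, e'⟩ := h.exists_aut_of_isConj ((hO z).2 (by simpa using hz))
          exact ⟨⟨α, hα⟩, Finset.mem_univ _, e'⟩
      have hvalt : ∀ ψ, ψ ≠ 1 → (ζ ψ : G → ℂ) t = (δ : ℂ) * S ψ := by
        intro ψ hψ
        rw [← hS ψ hψ, ← hval ψ hψ (t₀ : G) t₀ (isPPart_self t₀.2) fun e => ht₀1 (Subtype.ext e),
          show ((t₀ : G)) = g * t * g⁻¹ from rfl, irr_conj_apply]
      have hSconst : ∀ ψ μ, ψ ≠ 1 → μ ∈ orb P ψ → S μ = S ψ := by
        intro ψ μ hψ hμ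
        have e := congrArg (fun χ : IrrCharacter G => (χ : G → ℂ) t)
          ((hiff ψ μ hψ (orb_ne_one hψ hμ)).2 hμ)
        simp only [hvalt ψ hψ, hvalt μ (orb_ne_one hψ hμ)] at e
        linear_combination (-(δ : ℂ)) * e - (S μ - S ψ) * hδ2
      have hSsq : ∀ ψ : ↥(P : Subgroup G) →* ℂˣ, S ψ ^ 2 = 3 + 2 * S ψ := by
        intro ψ
        have hm' : ∀ a b c : ↥(P : Subgroup G), a * b = c → (ψ a : ℂ) * (ψ b : ℂ) = (ψ c : ℂ) := fun a b c e => by
          rw [← Units.val_mul, ← map_mul, e]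
        have a1 := hm' _ _ _ ht₀2
        have a2 := hm' _ _ _ hv2
        have a3 := hm' _ _ _ hw2
        rw [map_one, Units.val_one] at a1 a2 a3
        show ((ψ t₀ : ℂ) + (ψ v : ℂ) + (ψ w : ℂ)) ^ 2 = 3 + 2 * ((ψ t₀ : ℂ) + (ψ v : ℂ) + (ψ w : ℂ))
        linear_combination a1 + a2 + a3 + 2 * hm' _ _ _ p1 + 2 * hm' _ _ _ p2 + 2 * hm' _ _ _ p3
      have key := sum_along hζY hsurj hiff (fun μ => (3 + 2 * S μ) * (μ y : ℂ))
        (fun η => (δ : ℂ) * ((η : G → ℂ) t ^ 2 * (η : G → ℂ) y)) (fun ψ hψ => by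
          show (δ : ℂ) * _ = _
          rw [hvalt ψ hψ, hval ψ hψ (y : G) y (isPPart_self y.2) hy1',
            Finset.sum_congr rfl (s₁ := orb P ψ) (s₂ := orb P ψ) (f := fun μ => (3 + 2 * S μ) * ((μ y : ℂˣ) : ℂ)) (g := fun μ => S ψ ^ 2 * (μ y : ℂ)) fun μ hμ => by
              rw [hSconst ψ μ hψ hμ, hSsq ψ], ← Finset.mul_sum]
          linear_combination ((δ : ℂ) * δ + 1) * S ψ ^ 2 * (∑ μ ∈ orb P ψ, ((μ y : ℂˣ) : ℂ)) * hδ2)
      rw [← Finset.mul_sum] at key
      have hsum : ∀ u : ↥(P : Subgroup G), u ≠ 1 → y ≠ u → u * u = 1 →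
          ∑ ψ ∈ (Finset.univ : Finset (↥(P : Subgroup G) →* ℂˣ)).erase 1, (ψ u : ℂ) * (ψ y : ℂ) = -1 := by
        intro u _ hne hu2
        have huy : u * y ≠ 1 := fun e => hne (by
          rw [← inv_eq_of_mul_eq_one_right e]; exact inv_eq_of_mul_eq_one_right hu2)
        rw [← sum_erase_one h huy]
        exact Finset.sum_congr rfl fun ψ _ => by rw [map_mul, Units.val_mul]
      rw [Finset.sum_congr rfl (s₂ := (Finset.univ : Finset (↥(P : Subgroup G) →* ℂˣ)).erase 1)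
        (g := fun ψ => 3 * (ψ y : ℂ) + 2 * ((ψ t₀ : ℂ) * (ψ y : ℂ) + (ψ v : ℂ) * (ψ y : ℂ) + (ψ w : ℂ) * (ψ y : ℂ)))
        fun ψ _ => by simp only [S]; ring,
        Finset.sum_add_distrib, ← Finset.mul_sum, ← Finset.mul_sum, Finset.sum_add_distrib,
        Finset.sum_add_distrib, sum_erase_one h hy1, hsum _ ht₀1 hyt ht₀2, hsum _ hv1 hyv hv2,
        hsum _ hw1 hyw hw2] at key
      push_cast
      linear_combination (δ : ℂ) * key - (∑ η ∈ Y, (η : G → ℂ) t ^ 2 * (η : G → ℂ) (y : G)) * hδ2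
  · have htr : ¬ p ∣ orderOf t := by
      rw [ht]; exact fun e => hp2 ((Nat.prime_dvd_prime_iff_eq hp.out Nat.prime_two).1 e)
    obtain ⟨y, hy⟩ : ∃ y : ↥(P : Subgroup G), y ≠ 1 := by
      haveI : Nontrivial ↥(P : Subgroup G) :=
        Fintype.one_lt_card_iff_nontrivial.1 (by rw [← Nat.card_eq_fintype_card]; omega)
      exact exists_ne 1
    have hy1 : (y : G) ≠ 1 := fun e => hy (Subtype.ext e)
    obtain ⟨u, hu⟩ := CfsgLib.SmallGroups.SelfInverse.exists_int_of_sq_one η₀.2 htt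
    refine ⟨y, -δ * u, y.2, hy1, fun s hs x hx hw => ?_, ?_, Or.inl ⟨hp2, by rw [hu]; push_cast; ring⟩⟩
    · obtain ⟨hyy, -⟩ := hpair y.2 hy1 s hs x hx hw
      obtain ⟨k, hk⟩ := IsPGroup.iff_orderOf.mp P.2 y
      have h2 : orderOf y ∣ 2 := orderOf_dvd_of_pow_eq_one (by
        rw [pow_two]; exact Subtype.ext hyy)
      rw [hk] at h2
      rcases Nat.eq_zero_or_pos k with hk0 | hk0
      · rw [hk0, pow_zero, orderOf_eq_one_iff] at hk
        exact hy hk
      · exact hp2 ((Nat.prime_dvd_prime_iff_eq hp.out Nat.prime_two).1 ((dvd_pow_self p hk0.ne').trans h2))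
    · have key := sum_along hζY hsurj hiff (fun μ => (μ y : ℂ))
        (fun η => (δ : ℂ) * (η : G → ℂ) y) (fun ψ hψ => by
          show (δ : ℂ) * _ = _
          rw [hval ψ hψ (y : G) y (isPPart_self y.2) hy1, ← mul_assoc, hδ2, one_mul])
      rw [← Finset.mul_sum, sum_erase_one h hy] at key
      rw [Finset.sum_congr rfl fun η hη => by rw [hagree η hη η₀ hη₀ t htr, hu], ← Finset.mul_sum]
      push_cast
      linear_combination ((δ : ℂ) * (u : ℂ) ^ 2) * key
        - ((u : ℂ) ^ 2 * ∑ η ∈ Y, (η : G → ℂ) (y : G)) * hδ2 + ((δ : ℂ) * (u : ℂ) ^ 2) * hδ2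

/-- The principal block for a semiregular automizer of order three. -/
theorem main (h : FrobSylow P) (hm : autCard P = 3) (h4 : 4 < Nat.card (P : Subgroup G))
    {M : Ideal AlgInt} (hM : IsPModular p M) :
    ∃ (X Y : Finset (IrrCharacter G)) (a : IrrCharacter G → ℤ) (δ : ℤ)
      (ζ : (↥(P : Subgroup G) →* ℂˣ) → IrrCharacter G),
      (∀ χ, χ ∈ principalBlock M G ↔ χ ∈ X ∨ χ ∈ Y) ∧ Disjoint X Y ∧ trivChar G ∈ X ∧
      X.card = 3 ∧ 3 * Y.card + 1 = Nat.card (P : Subgroup G) ∧ (δ = 1 ∨ δ = -1) ∧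
      (∀ χ ∈ X, (a χ = 1 ∨ a χ = -1) ∧
        ∀ z y : G, IsPPart p z y → y ∈ (P : Subgroup G) → y ≠ 1 → (χ : G → ℂ) z = (a χ : ℂ)) ∧
      (∀ ψ, ψ ≠ 1 → ζ ψ ∈ Y) ∧ (∀ η ∈ Y, ∃ ψ, ψ ≠ 1 ∧ ζ ψ = η) ∧
      (∀ ψ μ, ψ ≠ 1 → μ ≠ 1 → (ζ ψ = ζ μ ↔ μ ∈ orb P ψ)) ∧
      (∀ ψ, ψ ≠ 1 → ∀ (z : G) (y : ↥(P : Subgroup G)), IsPPart p z (y : G) → (y : G) ≠ 1 →
        (ζ ψ : G → ℂ) z = (δ : ℂ) * ∑ μ ∈ orb P ψ, ((μ y : ℂˣ) : ℂ)) ∧
      ((∃ t : G, orderOf t = 2 ∧ ∀ K : Subgroup G, K.Normal → t ∈ K → K = ⊤) →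
        (X.filter fun χ => χ ≠ trivChar G ∧ a χ = -1).card + (if δ = 1 then 1 else 0) = 2 ∧
        ∀ η ∈ Y, IsSquare (charDegree (η : G → ℂ) * ∏ χ ∈ X.erase (trivChar G), charDegree (χ : G → ℂ))) := by
  obtain ⟨X, Y, a, δ, ζ, hB, hdisj, htX, hat, hXc, hYm, hδ, hX, hζY, hsurj, hiff, hval, hagree, hrel⟩ :=
    normalized h hm h4 hM
  refine ⟨X, Y, a, δ, ζ, hB, hdisj, htX, hXc, hYm, hδ, hX, hζY, hsurj, hiff, hval, ?_⟩
  rintro ⟨t, ht, htK⟩
  have htt : t * t = 1 := by rw [← pow_two, ← ht]; exact pow_orderOf_eq_one t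
  obtain ⟨η₀, hη₀⟩ : ∃ η, η ∈ Y := Finset.card_pos.1 (by omega)
  obtain ⟨χ₁, χ₂, h12, hX2⟩ := Finset.card_eq_two.1
    (show (X.erase (trivChar G)).card = 2 by rw [Finset.card_erase_of_mem htX, hXc])
  have h1 : χ₁ ≠ trivChar G ∧ χ₁ ∈ X := Finset.mem_erase.1 (hX2.symm ▸ Finset.mem_insert_self _ _)
  have h2 : χ₂ ≠ trivChar G ∧ χ₂ ∈ X := Finset.mem_erase.1 (hX2.symm ▸ by simp)
  have hmove : ∀ χ : IrrCharacter G, χ ≠ trivChar G → (χ : G → ℂ) t ≠ (χ : G → ℂ) 1 := fun χ hne e =>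
    hne (eq_trivChar_of_const χ fun g => by
      have := htK (irrKer χ) (irrKer_normal χ) (mem_irrKer.2 e)
      exact mem_irrKer.1 (this ▸ Subgroup.mem_top g))
  have hsumX : ∀ F : IrrCharacter G → ℂ, ∑ χ ∈ X, F χ = F (trivChar G) + (F χ₁ + F χ₂) := fun F => by
    rw [← Finset.add_sum_erase _ _ htX, hX2, Finset.sum_pair h12]
  have hone : ¬ p ∣ orderOf (1 : G) := by rw [orderOf_one]; exact hp.out.not_dvd_one
  obtain ⟨y, C', hy, hy1, hno, hYsum, hC'⟩ :=
    involution_equations h hm h4 hδ hζY hsurj hiff hval hagree ht hη₀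
  obtain ⟨s₁, hs₁⟩ := CfsgLib.SmallGroups.SelfInverse.exists_int_of_sq_one χ₁.2 htt
  obtain ⟨s₂, hs₂⟩ := CfsgLib.SmallGroups.SelfInverse.exists_int_of_sq_one χ₂.2 htt
  set d₁ := charDegree (χ₁ : G → ℂ) with hd₁
  set d₂ := charDegree (χ₂ : G → ℂ) with hd₂
  set f := charDegree (η₀ : G → ℂ) with hf
  have hd₁0 : (d₁ : ℤ) ≠ 0 := by exact_mod_cast (charDegree_pos χ₁).ne'
  have hd₂0 : (d₂ : ℤ) ≠ 0 := by exact_mod_cast (charDegree_pos χ₂).ne'
  have hf0 : (f : ℤ) ≠ 0 := by exact_mod_cast (charDegree_pos η₀).ne'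
  have ha₁ : a χ₁ = 1 ∨ a χ₁ = -1 := (hX χ₁ h1.2).1
  have ha₂ : a χ₂ = 1 ∨ a χ₂ = -1 := (hX χ₂ h2.2).1
  have hne₁ : s₁ ≠ (d₁ : ℤ) := fun e => hmove χ₁ h1.1 (by rw [hs₁, e, irr_one_eq]; simp [hd₁])
  have hne₂ : s₂ ≠ (d₂ : ℤ) := fun e => hmove χ₂ h2.1 (by rw [hs₂, e, irr_one_eq]; simp [hd₂])
  have e0 : (1 : ℤ) + a χ₁ * d₁ + a χ₂ * d₂ + (-δ) * f = 0 := by
    have e := hrel η₀ hη₀ 1 hone
    rw [hsumX, hat, trivChar_apply, irr_one_eq, irr_one_eq, irr_one_eq, ← hd₁, ← hd₂, ← hf] at e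
    apply Int.cast_injective (α := ℂ)
    push_cast at e ⊢
    linear_combination e
  have e1 : (1 : ℤ) + a χ₁ * s₁ + a χ₂ * s₂ + C' = 0 := by
    rcases hC' with ⟨hp2, e'⟩ | ⟨rfl, u, hu, hu1, hut⟩
    · have htr : ¬ p ∣ orderOf t := by
        rw [ht]; exact fun e => hp2 ((Nat.prime_dvd_prime_iff_eq hp.out Nat.prime_two).1 e)
      have e := hrel η₀ hη₀ t htr
      rw [hsumX, hat, trivChar_apply, hs₁, hs₂, ← e'] at e
      apply Int.cast_injective (α := ℂ)
      push_cast at e ⊢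
      linear_combination e
    · have hv : ∀ χ ∈ X, (χ : G → ℂ) t = (a χ : ℂ) := fun χ hχ => by
        obtain ⟨g, rfl⟩ := isConj_iff.1 hut
        rw [← irr_conj_apply χ t g]
        exact (hX χ hχ).2 _ _ (isPPart_self hu) hu hu1
      have q1 : s₁ = a χ₁ := by exact_mod_cast hs₁.symm.trans (hv χ₁ h1.2)
      have q2 : s₂ = a χ₂ := by exact_mod_cast hs₂.symm.trans (hv χ₂ h2.2)
      rw [q1, q2]
      rcases ha₁ with e | e <;> rcases ha₂ with e' | e' <;> rw [e, e'] <;> norm_num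
  have e2 : a χ₁ * d₁ * (a χ₂ * d₂) * (-δ * f) + (a χ₁ * s₁) ^ 2 * (a χ₂ * d₂) * (-δ * f)
      + (a χ₂ * s₂) ^ 2 * (a χ₁ * d₁) * (-δ * f) + C' ^ 2 * (a χ₁ * d₁) * (a χ₂ * d₂) = 0 := by
    have hs := section_sum h hM t hy hy1 hno
    rw [show (principalBlock M G).toFinset = X ∪ Y by ext χ; simp [hB], Finset.sum_union hdisj, hsumX,
      Finset.sum_congr rfl (s₂ := Y) (g := fun η => (η : G → ℂ) t ^ 2 * (η : G → ℂ) y / (f : ℂ)) fun η hη => by
        rw [hagree η hη η₀ hη₀ 1 hone, irr_one_eq η₀],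
      ← Finset.sum_div, hYsum, trivChar_apply, trivChar_apply, trivChar_apply, irr_one_eq χ₁, irr_one_eq χ₂,
      hs₁, hs₂, (hX χ₁ h1.2).2 y y (isPPart_self hy) hy hy1,
      (hX χ₂ h2.2).2 y y (isPPart_self hy) hy hy1, ← hd₁, ← hd₂] at hs
    have n1 : (d₁ : ℂ) ≠ 0 := by exact_mod_cast (charDegree_pos χ₁).ne'
    have n2 : (d₂ : ℂ) ≠ 0 := by exact_mod_cast (charDegree_pos χ₂).ne'
    have n3 : (f : ℂ) ≠ 0 := by exact_mod_cast (charDegree_pos η₀).ne'
    field_simp at hs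
    have hδ2 : (δ : ℂ) * δ = 1 := by rcases hδ with e | e <;> rw [e] <;> norm_num
    apply Int.cast_injective (α := ℂ)
    push_cast
    linear_combination (-(δ : ℂ) * (a χ₁ : ℂ) * (a χ₂ : ℂ)) * hs
      - ((C' : ℂ) ^ 2 * (a χ₁ : ℂ) * (a χ₂ : ℂ) * (d₁ : ℂ) * (d₂ : ℂ)) * hδ2
  obtain ⟨hcount, hsquare⟩ := two_neg (A := a χ₁ * d₁) (B := a χ₂ * d₂) (C := -δ * f)
    (A' := a χ₁ * s₁) (B' := a χ₂ * s₂) (C' := C')
    (mul_ne_zero (by omega) hd₁0) (mul_ne_zero (by omega) hd₂0) (mul_ne_zero (by omega) hf0) e0 e1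
    (by linear_combination e2)
    (fun e => hne₁ (mul_left_cancel₀ (by omega) e)) (fun e => hne₂ (mul_left_cancel₀ (by omega) e))
  constructor
  · have hfil : X.filter (fun χ => χ ≠ trivChar G ∧ a χ = -1)
        = ({χ₁, χ₂} : Finset (IrrCharacter G)).filter fun χ => a χ = -1 := by
      rw [← hX2]; ext χ; simp only [Finset.mem_filter, Finset.mem_erase]; tauto
    rw [hfil]
    have p₁ : (0 : ℤ) < d₁ := by exact_mod_cast charDegree_pos χ₁
    have p₂ : (0 : ℤ) < d₂ := by exact_mod_cast charDegree_pos χ₂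
    have p₃ : (0 : ℤ) < f := by exact_mod_cast charDegree_pos η₀
    have sgn : ∀ (e d : ℤ), (e = 1 ∨ e = -1) → 0 < d → (e * d < 0 ↔ e = -1) := fun e d he hd => by
      rcases he with rfl | rfl <;> constructor <;> intro <;> linarith
    have q₁ := sgn _ _ ha₁ p₁
    have q₂ := sgn _ _ ha₂ p₂
    have q₃ : -δ * (f : ℤ) < 0 ↔ δ = 1 := (sgn (-δ) _ (by omega) p₃).trans neg_inj
    rw [Finset.card_filter, Finset.sum_pair h12]
    simp only [q₁, q₂, q₃] at hcount
    omega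
  · intro η hη
    have hdeg : charDegree (η : G → ℂ) = f := by
      have := hagree η hη η₀ hη₀ 1 hone
      rw [irr_one_eq, irr_one_eq] at this
      exact_mod_cast this
    rw [hdeg, hX2, Finset.prod_pair h12, ← hd₁, ← hd₂]
    have n1 : ∀ z : ℤ, z = 1 ∨ z = -1 → z.natAbs = 1 := fun z hz => by rcases hz with rfl | rfl <;> rfl
    rw [Int.natAbs_mul, Int.natAbs_mul, Int.natAbs_mul, Int.natAbs_mul, Int.natAbs_mul, Int.natAbs_neg,
      n1 _ ha₁, n1 _ ha₂, n1 _ hδ, one_mul, one_mul, one_mul, Int.natAbs_natCast, Int.natAbs_natCast,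
      Int.natAbs_natCast] at hsquare
    rwa [mul_comm f]

end CfsgLib.Blocks.IndexThree
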