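import Cfsg.Agent.Lib.Blocks.PrincipalColumns
import Cfsg.Agent.Lib.Involution.ZStar.PrincipalBlock
import Cfsg.Agent.Lib.Char.Linear

/-!
# Principal block columns at elements not inverted by the conjugates of an involution
-/

set_option autoImplicit false

namespace CfsgLib.Blocks

open Cfsg
open scoped Classical ComplexConjugate

variable {G : Type*} [Group G] [Fintype G] {p : ℕ} {M : Ideal AlgInt}

/-- The class-multiplication sum vanishes off the products of two conjugates. -/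
theorem sum_sq_mul_div_eq_zero (t z : G)
    (h : ∀ a : G, IsConj t a → ¬ IsConj t (a⁻¹ * z⁻¹)) :
    ∑ χ : IrrCharacter G, (χ : G → ℂ) t ^ 2 * (χ : G → ℂ) z / (χ : G → ℂ) 1 = 0 := by
  set f : G → ℂ := fun w => ∑ x, classInd t x * classInd t (x⁻¹ * w)
  have hcl := classInd_isClassFunction (G := G) t
  have hz : f z⁻¹ = 0 := Finset.sum_eq_zero fun x _ => by
    by_cases hx : IsConj t x
    · rw [show classInd t (x⁻¹ * z⁻¹) = 0 from if_neg (h x hx), mul_zero]
    · rw [show classInd t x = 0 from if_neg hx, zero_mul]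
  have h1 := congrFun (fourierInv_omega (conv_isClassFunction hcl hcl)) z⁻¹
  change _ = f z⁻¹ at h1
  rw [hz, fourierInv, mul_eq_zero] at h1
  have h2 := h1.resolve_left (inv_ne_zero CfsgLib.Char.card_ne_zero)
  set i : ℂ := ((Subgroup.centralizer ({t} : Set G)).index : ℂ)
  have hi : i ≠ 0 := Nat.cast_ne_zero.2 Subgroup.index_ne_zero_of_finite
  suffices h3 : i ^ 2 * ∑ χ : IrrCharacter G, (χ : G → ℂ) t ^ 2 * (χ : G → ℂ) z / (χ : G → ℂ) 1 = 0 from
    (mul_eq_zero.1 h3).resolve_left (pow_ne_zero _ hi)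
  refine Eq.trans ?_ h2
  rw [Finset.mul_sum]
  refine Finset.sum_congr rfl fun χ _ => ?_
  rw [omega_conv χ hcl hcl, omega_classInd, centralChar, inv_inv]
  field_simp [irr_one_ne_zero χ]
  ring

/-- Restriction of a column relation to the block, at an element with no regular witnesses. -/
theorem sum_block_apply_eq_zero (hM : IsPModular p M) {B : Set (IrrCharacter G)} (hB : IsPBlock M B)
    {v : G} (hv : ∃ k : ℕ, orderOf v = p ^ k) (coef : IrrCharacter G → ℂ)
    (h : ∀ c : Subgroup.centralizer ({v} : Set G), IsPRegular p c →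
      ∑ χ : IrrCharacter G, coef χ * (χ : G → ℂ) (v * (c : G)) = 0) :
    ∑ χ : IrrCharacter G, blockInd B χ * (coef χ * (χ : G → ℂ) v) = 0 := by
  set K := Subgroup.centralizer ({v} : Set G) with hK
  have hone : ¬ p ∣ orderOf (1 : K) := by rw [orderOf_one]; exact hM.1.not_dvd_one
  have e : ∀ χ : IrrCharacter G, blockInd B χ * (coef χ * (χ : G → ℂ) v)
      = (Nat.card K : ℂ)⁻¹ * ∑ c : K with IsPRegular p c,
          blockKernel (sectionSet M K B) c 1 * (coef χ * (χ : G → ℂ) (v * (c : G))) := by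
    intro χ
    rw [mul_left_comm, show (χ : G → ℂ) v = (χ : G → ℂ) (v * ((1 : K) : G)) by simp,
      ← blockPart_sectionSet hM hK hv hB χ hone,
      blockPart_eq_sum_regular hM (sectionSet_isLocalOn hM K B) _ hone, mul_left_comm, Finset.mul_sum]
    congr 1
    exact Finset.sum_congr rfl fun c _ => by ring
  rw [Finset.sum_congr rfl fun χ _ => e χ, ← Finset.mul_sum, Finset.sum_comm]
  simp only [← Finset.mul_sum]
  rw [Finset.sum_eq_zero, mul_zero]
  exact fun c hc => by rw [h c (Finset.mem_filter.1 hc).2, mul_zero]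

variable {t v : G}

omit [Fintype G] in
theorem mul_self_of_order_two (ht : orderOf t = 2) : t * t = 1 := by
  rw [← sq, ← ht]; exact pow_orderOf_eq_one t

theorem no_pair_of_not_inverted (hp : p.Prime) (ht : orderOf t = 2)
    (hv : ∃ k : ℕ, orderOf v = p ^ k) (hinv : ∀ g : G, (g * t * g⁻¹) * v * (g * t * g⁻¹)⁻¹ ≠ v⁻¹)
    {c : G} (hc : Commute v c) (hcr : ¬ p ∣ orderOf c) (a : G) (ha : IsConj t a) :
    ¬ IsConj t (a⁻¹ * (v * c)⁻¹) := by
  intro hb
  obtain ⟨g, rfl⟩ := isConj_iff.1 ha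
  obtain ⟨g', hg'⟩ := isConj_iff.1 hb
  set a := g * t * g⁻¹
  set z := v * c
  have haa : a * a = 1 := by
    have := mul_self_of_order_two ht
    calc a * a = g * (t * t) * g⁻¹ := by simp [a, mul_assoc]
      _ = 1 := by rw [this]; simp
  have hbb : (a⁻¹ * z⁻¹) * (a⁻¹ * z⁻¹) = 1 := by
    have := mul_self_of_order_two ht
    rw [← hg']
    calc g' * t * g'⁻¹ * (g' * t * g'⁻¹) = g' * (t * t) * g'⁻¹ := by simp [mul_assoc]
      _ = 1 := by rw [this]; simp
  have hainv : a⁻¹ = a := inv_eq_of_mul_eq_one_right haa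
  have haz : a * z * a⁻¹ = z⁻¹ := by
    rw [hainv] at hbb ⊢
    have h1 : z⁻¹ * a * z⁻¹ = a := by
      have h := congrArg (fun x => a * x) hbb
      simp only [← mul_assoc, haa, one_mul, mul_one] at h
      exact h
    calc a * z * a = z⁻¹ * a * z⁻¹ * z * a := by rw [h1]
      _ = z⁻¹ * (a * a) := by simp [mul_assoc]
      _ = z⁻¹ := by rw [haa, mul_one]
  obtain ⟨k, hk⟩ := hv
  have h1 := isPPart_conj (isPPart_mul hc hk hcr) a
  have h2 : IsPPart p (v * c)⁻¹ v⁻¹ := by
    rw [show (v * c)⁻¹ = v⁻¹ * c⁻¹ by rw [hc.eq, mul_inv_rev]]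
    exact isPPart_mul hc.inv_inv (k := k) (by rwa [orderOf_inv]) (by rwa [orderOf_inv])
  rw [haz] at h1
  exact hinv g (isPPart_unique hp h1 h2)

theorem ne_one_and_not_conj_of_not_inverted (ht : orderOf t = 2)
    (hinv : ∀ g : G, (g * t * g⁻¹) * v * (g * t * g⁻¹)⁻¹ ≠ v⁻¹) : v ≠ 1 ∧ ¬ IsConj t v := by
  refine ⟨fun h => hinv 1 (by simp [h]), fun h => ?_⟩
  obtain ⟨g, rfl⟩ := isConj_iff.1 h
  refine hinv g ?_
  rw [mul_inv_cancel_right]
  refine (inv_eq_of_mul_eq_one_right ?_).symm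
  calc g * t * g⁻¹ * (g * t * g⁻¹) = g * (t * t) * g⁻¹ := by simp [mul_assoc]
    _ = 1 := by rw [mul_self_of_order_two ht]; simp

/-- The three column relations at an element not inverted by a conjugate of `t`. -/
theorem column_relations (hM : IsPModular 2 M) (ht : orderOf t = 2)
    (hv : ∃ k : ℕ, orderOf v = 2 ^ k) (hinv : ∀ g : G, (g * t * g⁻¹) * v * (g * t * g⁻¹)⁻¹ ≠ v⁻¹) :
    (∑ χ : IrrCharacter G, blockInd (principalBlock M G) χ *
        (((χ : G → ℂ) t ^ 2 / (χ : G → ℂ) 1) * (χ : G → ℂ) v) = 0) ∧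
      (∑ χ : IrrCharacter G, blockInd (principalBlock M G) χ * ((χ : G → ℂ) 1 * (χ : G → ℂ) v) = 0) ∧
      (∑ χ : IrrCharacter G, blockInd (principalBlock M G) χ * ((χ : G → ℂ) t * (χ : G → ℂ) v) = 0) := by
  obtain ⟨hv1, hvt⟩ := ne_one_and_not_conj_of_not_inverted ht hinv
  refine ⟨sum_block_apply_eq_zero hM isPBlock_principalBlock hv _ fun c hc => ?_, ?_, ?_⟩
  · have hcomm : Commute v (c : G) := (Subgroup.mem_centralizer_singleton_iff.1 c.2).symm
    have := sum_sq_mul_div_eq_zero t (v * (c : G)) (no_pair_of_not_inverted hM.1 ht hv hinv hcomm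
      (by rw [Subgroup.orderOf_coe]; exact hc))
    rw [← this]
    exact Finset.sum_congr rfl fun χ _ => div_mul_eq_mul_div _ _ _
  · obtain ⟨k, hk⟩ := hv
    have h := CfsgLib.Involution.ZStar.sum_degree_mul_eq_zero hM
      (isPBlock_principalBlock (M := M) (G := G)) (g := v) (by
        rw [hk]
        exact dvd_pow_self 2 fun h0 => hv1 (orderOf_eq_one_iff.1 (by rw [hk, h0, pow_zero])))
    rw [← h, ← Finset.sum_subset (Finset.subset_univ (principalBlock M G).toFinset) (fun χ _ hχ => by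
      rw [blockInd_of_notMem (by simpa using hχ), zero_mul])]
    exact Finset.sum_congr rfl fun χ hχ => by
      rw [blockInd_of_mem (Set.mem_toFinset.1 hχ), one_mul]
  ·
    have hvinv : ∃ k : ℕ, orderOf v⁻¹ = 2 ^ k := by rwa [orderOf_inv]
    have h := sum_principal_columns (G := G) hM (y := t) ⟨1, by rw [ht, pow_one]⟩ hvinv
    rw [if_neg fun hc => hvt (by
      have h2 : IsConj t t⁻¹ := by
        rw [inv_eq_of_mul_eq_one_right (mul_self_of_order_two ht)]
      obtain ⟨g, hg⟩ := isConj_iff.1 hc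
      exact h2.trans (isConj_iff.2 ⟨g, by rw [← inv_inv v, ← hg]; simp [mul_assoc]⟩))] at h
    simpa using h

/-- Terms with exactly one positive coefficient have a common ratio. -/
theorem ratio_eq_of_one_pos {ι : Type*} [Fintype ι] (a d r : ι → ℝ) (hd : ∀ i, 0 < d i)
    (h1 : ∑ i, a i * d i = 0) (h2 : ∑ i, a i * r i = 0) (h3 : ∑ i, a i * (r i ^ 2 / d i) = 0)
    (hle : ∀ i j, 0 < a i → 0 < a j → i = j) : ∃ c : ℝ, ∀ i, a i ≠ 0 → r i = c * d i := by
  by_cases hpos : ∃ i, 0 < a i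
  · obtain ⟨i₀, hi₀⟩ := hpos
    set c := r i₀ / d i₀
    refine ⟨c, ?_⟩
    have hzero : ∑ i, a i * ((r i - c * d i) ^ 2 / d i) = 0 := by
      have e : ∀ i, a i * ((r i - c * d i) ^ 2 / d i)
          = a i * (r i ^ 2 / d i) + ((-2 * c) * (a i * r i) + c ^ 2 * (a i * d i)) := fun i => by
        field_simp [(hd i).ne']
        ring
      rw [Finset.sum_congr rfl fun i _ => e i, Finset.sum_add_distrib, Finset.sum_add_distrib,
        ← Finset.mul_sum, ← Finset.mul_sum, h1, h2, h3]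
      ring
    have hnp : ∀ i ∈ Finset.univ, a i * ((r i - c * d i) ^ 2 / d i) ≤ 0 := fun i _ => by
      rcases le_or_gt (a i) 0 with hi | hi
      · exact mul_nonpos_of_nonpos_of_nonneg hi (div_nonneg (sq_nonneg _) (hd i).le)
      · rw [hle i i₀ hi hi₀, show r i₀ - c * d i₀ = 0 by simp [c, (hd i₀).ne']]
        simp
    intro i hi
    have h := (Finset.sum_eq_zero_iff_of_nonpos hnp).1 hzero i (Finset.mem_univ i)
    rcases mul_eq_zero.1 h with h | h
    · exact absurd h hi
    · rcases div_eq_zero_iff.1 h with h | h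
      · exact sub_eq_zero.1 (pow_eq_zero_iff two_ne_zero |>.1 h)
      · exact absurd h (hd i).ne'
  · push Not at hpos
    refine ⟨0, fun i hi => absurd ?_ hi⟩
    have h := (Finset.sum_eq_zero_iff_of_nonpos fun j _ =>
      mul_nonpos_of_nonpos_of_nonneg (hpos j) (hd j).le).1 h1 i (Finset.mem_univ i)
    exact (mul_eq_zero.1 h).resolve_right (hd i).ne'

end CfsgLib.Blocks
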