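import Cfsg.Agent.Lib.Char.Integral
import Mathlib.Algebra.Order.Floor.Semiring
import Mathlib.Data.Rat.Floor

/-!
# Landau: a bound on the order in terms of the number of classes
-/

set_option autoImplicit false

namespace CfsgLib.Blocks

open scoped Classical

/-- Egyptian fractions with boundedly many terms have bounded denominators. -/
theorem exists_bound_sum_inv (k : ℕ) : ∀ r : ℚ, ∃ N : ℕ, ∀ s : Multiset ℕ,
    Multiset.card s ≤ k → (∀ n ∈ s, 0 < n) → (s.map fun n : ℕ => (n : ℚ)⁻¹).sum = r →
      ∀ n ∈ s, n ≤ N := by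
  induction k with
  | zero =>
    intro r
    refine ⟨0, fun s hs _ _ n hn => ?_⟩
    rw [Nat.le_zero, Multiset.card_eq_zero] at hs
    simp [hs] at hn
  | succ k ih =>
    intro r
    choose N hN using fun m : ℕ => ih (r - (m : ℚ)⁻¹)
    set L := ⌈((k + 1 : ℕ) : ℚ) / r⌉₊
    refine ⟨(Finset.range (L + 1)).sup fun m => max m (N m), fun s hs hpos hsum n hn => ?_⟩
    obtain ⟨m, hm, hmin⟩ := Finset.exists_min_image s.toFinset id ⟨n, Multiset.mem_toFinset.2 hn⟩
    rw [Multiset.mem_toFinset] at hm
    have hmin' : ∀ x ∈ s, m ≤ x := fun x hx => hmin x (Multiset.mem_toFinset.2 hx)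
    have hm0 : (0 : ℚ) < m := by exact_mod_cast hpos m hm
    obtain ⟨t, rfl⟩ := Multiset.exists_cons_of_mem hm
    have hbound : r ≤ ((k + 1 : ℕ) : ℚ) * (m : ℚ)⁻¹ := by
      rw [← hsum]
      refine le_trans (Multiset.sum_le_card_nsmul _ ((m : ℚ)⁻¹) fun x hx => ?_) ?_
      · obtain ⟨y, hy, rfl⟩ := Multiset.mem_map.1 hx
        exact inv_anti₀ hm0 (by exact_mod_cast hmin' y hy)
      · rw [nsmul_eq_mul, Multiset.card_map]
        exact mul_le_mul_of_nonneg_right (by exact_mod_cast hs) (inv_nonneg.2 hm0.le)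
    have hr : 0 < r := by
      rw [← hsum, Multiset.map_cons, Multiset.sum_cons]
      have : 0 ≤ (t.map fun n : ℕ => (n : ℚ)⁻¹).sum := Multiset.sum_nonneg fun x hx => by
        obtain ⟨y, _, rfl⟩ := Multiset.mem_map.1 hx
        positivity
      have := inv_pos.2 hm0
      linarith
    have hmL : m ∈ Finset.range (L + 1) := by
      rw [Finset.mem_range, Nat.lt_succ_iff]
      have h1 : (m : ℚ) ≤ ((k + 1 : ℕ) : ℚ) / r := by
        rw [le_div_iff₀ hr]
        have := mul_le_mul_of_nonneg_left hbound hm0.le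
        rwa [mul_left_comm, mul_inv_cancel₀ hm0.ne', mul_one] at this
      exact_mod_cast h1.trans (Nat.le_ceil _)
    refine le_trans ?_ (Finset.le_sup (f := fun m => max m (N m)) hmL)
    rcases Multiset.mem_cons.1 hn with rfl | hnt
    · exact le_max_left _ _
    · refine le_trans (hN m t ?_ (fun x hx => hpos x (Multiset.mem_cons_of_mem hx)) ?_ n hnt)
        (le_max_right _ _)
      · rw [Multiset.card_cons] at hs; omega
      · rw [Multiset.map_cons, Multiset.sum_cons] at hsum
        linarith

/-- Landau: finitely many finite groups with a given number of classes. -/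
theorem exists_card_le_of_card_conjClasses (k : ℕ) : ∃ N : ℕ, ∀ (G : Type*) [Group G] [Finite G],
    Nat.card (ConjClasses G) ≤ k → Nat.card G ≤ N := by
  obtain ⟨N, hN⟩ := exists_bound_sum_inv k 1
  refine ⟨N, fun G _ _ hk => ?_⟩
  letI : Fintype G := Fintype.ofFinite G
  let c : ConjClasses G → ℕ := fun C => Nat.card (Subgroup.centralizer ({C.out} : Set G))
  have hsum : ∑ C : ConjClasses G, (c C : ℚ)⁻¹ = 1 := by
    have h := Finset.card_eq_sum_card_fiberwise (s := (Finset.univ : Finset G))
      (t := (Finset.univ : Finset (ConjClasses G))) (f := ConjClasses.mk) (fun _ _ => by simp)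
    have hfib : ∀ C : ConjClasses G,
        ((Finset.univ.filter fun g : G => ConjClasses.mk g = C).card : ℚ)
          = (Nat.card G : ℚ) * (c C : ℚ)⁻¹ := by
      intro C
      have e : (Finset.univ.filter fun g : G => ConjClasses.mk g = C).card
          = (Subgroup.centralizer ({C.out} : Set G)).index := by
        rw [← CfsgLib.Char.card_isConj_eq_index, ← Fintype.card_subtype, ← Nat.card_eq_fintype_card]
        refine Nat.card_congr (Equiv.subtypeEquivRight fun x => ?_)
        rw [← ConjClasses.mk_eq_mk_iff_isConj]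
        exact ⟨fun h => h.trans (Quotient.out_eq C).symm, fun h => h.trans (Quotient.out_eq C)⟩
      rw [e, ← Subgroup.index_mul_card (Subgroup.centralizer ({C.out} : Set G)), Nat.cast_mul,
        mul_inv_cancel_right₀ (Nat.cast_ne_zero.2 Nat.card_pos.ne')]
    have h' : (Nat.card G : ℚ) = (Nat.card G : ℚ) * ∑ C : ConjClasses G, (c C : ℚ)⁻¹ := by
      rw [Finset.mul_sum, ← Finset.sum_congr rfl fun C _ => hfib C]
      rw [Finset.card_univ, ← Nat.card_eq_fintype_card] at h
      exact_mod_cast h
    exact (mul_eq_left₀ (Nat.cast_ne_zero.2 Nat.card_pos.ne')).1 h'.symm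
  refine hN ((Finset.univ : Finset (ConjClasses G)).val.map c) ?_ ?_ ?_ (Nat.card G) ?_
  · rw [Multiset.card_map, Finset.card_val, Finset.card_univ, ← Nat.card_eq_fintype_card]
    exact hk
  · intro n hn
    obtain ⟨C, -, rfl⟩ := Multiset.mem_map.1 hn
    exact Nat.card_pos
  · rw [Multiset.map_map]; exact hsum
  · refine Multiset.mem_map.2 ⟨ConjClasses.mk 1, Finset.mem_univ _, ?_⟩
    have h1 : (ConjClasses.mk (1 : G)).out = 1 :=
      isConj_one_right.1 (ConjClasses.mk_eq_mk_iff_isConj.1 (Quotient.out_eq _)).symm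
    have h2 : Subgroup.centralizer ({(1 : G)} : Set G) = ⊤ :=
      eq_top_iff.2 fun g _ => Subgroup.mem_centralizer_singleton_iff.2 (by simp)
    simp only [c, h1, h2, Subgroup.card_top]

end CfsgLib.Blocks
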