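import Cfsg.Agent.Lib.Blocks.LatticeTate

/-!
# The trace sum of an irreducible lattice on a group of prime order

An endomorphism algebra without idempotents forces the trace sum of `x, x ^ 2, ...` to be `0` or
`± (p - 1)` when it is constant on a `p'`-part of the centralizer.
-/

set_option autoImplicit false

namespace CfsgLib.Blocks.Lattice

open scoped Classical

variable {O : Type*} [CommRing O] [IsDomain O] [IsPrincipalIdealRing O] [CharZero O]
  {L : Type*} [AddCommGroup L] [Module O L] [Module.Free O L] [Module.Finite O L]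
  {p : ℕ}

/-- Newton's step towards an idempotent. -/
noncomputable def newtonStep (e : Module.End O L) : Module.End O L :=
  (3 : ℕ) • (e * e) - (2 : ℕ) • (e * e * e)

theorem newtonStep_sub (e : Module.End O L) :
    newtonStep e - e = (e * e - e) * (1 - (2 : ℕ) • e) := by
  simp only [newtonStep, nsmul_eq_mul, Nat.cast_ofNat]
  noncomm_ring

theorem newtonStep_sq (e : Module.End O L) :
    newtonStep e * newtonStep e - newtonStep e
      = (e * e - e) * (e * e - e) * ((4 : ℕ) • (e * e - e) - (3 : ℕ) • 1) := by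
  simp only [newtonStep, nsmul_eq_mul, Nat.cast_ofNat]
  noncomm_ring

theorem commute_newtonStep {e u : Module.End O L} (h : Commute e u) : Commute (newtonStep e) u :=
  ((h.mul_left h).smul_left _).sub_left (((h.mul_left h).mul_left h).smul_left _)

/-- An idempotent congruent to a power modulo `p`, commuting with the commutant. -/
theorem exists_idem_of_commute [Fact p.Prime] [Finite (O ⧸ Ideal.span {(p : O)})]
    [IsAdicComplete (Ideal.span {(p : O)}) O] (F : Module.End O L) :
    ∃ m : ℕ, 0 < m ∧ ∃ e h : Module.End O L, e * e = e ∧ (∀ u, Commute F u → Commute e u) ∧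
      e = F ^ m + (p : O) • h := by
  set W : AddSubgroup (Module.End O L) := (pMul p (⊤ : Submodule O (Module.End O L))).toAddSubgroup with hW
  have hidx : W.index ≠ 0 := by
    have h := subIdx_pMul (p := p) (⊤ : Submodule O (Module.End O L))
    rw [subIdx, Submodule.top_toAddSubgroup, AddSubgroup.relIndex_top_right] at h
    rw [hW, h]
    exact pow_ne_zero _ Nat.card_pos.ne'
  haveI : W.FiniteIndex := ⟨hidx⟩
  haveI : Finite (Module.End O L ⧸ W) := AddSubgroup.finite_quotient_of_finiteIndex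
  have hWmem : ∀ u, u ∈ W ↔ ∃ h, (p : O) • h = u := fun u => by
    rw [hW, Submodule.mem_toAddSubgroup, mem_pMul]
    simp
  have hWmul : ∀ u v, u ∈ W → v * u ∈ W := fun u v hu => by
    obtain ⟨h, rfl⟩ := (hWmem u).1 hu
    exact (hWmem _).2 ⟨v * h, (mul_smul_comm _ _ _).symm⟩
  obtain ⟨a, b, hab, heq⟩ : ∃ a b : ℕ, a < b ∧ F ^ b - F ^ a ∈ W := by
    obtain ⟨a, b, hne, e⟩ := Finite.exists_ne_map_eq_of_infinite (fun k : ℕ => (QuotientAddGroup.mk (F ^ k) : _ ⧸ W))
    rcases lt_or_gt_of_ne hne with h | h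
    · exact ⟨a, b, h, by simpa [sub_eq_neg_add] using (QuotientAddGroup.eq).1 e⟩
    · exact ⟨b, a, h, by simpa [sub_eq_neg_add] using (QuotientAddGroup.eq).1 e.symm⟩
  have hper : ∀ k i, a ≤ k → F ^ (k + i * (b - a)) - F ^ k ∈ W := by
    intro k i hk
    induction i with
    | zero => simp
    | succ i ih =>
      have h1 : F ^ (k + (i + 1) * (b - a)) - F ^ (k + i * (b - a)) ∈ W := by
        have := hWmul _ (F ^ (k - a + i * (b - a))) heq
        rw [mul_sub, ← pow_add, ← pow_add] at this
        rwa [show k - a + i * (b - a) + b = k + (i + 1) * (b - a) by rw [Nat.add_mul, one_mul]; omega,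
          show k - a + i * (b - a) + a = k + i * (b - a) by omega] at this
      have := W.add_mem h1 ih
      rwa [sub_add_sub_cancel] at this
  set m := (a + 1) * (b - a) with hm
  have hm0 : 0 < m := Nat.mul_pos (Nat.succ_pos a) (by omega)
  have ham : a ≤ m := by
    have := Nat.le_mul_of_pos_right (a + 1) (show 0 < b - a by omega)
    omega
  obtain ⟨h0, hh0⟩ := (hWmem _).1 (hper m (a + 1) ham)
  rw [← hm, pow_add] at hh0
  -- the Newton sequence
  set es : ℕ → Module.End O L := fun n => newtonStep^[n] (F ^ m) with hes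
  have hs : ∀ n, es (n + 1) = newtonStep (es n) := fun n => Function.iterate_succ_apply' _ _ _
  have hsq : ∀ n, ∃ h, es n * es n - es n = ((p : O) ^ (n + 1)) • h := by
    intro n
    induction n with
    | zero => exact ⟨h0, by rw [zero_add, pow_one]; exact hh0.symm⟩
    | succ n ih =>
      obtain ⟨h, e⟩ := ih
      refine ⟨((p : O) ^ n) • (h * h * ((4 : ℕ) • (es n * es n - es n) - (3 : ℕ) • 1)), ?_⟩
      rw [hs, newtonStep_sq]
      generalize ((4 : ℕ) • (es n * es n - es n) - (3 : ℕ) • 1) = Z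
      rw [e, smul_mul_assoc, mul_smul_comm, smul_smul, smul_mul_assoc, smul_smul, ← pow_add, ← pow_add]
      congr 2
      omega
  have hdiff : ∀ m n, m ≤ n → ∃ h, es n - es m = ((p : O) ^ (m + 1)) • h := by
    intro m n hmn
    induction n, hmn using Nat.le_induction with
    | base => exact ⟨0, by simp⟩
    | succ n hmn ih =>
      obtain ⟨h, e⟩ := ih
      obtain ⟨h', e'⟩ := hsq n
      refine ⟨((p : O) ^ (n - m)) • (h' * (1 - (2 : ℕ) • es n)) + h, ?_⟩
      rw [← sub_add_sub_cancel (es (n + 1)) (es n) (es m), e, hs, newtonStep_sub, e', smul_mul_assoc, smul_add,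
        smul_smul, ← pow_add, show m + 1 + (n - m) = n + 1 by omega]
  -- its limit
  let bb := Module.Free.chooseBasis O (Module.End O L)
  have hI : ∀ n (z : O), z ∈ (Ideal.span {(p : O)} ^ n • ⊤ : Submodule O O) ↔ (p : O) ^ n ∣ z := fun n z => by
    rw [smul_eq_mul, Ideal.mul_top, Ideal.span_singleton_pow, Ideal.mem_span_singleton]
  have hlim : ∀ i, ∃ l : O, ∀ n, (p : O) ^ n ∣ l - bb.coord i (es n) := by
    intro i
    obtain ⟨l, hl⟩ := IsPrecomplete.prec (I := Ideal.span {(p : O)}) inferInstance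
      (f := fun n => bb.coord i (es n)) (fun {m n} hmn => by
        rw [SModEq.sub_mem, hI, ← neg_sub, dvd_neg, ← map_sub]
        obtain ⟨h, e⟩ := hdiff m n hmn
        rw [e, map_smul, smul_eq_mul]
        exact (pow_dvd_pow _ (Nat.le_succ m)).mul_right _)
    refine ⟨l, fun n => ?_⟩
    have := hl n
    rw [SModEq.sub_mem, hI] at this
    rwa [← neg_sub, dvd_neg]
  choose l hl using hlim
  set e := ∑ i, l i • bb i with he
  have hclose : ∀ n, ∃ h, e - es n = ((p : O) ^ n) • h := by
    intro n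
    choose d hd using fun i => hl i n
    refine ⟨∑ i, d i • bb i, ?_⟩
    conv_lhs => rw [he, ← bb.sum_repr (es n)]
    rw [← Finset.sum_sub_distrib, Finset.smul_sum]
    refine Finset.sum_congr rfl fun i _ => ?_
    rw [← sub_smul, smul_smul, ← hd i]
    rfl
  have hzero : ∀ u : Module.End O L, (∀ n, ∃ h, u = ((p : O) ^ n) • h) → u = 0 := by
    intro u hu
    refine bb.repr.injective (Finsupp.ext fun i => ?_)
    rw [map_zero, Finsupp.zero_apply]
    refine IsHausdorff.haus (I := Ideal.span {(p : O)}) inferInstance _ fun n => ?_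
    rw [SModEq.zero, hI]
    obtain ⟨h, rfl⟩ := hu n
    rw [map_smul, Finsupp.smul_apply, smul_eq_mul]
    exact dvd_mul_right _ _
  refine ⟨m, hm0, e, ?_⟩
  obtain ⟨g1, e1⟩ := hclose 1
  obtain ⟨g2, e2⟩ := hdiff 0 1 zero_le_one
  refine ⟨g1 + g2, sub_eq_zero.1 (hzero _ fun n => ?_), fun u hu => sub_eq_zero.1 (hzero _ fun n => ?_), ?_⟩
  · obtain ⟨h, eh⟩ := hclose n
    obtain ⟨h', eh'⟩ := hsq n
    refine ⟨e * h + h * es n - h + (p : O) • h', ?_⟩
    rw [show e * e - e = e * (e - es n) + (e - es n) * es n - (e - es n) + (es n * es n - es n) by noncomm_ring,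
      eh, eh', mul_smul_comm, smul_mul_assoc, pow_succ, mul_smul, ← smul_add, ← smul_sub, ← smul_add]
  · obtain ⟨h, eh⟩ := hclose n
    have hall : ∀ k, Commute (es k) u := fun k => by
      induction k with
      | zero => exact hu.pow_left m
      | succ k ih => rw [hs]; exact commute_newtonStep ih
    have hu' : Commute (es n) u := hall n
    refine ⟨h * u - u * h, ?_⟩
    rw [show e * u - u * e = (e - es n) * u - u * (e - es n) by rw [sub_mul, mul_sub, hu'.eq]; abel,
      eh, smul_mul_assoc, mul_smul_comm, smul_sub]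
  · rw [zero_add] at e2
    rw [pow_one] at e1 e2
    rw [smul_add, ← e1, ← e2]
    show e = es 0 + _
    abel

/-- A quotient killed by `p` whose endomorphism ring has only trivial idempotents has order `1` or `q`. -/
theorem index_of_no_idem {M : Type*} [AddCommGroup M] [Module O M] [Module.Free O M] [Module.Finite O M]
    (hunit : ∀ a : O, ¬ (p : O) ∣ a → IsUnit a) (hnu : ¬ IsUnit (p : O)) (N' : Submodule O M)
    (hpN : ∀ w : M, (p : O) • w ∈ N')
    (hidem : ∀ A : Module.End O (M ⧸ N'), A * A = A → A = 0 ∨ A = 1) :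
    ∃ α, α ≤ 1 ∧ N'.toAddSubgroup.index = Nat.card (O ⧸ Ideal.span {(p : O)}) ^ α ∧
      (Subsingleton (M ⧸ N') → α = 0) := by
  obtain ⟨b, I, hI, hI'⟩ := exists_adapted p hunit N'
  have hne : ∀ i ∈ I, b i ∉ N' := fun i hi h => hnu (by
    have := hI i hi _ h
    rw [Module.Basis.coord_apply, Module.Basis.repr_self, Finsupp.single_eq_same] at this
    exact isUnit_of_dvd_one this)
  rcases I.eq_empty_or_nonempty with rfl | ⟨i₀, hi₀⟩
  · refine ⟨0, zero_le_one, ?_, fun _ => rfl⟩
    have : N' = ⊤ := by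
      rw [← top_le_iff, ← b.span_eq, Submodule.span_le]
      rintro _ ⟨i, rfl⟩
      exact hI' i (Finset.notMem_empty i)
    rw [this, pow_zero, Submodule.top_toAddSubgroup, AddSubgroup.index_top]
  · have h2 : ∀ i ≠ i₀, b i ∈ N' := by
      intro i hi
      let g : Module.End O M := (b.coord i₀).smulRight (b i₀)
      have hg : ∀ v, g v = b.coord i₀ v • b i₀ := fun v => rfl
      have hgN : N' ≤ N'.comap g := fun t ht => by
        obtain ⟨d, hd⟩ := hI i₀ hi₀ t ht
        rw [Submodule.mem_comap, hg, hd, mul_smul]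
        exact hpN _
      rcases hidem (N'.mapQ N' g hgN) (LinearMap.ext fun u => by
          induction u using Submodule.Quotient.induction_on with
          | _ v =>
            show Submodule.Quotient.mk (g (g v)) = Submodule.Quotient.mk (g v)
            rw [hg, hg, map_smul, Module.Basis.coord_apply, Module.Basis.coord_apply, Module.Basis.repr_self,
              Finsupp.single_eq_same, smul_eq_mul, mul_one]) with h | h
      · refine absurd ?_ (hne i₀ hi₀)
        have := congrArg (fun A : Module.End O (M ⧸ N') => A (Submodule.Quotient.mk (b i₀))) h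
        change Submodule.Quotient.mk (g (b i₀)) = 0 at this
        rwa [hg, Module.Basis.coord_apply, Module.Basis.repr_self, Finsupp.single_eq_same, one_smul,
          Submodule.Quotient.mk_eq_zero] at this
      · have := congrArg (fun A : Module.End O (M ⧸ N') => A (Submodule.Quotient.mk (b i))) h
        change Submodule.Quotient.mk (g (b i)) = Submodule.Quotient.mk (b i) at this
        rwa [hg, Module.Basis.coord_apply, Module.Basis.repr_self, Finsupp.single_eq_of_ne' hi, zero_smul,
          Submodule.Quotient.mk_zero, eq_comm, Submodule.Quotient.mk_eq_zero] at this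
    refine ⟨1, le_rfl, ?_, fun h => ?_⟩
    · rw [pow_one]
      exact subIdx_eq_card_of_coord p b i₀ hpN (hI i₀ hi₀) h2
    · exact absurd ((Submodule.Quotient.mk_eq_zero N').1 (Subsingleton.elim _ _)) (hne i₀ hi₀)

section Group

variable {G : Type*} [Group G] (ρ : G →* Module.End O L) {x : G}

theorem normEnd_eq_sum_zpowers [Fintype (Subgroup.zpowers x)] (hx : orderOf x = p) (hp : p ≠ 0) :
    normEnd p (ρ x) = ∑ h : Subgroup.zpowers x, ρ (h : G) := by
  have hfin : IsOfFinOrder x := orderOf_pos_iff.1 (by omega)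
  rw [normEnd, ← Fin.sum_univ_eq_sum_range (fun i => ρ x ^ i), ← hx]
  refine Fintype.sum_equiv (finEquivZPowers hfin) _ _ fun i => ?_
  rw [finEquivZPowers_apply, map_pow]

/-- An element normalizing `⟨x⟩` preserves the four submodules. -/
theorem map_mem_presAlg [Finite G] (hx : orderOf x = p) (hp : p ≠ 0) {n : G} (hn : n ∈ Subgroup.normalizer ((Subgroup.zpowers x : Subgroup G) : Set G)) :
    ρ n ∈ presAlg p (ρ x) := by
  haveI := Fintype.ofFinite G
  have hcomm : Commute (ρ n) (normEnd p (ρ x)) := by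
    rw [normEnd_eq_sum_zpowers ρ hx hp, Commute, SemiconjBy, Finset.mul_sum, Finset.sum_mul]
    refine Fintype.sum_bijective (fun h : Subgroup.zpowers x =>
      (⟨n * h * n⁻¹, (Subgroup.mem_normalizer_iff.1 hn h).1 h.2⟩ : Subgroup.zpowers x))
      (Finite.injective_iff_bijective.1 fun a c e => Subtype.ext (by simpa using congrArg Subtype.val e)) _ _
      fun h => ?_
    rw [← map_mul, ← map_mul, inv_mul_cancel_right]
  obtain ⟨j, hj⟩ : ∃ j : ℕ, x ^ j = n * x * n⁻¹ :=
    (isOfFinOrder_of_finite x).mem_powers_iff_mem_zpowers.2 ((Subgroup.mem_normalizer_iff.1 hn x).1 (Subgroup.mem_zpowers x)) |>.imp fun _ h => h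
  obtain ⟨k, hk⟩ : ∃ k : ℕ, x ^ k = n⁻¹ * x * n :=
    (isOfFinOrder_of_finite x).mem_powers_iff_mem_zpowers.2 ((Subgroup.mem_normalizer_iff''.1 hn x).1 (Subgroup.mem_zpowers x)) |>.imp fun _ h => h
  refine ⟨fun v hv => ?_, ?_, fun v hv => ?_, ?_⟩
  · rw [mem_ker_delta] at hv ⊢
    have hfix : ∀ i : ℕ, (ρ x ^ i) v = v := fun i => by
      induction i with
      | zero => rfl
      | succ i ih => rw [pow_succ', Module.End.mul_apply, ih, hv]
    have e : ρ x * ρ n = ρ n * ρ x ^ k := by
      rw [← map_pow, hk, ← map_mul, ← map_mul, mul_assoc n⁻¹, mul_inv_cancel_left]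
    have := congrArg (fun F : Module.End O L => F v) e
    rwa [Module.End.mul_apply, Module.End.mul_apply, hfix] at this
  · rintro _ ⟨w, rfl⟩
    exact ⟨ρ n w, (apply_comm_end hcomm w).symm⟩
  · rw [LinearMap.mem_ker, ← apply_comm_end hcomm, LinearMap.mem_ker.1 hv, map_zero]
  · rintro _ ⟨w, rfl⟩
    refine ⟨∑ i ∈ Finset.range j, (ρ x ^ i) (ρ n w), ?_⟩
    have e : ρ n * ρ x = ρ x ^ j * ρ n := by
      rw [← map_pow, hj, ← map_mul, ← map_mul, inv_mul_cancel_right]
    rw [map_sum, delta_apply (v := w), map_sub, ← Module.End.mul_apply (ρ n) (ρ x), e, Module.End.mul_apply]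
    induction j with
    | zero => simp
    | succ j ih =>
      clear ih e hj
      induction (j + 1) with
      | zero => simp
      | succ i ih =>
        rw [Finset.sum_range_succ, ih, delta_apply, ← Module.End.mul_apply (ρ x), ← pow_succ']
        abel

/-- The idempotents of the two quotients commuting with the normalizer are trivial. -/
theorem idem_commute_normalizer [Fintype G] [hpf : Fact p.Prime] [Finite (O ⧸ Ideal.span {(p : O)})]
    [IsAdicComplete (Ideal.span {(p : O)}) O] (hnu : ¬ IsUnit (p : O))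
    (hunit : ∀ a : O, ¬ (p : O) ∣ a → IsUnit a) (hx : orderOf x = p) (hp2 : ¬ p ^ 2 ∣ Nat.card G)
    (hirr : ∀ f : Module.End O L, (∀ g, Commute f (ρ g)) → f * f = f → f = 0 ∨ f = 1)
    (A : Module.End O (LinearMap.ker (delta (ρ x)) ⧸ subU p (ρ x)) ×
      Module.End O (LinearMap.ker (normEnd p (ρ x)) ⧸ subV p (ρ x))) (hA : A * A = A)
    (hcA : ∀ (n : G) (hn : n ∈ Subgroup.normalizer ((Subgroup.zpowers x : Subgroup G) : Set G)),
      Commute A (qmap p (ρ x) ⟨ρ n, map_mem_presAlg ρ hx hpf.out.ne_zero hn⟩)) : A = 0 ∨ A = 1 := by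
  have hp : p.Prime := hpf.out
  have hX : ρ x ^ p = 1 := by rw [← map_pow, ← hx, pow_orderOf_eq_one, map_one]
  set N := Subgroup.normalizer ((Subgroup.zpowers x : Subgroup G) : Set G) with hN
  set P := Subgroup.zpowers x with hP
  have hPN : P ≤ N := Subgroup.le_normalizer
  have hxN : x ∈ N := hPN (Subgroup.mem_zpowers x)
  have hunitN : ∀ m : ℕ, ¬ p ∣ m → IsUnit (m : O) := fun m hm => hunit _ fun hd => by
    obtain ⟨u, w, huw⟩ := Int.isCoprime_iff_nat_coprime.2
      (show Nat.Coprime (Int.natAbs (p : ℤ)) (Int.natAbs (m : ℤ)) by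
        simpa using hp.coprime_iff_not_dvd.2 hm)
    refine hnu (isUnit_of_dvd_one ?_)
    have := congrArg (Int.cast : ℤ → O) huw
    push_cast at this
    rw [← this]
    exact dvd_add (dvd_mul_left _ _) (hd.mul_left _)
  let σ : N →* presAlg p (ρ x) :=
    { toFun := fun n => ⟨ρ n, map_mem_presAlg ρ hx hp.ne_zero n.2⟩
      map_one' := Subtype.ext (map_one ρ)
      map_mul' := fun a c => Subtype.ext (map_mul ρ (a : G) (c : G)) }
  let π := qmap p (ρ x)
  let T := fun n : N => π (σ n)
  have hT : ∀ a c, T (a * c) = T a * T c := fun a c => by simp only [T, map_mul]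
  have hTinv : ∀ n, T n * T n⁻¹ = 1 := fun n => by rw [← hT, mul_inv_cancel]; simp [T]
  have hTx : T ⟨x, hxN⟩ = 1 := by
    rw [← sub_eq_zero, ← map_one π, ← map_sub]
    refine qmap_eq_zero _ (fun v hv => ?_) (fun z _ => ?_)
    · show (ρ x - 1) v ∈ _
      rw [LinearMap.sub_apply, Module.End.one_apply, mem_ker_delta.1 hv, sub_self]
      exact zero_mem _
    · exact ⟨z, rfl⟩
  have hiff : ∀ g, g ∈ N ↔ g * x * g⁻¹ ∈ P := by
    intro g
    refine ⟨fun h => (Subgroup.mem_normalizer_iff.1 h x).1 (Subgroup.mem_zpowers x), fun h => ?_⟩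
    refine Subgroup.mem_normalizer_iff_map_conj_eq.2 ?_
    refine Subgroup.eq_of_le_of_card_ge ?_ (le_of_eq ?_)
    · rw [MonoidHom.map_zpowers, Subgroup.zpowers_le]
      exact h
    · rw [Subgroup.card_map_of_injective (MulAut.conj g).injective]
  replace hcA : ∀ n : N, Commute A (T n) := fun n => hcA n n.2
  obtain ⟨f, hfX, hfA⟩ := exists_lift hp hunit hX A
  -- averaging over the normalizer
  set P' := P.subgroupOf N with hP'
  let cj : N → Module.End O L := fun n => ρ n * f.1 * ρ (n : G)⁻¹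
  have hcj : ∀ n : N, cj n = cj ((QuotientGroup.mk n : N ⧸ P').out) := fun n => by
    obtain ⟨h, hh⟩ := QuotientGroup.mk_out_eq_mul P' n
    rw [hh]
    obtain ⟨i, hi⟩ : ∃ i : ℕ, x ^ i = ((h : N) : G) := (isOfFinOrder_of_finite x).mem_powers_iff_mem_zpowers.2 h.2
    have hfi : Commute f.1 (ρ ((h : N) : G)) := by rw [← hi, map_pow]; exact hfX.pow_right i
    show _ = ρ ((n * (h : N) : N) : G) * f.1 * ρ ((n * (h : N) : N) : G)⁻¹
    rw [Subgroup.coe_mul, mul_inv_rev, map_mul, map_mul, mul_assoc (ρ n) (ρ _) f.1, ← hfi.eq,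
      ← mul_assoc (ρ n), mul_assoc _ (ρ ((h : N) : G)), ← mul_assoc (ρ ((h : N) : G)), ← map_mul,
      mul_inv_cancel, map_one, one_mul]
  have hm : ¬ p ∣ Nat.card (N ⧸ P') := fun hd => hp2 (by
    refine dvd_trans ?_ (Subgroup.card_subgroup_dvd_card N)
    rw [Subgroup.card_eq_card_quotient_mul_card_subgroup P', sq]
    refine mul_dvd_mul hd ?_
    rw [Nat.card_congr (Subgroup.subgroupOfEquivOfLe hPN).toEquiv, hP, Nat.card_zpowers, hx])
  obtain ⟨u, hu⟩ := hunitN _ hm
  haveI := Fintype.ofFinite (N ⧸ P')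
  set f₁ : Module.End O L := (↑u⁻¹ : O) • ∑ q : N ⧸ P', cj q.out with hf₁
  have hf₁N : ∀ n : N, Commute f₁ (ρ n) := fun n => by
    refine Commute.smul_left ?_ _
    rw [Commute, SemiconjBy, Finset.sum_mul, Finset.mul_sum]
    symm
    refine Fintype.sum_equiv (MulAction.toPerm n) _ _ fun q => ?_
    show ρ n * cj q.out = cj (n • q).out * ρ n
    rw [show (n • q : N ⧸ P') = QuotientGroup.mk (n * q.out) by
        conv_lhs => rw [← QuotientGroup.out_eq' q]
        rfl, ← hcj]
    show _ = ρ ((n * q.out : N) : G) * f.1 * ρ ((n * q.out : N) : G)⁻¹ * ρ n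
    rw [Subgroup.coe_mul, mul_inv_rev, map_mul, map_mul]
    simp only [cj, mul_assoc]
    rw [← map_mul, inv_mul_cancel, map_one, mul_one]
  have hf₁X : Commute f₁ (ρ x) := hf₁N ⟨x, hxN⟩
  set f₁' : presAlg p (ρ x) := ⟨f₁, mem_presAlg_of_commute hf₁X⟩ with hf₁'
  have hπ₁ : π f₁' = A := by
    have e : f₁' = (↑u⁻¹ : O) • ∑ q : N ⧸ P', σ q.out * f * σ q.out⁻¹ := by
      refine Subtype.ext ?_
      simp only [SetLike.val_smul, AddSubmonoidClass.coe_finsetSum]
      rfl
    rw [e, map_smul, map_sum, Finset.sum_congr rfl (g := fun _ => A) fun q _ => ?_, Finset.sum_const,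
      Finset.card_univ, ← Nat.card_eq_fintype_card, ← Nat.cast_smul_eq_nsmul O, smul_smul, ← hu,
      Units.inv_mul, one_smul]
    show π (σ q.out * f * σ q.out⁻¹) = A
    rw [map_mul, map_mul, show π f = A from hfA]
    show T _ * A * T _ = A
    rw [← (hcA _).eq, mul_assoc, hTinv, mul_one]
  -- the transfer to the whole group
  let cg : G → Module.End O L := fun g => ρ g * f₁ * ρ g⁻¹
  have hcg : ∀ g : G, cg g = cg ((QuotientGroup.mk g : G ⧸ N).out) := fun g => by
    obtain ⟨h, hh⟩ := QuotientGroup.mk_out_eq_mul N g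
    rw [hh]
    show _ = ρ (g * h) * f₁ * ρ (g * h)⁻¹
    rw [mul_inv_rev, map_mul, map_mul, mul_assoc (ρ g) (ρ _) f₁, ← (hf₁N h).eq, ← mul_assoc (ρ g),
      mul_assoc _ (ρ (h : G)), ← mul_assoc (ρ (h : G)), ← map_mul, mul_inv_cancel, map_one, one_mul]
  have hcgs : ∀ (a : G) (q : G ⧸ N), cg (a • q).out = ρ a * cg q.out * ρ a⁻¹ := fun a q => by
    rw [show (a • q : G ⧸ N) = QuotientGroup.mk (a * q.out) by
      conv_lhs => rw [← QuotientGroup.out_eq' q]
      rfl, ← hcg]
    simp only [cg, mul_inv_rev, map_mul, mul_assoc]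
  haveI := Fintype.ofFinite (G ⧸ N)
  set F : Module.End O L := ∑ q : G ⧸ N, cg q.out with hF
  have hFG : ∀ g, Commute F (ρ g) := fun g => by
    rw [hF, Commute, SemiconjBy, Finset.sum_mul, Finset.mul_sum]
    symm
    refine Fintype.sum_equiv (MulAction.toPerm g) _ _ fun q => ?_
    show ρ g * cg q.out = cg (g • q).out * ρ g
    rw [hcgs, mul_assoc, ← map_mul, inv_mul_cancel, map_one, mul_one]
  have hnull : ∀ W : Finset (G ⧸ N), (∀ q ∈ W, x • q ∈ W ∧ x • q ≠ q) →
      (∀ v ∈ LinearMap.ker (delta (ρ x)), (∑ q ∈ W, cg q.out) v ∈ LinearMap.range (normEnd p (ρ x))) ∧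
      (∀ z ∈ LinearMap.ker (normEnd p (ρ x)), (∑ q ∈ W, cg q.out) z ∈ LinearMap.range (delta (ρ x))) := by
    intro W
    induction W using Finset.strongInduction with
    | _ W ih =>
      intro hW
      rcases W.eq_empty_or_nonempty with rfl | ⟨q, hq⟩
      · simp
      have hper : Function.minimalPeriod (x • ·) q = p := by
        refine Function.minimalPeriod_eq_prime ?_ (hW q hq).2
        show (x • ·)^[p] q = q
        rw [smul_iterate, ← hx, pow_orderOf_eq_one]
        exact one_smul G q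
      set Oq := (Finset.range p).image fun i => x ^ i • q with hOq
      have hinj : Set.InjOn (fun i : ℕ => x ^ i • q) (Finset.range p : Set ℕ) := by
        intro i hi k hk e
        have e' : (x • ·)^[i] q = (x • ·)^[k] q := by rw [smul_iterate, smul_iterate]; exact e
        refine Function.iterate_injOn_Iio_minimalPeriod ?_ ?_ e'
        · rw [hper]; exact Set.mem_Iio.2 (Finset.mem_range.1 hi)
        · rw [hper]; exact Set.mem_Iio.2 (Finset.mem_range.1 hk)
      have hsub : Oq ⊆ W := by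
        intro r hr
        obtain ⟨i, -, rfl⟩ := Finset.mem_image.1 hr
        induction i with
        | zero => rw [pow_zero, one_smul]; exact hq
        | succ i ih' => rw [pow_succ', mul_smul]; exact (hW _ (ih' (Finset.mem_image.2 ⟨i % p, Finset.mem_range.2
            (Nat.mod_lt _ hp.pos), by rw [← hx, pow_mod_orderOf]⟩))).1
      have hrest := ih (W \ Oq) (Finset.sdiff_ssubset hsub ⟨q, Finset.mem_image.2 ⟨0, Finset.mem_range.2 hp.pos,
        by rw [pow_zero, one_smul]⟩⟩) fun r hr => by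
          obtain ⟨hr1, hr2⟩ := Finset.mem_sdiff.1 hr
          refine ⟨Finset.mem_sdiff.2 ⟨(hW r hr1).1, fun hm => hr2 ?_⟩, (hW r hr1).2⟩
          obtain ⟨i, -, hi⟩ := Finset.mem_image.1 hm
          refine Finset.mem_image.2 ⟨(i + (p - 1)) % p, Finset.mem_range.2 (Nat.mod_lt _ hp.pos), ?_⟩
          rw [← hx, pow_mod_orderOf, hx, add_comm, pow_add, mul_smul, hi, smul_smul, ← pow_succ,
            Nat.sub_add_cancel hp.one_le, ← hx, pow_orderOf_eq_one, one_smul]
      have hsum : ∀ v, (∑ r ∈ Oq, cg r.out) v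
          = ∑ i ∈ Finset.range p, (ρ x ^ i) (cg q.out ((ρ x ^ (p - i)) v)) := fun v => by
        rw [hOq, Finset.sum_image hinj, LinearMap.sum_apply]
        refine Finset.sum_congr rfl fun i hi => ?_
        rw [hcgs, Module.End.mul_apply, Module.End.mul_apply, map_pow,
          show (x ^ i)⁻¹ = x ^ (p - i) from inv_eq_of_mul_eq_one_right (by
            rw [← pow_add, Nat.add_sub_cancel' (Finset.mem_range.1 hi).le, ← hx, pow_orderOf_eq_one]), map_pow]
      rw [← Finset.sum_sdiff hsub]
      refine ⟨fun v hv => ?_, fun z hz => ?_⟩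
      · rw [LinearMap.add_apply, hsum]
        refine add_mem (hrest.1 v hv) ⟨cg q.out v, ?_⟩
        rw [normEnd, LinearMap.sum_apply]
        refine Finset.sum_congr rfl fun i _ => ?_
        congr 2
        induction (p - i) with
        | zero => rfl
        | succ k ih' => rw [pow_succ', Module.End.mul_apply, ← ih', mem_ker_delta.1 hv]
      · rw [LinearMap.add_apply, hsum]
        refine add_mem (hrest.2 z hz) ?_
        have hz0 : ∑ i ∈ Finset.range p, (ρ x ^ (p - i)) z = 0 := by
          have e1 := Finset.sum_range_succ' (fun i => (ρ x ^ i) z) p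
          have e2 := Finset.sum_range_succ (fun i => (ρ x ^ i) z) p
          rw [e1, pow_zero, hX] at e2
          rw [← LinearMap.mem_ker.1 hz, normEnd, LinearMap.sum_apply, ← add_right_cancel e2,
            ← Finset.sum_range_reflect]
          refine Finset.sum_congr rfl fun i hi => ?_
          rw [show p - (p - 1 - i) = i + 1 by have := Finset.mem_range.1 hi; omega]
        have key : ∀ (w : L) (i : ℕ), (ρ x ^ i) w - w ∈ LinearMap.range (delta (ρ x)) := fun w i => by
          induction i with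
          | zero => simp
          | succ i ih' =>
            rw [pow_succ', Module.End.mul_apply, ← sub_add_sub_cancel _ ((ρ x ^ i) w) w, ← delta_apply]
            exact add_mem ⟨_, rfl⟩ ih'
        have := Submodule.sum_mem _ fun i (_ : i ∈ Finset.range p) => key (cg q.out ((ρ x ^ (p - i)) z)) i
        rwa [Finset.sum_sub_distrib, ← map_sum, hz0, map_zero, sub_zero] at this
  set q0 : G ⧸ N := QuotientGroup.mk 1 with hq0
  have hrest := hnull (Finset.univ.erase q0) fun q hq => by
    have hne : x • q ≠ q := fun e => (Finset.mem_erase.1 hq).1 (by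
      rw [← QuotientGroup.out_eq' q, hq0, QuotientGroup.eq, mul_one, inv_mem_iff]
      have e' : (QuotientGroup.mk (x * q.out) : G ⧸ N) = QuotientGroup.mk q.out := by
        rw [QuotientGroup.out_eq']; conv_rhs => rw [← e]
        conv_rhs => rw [← QuotientGroup.out_eq' q]
        rfl
      set g := q.out with hg
      have hy : g⁻¹ * x * g ∈ N := by
        have := (QuotientGroup.eq).1 e'.symm
        rwa [← mul_assoc] at this
      rw [← inv_mem_iff, hiff, inv_inv]
      have hord : orderOf (g⁻¹ * x * g) = p := by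
        rw [← hx]
        have := orderOf_injective (MulAut.conj g⁻¹).toMonoidHom (MulAut.conj g⁻¹).injective x
        simpa using this
      by_contra hcon
      refine hp2 (dvd_trans ?_ (Subgroup.card_subgroup_dvd_card N))
      rw [Subgroup.card_eq_card_quotient_mul_card_subgroup (P.subgroupOf N), sq]
      refine mul_dvd_mul ?_ (by rw [Nat.card_congr (Subgroup.subgroupOfEquivOfLe hPN).toEquiv, hP,
        Nat.card_zpowers, hx])
      haveI : (P.subgroupOf N).Normal := Subgroup.normal_subgroupOf_of_le_normalizer le_rfl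
      have h1 : orderOf (QuotientGroup.mk ⟨_, hy⟩ : N ⧸ P.subgroupOf N) = p := by
        refine orderOf_eq_prime ?_ ?_
        · rw [← QuotientGroup.mk_pow, QuotientGroup.eq_one_iff]
          have : (⟨_, hy⟩ : N) ^ p = 1 := Subtype.ext (by
            rw [Subgroup.coe_pow, ← hord, pow_orderOf_eq_one]; rfl)
          rw [this]; exact one_mem _
        · rw [Ne, QuotientGroup.eq_one_iff]; exact hcon
      exact h1 ▸ orderOf_dvd_natCard _)
    refine ⟨Finset.mem_erase.2 ⟨fun e => ?_, Finset.mem_univ _⟩, hne⟩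
    refine (Finset.mem_erase.1 hq).1 ?_
    rw [← inv_smul_smul x q, e, hq0]
    show (QuotientGroup.mk (x⁻¹ * 1) : G ⧸ N) = _
    rw [mul_one, QuotientGroup.eq, mul_one, inv_inv]
    exact hxN
  have hFX : Commute F (ρ x) := hFG x
  have hq0cg : cg q0.out = f₁ := by
    rw [hq0, ← hcg]; simp [cg]
  have hπF : π ⟨F, mem_presAlg_of_commute hFX⟩ = A := by
    rw [← hπ₁, ← sub_eq_zero, ← map_sub]
    have e : F - f₁ = ∑ q ∈ Finset.univ.erase q0, cg q.out := by
      rw [hF, ← Finset.sum_erase_add _ _ (Finset.mem_univ q0), hq0cg, add_sub_cancel_right]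
    refine qmap_eq_zero _ ?_ ?_
    · intro v hv; show (F - f₁) v ∈ _; rw [e]; exact hrest.1 v hv
    · intro z hz; show (F - f₁) z ∈ _; rw [e]; exact hrest.2 z hz
  -- the idempotent upstairs
  obtain ⟨m, hm0, e, h, hee, hec, heh⟩ := exists_idem_of_commute (p := p) F
  have heX : Commute e (ρ x) := hec _ hFX
  have hhX : Commute h (ρ x) := smul_right_injective (Module.End O L) (Nat.cast_ne_zero.2 hp.ne_zero : (p : O) ≠ 0) (by
    show (p : O) • (h * ρ x) = (p : O) • (ρ x * h)
    rw [← smul_mul_assoc, ← mul_smul_comm, show (p : O) • h = e - F ^ m by rw [heh, add_sub_cancel_left],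
      (heX.sub_left (hFX.pow_left m)).eq])
  have hAm : A ^ m = A := by
    obtain ⟨k, rfl⟩ : ∃ k, m = k + 1 := ⟨m - 1, (Nat.sub_add_cancel hm0).symm⟩
    exact (show IsIdempotentElem A from hA).pow_succ_eq k
  have hπe : π ⟨e, mem_presAlg_of_commute heX⟩ = A := by
    have : (⟨e, mem_presAlg_of_commute heX⟩ : presAlg p (ρ x))
        = (⟨F, mem_presAlg_of_commute hFX⟩ : presAlg p (ρ x)) ^ m + (p : ℕ) • ⟨h, mem_presAlg_of_commute hhX⟩ := by
      refine Subtype.ext ?_
      simp only [AddMemClass.coe_add, SubmonoidClass.coe_pow, AddSubmonoidClass.coe_nsmul]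
      rw [heh, Nat.cast_smul_eq_nsmul]
    rw [this, map_add, map_pow, hπF, map_nsmul, nsmul_eq_mul, natCast_pair_eq_zero hp hX, zero_mul, add_zero, hAm]
  rcases hirr e (fun g => hec _ (hFG g)) hee with h0 | h0
  · left
    rw [← hπe, ← map_zero π]
    exact congrArg π (Subtype.ext h0)
  · right
    rw [← hπe, ← map_one π]
    exact congrArg π (Subtype.ext h0)

/-- The trace sum of the powers of `x`. -/
theorem trace_sum_bound [Fintype G] [hpf : Fact p.Prime] [Finite (O ⧸ Ideal.span {(p : O)})]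
    [IsAdicComplete (Ideal.span {(p : O)}) O] (hnu : ¬ IsUnit (p : O))
    (hunit : ∀ a : O, ¬ (p : O) ∣ a → IsUnit a) (hx : orderOf x = p) (hp2 : ¬ p ^ 2 ∣ Nat.card G)
    (K0 : Subgroup G) (hKc : ∀ y ∈ K0, Commute y x)
    (hKn : ∀ n ∈ Subgroup.normalizer ((Subgroup.zpowers x : Subgroup G) : Set G), ∀ y ∈ K0, n * y * n⁻¹ ∈ K0) (hK : ¬ p ∣ Nat.card K0)
    (hC : ∀ c, Commute c x → ∃ i : ℕ, ∃ y ∈ K0, c = x ^ i * y)
    (hirr : ∀ f : Module.End O L, (∀ g, Commute f (ρ g)) → f * f = f → f = 0 ∨ f = 1)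
    (S : O) (hS : ∀ y ∈ K0, ∑ i ∈ Finset.Ico 1 p, LinearMap.trace O L (ρ (x ^ i * y)) = S) :
    S = 0 ∨ S = ((p - 1 : ℕ) : O) ∨ S = -((p - 1 : ℕ) : O) := by
  have hp : p.Prime := hpf.out
  have hX : ρ x ^ p = 1 := by rw [← map_pow, ← hx, pow_orderOf_eq_one, map_one]
  set N := Subgroup.normalizer ((Subgroup.zpowers x : Subgroup G) : Set G) with hN
  set P := Subgroup.zpowers x with hP
  have hPN : P ≤ N := Subgroup.le_normalizer
  have hxN : x ∈ N := hPN (Subgroup.mem_zpowers x)
  have hunitN : ∀ m : ℕ, ¬ p ∣ m → IsUnit (m : O) := fun m hm => hunit _ fun hd => by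
    obtain ⟨u, w, huw⟩ := Int.isCoprime_iff_nat_coprime.2
      (show Nat.Coprime (Int.natAbs (p : ℤ)) (Int.natAbs (m : ℤ)) by
        simpa using hp.coprime_iff_not_dvd.2 hm)
    refine hnu (isUnit_of_dvd_one ?_)
    have := congrArg (Int.cast : ℤ → O) huw
    push_cast at this
    rw [← this]
    exact dvd_add (dvd_mul_left _ _) (hd.mul_left _)
  let σ : N →* presAlg p (ρ x) :=
    { toFun := fun n => ⟨ρ n, map_mem_presAlg ρ hx hp.ne_zero n.2⟩
      map_one' := Subtype.ext (map_one ρ)
      map_mul' := fun a c => Subtype.ext (map_mul ρ (a : G) (c : G)) }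
  let π := qmap p (ρ x)
  let T := fun n : N => π (σ n)
  have hT : ∀ a c, T (a * c) = T a * T c := fun a c => by simp only [T, map_mul]
  have hTinv : ∀ n, T n * T n⁻¹ = 1 := fun n => by rw [← hT, mul_inv_cancel]; simp [T]
  have hTx : T ⟨x, hxN⟩ = 1 := by
    rw [← sub_eq_zero, ← map_one π, ← map_sub]
    refine qmap_eq_zero _ (fun v hv => ?_) (fun z _ => ?_)
    · show (ρ x - 1) v ∈ _
      rw [LinearMap.sub_apply, Module.End.one_apply, mem_ker_delta.1 hv, sub_self]
      exact zero_mem _
    · exact ⟨z, rfl⟩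
  have hiff : ∀ g, g ∈ N ↔ g * x * g⁻¹ ∈ P := by
    intro g
    refine ⟨fun h => (Subgroup.mem_normalizer_iff.1 h x).1 (Subgroup.mem_zpowers x), fun h => ?_⟩
    refine Subgroup.mem_normalizer_iff_map_conj_eq.2 ?_
    refine Subgroup.eq_of_le_of_card_ge ?_ (le_of_eq ?_)
    · rw [MonoidHom.map_zpowers, Subgroup.zpowers_le]
      exact h
    · rw [Subgroup.card_map_of_injective (MulAut.conj g).injective]
  -- idempotents commuting with the normalizer are trivial
  have hD : ∀ A, A * A = A → (∀ n : N, Commute A (T n)) → A = 0 ∨ A = 1 := fun A hA hcA =>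
    idem_commute_normalizer ρ hnu hunit hx hp2 hirr A hA fun n hn => hcA ⟨n, hn⟩
  -- the average over `K0`
  have hKN : ∀ y ∈ K0, y ∈ N := fun y hy => (hiff y).2 (by
    rw [(hKc y hy).eq, mul_inv_cancel_right]; exact Subgroup.mem_zpowers x)
  obtain ⟨u, hu⟩ := hunitN _ hK
  haveI := Fintype.ofFinite K0
  set E : presAlg p (ρ x) := (↑u⁻¹ : O) • ∑ y : K0, σ ⟨y, hKN y y.2⟩ with hE
  have hEv : E.1 = (↑u⁻¹ : O) • ∑ y : K0, ρ (y : G) := by
    rw [hE, SetLike.val_smul, AddSubmonoidClass.coe_finsetSum]; rfl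
  have hEy : ∀ y : K0, ρ (y : G) * E.1 = E.1 := fun y => by
    rw [hEv, mul_smul_comm, Finset.mul_sum]
    congr 1
    exact Fintype.sum_equiv (Equiv.mulLeft y) _ _ fun z => by rw [← map_mul]; rfl
  have hEidem : E.1 * E.1 = E.1 := by
    nth_rewrite 1 [hEv]
    rw [smul_mul_assoc, Finset.sum_mul, Finset.sum_congr rfl fun y _ => hEy y, Finset.sum_const,
      Finset.card_univ, ← Nat.card_eq_fintype_card, ← Nat.cast_smul_eq_nsmul O, smul_smul, ← hu,
      Units.inv_mul, one_smul]
  have hEN : ∀ n : N, Commute E.1 (ρ n) := fun n => by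
    rw [hEv]
    refine Commute.smul_left ?_ _
    rw [Commute, SemiconjBy, Finset.sum_mul, Finset.mul_sum]
    symm
    refine Fintype.sum_bijective (fun y : K0 => (⟨n * y * (n : G)⁻¹, hKn n n.2 y y.2⟩ : K0))
      (Finite.injective_iff_bijective.1 fun a c e => Subtype.ext (by simpa using congrArg Subtype.val e)) _ _
      fun y => ?_
    rw [← map_mul, ← map_mul, inv_mul_cancel_right]
  have hEX : Commute E.1 (ρ x) := hEN ⟨x, hxN⟩
  rcases hD (π E) (by rw [← map_mul]; exact congrArg π (Subtype.ext hEidem)) (fun n => by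
      show π E * π (σ n) = π (σ n) * π E
      rw [← map_mul, ← map_mul]; exact congrArg π (Subtype.ext (hEN n).eq)) with h0 | h1
  · left
    -- the sublattice fixed by `K0`
    set L0 := LinearMap.range E.1 with hL0
    have hmaps : ∀ v ∈ L0, ρ x v ∈ L0 := by
      rintro _ ⟨w, rfl⟩; exact ⟨ρ x w, apply_comm_end hEX w⟩
    set X0 := (ρ x).restrict hmaps with hX0
    have hcoe : ∀ (i : ℕ) (v : L0), ((X0 ^ i) v : L) = (ρ x ^ i) v := fun i => by
      induction i with
      | zero => exact fun v => rfl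
      | succ i ih =>
        intro v
        rw [pow_succ', Module.End.mul_apply, pow_succ', Module.End.mul_apply, ← ih]; rfl
    have hX0p : X0 ^ p = 1 := LinearMap.ext fun v => Subtype.ext (by rw [hcoe, hX]; rfl)
    have hNcoe : ∀ v : L0, (normEnd p X0 v : L) = normEnd p (ρ x) v := fun v => by
      simp only [normEnd, LinearMap.sum_apply, Submodule.coe_sum, hcoe]
    have hfixE : ∀ v : L0, E.1 (v : L) = v := fun v => by
      obtain ⟨w, hw⟩ := v.2
      rw [← hw, ← Module.End.mul_apply, hEidem]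
    have hα : subIdx (LinearMap.range (normEnd p X0)) (LinearMap.ker (delta X0))
        = Nat.card (O ⧸ Ideal.span {(p : O)}) ^ 0 := by
      rw [pow_zero]
      refine AddSubgroup.relIndex_eq_one.2 fun v hv => ?_
      have hv1 : (v : L) ∈ LinearMap.ker (delta (ρ x)) :=
        mem_ker_delta.2 (congrArg Subtype.val (mem_ker_delta.1 hv))
      have h := congrArg (fun A => A.1 (Submodule.Quotient.mk ⟨(v : L), hv1⟩)) h0
      change Submodule.Quotient.mk _ = 0 at h
      obtain ⟨w, hw⟩ : (E.1 (v : L)) ∈ LinearMap.range (normEnd p (ρ x)) := by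
        have h' := (Submodule.Quotient.mk_eq_zero _).1 h
        exact h'
      refine ⟨⟨E.1 w, LinearMap.mem_range_self _ w⟩, Subtype.ext ?_⟩
      rw [hNcoe, ← apply_comm_end (commute_normEnd hEX), hw, hfixE, hfixE]
    have hβ : subIdx (LinearMap.range (delta X0)) (LinearMap.ker (normEnd p X0))
        = Nat.card (O ⧸ Ideal.span {(p : O)}) ^ 0 := by
      rw [pow_zero]
      refine AddSubgroup.relIndex_eq_one.2 fun v hv => ?_
      have hv1 : (v : L) ∈ LinearMap.ker (normEnd p (ρ x)) := by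
        rw [LinearMap.mem_ker, ← hNcoe, LinearMap.mem_ker.1 hv]; rfl
      have h := congrArg (fun A => A.2 (Submodule.Quotient.mk ⟨(v : L), hv1⟩)) h0
      change Submodule.Quotient.mk _ = 0 at h
      obtain ⟨w, hw⟩ : (E.1 (v : L)) ∈ LinearMap.range (delta (ρ x)) := by
        have h' := (Submodule.Quotient.mk_eq_zero _).1 h
        exact h'
      refine ⟨⟨E.1 w, LinearMap.mem_range_self _ w⟩, Subtype.ext ?_⟩
      show ((delta X0) ⟨E.1 w, _⟩ : L) = v
      rw [delta_apply, Submodule.coe_sub]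
      show ρ x (E.1 w) - E.1 w = v
      rw [← apply_comm_end hEX, ← map_sub, ← delta_apply, hw, hfixE, hfixE]
    have htf := trace_formula hnu hX0p 0 0 hα hβ
    rw [Nat.cast_zero, sub_zero, mul_zero] at htf
    have htr : ∀ i, LinearMap.trace O L0 (X0 ^ i) = LinearMap.trace O L (ρ x ^ i * E.1) := fun i => by
      have hm : ∀ w, (ρ x ^ i * E.1) w ∈ L0 := fun w =>
        ⟨(ρ x ^ i) w, apply_comm_end (hEX.pow_right i) w⟩
      rw [← LinearMap.trace_restrict_eq_of_forall_mem L0 _ hm]
      congr 1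
      exact LinearMap.ext fun v => Subtype.ext (by
        rw [hcoe]
        show _ = (ρ x ^ i) (E.1 v)
        rw [hfixE])
    simp only [htr, hEv, mul_smul_comm, Finset.mul_sum, map_smul, map_sum, smul_eq_mul] at htf
    rw [Finset.sum_comm, Finset.sum_congr rfl (g := fun _ => (↑u⁻¹ : O) * S) fun y _ => ?_, Finset.sum_const,
      Finset.card_univ, ← Nat.card_eq_fintype_card, nsmul_eq_mul, ← hu, Units.mul_inv_cancel_left] at htf
    · exact htf
    · rw [← hS y y.2, Finset.mul_sum]
      exact Finset.sum_congr rfl fun i _ => by rw [map_mul ρ, map_pow ρ]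
  -- `C` acts trivially, so every `n` acts as a scalar
  have hK1 : ∀ y (hy : y ∈ K0), T ⟨y, hKN y hy⟩ = 1 := fun y hy => by
    have : T ⟨y, hKN y hy⟩ * π E = π E := by
      rw [← map_mul]; exact congrArg π (Subtype.ext (hEy ⟨y, hy⟩))
    rwa [h1, mul_one] at this
  have hC1 : ∀ c : N, Commute (c : G) x → T c = 1 := fun c hc => by
    obtain ⟨i, y, hy, e⟩ := hC c hc
    have hTpow : ∀ i : ℕ, T (⟨x, hxN⟩ ^ i) = 1 := fun i => by
      simp only [T, map_pow]; rw [show π (σ ⟨x, hxN⟩) = 1 from hTx, one_pow]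
    rw [show c = ⟨x, hxN⟩ ^ i * ⟨y, hKN y hy⟩ from Subtype.ext e, hT, hTpow, hK1 y hy, mul_one]
  have hact : ∀ n : N, ∃ j : ℕ, x ^ j = n * x * (n : G)⁻¹ := fun n =>
    (isOfFinOrder_of_finite x).mem_powers_iff_mem_zpowers.2 ((hiff n).1 n.2)
  have hTcomm : ∀ a c : N, Commute (T a) (T c) := fun a c => by
    obtain ⟨i, hi⟩ := hact a
    obtain ⟨j, hj⟩ := hact c
    have e1 : ((a * c : N) : G) * x * ((a * c : N) : G)⁻¹ = x ^ (i * j) := by
      rw [Subgroup.coe_mul, show (a : G) * c * x * ((a : G) * c)⁻¹ = a * (c * x * (c : G)⁻¹) * (a : G)⁻¹ by group,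
        ← hj, ← conj_pow, ← hi, ← pow_mul]
    have e2 : ((c * a : N) : G) * x * ((c * a : N) : G)⁻¹ = x ^ (i * j) := by
      rw [Subgroup.coe_mul, show (c : G) * a * x * ((c : G) * a)⁻¹ = c * (a * x * (a : G)⁻¹) * (c : G)⁻¹ by group,
        ← hi, ← conj_pow, ← hj, ← pow_mul, mul_comm]
    have hc1 : Commute (((c * a)⁻¹ * (a * c) : N) : G) x := by
      rw [commute_iff_eq, ← mul_inv_eq_iff_eq_mul,
        show (((c * a)⁻¹ * (a * c) : N) : G) = ((c * a : N) : G)⁻¹ * ((a * c : N) : G) from rfl, mul_inv_rev, inv_inv]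
      calc ((c * a : N) : G)⁻¹ * (a * c : N) * x * (((a * c : N) : G)⁻¹ * ((c * a : N) : G))
          = ((c * a : N) : G)⁻¹ * (((a * c : N) : G) * x * ((a * c : N) : G)⁻¹) * (c * a : N) := by group
        _ = x := by rw [e1, ← e2]; group
    show T a * T c = T c * T a
    rw [← hT, ← hT]
    conv_lhs => rw [← mul_inv_cancel_left (c * a) (a * c)]
    rw [hT (c * a), hC1 _ hc1, mul_one]
  have hscal : ∀ n : N, ∃ m : ℕ, T n = (m : _) := fun n => by
    refine exists_natCast_eq hp (natCast_pair_eq_zero hp hX) _ ?_ fun A hA hAc => hD A hA fun n' => hAc _ (hTcomm n' n)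
    obtain ⟨j, hj⟩ := hact n
    have hjp : (j : ZMod p) ≠ 0 := fun h => by
      rw [ZMod.natCast_eq_zero_iff, ← hx, orderOf_dvd_iff_pow_eq_one, hj, conj_eq_one_iff] at h
      rw [h, orderOf_one] at hx
      exact hp.one_lt.ne hx
    have hpw : ∀ k, ((n ^ k : N) : G) * x * ((n ^ k : N) : G)⁻¹ = x ^ (j ^ k) := fun k => by
      induction k with
      | zero => simp
      | succ k ih =>
        rw [pow_succ', Subgroup.coe_mul, show (n : G) * (n ^ k : N) * x * ((n : G) * (n ^ k : N))⁻¹
          = n * (((n ^ k : N) : G) * x * ((n ^ k : N) : G)⁻¹) * (n : G)⁻¹ by group, ih, ← conj_pow, ← hj,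
          ← pow_mul, ← pow_succ']
    have hc1 : Commute ((n ^ (p - 1) : N) : G) x := by
      rw [commute_iff_eq, ← mul_inv_eq_iff_eq_mul, hpw]
      conv_rhs => rw [← pow_one x]
      rw [pow_eq_pow_iff_modEq, hx, ← ZMod.natCast_eq_natCast_iff, Nat.cast_pow,
        ZMod.pow_card_sub_one_eq_one hjp, Nat.cast_one]
    have := hC1 _ hc1
    simp only [T, map_pow] at this
    show π (σ n) ^ p = π (σ n)
    rw [← pow_sub_one_mul hp.ne_zero, this, one_mul]
  have hall : ∀ A : Module.End O (LinearMap.ker (delta (ρ x)) ⧸ subU p (ρ x)) ×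
      Module.End O (LinearMap.ker (normEnd p (ρ x)) ⧸ subV p (ρ x)), A * A = A → A = 0 ∨ A = 1 :=
    fun A hA => hD A hA fun n => by
    obtain ⟨m, hm⟩ := hscal n
    rw [hm]; exact Nat.commute_cast A m
  obtain ⟨α, hα1, hα, hα0⟩ := index_of_no_idem hunit hnu (subU p (ρ x))
    (fun w => pMul_ker_delta_le (mem_pMul.2 ⟨w, w.2, rfl⟩)) (fun A hA => by
      rcases hall (A, 0) (Prod.ext hA (mul_zero _)) with h | h
      · exact Or.inl (congrArg Prod.fst h)
      · exact Or.inr (congrArg Prod.fst h))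
  obtain ⟨β, hβ1, hβ, hβ0⟩ := index_of_no_idem hunit hnu (subV p (ρ x))
    (fun w => ⟨thetaEnd p (ρ x) w, (p_smul_ker_norm hX w.2).symm⟩) (fun A hA => by
      rcases hall (0, A) (Prod.ext (mul_zero _) hA) with h | h
      · exact Or.inl (congrArg Prod.snd h)
      · exact Or.inr (congrArg Prod.snd h))
  have hone : α = 0 ∨ β = 0 := by
    rcases hall (1, 0) (by rw [Prod.mk_mul_mk, one_mul, mul_zero]) with h | h
    · refine Or.inl (hα0 ⟨fun v w => ?_⟩)
      have := congrArg (fun A => A.1 v - A.1 w) h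
      simpa [sub_eq_zero] using this
    · refine Or.inr (hβ0 ⟨fun v w => ?_⟩)
      have := congrArg (fun A => A.2 v - A.2 w) h
      simpa [sub_eq_zero, eq_comm] using this
  have htf := trace_formula hnu hX α β hα hβ
  rw [show ∑ i ∈ Finset.Ico 1 p, LinearMap.trace O L (ρ x ^ i) = S by
    rw [← hS 1 (one_mem _)]
    exact Finset.sum_congr rfl fun i _ => by rw [mul_one, map_pow ρ]] at htf
  rw [htf]
  interval_cases α <;> interval_cases β <;> simp_all

end Group

end CfsgLib.Blocks.Lattice
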