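import Mathlib

/-!
# Lattices with an automorphism of prime order

`O` is a principal ideal domain of characteristic zero in which `p` is prime with finite residue
field and every element prime to `p` is a unit, `X` an endomorphism with `X ^ p = 1` of a lattice.
-/

set_option autoImplicit false

namespace CfsgLib.Blocks.Lattice

open scoped Classical

variable {O : Type*} [CommRing O] [IsDomain O] [IsPrincipalIdealRing O] [CharZero O]
  {L : Type*} [AddCommGroup L] [Module O L] [Module.Free O L] [Module.Finite O L]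

theorem smul_left_cancel_p {p : ℕ} (hp : p ≠ 0) {v w : L} (h : (p : O) • v = (p : O) • w) : v = w :=
  smul_right_injective L (Nat.cast_ne_zero.2 hp) h

/-- Division of a functional by `p`. -/
theorem exists_div {p : ℕ} (hp : p ≠ 0) (f : L →ₗ[O] O) (hf : ∀ w, (p : O) ∣ f w) :
    ∃ ℓ : L →ₗ[O] O, ∀ w, (p : O) * ℓ w = f w := by
  have h0 : (p : O) ≠ 0 := Nat.cast_ne_zero.2 hp
  choose g hg using hf
  refine ⟨{ toFun := g, map_add' := fun a b => mul_left_cancel₀ h0 ?_,
            map_smul' := fun c a => mul_left_cancel₀ h0 ?_ }, fun w => (hg w).symm⟩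
  · rw [mul_add, ← hg, ← hg, ← hg, map_add]
  · rw [← hg, RingHom.id_apply, smul_eq_mul, mul_left_comm, ← hg, map_smul, smul_eq_mul]

/-- A basis adapted to a submodule modulo `p`. -/
theorem exists_adapted (p : ℕ) (hunit : ∀ a : O, ¬ (p : O) ∣ a → IsUnit a)
    {M : Type*} [AddCommGroup M] [Module O M] [Module.Free O M] [Module.Finite O M] (N : Submodule O M) :
    ∃ (b : Module.Basis (Module.Free.ChooseBasisIndex O M) O M) (I : Finset (Module.Free.ChooseBasisIndex O M)),
      (∀ i ∈ I, ∀ t ∈ N, (p : O) ∣ b.coord i t) ∧ ∀ i ∉ I, b i ∈ N := by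
  obtain ⟨n, snf⟩ := N.smithNormalForm (Module.Free.chooseBasis O M)
  refine ⟨snf.bM, Finset.univ.filter fun i => ∀ t ∈ N, (p : O) ∣ snf.bM.coord i t,
    fun i hi => (Finset.mem_filter.1 hi).2, fun i hi => ?_⟩
  by_contra hb
  refine hi (Finset.mem_filter.2 ⟨Finset.mem_univ _, fun t ht => ?_⟩)
  by_cases hr : i ∈ Set.range snf.f
  · obtain ⟨j, rfl⟩ := hr
    have hd : (p : O) ∣ snf.a j := by
      by_contra hn
      obtain ⟨u, hu⟩ := hunit _ hn
      refine hb ?_
      have h1 : snf.a j • snf.bM (snf.f j) ∈ N := by rw [← snf.snf j]; exact (snf.bN j).2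
      have h2 := N.smul_mem ((↑u⁻¹ : O)) h1
      rwa [← hu, smul_smul, Units.inv_mul, one_smul] at h2
    have e : snf.bM.coord (snf.f j) t = snf.a j * snf.bN.coord j ⟨t, ht⟩ := by
      have hsum := congrArg Subtype.val (snf.bN.sum_repr ⟨t, ht⟩)
      simp only [Submodule.coe_sum, Submodule.coe_smul, snf.snf, smul_smul] at hsum
      conv_lhs => rw [← hsum]
      simp only [map_sum, map_smul, Module.Basis.coord_apply, Module.Basis.repr_self, smul_eq_mul,
        Finsupp.single_apply, snf.f.injective.eq_iff, mul_ite, mul_one, mul_zero, Finset.sum_ite_eq',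
        Finset.mem_univ, if_true]
      rw [mul_comm]
    rw [e]
    exact hd.mul_right _
  · have := snf.repr_eq_zero_of_notMem_range ⟨t, ht⟩ hr
    rw [Module.Basis.coord_apply, this]
    exact dvd_zero _

/-- The index of a submodule. -/
noncomputable def subIdx {M : Type*} [AddCommGroup M] [Module O M] (A B : Submodule O M) : ℕ :=
  A.toAddSubgroup.relIndex B.toAddSubgroup

theorem subIdx_mul {M : Type*} [AddCommGroup M] [Module O M] {A B C : Submodule O M} (h1 : A ≤ B)
    (h2 : B ≤ C) : subIdx A B * subIdx B C = subIdx A C :=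
  AddSubgroup.relIndex_mul_relIndex _ _ _ h1 h2

theorem subIdx_map {M M' : Type*} [AddCommGroup M] [Module O M] [AddCommGroup M'] [Module O M']
    (f : M →ₗ[O] M') (A B : Submodule O M) :
    subIdx (A.map f) (B.map f) = subIdx (A ⊔ LinearMap.ker f) (B ⊔ LinearMap.ker f) := by
  simp only [subIdx, Submodule.map_toAddSubgroup, Submodule.sup_toAddSubgroup]
  rw [AddSubgroup.relIndex_map_map]
  rfl

/-- `p • M`. -/
def pMul (p : ℕ) (A : Submodule O L) : Submodule O L := A.map ((p : O) • LinearMap.id)

theorem mem_pMul {p : ℕ} {A : Submodule O L} {v : L} : v ∈ pMul p A ↔ ∃ w ∈ A, (p : O) • w = v := by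
  simp [pMul, Submodule.mem_map]

theorem subIdx_pMul {p : ℕ} (A : Submodule O L) :
    subIdx (pMul p A) A = Nat.card (O ⧸ Ideal.span {(p : O)}) ^ Module.finrank O A := by
  let ι := Module.Free.ChooseBasisIndex O A
  let b := Module.Free.chooseBasis O A
  let φ : A →ₗ[O] (ι → O ⧸ Ideal.span {(p : O)}) :=
    LinearMap.pi fun i => (Submodule.mkQ _).comp (b.coord i)
  have hsurj : Function.Surjective φ := fun y => by
    choose z hz using fun i => Submodule.mkQ_surjective _ (y i)
    refine ⟨∑ i, z i • b i, funext fun i => ?_⟩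
    show (Submodule.mkQ _) (b.coord i (∑ j, z j • b j)) = y i
    rw [Module.Basis.coord_apply, Module.Basis.repr_sum_self, hz i]
  have hker : φ.toAddMonoidHom.ker = (pMul p A).toAddSubgroup.addSubgroupOf A.toAddSubgroup := by
    ext v
    constructor
    · intro h
      have h' : ∀ i, (p : O) ∣ b.coord i v := fun i =>
        Ideal.mem_span_singleton.1 ((Submodule.Quotient.mk_eq_zero _).1 (congrFun h i))
      choose c hc using h'
      refine mem_pMul.2 ⟨((∑ i, c i • b i : A) : L), Subtype.prop _, ?_⟩
      have hv := b.sum_repr v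
      have e : (p : O) • (∑ i, c i • b i) = v := by
        rw [Finset.smul_sum]
        refine (Finset.sum_congr rfl fun i _ => ?_).trans hv
        rw [smul_smul, ← hc i]
        rfl
      exact congrArg Subtype.val e
    · intro h
      obtain ⟨w, hw, e⟩ := mem_pMul.1 h
      have e' : (p : O) • (⟨w, hw⟩ : A) = v := Subtype.ext e
      refine funext fun i => (Submodule.Quotient.mk_eq_zero _).2 (Ideal.mem_span_singleton.2 ?_)
      rw [← e', map_smul, smul_eq_mul]
      exact dvd_mul_right _ _
  rw [subIdx, AddSubgroup.relIndex, ← hker, AddSubgroup.index_ker,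
    AddMonoidHom.range_eq_top.2 hsurj, AddSubgroup.card_top, Nat.card_pi,
    Finset.prod_const, Finset.card_univ, ← Module.finrank_eq_card_chooseBasisIndex]

theorem subIdx_eq_card_of_coord {M : Type*} [AddCommGroup M] [Module O M] {ι : Type*} (p : ℕ)
    (b : Module.Basis ι O M) {N : Submodule O M} (i₀ : ι) (hpN : ∀ w : M, (p : O) • w ∈ N)
    (h1 : ∀ t ∈ N, (p : O) ∣ b.coord i₀ t) (h2 : ∀ i ≠ i₀, b i ∈ N) :
    N.toAddSubgroup.index = Nat.card (O ⧸ Ideal.span {(p : O)}) := by
  let φ : M →ₗ[O] O ⧸ Ideal.span {(p : O)} := (Submodule.mkQ _).comp (b.coord i₀)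
  have hsurj : Function.Surjective φ := fun y => by
    obtain ⟨z, rfl⟩ := Submodule.mkQ_surjective _ y
    refine ⟨z • b i₀, ?_⟩
    show (Submodule.mkQ _) (b.coord i₀ (z • b i₀)) = _
    rw [map_smul, Module.Basis.coord_apply, Module.Basis.repr_self, Finsupp.single_eq_same, smul_eq_mul, mul_one]
  have hker : φ.toAddMonoidHom.ker = N.toAddSubgroup := by
    ext v
    constructor
    · intro h
      obtain ⟨c, hc⟩ := Ideal.mem_span_singleton.1 ((Submodule.Quotient.mk_eq_zero _).1 h)
      have hv : v = Finsupp.linearCombination O (b : ι → M) (b.repr v) := (b.linearCombination_repr v).symm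
      show v ∈ N
      rw [hv, Finsupp.linearCombination_apply]
      refine Submodule.sum_mem _ fun i _ => ?_
      by_cases hi : i = i₀
      · subst hi
        show b.coord i v • b i ∈ N
        rw [show b.coord i v = c * (p : O) from hc.trans (mul_comm _ _), mul_smul]
        exact N.smul_mem _ (hpN _)
      · exact N.smul_mem _ (h2 i hi)
    · intro h
      exact (Submodule.Quotient.mk_eq_zero _).2 (Ideal.mem_span_singleton.2 (h1 v h))
  rw [← hker, AddSubgroup.index_ker, AddMonoidHom.range_eq_top.2 hsurj, AddSubgroup.card_top]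

section Cyclic

variable (p : ℕ) (X : Module.End O L)

/-- `X - 1`. -/
def delta : Module.End O L := X - 1

/-- `1 + X + ⋯ + X ^ (p - 1)`. -/
def normEnd : Module.End O L := ∑ i ∈ Finset.range p, X ^ i

/-- `0 + X + 2 X ^ 2 + ⋯`. -/
def thetaEnd : Module.End O L := ∑ i ∈ Finset.range p, i • X ^ i

variable {p X}

theorem delta_apply (v : L) : delta X v = X v - v := by simp [delta]

theorem mem_ker_delta {v : L} : v ∈ LinearMap.ker (delta X) ↔ X v = v := by
  rw [LinearMap.mem_ker, delta_apply, sub_eq_zero]

theorem norm_mul_delta (hX : X ^ p = 1) : normEnd p X * delta X = 0 := by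
  rw [normEnd, delta, geom_sum_mul, hX, sub_self]

theorem delta_mul_norm (hX : X ^ p = 1) : delta X * normEnd p X = 0 := by
  rw [normEnd, delta, mul_geom_sum, hX, sub_self]

theorem delta_mul_theta (hX : X ^ p = 1) : delta X * thetaEnd p X = (p : ℕ) • 1 - normEnd p X := by
  have h : ∀ k, delta X * (∑ i ∈ Finset.range k, i • X ^ i) = k • X ^ k - ∑ i ∈ Finset.range k, X ^ (i + 1) := by
    intro k
    induction k with
    | zero => simp
    | succ k ih =>
      rw [Finset.sum_range_succ, Finset.sum_range_succ, mul_add, ih, mul_smul_comm, delta, sub_mul, one_mul,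
        ← pow_succ', smul_sub, succ_nsmul]
      abel
  rw [thetaEnd, h, hX, normEnd]
  congr 1
  have e1 := Finset.sum_range_succ' (fun i => X ^ i) p
  have e2 := Finset.sum_range_succ (fun i => X ^ i) p
  rw [e1, pow_zero, hX] at e2
  exact add_right_cancel e2

theorem norm_apply_fixed {v : L} (hv : X v = v) : normEnd p X v = (p : O) • v := by
  have : ∀ i : ℕ, (X ^ i) v = v := fun i => by
    induction i with
    | zero => rfl
    | succ i ih => rw [pow_succ', Module.End.mul_apply, ih, hv]
  simp [normEnd, this, Nat.cast_smul_eq_nsmul]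

theorem range_norm_le (hX : X ^ p = 1) : LinearMap.range (normEnd p X) ≤ LinearMap.ker (delta X) := by
  rintro _ ⟨w, rfl⟩
  rw [LinearMap.mem_ker, ← Module.End.mul_apply, delta_mul_norm hX]
  rfl

theorem range_delta_le (hX : X ^ p = 1) : LinearMap.range (delta X) ≤ LinearMap.ker (normEnd p X) := by
  rintro _ ⟨w, rfl⟩
  rw [LinearMap.mem_ker, ← Module.End.mul_apply, norm_mul_delta hX]
  rfl

theorem p_smul_ker_norm (hX : X ^ p = 1) {z : L} (hz : normEnd p X z = 0) :
    (p : O) • z = delta X (thetaEnd p X z) := by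
  rw [← Module.End.mul_apply, delta_mul_theta hX, LinearMap.sub_apply, hz, sub_zero, Nat.cast_smul_eq_nsmul]
  rfl

theorem pMul_ker_delta_le : pMul p (LinearMap.ker (delta X)) ≤ LinearMap.range (normEnd p X) := by
  intro v hv
  obtain ⟨w, hw, rfl⟩ := mem_pMul.1 hv
  exact ⟨w, norm_apply_fixed (mem_ker_delta.1 hw)⟩

/-- The trace of the powers from the two indices. -/
theorem trace_formula [Fact p.Prime] [Finite (O ⧸ Ideal.span {(p : O)})] (hnu : ¬ IsUnit (p : O))
    (hX : X ^ p = 1) (α β : ℕ)
    (hα : subIdx (LinearMap.range (normEnd p X)) (LinearMap.ker (delta X)) = Nat.card (O ⧸ Ideal.span {(p : O)}) ^ α)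
    (hβ : subIdx (LinearMap.range (delta X)) (LinearMap.ker (normEnd p X)) = Nat.card (O ⧸ Ideal.span {(p : O)}) ^ β) :
    ∑ i ∈ Finset.Ico 1 p, LinearMap.trace O L (X ^ i) = ((p - 1 : ℕ) : O) * ((α : O) - (β : O)) := by
  have hp : p.Prime := Fact.out
  have hp0 : (p : O) ≠ 0 := Nat.cast_ne_zero.2 hp.ne_zero
  set q := Nat.card (O ⧸ Ideal.span {(p : O)}) with hq
  have hq1 : 1 < q := by
    haveI : Nontrivial (O ⧸ Ideal.span {(p : O)}) :=
      Ideal.Quotient.nontrivial_iff.2 fun h => hnu (Ideal.span_singleton_eq_top.1 h)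
    exact Finite.one_lt_card
  set LP := LinearMap.ker (delta X) with hLP
  set KT := LinearMap.ker (normEnd p X) with hKT
  set TL := LinearMap.range (normEnd p X) with hTL
  set DL := LinearMap.range (delta X) with hDL
  have hdisj : ∀ z, z ∈ LP → z ∈ KT → z = 0 := fun z h1 h2 => by
    have := norm_apply_fixed (p := p) (mem_ker_delta.1 h1)
    rw [LinearMap.mem_ker.1 h2] at this
    exact (smul_eq_zero.1 this.symm).resolve_left hp0
  have hcomm : normEnd p X * delta X = delta X * normEnd p X := by rw [norm_mul_delta hX, delta_mul_norm hX]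
  have hsmulinj : Function.Injective ((p : O) • (LinearMap.id : L →ₗ[O] L)) := fun v w e =>
    smul_left_cancel_p (O := O) hp.ne_zero e
  -- ranks
  have hrk : Module.finrank O TL = Module.finrank O LP := by
    refine le_antisymm (Submodule.finrank_mono (range_norm_le hX)) ?_
    rw [← LinearEquiv.finrank_eq (Submodule.equivMapOfInjective _ hsmulinj LP).symm]
    exact Submodule.finrank_mono pMul_ker_delta_le
  have hn : Module.finrank O LP + Module.finrank O KT = Module.finrank O L := by
    rw [← hrk, hKT, ← (LinearMap.quotKerEquivRange (normEnd p X)).finrank_eq]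
    exact Submodule.finrank_quotient_add_finrank _
  -- the layers of `KT`
  have hDK : Submodule.map (delta X) KT ≤ KT := by
    rintro _ ⟨z, -, rfl⟩
    exact range_delta_le hX ⟨z, rfl⟩
  have hlayer : subIdx (Submodule.map (delta X) KT) KT ^ (p - 1) = subIdx (pMul p KT) KT := by
    have hpow : ∀ k, Submodule.map (delta X ^ k) KT ≤ KT := fun k => by
      induction k with
      | zero => exact le_of_eq (Submodule.map_id _)
      | succ k ih =>
        rw [pow_succ', Module.End.mul_eq_comp, Submodule.map_comp]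
        exact (Submodule.map_mono ih).trans hDK
    have hinjK : ∀ k, ∀ z ∈ KT, (delta X ^ k) z = 0 → z = 0 := fun k => by
      induction k with
      | zero => intro z _ h; exact h
      | succ k ih =>
        intro z hz h
        rw [pow_succ, Module.End.mul_apply] at h
        exact hdisj z (LinearMap.mem_ker.2 (ih _ (hDK ⟨z, hz, rfl⟩) h)) hz
    have hstep : ∀ k, subIdx (Submodule.map (delta X ^ (k + 1)) KT) (Submodule.map (delta X ^ k) KT)
        = subIdx (Submodule.map (delta X) KT) KT := by
      intro k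
      rw [pow_succ, Module.End.mul_eq_comp, Submodule.map_comp, subIdx_map]
      simp only [subIdx, Submodule.sup_toAddSubgroup]
      rw [AddSubgroup.relIndex, AddSubgroup.relIndex]
      refine (Nat.card_congr ?_).symm
      refine Equiv.ofBijective (QuotientAddGroup.map _ _
        (AddSubgroup.inclusion (show KT.toAddSubgroup ≤ KT.toAddSubgroup ⊔ (LinearMap.ker (delta X ^ k)).toAddSubgroup
          from le_sup_left)) ?_) ⟨?_, ?_⟩
      · intro v hv
        exact AddSubgroup.mem_sup_left hv
      · rw [injective_iff_map_eq_zero]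
        intro v
        refine QuotientAddGroup.induction_on v fun w hw => (QuotientAddGroup.eq_zero_iff _).2 ?_
        erw [QuotientAddGroup.map_mk, QuotientAddGroup.eq_zero_iff] at hw
        obtain ⟨a, ha, c, hc, e⟩ := AddSubgroup.mem_sup.1 hw
        have hcK : c ∈ KT := by
          have : c = (w : L) - a := eq_sub_of_add_eq' e
          rw [this]
          exact KT.sub_mem w.2 (hDK ha)
        rw [hinjK k c hcK (LinearMap.mem_ker.1 hc), add_zero] at e
        show (w : L) ∈ Submodule.map (delta X) KT
        rw [show (w : L) = a from e.symm]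
        exact ha
      · intro v
        refine QuotientAddGroup.induction_on v fun w => ?_
        obtain ⟨a, ha, c, hc, e⟩ := AddSubgroup.mem_sup.1 w.2
        refine ⟨QuotientAddGroup.mk ⟨a, ha⟩, ?_⟩
        erw [QuotientAddGroup.map_mk, QuotientAddGroup.eq]
        show -a + (w : L) ∈ (Submodule.map (delta X) KT).toAddSubgroup ⊔ (LinearMap.ker (delta X ^ k)).toAddSubgroup
        rw [← e, neg_add_cancel_left]
        exact AddSubgroup.mem_sup_right hc
    have hall : ∀ k, subIdx (Submodule.map (delta X ^ k) KT) KT = subIdx (Submodule.map (delta X) KT) KT ^ k := by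
      intro k
      induction k with
      | zero => rw [pow_zero, pow_zero, subIdx, Module.End.one_eq_id, Submodule.map_id, AddSubgroup.relIndex_self]
      | succ k ih =>
        have hle : Submodule.map (delta X ^ (k + 1)) KT ≤ Submodule.map (delta X ^ k) KT := by
          rw [pow_succ, Module.End.mul_eq_comp, Submodule.map_comp]
          exact Submodule.map_mono hDK
        rw [← subIdx_mul hle (hpow k), hstep, ih, pow_succ']
    rw [← hall]
    congr 1
    obtain ⟨r, hr⟩ : ∃ r : Polynomial ℤ, (Polynomial.X - 1) ^ (p - 1)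
        = (∑ i ∈ Finset.range p, Polynomial.X ^ i) + (p : Polynomial ℤ) * r := by
      obtain ⟨r, hr⟩ : (p : Polynomial ℤ) ∣
          (Polynomial.X - 1) ^ (p - 1) - ∑ i ∈ Finset.range p, Polynomial.X ^ i := by
        rw [show (p : Polynomial ℤ) = Polynomial.C (p : ℤ) by simp, Polynomial.C_dvd_iff_dvd_coeff]
        intro j
        have h0 : Polynomial.map (Int.castRingHom (ZMod p))
            ((Polynomial.X - 1) ^ (p - 1) - ∑ i ∈ Finset.range p, Polynomial.X ^ i) = 0 := by
          simp only [Polynomial.map_sub, Polynomial.map_pow, Polynomial.map_X, Polynomial.map_one,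
            Polynomial.map_sum, sub_eq_zero]
          refine mul_right_cancel₀ (Polynomial.X_sub_C_ne_zero (1 : ZMod p)) ?_
          rw [Polynomial.C_1, geom_sum_mul, ← pow_succ, Nat.sub_add_cancel hp.one_le, sub_pow_char, one_pow]
        have := congrArg (fun f => Polynomial.coeff f j) h0
        simp only [Polynomial.coeff_map, Polynomial.coeff_zero, eq_intCast] at this
        exact (ZMod.intCast_zmod_eq_zero_iff_dvd _ p).1 this
      exact ⟨r, by rw [← hr]; ring⟩
    obtain ⟨r₁, hr₁⟩ : ∃ r₁ : Polynomial ℤ, r = -1 + (Polynomial.X - 1) * r₁ := by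
      have h1 : r.eval 1 = -1 := by
        have e := congrArg (Polynomial.eval 1) hr
        simp [Polynomial.eval_finsetSum, zero_pow (show p - 1 ≠ 0 by have := hp.two_le; omega)] at e
        have hpz : (p : ℤ) ≠ 0 := by exact_mod_cast hp.ne_zero
        refine mul_left_cancel₀ hpz ?_
        linarith
      obtain ⟨r₁, e⟩ : (Polynomial.X - Polynomial.C (1 : ℤ)) ∣ r + 1 := by
        rw [Polynomial.dvd_iff_isRoot]
        simp [Polynomial.IsRoot, h1]
      exact ⟨r₁, by rw [map_one] at e; rw [← e]; ring⟩
    have haev : ∀ (f : Polynomial ℤ) (z : L), z ∈ KT → Polynomial.aeval X f z ∈ KT := by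
      intro f z hz
      have hcm : Commute (normEnd p X) (Polynomial.aeval X f) := by
        have : normEnd p X = Polynomial.aeval X (∑ i ∈ Finset.range p, Polynomial.X ^ i : Polynomial ℤ) := by
          simp [normEnd, map_sum]
        rw [this]
        exact (Commute.all _ _).map _
      rw [LinearMap.mem_ker, ← Module.End.mul_apply, hcm.eq, Module.End.mul_apply, LinearMap.mem_ker.1 hz, map_zero]
    have hR : ∀ z ∈ KT, (delta X ^ (p - 1)) z = (p : O) • Polynomial.aeval X r z := by
      intro z hz
      have h1 := congrArg (fun f : Polynomial ℤ => (Polynomial.aeval X f) z) hr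
      simp only [map_pow, map_sub, Polynomial.aeval_X, map_one, map_add, map_sum, map_mul, map_natCast,
        LinearMap.add_apply, Module.End.mul_apply] at h1
      change (delta X ^ (p - 1)) z = normEnd p X z + _ at h1
      rwa [LinearMap.mem_ker.1 hz, zero_add, Module.End.natCast_apply, ← Nat.cast_smul_eq_nsmul O] at h1
    refine le_antisymm ?_ ?_
    · rintro _ ⟨z, hz, rfl⟩
      rw [hR z hz]
      exact mem_pMul.2 ⟨_, haev r z hz, rfl⟩
    · intro v hv
      obtain ⟨z, hz, rfl⟩ := mem_pMul.1 hv
      set W := Submodule.map (delta X ^ (p - 1)) KT with hW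
      have hcd : ∀ j, Commute (delta X ^ j) (Polynomial.aeval X r₁) := fun j => by
        refine Commute.pow_left ?_ j
        rw [show delta X = Polynomial.aeval X (Polynomial.X - 1 : Polynomial ℤ) by simp [delta]]
        exact (Commute.all _ _).map _
      have hj : ∀ j, ∃ w ∈ KT, (p : O) • z - (p : O) • (delta X ^ j) w ∈ W := by
        intro j
        induction j with
        | zero => exact ⟨z, hz, by simp⟩
        | succ j ih =>
          obtain ⟨w, hw, hmem⟩ := ih
          refine ⟨Polynomial.aeval X r₁ w, haev r₁ w hw, ?_⟩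
          have hu : (delta X ^ j) w ∈ KT := hpow j ⟨w, hw, rfl⟩
          have e := hR _ hu
          rw [hr₁] at e
          simp only [map_add, map_neg, map_one, map_mul, map_sub, Polynomial.aeval_X, LinearMap.add_apply,
            LinearMap.neg_apply, Module.End.one_apply, Module.End.mul_apply] at e
          change _ = (p : O) • (-(delta X ^ j) w + delta X _) at e
          rw [show Polynomial.aeval X r₁ ((delta X ^ j) w) = (delta X ^ j) (Polynomial.aeval X r₁ w) from
            congrArg (fun f : Module.End O L => f w) (hcd j).eq.symm] at e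
          rw [smul_add, smul_neg, ← Module.End.mul_apply (delta X) (delta X ^ j), ← pow_succ'] at e
          have e' : (p : O) • z - (p : O) • (delta X ^ (j + 1)) (Polynomial.aeval X r₁ w)
              = ((p : O) • z - (p : O) • (delta X ^ j) w) - (delta X ^ (p - 1)) ((delta X ^ j) w) := by
            rw [e]; abel
          rw [e']
          exact W.sub_mem hmem ⟨_, hu, rfl⟩
      obtain ⟨w, hw, hmem⟩ := hj (p - 1)
      have h2 : (p : O) • (delta X ^ (p - 1)) w ∈ W := W.smul_mem _ ⟨w, hw, rfl⟩
      have := W.add_mem hmem h2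
      rwa [sub_add_cancel] at this
  set n0 := Module.finrank O KT with hn0
  set r0 := Module.finrank O LP with hr0
  have hqLP : subIdx (pMul p LP) LP = q ^ r0 := subIdx_pMul LP
  have hqKT : subIdx (pMul p KT) KT = q ^ n0 := subIdx_pMul KT
  -- `[TL : pLP] * [LP : TL] = [LP : pLP]`
  have hTLP : TL ≤ LP := range_norm_le hX
  have hA : subIdx (pMul p LP) TL * q ^ α = q ^ r0 := by
    rw [← hqLP, ← hα, subIdx_mul pMul_ker_delta_le hTLP]
  -- `[δL : δKT] = [L : KT ⊔ LP] = [TL : pLP]`
  have hB : subIdx (Submodule.map (delta X) KT) DL = subIdx (pMul p LP) TL := by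
    have h1 : DL = Submodule.map (delta X) ⊤ := (Submodule.map_top _).symm
    have h2 : TL = Submodule.map (normEnd p X) ⊤ := (Submodule.map_top _).symm
    have h3 : pMul p LP = Submodule.map (normEnd p X) LP := by
      ext v
      rw [mem_pMul, Submodule.mem_map]
      constructor
      · rintro ⟨w, hw, rfl⟩; exact ⟨w, hw, norm_apply_fixed (mem_ker_delta.1 hw)⟩
      · rintro ⟨w, hw, rfl⟩; exact ⟨w, hw, (norm_apply_fixed (mem_ker_delta.1 hw)).symm⟩
    rw [h1, h2, h3, subIdx_map, subIdx_map, sup_comm, top_sup_eq, top_sup_eq]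
  have hC : subIdx (Submodule.map (delta X) KT) KT = subIdx (pMul p LP) TL * q ^ β := by
    rw [← hB, ← hβ, subIdx_mul (show Submodule.map (delta X) KT ≤ DL by
        rintro _ ⟨z, -, rfl⟩; exact LinearMap.mem_range_self _ z) (range_delta_le hX)]
  obtain ⟨γ, hγ, hγ'⟩ : ∃ γ, γ + α = r0 ∧ subIdx (pMul p LP) TL = q ^ γ := by
    have hle : α ≤ r0 := by
      refine Nat.le_of_lt_succ ?_
      by_contra hlt
      have hd : q ^ α ∣ q ^ r0 := ⟨_, by rw [← hA, mul_comm]⟩
      have := (Nat.pow_dvd_pow_iff_le_right hq1).1 hd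
      omega
    refine ⟨r0 - α, Nat.sub_add_cancel hle, ?_⟩
    refine Nat.eq_of_mul_eq_mul_right (pow_pos (Nat.zero_lt_of_lt hq1) α) ?_
    rw [hA, ← pow_add, Nat.sub_add_cancel hle]
  rw [hqKT, hC, hγ', ← pow_add, ← pow_mul] at hlayer
  have hnum : (γ + β) * (p - 1) = n0 := Nat.pow_right_injective hq1 hlayer
  -- the trace of the norm
  have hT : LinearMap.trace O L (normEnd p X) = (p : O) * (r0 : O) := by
    have hmaps : ∀ v, normEnd p X v ∈ LP := fun v => range_norm_le hX ⟨v, rfl⟩
    rw [← LinearMap.trace_restrict_eq_of_forall_mem LP (normEnd p X) hmaps,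
      show (normEnd p X).restrict (fun v _ => hmaps v) = (p : O) • LinearMap.id from
        LinearMap.ext fun v => Subtype.ext (norm_apply_fixed (mem_ker_delta.1 v.2)),
      map_smul, LinearMap.trace_id, smul_eq_mul]
  have hsplit : normEnd p X = 1 + ∑ i ∈ Finset.Ico 1 p, X ^ i := by
    rw [normEnd, Finset.range_eq_Ico, Finset.sum_eq_sum_Ico_succ_bot hp.pos, pow_zero]
  have h1 : (∑ i ∈ Finset.Ico 1 p, LinearMap.trace O L (X ^ i)) = (p : O) * (r0 : O) - ((r0 + n0 : ℕ) : O) := by
    rw [← map_sum, hn]
    have := hT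
    rw [hsplit, map_add, Module.End.one_eq_id, LinearMap.trace_id] at this
    rw [← this]; ring
  rw [h1, ← hnum]
  have hγO : (γ : O) + (α : O) = (r0 : O) := by exact_mod_cast congrArg (Nat.cast (R := O)) hγ
  push_cast [Nat.cast_sub hp.one_le]
  linear_combination -((p : O) - 1) * hγO

end Cyclic

end CfsgLib.Blocks.Lattice
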