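import Cfsg.Agent.Lib.Blocks.LatticeCount

/-!
# A lattice without idempotent endomorphisms, restricted to a group of prime order

`G` acts on an `O`-lattice, `x` has order `p` and `p ^ 2` does not divide `|G|`.  The endomorphisms
of the two quotients `L ^ P / T L` and `ker T / δ L` that commute with the normalizer of `P` contain
no idempotent besides `0` and `1`, which bounds the trace sum of the powers of `x`.
-/

set_option autoImplicit false

namespace CfsgLib.Blocks.Lattice

open scoped Classical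

variable {O : Type*} [CommRing O] [IsDomain O] [IsPrincipalIdealRing O] [CharZero O]
  {L : Type*} [AddCommGroup L] [Module O L] [Module.Free O L] [Module.Finite O L]
  {p : ℕ} {X : Module.End O L}

variable (p X) in
/-- The endomorphisms preserving the four submodules attached to `X`. -/
def presAlg : Subalgebra O (Module.End O L) where
  carrier := {f | (∀ v ∈ LinearMap.ker (delta X), f v ∈ LinearMap.ker (delta X)) ∧
    (∀ v ∈ LinearMap.range (normEnd p X), f v ∈ LinearMap.range (normEnd p X)) ∧
    (∀ v ∈ LinearMap.ker (normEnd p X), f v ∈ LinearMap.ker (normEnd p X)) ∧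
    (∀ v ∈ LinearMap.range (delta X), f v ∈ LinearMap.range (delta X))}
  mul_mem' := fun {f g} hf hg => ⟨fun v h => hf.1 _ (hg.1 v h), fun v h => hf.2.1 _ (hg.2.1 v h),
    fun v h => hf.2.2.1 _ (hg.2.2.1 v h), fun v h => hf.2.2.2 _ (hg.2.2.2 v h)⟩
  add_mem' := fun {f g} hf hg => ⟨fun v h => add_mem (hf.1 v h) (hg.1 v h),
    fun v h => add_mem (hf.2.1 v h) (hg.2.1 v h), fun v h => add_mem (hf.2.2.1 v h) (hg.2.2.1 v h),
    fun v h => add_mem (hf.2.2.2 v h) (hg.2.2.2 v h)⟩
  algebraMap_mem' := fun c => ⟨fun v h => Submodule.smul_mem _ c h, fun v h => Submodule.smul_mem _ c h,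
    fun v h => Submodule.smul_mem _ c h, fun v h => Submodule.smul_mem _ c h⟩

theorem apply_comm_end {f g : Module.End O L} (h : Commute f g) (v : L) : f (g v) = g (f v) :=
  congrArg (fun F : Module.End O L => F v) h.eq

theorem commute_delta {f : Module.End O L} (h : Commute f X) : Commute f (delta X) :=
  h.sub_right (Commute.one_right f)

theorem commute_normEnd {f : Module.End O L} (h : Commute f X) : Commute f (normEnd p X) :=
  Commute.sum_right _ _ _ fun i _ => h.pow_right i

theorem mem_presAlg_of_commute {f : Module.End O L} (h : Commute f X) : f ∈ presAlg p X := by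
  refine ⟨fun v hv => ?_, ?_, fun v hv => ?_, ?_⟩
  · rw [LinearMap.mem_ker, ← apply_comm_end (commute_delta h), LinearMap.mem_ker.1 hv, map_zero]
  · rintro _ ⟨w, rfl⟩
    exact ⟨f w, (apply_comm_end (commute_normEnd h) w).symm⟩
  · rw [LinearMap.mem_ker, ← apply_comm_end (commute_normEnd h), LinearMap.mem_ker.1 hv, map_zero]
  · rintro _ ⟨w, rfl⟩
    exact ⟨f w, (apply_comm_end (commute_delta h) w).symm⟩

variable (p X)

/-- `T L` inside `L ^ P`. -/
def subU : Submodule O (LinearMap.ker (delta X)) :=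
  (LinearMap.range (normEnd p X)).comap (LinearMap.ker (delta X)).subtype

/-- `δ L` inside `ker T`. -/
def subV : Submodule O (LinearMap.ker (normEnd p X)) :=
  (LinearMap.range (delta X)).comap (LinearMap.ker (normEnd p X)).subtype

/-- The pair of endomorphisms induced on the two quotients. -/
def qmap : presAlg p X →ₐ[O]
    Module.End O (LinearMap.ker (delta X) ⧸ subU p X) × Module.End O (LinearMap.ker (normEnd p X) ⧸ subV p X) where
  toFun f := ((subU p X).mapQ (subU p X) (f.1.restrict f.2.1) fun v hv => f.2.2.1 v.1 hv,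
    (subV p X).mapQ (subV p X) (f.1.restrict f.2.2.2.1) fun v hv => f.2.2.2.2 v.1 hv)
  map_one' := by
    refine Prod.ext ?_ ?_ <;> refine LinearMap.ext fun u => ?_ <;>
      induction u using Submodule.Quotient.induction_on <;> rfl
  map_mul' f g := by
    refine Prod.ext ?_ ?_ <;> refine LinearMap.ext fun u => ?_ <;>
      induction u using Submodule.Quotient.induction_on <;> rfl
  map_zero' := by
    refine Prod.ext ?_ ?_ <;> refine LinearMap.ext fun u => ?_ <;>
      induction u using Submodule.Quotient.induction_on <;> rfl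
  map_add' f g := by
    refine Prod.ext ?_ ?_ <;> refine LinearMap.ext fun u => ?_ <;>
      induction u using Submodule.Quotient.induction_on <;> rfl
  commutes' c := by
    refine Prod.ext ?_ ?_ <;> refine LinearMap.ext fun u => ?_ <;>
      induction u using Submodule.Quotient.induction_on <;> rfl

variable {p X}

theorem qmap_fst (f : presAlg p X) (v : LinearMap.ker (delta X)) :
    (qmap p X f).1 (Submodule.Quotient.mk v) = Submodule.Quotient.mk (⟨f.1 v, f.2.1 v v.2⟩ : LinearMap.ker (delta X)) :=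
  rfl

theorem qmap_snd (f : presAlg p X) (v : LinearMap.ker (normEnd p X)) :
    (qmap p X f).2 (Submodule.Quotient.mk v) =
      Submodule.Quotient.mk (⟨f.1 v, f.2.2.2.1 v v.2⟩ : LinearMap.ker (normEnd p X)) :=
  rfl

theorem qmap_eq (f : presAlg p X) (A : Module.End O (LinearMap.ker (delta X) ⧸ subU p X))
    (B : Module.End O (LinearMap.ker (normEnd p X) ⧸ subV p X))
    (hA : ∀ v, A (Submodule.Quotient.mk v) = (qmap p X f).1 (Submodule.Quotient.mk v))
    (hB : ∀ v, B (Submodule.Quotient.mk v) = (qmap p X f).2 (Submodule.Quotient.mk v)) : qmap p X f = (A, B) := by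
  refine Prod.ext (LinearMap.ext fun u => ?_) (LinearMap.ext fun u => ?_)
  · induction u using Submodule.Quotient.induction_on with
    | _ v => exact (hA v).symm
  · induction u using Submodule.Quotient.induction_on with
    | _ v => exact (hB v).symm

theorem qmap_eq_zero (f : presAlg p X) (hA : ∀ v ∈ LinearMap.ker (delta X), f.1 v ∈ LinearMap.range (normEnd p X))
    (hB : ∀ z ∈ LinearMap.ker (normEnd p X), f.1 z ∈ LinearMap.range (delta X)) : qmap p X f = 0 :=
  qmap_eq f 0 0 (fun v => by
      rw [qmap_fst, LinearMap.zero_apply]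
      refine ((Submodule.Quotient.mk_eq_zero _).2 ?_).symm
      exact hA v v.2)
    (fun v => by
      rw [qmap_snd, LinearMap.zero_apply]
      refine ((Submodule.Quotient.mk_eq_zero _).2 ?_).symm
      exact hB v v.2)

theorem p_smul_quotU (hp : p.Prime) (hX : X ^ p = 1) (u : LinearMap.ker (delta X) ⧸ subU p X) :
    (p : O) • u = 0 := by
  induction u using Submodule.Quotient.induction_on with
  | _ v =>
    rw [← Submodule.Quotient.mk_smul, Submodule.Quotient.mk_eq_zero]
    exact pMul_ker_delta_le (mem_pMul.2 ⟨v, v.2, rfl⟩)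

theorem p_smul_quotV (hp : p.Prime) (hX : X ^ p = 1) (u : LinearMap.ker (normEnd p X) ⧸ subV p X) :
    (p : O) • u = 0 := by
  induction u using Submodule.Quotient.induction_on with
  | _ v =>
    rw [← Submodule.Quotient.mk_smul, Submodule.Quotient.mk_eq_zero]
    exact ⟨thetaEnd p X v, (p_smul_ker_norm hX v.2).symm⟩

theorem natCast_pair_eq_zero (hp : p.Prime) (hX : X ^ p = 1) :
    ((p : ℕ) : Module.End O (LinearMap.ker (delta X) ⧸ subU p X) ×
      Module.End O (LinearMap.ker (normEnd p X) ⧸ subV p X)) = 0 := by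
  refine Prod.ext (LinearMap.ext fun u => ?_) (LinearMap.ext fun u => ?_)
  · rw [Prod.fst_natCast, Module.End.natCast_apply, ← Nat.cast_smul_eq_nsmul O, p_smul_quotU hp hX]
    rfl
  · rw [Prod.snd_natCast, Module.End.natCast_apply, ← Nat.cast_smul_eq_nsmul O, p_smul_quotV hp hX]
    rfl

theorem smul_quot_of_dvd (hp : p.Prime) (hX : X ^ p = 1) {c : O} (hc : (p : O) ∣ c)
    (u : LinearMap.ker (delta X) ⧸ subU p X) : c • u = 0 := by
  obtain ⟨d, rfl⟩ := hc
  rw [mul_comm, mul_smul, p_smul_quotU hp hX, smul_zero]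

/-- Every endomorphism of `L ^ P / T L` comes from one commuting with `X` and killing `ker T`. -/
theorem exists_liftU (hp : p.Prime) (hunit : ∀ a : O, ¬ (p : O) ∣ a → IsUnit a) (hX : X ^ p = 1)
    (A : Module.End O (LinearMap.ker (delta X) ⧸ subU p X)) :
    ∃ f : Module.End O L, ∃ hc : Commute f X, qmap p X ⟨f, mem_presAlg_of_commute hc⟩ = (A, 0) := by
  obtain ⟨b, I, hI, hI'⟩ := exists_adapted p hunit (subU p X)
  have hT : ∀ w, normEnd p X w ∈ LinearMap.ker (delta X) := fun w => range_norm_le hX ⟨w, rfl⟩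
  choose c hc using fun j => Submodule.Quotient.mk_surjective (subU p X) (A (Submodule.Quotient.mk (b j)))
  have hex : ∀ j, ∃ ℓ : L →ₗ[O] O, j ∈ I → ∀ w, (p : O) * ℓ w = b.coord j ⟨normEnd p X w, hT w⟩ := by
    intro j
    by_cases hj : j ∈ I
    · obtain ⟨ℓ, hℓ⟩ := exists_div hp.ne_zero ((b.coord j).comp ((normEnd p X).codRestrict _ hT))
        (fun w => hI j hj _ ⟨w, rfl⟩)
      exact ⟨ℓ, fun _ => hℓ⟩
    · exact ⟨0, fun h => absurd h hj⟩
  choose ℓ hℓ using hex
  let f : Module.End O L := ∑ j ∈ I, (ℓ j).smulRight ((c j : LinearMap.ker (delta X)) : L)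
  have hfw : ∀ w, f w = ∑ j ∈ I, ℓ j w • ((c j : LinearMap.ker (delta X)) : L) := fun w => by simp [f]
  have hp0 : (p : O) ≠ 0 := Nat.cast_ne_zero.2 hp.ne_zero
  have hTX : ∀ w, normEnd p X (X w) = normEnd p X w := fun w => by
    have h := congrArg (fun F : Module.End O L => F w) (norm_mul_delta hX)
    simpa [delta_apply, sub_eq_zero] using h
  have hcomm : Commute f X := LinearMap.ext fun w => by
    show f (X w) = X (f w)
    rw [hfw, hfw, map_sum]
    refine Finset.sum_congr rfl fun j hj => ?_
    rw [map_smul, mem_ker_delta.1 (c j).2]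
    congr 1
    refine mul_left_cancel₀ hp0 ?_
    rw [hℓ j hj, hℓ j hj]
    exact congrArg _ (Subtype.ext (hTX w))
  refine ⟨f, hcomm, qmap_eq _ _ _ (fun v => ?_) (fun z => ?_)⟩
  · have hl : ∀ j ∈ I, ℓ j v = b.coord j v := fun j hj => by
      refine mul_left_cancel₀ hp0 ?_
      rw [hℓ j hj, ← smul_eq_mul, ← map_smul]
      exact congrArg _ (Subtype.ext (norm_apply_fixed (mem_ker_delta.1 v.2)))
    have hfv : (⟨f v, (mem_presAlg_of_commute (p := p) hcomm).1 v v.2⟩ : LinearMap.ker (delta X))
        = ∑ j ∈ I, b.coord j v • c j := by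
      refine Subtype.ext ?_
      rw [Submodule.coe_sum]
      show f v = _
      rw [hfw]
      exact Finset.sum_congr rfl fun j hj => by rw [hl j hj, Submodule.coe_smul]
    rw [qmap_fst, hfv]
    conv_lhs => rw [← b.sum_repr v]
    show A ((subU p X).mkQ _) = (subU p X).mkQ _
    rw [map_sum, map_sum, map_sum, ← Finset.sum_subset (Finset.subset_univ I) (fun i _ hi => by
      rw [map_smul, Submodule.mkQ_apply, (Submodule.Quotient.mk_eq_zero _).2 (hI' i hi), smul_zero, map_zero])]
    refine Finset.sum_congr rfl fun j _ => ?_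
    rw [map_smul, map_smul, map_smul, Submodule.mkQ_apply, Submodule.mkQ_apply, hc, Module.Basis.coord_apply]
  · have hl : ∀ j ∈ I, ℓ j z = 0 := fun j hj => by
      refine mul_left_cancel₀ hp0 ?_
      rw [hℓ j hj, mul_zero, ← map_zero (b.coord j)]
      exact congrArg _ (Subtype.ext (LinearMap.mem_ker.1 z.2))
    rw [qmap_snd, LinearMap.zero_apply]
    refine ((Submodule.Quotient.mk_eq_zero _).2 ?_).symm
    show f z ∈ LinearMap.range (delta X)
    rw [hfw, Finset.sum_eq_zero fun j hj => by rw [hl j hj, zero_smul]]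
    exact zero_mem _

theorem sum_range_sum_succ_eq (hX : X ^ p = 1) (ℓ : L →ₗ[O] O) (z : L) :
    ∑ k ∈ Finset.range p, ∑ i ∈ Finset.range (k + 1), ℓ ((X ^ (p - i)) z)
      = ℓ (thetaEnd p X z) + (p : O) * ℓ z := by
  have h1 : ∀ m, ∑ k ∈ Finset.range m, ∑ i ∈ Finset.range (k + 1), ℓ ((X ^ (p - i)) z)
      = ∑ i ∈ Finset.range m, ((m - i : ℕ) : O) * ℓ ((X ^ (p - i)) z) := by
    intro m
    induction m with
    | zero => simp
    | succ m ih =>
      rw [Finset.sum_range_succ, ih]
      conv_rhs => rw [Finset.sum_range_succ]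
      rw [Finset.sum_range_succ (fun i => ℓ ((X ^ (p - i)) z)) m, ← add_assoc, ← Finset.sum_add_distrib,
        show m + 1 - m = 1 by omega, Nat.cast_one, one_mul]
      congr 1
      refine Finset.sum_congr rfl fun i hi => ?_
      rw [show m + 1 - i = (m - i) + 1 by have := Finset.mem_range.1 hi; omega, Nat.cast_succ, add_mul, one_mul]
  rw [h1 p, ← Finset.sum_range_reflect]
  have h2 : ∀ j ∈ Finset.range p, ((p - (p - 1 - j) : ℕ) : O) * ℓ ((X ^ (p - (p - 1 - j))) z)
      = ((j + 1 : ℕ) : O) * ℓ ((X ^ (j + 1)) z) := fun j hj => by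
    rw [show p - (p - 1 - j) = j + 1 by have := Finset.mem_range.1 hj; omega]
  rw [Finset.sum_congr rfl h2]
  have h3 : ℓ (thetaEnd p X z) = ∑ i ∈ Finset.range p, (i : O) * ℓ ((X ^ i) z) := by
    rw [thetaEnd, LinearMap.sum_apply, map_sum]
    refine Finset.sum_congr rfl fun i _ => ?_
    rw [LinearMap.smul_apply, ← Nat.cast_smul_eq_nsmul O, map_smul, smul_eq_mul]
  have e1 := Finset.sum_range_succ' (fun i => (i : O) * ℓ ((X ^ i) z)) p
  rw [Finset.sum_range_succ, ← h3, Nat.cast_zero, zero_mul, add_zero, hX] at e1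
  exact e1.symm

/-- Every endomorphism of `ker T / δ L` comes from one commuting with `X` and killing `L ^ P`. -/
theorem exists_liftV (hp : p.Prime) (hunit : ∀ a : O, ¬ (p : O) ∣ a → IsUnit a) (hX : X ^ p = 1)
    (B : Module.End O (LinearMap.ker (normEnd p X) ⧸ subV p X)) :
    ∃ f : Module.End O L, ∃ hc : Commute f X, qmap p X ⟨f, mem_presAlg_of_commute hc⟩ = (0, B) := by
  obtain ⟨b, I, hI, hI'⟩ := exists_adapted p hunit (subV p X)
  have hD : ∀ w, delta X w ∈ LinearMap.ker (normEnd p X) := fun w => range_delta_le hX ⟨w, rfl⟩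
  choose c hc using fun j => Submodule.Quotient.mk_surjective (subV p X) (B (Submodule.Quotient.mk (b j)))
  have hex : ∀ j, ∃ ℓ : L →ₗ[O] O, j ∈ I → ∀ w, (p : O) * ℓ w = b.coord j ⟨delta X w, hD w⟩ := by
    intro j
    by_cases hj : j ∈ I
    · obtain ⟨ℓ, hℓ⟩ := exists_div hp.ne_zero ((b.coord j).comp ((delta X).codRestrict _ hD))
        (fun w => hI j hj _ ⟨w, rfl⟩)
      exact ⟨ℓ, fun _ => hℓ⟩
    · exact ⟨0, fun h => absurd h hj⟩
  choose ℓ hℓ using hex
  let μ : I → ℕ → L →ₗ[O] O := fun j k => ∑ i ∈ Finset.range (k + 1), (ℓ j.1).comp (X ^ (p - i))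
  let f : Module.End O L := ∑ j : I, ∑ k ∈ Finset.range p,
    (μ j k).smulRight ((X ^ k) ((c j.1 : LinearMap.ker (normEnd p X)) : L))
  have hfw : ∀ w, f w = ∑ j : I, ∑ k ∈ Finset.range p,
      μ j k w • (X ^ k) ((c j.1 : LinearMap.ker (normEnd p X)) : L) := fun w => by
    simp [f]
  have hp0 : (p : O) ≠ 0 := Nat.cast_ne_zero.2 hp.ne_zero
  have hμ : ∀ (j : I) (k : ℕ) (w : L), μ j k w = ∑ i ∈ Finset.range (k + 1), ℓ j.1 ((X ^ (p - i)) w) :=
    fun j k w => by simp [μ]
  have hℓT : ∀ j ∈ I, ∀ w, ℓ j (normEnd p X w) = 0 := fun j hj w => by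
    refine mul_left_cancel₀ hp0 ?_
    rw [hℓ j hj, mul_zero, ← map_zero (b.coord j)]
    exact congrArg _ (Subtype.ext (by
      show (delta X * normEnd p X) w = _
      rw [delta_mul_norm hX]; rfl))
  have hlast : ∀ (j : I) (w : L), μ j (p - 1) w = 0 := fun j w => by
    rw [hμ, Nat.sub_add_cancel hp.one_le, ← map_sum, ← hℓT j.1 j.2 w,
      show normEnd p X w = ∑ i ∈ Finset.range p, (X ^ i) w by simp [normEnd]]
    congr 1
    have e1 := Finset.sum_range_succ' (fun i => (X ^ i) w) p
    have e2 := Finset.sum_range_succ (fun i => (X ^ i) w) p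
    rw [e1, pow_zero, hX] at e2
    rw [← add_right_cancel e2, ← Finset.sum_range_reflect]
    refine Finset.sum_congr rfl fun i hi => ?_
    rw [show p - (p - 1 - i) = i + 1 by have := Finset.mem_range.1 hi; omega]
  have hstep : ∀ (j : I) (k : ℕ) (w : L), k + 1 < p → μ j (k + 1) (X w) = ℓ j.1 (X w) + μ j k w := by
    intro j k w hk
    rw [hμ, hμ, Finset.sum_range_succ', Nat.sub_zero, hX, Module.End.one_apply, add_comm]
    congr 1
    refine Finset.sum_congr rfl fun i hi => ?_
    rw [← Module.End.mul_apply (X ^ (p - (i + 1))) X, ← pow_succ,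
      show p - (i + 1) + 1 = p - i by have := Finset.mem_range.1 hi; omega]
  have hcomm : Commute f X := LinearMap.ext fun w => by
    show f (X w) = X (f w)
    rw [hfw, hfw, map_sum]
    refine Finset.sum_congr rfl fun j _ => ?_
    rw [map_sum]
    obtain ⟨m, hm⟩ : ∃ m, p = m + 1 := ⟨p - 1, (Nat.sub_add_cancel hp.one_le).symm⟩
    have hl0 := hlast j w
    rw [hm, Nat.add_sub_cancel] at hl0
    set u : L := ((c j.1 : LinearMap.ker (normEnd p X)) : L) with hu
    have hu0 : normEnd p X u = 0 := LinearMap.mem_ker.1 (c j.1).2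
    rw [normEnd, LinearMap.sum_apply, hm, Finset.sum_range_succ'] at hu0
    have h0 : μ j 0 (X w) = ℓ j.1 (X w) := by
      rw [hμ, Finset.sum_range_one, Nat.sub_zero, hX]; rfl
    rw [hm, Finset.sum_range_succ', Finset.sum_range_succ _ m, hl0, zero_smul, map_zero, add_zero, h0,
      Finset.sum_congr rfl fun k hk => show μ j (k + 1) (X w) • (X ^ (k + 1)) u
          = ℓ j.1 (X w) • (X ^ (k + 1)) u + μ j k w • (X ^ (k + 1)) u by
        rw [hstep j k w (by have := Finset.mem_range.1 hk; omega), add_smul],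
      Finset.sum_add_distrib, ← Finset.smul_sum, add_right_comm, ← smul_add, hu0, smul_zero, zero_add]
    refine Finset.sum_congr rfl fun k _ => ?_
    rw [map_smul, ← Module.End.mul_apply, ← pow_succ']
  refine ⟨f, hcomm, qmap_eq _ _ _ (fun v => ?_) (fun z => ?_)⟩
  · have hl : ∀ (j : I) i, ℓ j.1 ((X ^ i) v) = 0 := fun j i => by
      refine mul_left_cancel₀ hp0 ?_
      rw [hℓ j.1 j.2, mul_zero, ← map_zero (b.coord j.1)]
      refine congrArg _ (Subtype.ext ?_)
      show delta X ((X ^ i) v) = 0
      rw [← apply_comm_end (commute_delta ((Commute.refl X).pow_left i)), LinearMap.mem_ker.1 v.2, map_zero]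
    rw [qmap_fst, LinearMap.zero_apply]
    refine ((Submodule.Quotient.mk_eq_zero _).2 ?_).symm
    show f v ∈ LinearMap.range (normEnd p X)
    rw [hfw, Finset.sum_eq_zero fun j _ => Finset.sum_eq_zero fun k _ => by
      rw [hμ, Finset.sum_eq_zero fun i _ => hl j _, zero_smul]]
    exact zero_mem _
  · have hmem : ∀ (k : ℕ) (v : LinearMap.ker (normEnd p X)), (X ^ k) (v : L) ∈ LinearMap.ker (normEnd p X) :=
      fun k v => (mem_presAlg_of_commute (p := p) ((Commute.refl X).pow_left k)).2.2.1 v v.2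
    have hXk : ∀ (k : ℕ) (v : LinearMap.ker (normEnd p X)),
        (Submodule.Quotient.mk (⟨(X ^ k) v, hmem k v⟩ : LinearMap.ker (normEnd p X)) :
          LinearMap.ker (normEnd p X) ⧸ subV p X) = Submodule.Quotient.mk v := fun k v => by
      rw [Submodule.Quotient.eq]
      refine ⟨∑ i ∈ Finset.range k, (X ^ i) (v : L), ?_⟩
      rw [map_sum]
      show _ = (X ^ k) (v : L) - (v : L)
      induction k with
      | zero => simp
      | succ k ih =>
        rw [Finset.sum_range_succ, ih, delta_apply, ← Module.End.mul_apply, ← pow_succ']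
        abel
    have hfz : (⟨f z, (mem_presAlg_of_commute (p := p) hcomm).2.2.1 z z.2⟩ : LinearMap.ker (normEnd p X))
        = ∑ j : I, ∑ k ∈ Finset.range p, μ j k z • (⟨(X ^ k) (c j.1), hmem k _⟩ : LinearMap.ker (normEnd p X)) := by
      refine Subtype.ext ?_
      rw [Submodule.coe_sum]
      show f z = _
      rw [hfw]
      refine Finset.sum_congr rfl fun j _ => ?_
      rw [Submodule.coe_sum]
      rfl
    have hsum : ∀ j : I, ∑ k ∈ Finset.range p, μ j k z = b.coord j.1 z + (p : O) * ℓ j.1 z := fun j => by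
      rw [Finset.sum_congr rfl fun k _ => hμ j k z, sum_range_sum_succ_eq hX]
      congr 1
      refine mul_left_cancel₀ hp0 ?_
      rw [hℓ j.1 j.2, ← smul_eq_mul, ← map_smul]
      exact congrArg _ (Subtype.ext (p_smul_ker_norm hX z.2).symm)
    rw [qmap_snd, hfz]
    conv_lhs => rw [← b.sum_repr z]
    show B ((subV p X).mkQ _) = (subV p X).mkQ _
    rw [map_sum, map_sum, map_sum, ← Finset.sum_subset (Finset.subset_univ I) (fun i _ hi => by
      rw [map_smul, Submodule.mkQ_apply, (Submodule.Quotient.mk_eq_zero _).2 (hI' i hi), smul_zero, map_zero]),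
      ← Finset.sum_coe_sort I]
    refine Finset.sum_congr rfl fun j _ => ?_
    rw [map_sum, Finset.sum_congr rfl fun k _ => show (subV p X).mkQ (μ j k z • ⟨(X ^ k) (c j.1), hmem k _⟩)
        = μ j k z • Submodule.Quotient.mk (c j.1) by rw [map_smul, Submodule.mkQ_apply, hXk],
      ← Finset.sum_smul, hsum, add_smul, mul_comm, mul_smul _ (p : O), p_smul_quotV hp hX, smul_zero, add_zero,
      map_smul, map_smul, Submodule.mkQ_apply, ← hc, Module.Basis.coord_apply]

theorem exists_lift (hp : p.Prime) (hunit : ∀ a : O, ¬ (p : O) ∣ a → IsUnit a) (hX : X ^ p = 1)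
    (A : Module.End O (LinearMap.ker (delta X) ⧸ subU p X) ×
      Module.End O (LinearMap.ker (normEnd p X) ⧸ subV p X)) :
    ∃ f : presAlg p X, Commute (f : Module.End O L) X ∧ qmap p X f = A := by
  obtain ⟨f, hf, e1⟩ := exists_liftU hp hunit hX A.1
  obtain ⟨g, hg, e2⟩ := exists_liftV hp hunit hX A.2
  refine ⟨⟨f, mem_presAlg_of_commute hf⟩ + ⟨g, mem_presAlg_of_commute hg⟩, hf.add_left hg, ?_⟩
  rw [map_add, e1, e2, Prod.mk_add_mk, add_zero, zero_add]

/-- In a ring where `p = 0`, an element with `t ^ p = t` whose powers give no proper idempotent is a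
natural number. -/
theorem exists_natCast_eq {R : Type*} [Ring R] (hp : p.Prime) (hp0 : (p : R) = 0) (t : R) (ht : t ^ p = t)
    (hidem : ∀ A : R, A * A = A → (∀ u, Commute u t → Commute A u) → A = 0 ∨ A = 1) :
    ∃ m : ℕ, t = (m : R) := by
  rcases subsingleton_or_nontrivial R with hR | hR
  · exact ⟨0, Subsingleton.elim _ _⟩
  haveI : Fact p.Prime := ⟨hp⟩
  haveI : CharP R p := CharP.charP_iff_prime_eq_zero hp |>.2 hp0
  haveI : ExpChar R p := ExpChar.prime hp
  by_contra hcon
  rw [not_exists] at hcon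
  have h1 : ∀ c : ℕ, IsUnit (t - (c : R)) := by
    intro c
    set a := t - (c : R) with ha
    have hap : a ^ p = a := by
      rw [ha, sub_pow_char_of_commute (p := p) (Nat.commute_cast t c), ht]
      congr 1
      have := congrArg (ZMod.castHom (dvd_refl p) R) (ZMod.pow_card (c : ZMod p))
      rwa [map_pow, map_natCast] at this
    have hp2 := hp.two_le
    rcases hidem (a ^ (p - 1)) (by
        have e1 : a ^ (p - 1) * a ^ (p - 1) = a ^ p * a ^ (p - 2) := by
          rw [← pow_add, ← pow_add]; congr 1; omega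
        rw [e1, hap, ← pow_succ']; congr 1; omega)
        (fun u hu => ((hu.sub_right (Nat.commute_cast u c)).pow_right _).symm) with h | h
    · exact absurd (sub_eq_zero.1 (show a = 0 by
        rw [← hap, show p = p - 1 + 1 by omega, pow_succ, h, zero_mul])) (hcon c)
    · refine (isUnit_pow_iff (show p - 1 ≠ 0 by omega)).1 ?_
      rw [h]; exact isUnit_one
  letI := ZMod.algebra R p
  have h2 : Polynomial.aeval t (∏ c : ZMod p, (Polynomial.X - Polynomial.C c)) = 0 := by
    have hprod : ∏ c : ZMod p, (Polynomial.X - Polynomial.C c) = Polynomial.X ^ p - Polynomial.X := by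
      have h := Polynomial.prod_multiset_X_sub_C_of_monic_of_roots_card_eq
        (p := (Polynomial.X ^ p - Polynomial.X : Polynomial (ZMod p)))
        (Polynomial.monic_X_pow_sub (by rw [Polynomial.degree_X]; exact_mod_cast hp.one_lt)) ?_
      · have hr := FiniteField.roots_X_pow_card_sub_X (ZMod p)
        rw [ZMod.card] at hr
        rw [hr] at h
        exact h
      · have hr := FiniteField.roots_X_pow_card_sub_X (ZMod p)
        rw [ZMod.card] at hr
        rw [hr, FiniteField.X_pow_card_sub_X_natDegree_eq (ZMod p) hp.one_lt]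
        exact ZMod.card p
    rw [hprod]
    simp [ht]
  have h3 : IsUnit (Polynomial.aeval t (∏ c : ZMod p, (Polynomial.X - Polynomial.C c))) := by
    have h4 : ∀ c : ZMod p, IsUnit (Polynomial.aeval t (Polynomial.X - Polynomial.C c)) := fun c => by
      have e : Polynomial.aeval t (Polynomial.X - Polynomial.C c) = t - ((c.val : ℕ) : R) := by
        rw [map_sub, Polynomial.aeval_X, Polynomial.aeval_C, ← map_natCast (algebraMap (ZMod p) R),
          ZMod.natCast_zmod_val]
      rw [e]; exact h1 _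
    rw [← Finset.prod_map_toList]
    rw [map_list_prod]
    exact List.prod_isUnit fun a ha => by
      obtain ⟨q, hq, rfl⟩ := List.mem_map.1 ha
      obtain ⟨c, -, rfl⟩ := List.mem_map.1 hq
      exact h4 c
  rw [h2] at h3
  exact not_isUnit_zero h3

end CfsgLib.Blocks.Lattice
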