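import Cfsg.Agent.Lib.Blocks.Local
import Cfsg.Agent.Lib.Blocks.Parts
import Cfsg.Agent.Lib.Char.Quotient
import Mathlib.LinearAlgebra.Matrix.ToLin
import Mathlib.LinearAlgebra.InvariantBasisNumber
import Mathlib.RingTheory.Nilpotent.Defs

/-!
# Blocks of a group with normal Sylow `p`-subgroup
-/

set_option autoImplicit false

namespace CfsgLib.Blocks

open Cfsg
open scoped Classical ComplexConjugate

variable {p : ℕ} {M : Ideal AlgInt}

/-- On a group of order prime to `p` a local function is determined modulo `M` by `omega`. -/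
theorem LI_of_omega_of_not_dvd {Q : Type*} [Group Q] [Fintype Q] (hM : IsPModular p M)
    (hQ : ¬ p ∣ Nat.card Q) {f : Q → ℂ} (hf : IsClassFunction Q f)
    (h : ∀ ψ : IrrCharacter Q, MemLocalIdeal M (omega (ψ : Q → ℂ) f)) (q : Q) :
    MemLocalIdeal M (f q) := by
  rw [← fourierInv_omega hf]
  refine LI.mul_left hM (LR.inv hM (LR.natCast hM _) fun hI => hQ ((LI.natCast_iff hM _).1 hI))
    (LI.sum hM fun ψ _ => LI.mul_right hM (h ψ)
      (LR.mul hM (LR.of_isIntegral hM (irr_isIntegral ψ 1)) (LR.of_isIntegral hM (irr_isIntegral ψ _))))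

variable {X : Type*} [Group X] [Fintype X] {P : Subgroup X} [P.Normal]

/-- A function on regular elements of `C(P)` with all `omega` in the local ideal is zero modulo
`M`. -/
theorem LI_of_omega_regular (hM : IsPModular p M) (hP : IsPGroup p P) (hidx : ¬ p ∣ P.index)
    {f : X → ℂ} (hf : IsClassFunction X f) (hR : ∀ x, MemLocalRing M (f x))
    (hs : ∀ x, p ∣ orderOf x → f x = 0)
    (h : ∀ χ : IrrCharacter X, MemLocalIdeal M (omega (χ : X → ℂ) f)) {x : X}
    (hx : x ∈ Subgroup.centralizer (P : Set X)) : MemLocalIdeal M (f x) := by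
  by_cases hxs : p ∣ orderOf x
  · rw [hs x hxs]; exact LI.zero hM
  haveI := Fact.mk hM.1
  set K := Subgroup.centralizer (P : Set X)
  set Z := P.subgroupOf K
  have hψ : ∀ ψ : IrrCharacter K, MemLocalIdeal M (omega (ψ : K → ℂ) fun k : K => f k) := by
    intro ψ
    obtain ⟨χ, hχ⟩ := exists_brLam_eval hM hP (le_refl K) (centralizer_le_normalizer P) ψ
    have e : brTrunc P K f = fun k : K => f k := funext fun k => if_pos k.2
    have h2 := hχ f hf hR
    rw [e] at h2
    have h3 := LI.add hM h2 (h χ)
    rwa [sub_add_cancel] at h3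
  haveI : Z.Normal := inferInstance
  haveI : Fintype (K ⧸ Z) := Fintype.ofFinite _
  have hQ : ¬ p ∣ Nat.card (K ⧸ Z) := fun hd => hidx (hd.trans (by
    rw [← Subgroup.index_eq_card]
    exact Subgroup.relIndex_dvd_index_of_normal P K))
  let g : K ⧸ Z → ℂ := fun q => ∑ k : K, if QuotientGroup.mk' Z k = q then f k else 0
  have hgcl : IsClassFunction (K ⧸ Z) g := by
    intro q r
    obtain ⟨a, rfl⟩ := QuotientGroup.mk'_surjective Z r
    refine (Fintype.sum_equiv (MulAut.conj a).toEquiv _ _ fun k => ?_).symm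
    have e1 : f (((MulAut.conj a).toEquiv k : K) : X) = f k := hf (k : X) (a : X)
    rw [e1]
    refine if_congr ?_ rfl rfl
    show _ ↔ QuotientGroup.mk' Z (a * k * a⁻¹) = _
    rw [map_mul, map_mul, map_inv, mul_left_inj, mul_right_inj]
  have hg : ∀ ψ : IrrCharacter (K ⧸ Z), MemLocalIdeal M (omega (ψ : K ⧸ Z → ℂ) g) := by
    intro ψ
    have hi := hψ ⟨_, CfsgLib.Char.IsIrrCharacter.comp_surjective ψ.2 (QuotientGroup.mk' Z)
      (QuotientGroup.mk'_surjective Z)⟩
    refine (congrArg (MemLocalIdeal M) ?_).mp hi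
    rw [omega, omega]
    refine congrArg₂ (· / ·) ?_ (by simp)
    simp only [g, Finset.sum_mul, ite_mul, zero_mul, Function.comp_apply]
    rw [Finset.sum_comm]
    refine Finset.sum_congr rfl fun k _ => ?_
    rw [Finset.sum_ite_eq, if_pos (Finset.mem_univ _)]
  have hval := LI_of_omega_of_not_dvd hM hQ hgcl hg (QuotientGroup.mk' Z ⟨x, hx⟩)
  have e : g (QuotientGroup.mk' Z ⟨x, hx⟩) = f x := by
    show ∑ k : K, _ = _
    rw [Finset.sum_eq_single (⟨x, hx⟩ : K)]
    · rw [if_pos rfl]
    · intro k _ hk
      by_cases hq : QuotientGroup.mk' Z k = QuotientGroup.mk' Z ⟨x, hx⟩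
      · rw [if_pos hq]
        have hz : (⟨x, hx⟩ : K)⁻¹ * k ∈ Z := QuotientGroup.eq.1 hq.symm
        set z := (⟨x, hx⟩ : K)⁻¹ * k with hzdef
        refine hs _ (by_contra fun hreg => hk ?_)
        have hzP : (z : X) ∈ P := hz
        obtain ⟨j, hj⟩ := IsPGroup.iff_orderOf.1 hP ⟨_, hzP⟩
        rw [Subgroup.orderOf_mk] at hj
        have hcomm : Commute (z : X) x := (Subgroup.mem_centralizer_iff.1 hx _ hzP)
        have hk' : (k : X) = (z : X) * x := by
          rw [hcomm.eq, hzdef]; simp
        have h1 : IsPPart p (k : X) (z : X) := hk' ▸ isPPart_mul hcomm hj hxs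
        have h2 : IsPPart p (k : X) 1 :=
          ⟨k, one_mul _, Commute.one_left _, ⟨0, by simp⟩, hreg⟩
        have h3 := isPPart_unique hM.1 h1 h2
        exact Subtype.ext (by rw [hk', h3, one_mul])
      · rw [if_neg hq]
    · simp
  rwa [e] at hval

/-- With a normal Sylow subgroup the blocks are as many as the regular classes centralizing it. -/
theorem card_blocks_of_normal_sylow (hM : IsPModular p M) (hP : IsPGroup p P)
    (hidx : ¬ p ∣ P.index) :
    Nat.card {B : Set (IrrCharacter X) // IsPBlock M B}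
      = Nat.card {C : ConjClasses X // ∀ n : X, ConjClasses.mk n = C →
          ¬ p ∣ orderOf n ∧ n ∈ Subgroup.centralizer (P : Set X)} := by
  haveI := Fact.mk hM.1
  set n₀ := (Nat.card X).factorization p
  have hcardP : Nat.card P = p ^ n₀ := by
    obtain ⟨k, hk⟩ := IsPGroup.iff_card.1 hP
    have e : n₀ = k := by
      simp only [n₀]
      rw [← Subgroup.card_mul_index P, hk, Nat.factorization_mul (pow_ne_zero _ hM.1.ne_zero)
        Subgroup.index_ne_zero_of_finite, Finsupp.add_apply, Nat.Prime.factorization_pow hM.1,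
        Finsupp.single_eq_same, Nat.factorization_eq_zero_of_not_dvd hidx, add_zero]
    rw [hk, e]
  apply le_antisymm
  · have hdef : ∀ B : Set (IrrCharacter X), IsPBlock M B → n₀ ≤ blockDefect p B := fun B hB => by
      obtain ⟨D, hD⟩ := exists_isDefectGroup hM hB
      have := Subgroup.card_le_of_le (le_defectGroup_of_normal hM hB hP hD)
      rw [hcardP, card_defectGroup hM hB hD] at this
      exact (Nat.pow_le_pow_iff_right hM.1.one_lt).1 this
    refine le_trans (Nat.card_le_card_of_injective
      (fun B => (⟨B.1, B.2, hdef B.1 B.2⟩ :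
        {B : Set (IrrCharacter X) // IsPBlock M B ∧ n₀ ≤ blockDefect p B}))
      (fun B B' h => Subtype.ext (congrArg (fun u : {B : Set (IrrCharacter X) //
        IsPBlock M B ∧ n₀ ≤ blockDefect p B} => u.1) h))) ?_
    refine le_trans (card_blocks_defect_ge_le hM n₀) (Nat.card_le_card_of_injective
      (fun C => ⟨C.1, fun n hn => ?_⟩) fun C C' h => Subtype.ext (congrArg Subtype.val h :))
    obtain ⟨g, hg, hreg, hge⟩ := C.2
    obtain ⟨w, rfl⟩ := isConj_iff.1 (ConjClasses.mk_eq_mk_iff_isConj.1 (hg.trans hn.symm))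
    refine ⟨by rwa [show orderOf (w * g * w⁻¹) = orderOf g from (MulAut.conj w).orderOf_eq g],
      mem_centralizer_conj (by rw [Subgroup.normalizer_eq_top]; exact Subgroup.mem_top w) ?_⟩
    -- a Sylow subgroup of the centralizer of `g` is all of `P`
    obtain ⟨S⟩ : Nonempty (Sylow p (Subgroup.centralizer ({g} : Set X))) := inferInstance
    set T := (S : Subgroup (Subgroup.centralizer ({g} : Set X))).map
      (Subgroup.centralizer ({g} : Set X)).subtype
    have hT : IsPGroup p T := IsPGroup.map S.isPGroup' _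
    have hTP : IsPGroup p (T ⊔ P : Subgroup X) := hT.to_sup_of_normal_right hP
    have hTcard : p ^ n₀ ≤ Nat.card T := by
      rw [Subgroup.card_map_of_injective (Subgroup.subtype_injective _), S.card_eq_multiplicity]
      exact Nat.pow_le_pow_right hM.1.pos hge
    have hsup : Nat.card (T ⊔ P : Subgroup X) ≤ p ^ n₀ := by
      obtain ⟨j, hj⟩ := IsPGroup.iff_card.1 hTP
      rw [hj]
      exact Nat.pow_le_pow_right hM.1.pos ((hM.1.pow_dvd_iff_le_factorization Nat.card_pos.ne').1
        (hj ▸ Subgroup.card_subgroup_dvd_card _))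
    have e1 : T = T ⊔ P := Subgroup.eq_of_le_of_card_ge le_sup_left (hsup.trans hTcard)
    refine Subgroup.mem_centralizer_iff.2 fun u hu => ?_
    obtain ⟨⟨v, hv⟩, -, rfl⟩ := (e1 ▸ Subgroup.mem_sup_right hu : u ∈ T)
    exact Subgroup.mem_centralizer_singleton_iff.1 hv
  · haveI : Nontrivial ((localSubring hM) ⧸ (localMaxIdeal hM)) :=
      Ideal.Quotient.nontrivial_iff.2 fun htop => LI.not_one hM (by
        have := mem_localMaxIdeal.1 (show (1 : localSubring hM) ∈ localMaxIdeal hM by
          rw [htop]; trivial)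
        simpa using this)
    set κ := {C : ConjClasses X // ∀ n : X, ConjClasses.mk n = C →
      ¬ p ∣ orderOf n ∧ n ∈ Subgroup.centralizer (P : Set X)}
    set ι := {B : Set (IrrCharacter X) // IsPBlock M B}
    choose χ hχ using fun i : ι => IsPBlock.nonempty hM i.2
    let mk := Ideal.Quotient.mk (localMaxIdeal hM)
    let A : Matrix ι κ ((localSubring hM) ⧸ (localMaxIdeal hM)) := Matrix.of fun i C =>
      mk ⟨centralChar (χ i : X → ℂ) C.1.out, centralChar_LR hM _ _⟩
    rw [Nat.card_eq_fintype_card, Nat.card_eq_fintype_card]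
    refine card_le_of_injective ((localSubring hM) ⧸ (localMaxIdeal hM)) A.mulVecLin ?_
    rw [← LinearMap.ker_eq_bot, LinearMap.ker_eq_bot']
    intro v hv
    choose a ha using fun C => Ideal.Quotient.mk_surjective (v C)
    let f : X → ℂ := fun x => ∑ C : κ, (a C : ℂ) * classInd C.1.out x
    have hf : IsClassFunction X f := fun x y => Finset.sum_congr rfl fun C _ => by
      rw [classInd_isClassFunction C.1.out x y]
    have hR : ∀ x, MemLocalRing M (f x) := fun x =>
      LR.sum hM fun C _ => LR.mul hM (a C).2 (classInd_LR hM _ _)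
    have hs : ∀ x, p ∣ orderOf x → f x = 0 := fun x hx => Finset.sum_eq_zero fun C _ => by
      rw [classInd, if_neg fun hc => (C.2 x ((ConjClasses.mk_eq_mk_iff_isConj.2 hc.symm).trans
        (Quotient.out_eq _))).1 hx, mul_zero]
    have hom : ∀ θ : IrrCharacter X, MemLocalIdeal M (omega (θ : X → ℂ) f) := by
      intro θ
      set i : ι := ⟨blockOf M (θ : X → ℂ), isPBlock_blockOf θ⟩
      have h1 : MemLocalIdeal M (omega (χ i : X → ℂ) f) := by
        have e : omega (χ i : X → ℂ) f
            = ∑ C : κ, (a C : ℂ) * centralChar (χ i : X → ℂ) C.1.out := by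
          simp only [← omega_classInd, omega, f, Finset.sum_mul, Finset.sum_div]
          rw [Finset.sum_comm]
          refine Finset.sum_congr rfl fun C _ => ?_
          rw [Finset.mul_sum]
          exact Finset.sum_congr rfl fun x _ => by ring
        rw [e]
        have h2 := congrFun hv i
        simp only [Matrix.mulVecLin_apply, Matrix.mulVec, dotProduct, A, Matrix.of_apply,
          Pi.zero_apply, ← ha, mk, ← map_mul, ← map_sum, Ideal.Quotient.eq_zero_iff_mem,
          mem_localMaxIdeal, AddSubmonoidClass.coe_finsetSum, Subring.coe_mul] at h2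
        simpa [mul_comm] using h2
      have h3 := LI.add hM (omega_congr hM (SameBlock_symm (SameBlock_symm
        (mem_blockOf.1 (hχ i)))) hf hR) h1
      rwa [sub_add_cancel] at h3
    funext C
    rw [← ha C, Pi.zero_apply, Ideal.Quotient.eq_zero_iff_mem, mem_localMaxIdeal]
    have h := LI_of_omega_regular hM hP hidx hf hR hs hom (C.2 _ (Quotient.out_eq C.1)).2
    have e : f C.1.out = (a C : ℂ) := by
      show ∑ C' : κ, _ = _
      rw [Finset.sum_eq_single C]
      · rw [classInd, if_pos (IsConj.refl _), mul_one]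
      · intro C' _ hne
        rw [classInd, if_neg fun hc => hne (Subtype.ext ?_), mul_zero]
        rw [← Quotient.out_eq C'.1, ← Quotient.out_eq C.1]
        exact ConjClasses.mk_eq_mk_iff_isConj.2 hc
      · simp
    rwa [e] at h

end CfsgLib.Blocks
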