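import Cfsg.Agent.Lib.Blocks.TIAbelian
import Cfsg.Agent.Lib.BrauerSuzuki.HomocyclicMain

/-!
# The exceptional characters for an abelian Sylow subgroup with semiregular automizer
-/

set_option autoImplicit false

namespace CfsgLib.Blocks.TIAbelian

open Cfsg CfsgLib.Blocks CfsgLib.BrauerSuzuki
open scoped Classical ComplexConjugate

section Coherence

variable {G : Type*} [Group G] [Fintype G]

/-- A norm two generalized character of degree zero is a difference of two irreducibles. -/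
theorem pair_of_norm_two (e : IrrCharacter G → ℤ) (h2 : ∑ χ, e χ * e χ = 2)
    (hd : ∑ χ, (e χ : ℂ) * (χ : G → ℂ) 1 = 0) :
    ∃ a b : IrrCharacter G, a ≠ b ∧ ∀ χ, e χ = (if χ = a then 1 else 0) - (if χ = b then 1 else 0) := by
  obtain ⟨hu, hc⟩ := unit_coeff Finset.univ e 2 (by norm_num) h2
  obtain ⟨u, v, huv, hS⟩ := Finset.card_eq_two.1 hc
  have hz : ∀ χ, χ ≠ u → χ ≠ v → e χ = 0 := fun χ h1 h3 => by
    by_contra h
    have : χ ∈ ({u, v} : Finset (IrrCharacter G)) := hS ▸ Finset.mem_filter.2 ⟨Finset.mem_univ _, h⟩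
    simp [h1, h3] at this
  have hu0 : e u ≠ 0 := (Finset.mem_filter.1 (hS.symm ▸ Finset.mem_insert_self u _ :
    u ∈ Finset.univ.filter fun i => e i ≠ 0)).2
  have hv0 : e v ≠ 0 := (Finset.mem_filter.1 (hS.symm ▸ (by simp) :
    v ∈ Finset.univ.filter fun i => e i ≠ 0)).2
  rw [← Finset.sum_subset (Finset.subset_univ ({u, v} : Finset (IrrCharacter G))) (fun χ _ hχ => by
      simp only [Finset.mem_insert, Finset.mem_singleton, not_or] at hχ
      rw [hz χ hχ.1 hχ.2, Int.cast_zero, zero_mul]), Finset.sum_pair huv, irr_one_eq, irr_one_eq] at hd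
  have hd' : e u * (charDegree (u : G → ℂ) : ℤ) + e v * (charDegree (v : G → ℂ) : ℤ) = 0 := by exact_mod_cast hd
  have du : (0 : ℤ) < charDegree (u : G → ℂ) := by exact_mod_cast charDegree_pos u
  have dv : (0 : ℤ) < charDegree (v : G → ℂ) := by exact_mod_cast charDegree_pos v
  rcases hu u (Finset.mem_univ _) hu0 with e1 | e1 <;> rcases hu v (Finset.mem_univ _) hv0 with e2 | e2 <;>
    rw [e1, e2] at hd'
  · omega
  · refine ⟨u, v, huv, fun χ => ?_⟩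
    by_cases h1 : χ = u
    · subst h1; simp [e1, huv]
    by_cases h3 : χ = v
    · subst h3; simp [e2, Ne.symm huv]
    simp [hz χ h1 h3, h1, h3]
  · refine ⟨v, u, huv.symm, fun χ => ?_⟩
    by_cases h1 : χ = u
    · subst h1; simp [e1, huv]
    by_cases h3 : χ = v
    · subst h3; simp [e2, Ne.symm huv]
    simp [hz χ h1 h3, h1, h3]
  · omega

/-- Differences meeting pairwise with inner product one have a common member. -/
theorem star {κ : Type*} (a b : κ → IrrCharacter G) (R : κ → κ → Prop) (hab : ∀ i, a i ≠ b i)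
    (hR : ∀ i j, R i j → a i = a j ∧ b i = b j)
    (hn : ∀ i j, ¬ R i j → (a i = a j ∧ b i ≠ b j) ∨ (b i = b j ∧ a i ≠ a j)) (i₁ : κ) :
    (∀ i, a i = a i₁) ∨ (∀ i, b i = b i₁) := by
  by_contra hcon
  rw [not_or, not_forall, not_forall] at hcon
  obtain ⟨⟨j, hj⟩, k, hk⟩ := hcon
  have h1 : b j = b i₁ := by
    by_cases h : R j i₁
    · exact (hR _ _ h).2
    · exact ((hn _ _ h).resolve_left fun e => hj e.1).1
  have h3 : a k = a i₁ := by
    by_cases h : R k i₁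
    · exact (hR _ _ h).1
    · exact ((hn _ _ h).resolve_right fun e => hk e.1).1
  by_cases h : R j k
  · exact hj ((hR _ _ h).1.trans h3)
  · rcases hn _ _ h with e | e
    · exact hj (e.1.trans h3)
    · exact hk (e.1.symm.trans h1)

end Coherence

variable {G : Type*} [Group G] [Fintype G] {p : ℕ} [hp : Fact p.Prime] {P : Sylow p G}

/-- The conjugates of a linear character of `P` under the automizer. -/
noncomputable def orb (P : Sylow p G) (ψ : ↥(P : Subgroup G) →* ℂˣ) : Finset (↥(P : Subgroup G) →* ℂˣ) :=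
  (Finset.univ : Finset (autGroup P)).image fun α : autGroup P => ψ.comp (α : MulAut ↥(P : Subgroup G)).toMonoidHom

theorem exceptional (h : FrobSylow P) (hm : autCard P + 1 < Nat.card (P : Subgroup G))
    {M : Ideal AlgInt} (hM : IsPModular p M) :
    ∃ (X Y : Finset (IrrCharacter G)) (a : IrrCharacter G → ℤ) (d δ : ℤ)
      (ζ : (↥(P : Subgroup G) →* ℂˣ) → IrrCharacter G),
      (∀ χ, χ ∈ principalBlock M G ↔ χ ∈ X ∨ χ ∈ Y) ∧ Disjoint X Y ∧ trivChar G ∈ X ∧ X.card ≤ autCard P ∧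
      autCard P * Y.card + 1 = Nat.card (P : Subgroup G) ∧ (δ = 1 ∨ δ = -1) ∧
      (∀ χ ∈ X, a χ ≠ 0 ∧ ∀ z y : G, IsPPart p z y → y ∈ (P : Subgroup G) → y ≠ 1 → (χ : G → ℂ) z = (a χ : ℂ)) ∧
      (∀ ψ, ψ ≠ 1 → ζ ψ ∈ Y) ∧ (∀ η ∈ Y, ∃ ψ, ψ ≠ 1 ∧ ζ ψ = η) ∧
      (∀ ψ μ, ψ ≠ 1 → μ ≠ 1 → (ζ ψ = ζ μ ↔ μ ∈ orb P ψ)) ∧
      (∀ ψ, ψ ≠ 1 → ∀ (z : G) (y : ↥(P : Subgroup G)), IsPPart p z (y : G) → (y : G) ≠ 1 →
        (ζ ψ : G → ℂ) z = (d : ℂ) + (δ : ℂ) * ∑ μ ∈ orb P ψ, ((μ y : ℂˣ) : ℂ)) ∧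
      (d - δ) ^ 2 + ((Y.card : ℤ) - 1) * d ^ 2 + ∑ χ ∈ X, a χ ^ 2 = (autCard P : ℤ) + 1 ∧
      (∀ η ∈ Y, ∀ η' ∈ Y, ∀ g : G, ¬ p ∣ orderOf g → (η : G → ℂ) g = (η' : G → ℂ) g) ∧
      ∀ η ∈ Y, ∀ g : G, ¬ p ∣ orderOf g →
        ((Y.card : ℂ) * d - δ) * (η : G → ℂ) g + ∑ χ ∈ X, (a χ : ℂ) * (χ : G → ℂ) g = 0 := by
  letI : CommGroup ↥(P : Subgroup G) :=
    { (inferInstance : Group ↥(P : Subgroup G)) with
      mul_comm := fun a b => Subtype.ext (h.comm a a.2 b b.2) }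
  letI : Fintype (↥(P : Subgroup G) →* ℂˣ) := by
    haveI : Finite (↥(P : Subgroup G) →* ℂˣ) :=
      Finite.of_equiv _ (CommGroup.monoidHom_mulEquiv_of_hasEnoughRootsOfUnity ↥(P : Subgroup G) ℂ).some.toEquiv.symm
    exact Fintype.ofFinite _
  set N := Fintype.card ↥(P : Subgroup G) with hN
  have hNat : Nat.card ↥(P : Subgroup G) = N := Nat.card_eq_fintype_card
  have hN0 : (N : ℂ) ≠ 0 := Nat.cast_ne_zero.2 Fintype.card_ne_zero
  set m := autCard P with hmdef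
  have hmA : Fintype.card (autGroup P) = m := by rw [hmdef, autCard, Nat.card_eq_fintype_card]
  have hm0 : (m : ℂ) ≠ 0 := Nat.cast_ne_zero.2 h.autCard_pos.ne'
  let tw : autGroup P → (↥(P : Subgroup G) →* ℂˣ) → (↥(P : Subgroup G) →* ℂˣ) :=
    fun α ψ => ψ.comp (α : MulAut ↥(P : Subgroup G)).toMonoidHom
  have htw1 : ∀ ψ, tw 1 ψ = ψ := fun ψ => MonoidHom.ext fun x => rfl
  have htwmul : ∀ α β ψ, tw α (tw β ψ) = tw (β * α) ψ := fun α β ψ => MonoidHom.ext fun x => rfl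
  have horb : ∀ ψ μ, μ ∈ orb P ψ ↔ ∃ α, tw α ψ = μ := fun ψ μ => by
    simp only [orb, Finset.mem_image, Finset.mem_univ, true_and, tw]
  have hfree : ∀ α ψ, ψ ≠ 1 → tw α ψ = ψ → α = 1 := by
    intro α ψ hψ e
    by_contra hα
    apply hψ
    have hinj : Function.Injective fun x : ↥(P : Subgroup G) => x⁻¹ * (α : MulAut ↥(P : Subgroup G)) x := by
      intro u v e'
      simp only at e'
      by_contra huv
      refine hα (Subtype.ext (h.eq_one_of_fixed α.2 (x := u * v⁻¹) (fun e1 => huv (mul_inv_eq_one.1 e1)) ?_))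
      rw [map_mul, map_inv]
      calc (α : MulAut ↥(P : Subgroup G)) u * ((α : MulAut ↥(P : Subgroup G)) v)⁻¹
          = u * (u⁻¹ * (α : MulAut ↥(P : Subgroup G)) u) * ((α : MulAut ↥(P : Subgroup G)) v)⁻¹ := by
            rw [mul_inv_cancel_left]
        _ = u * (v⁻¹ * (α : MulAut ↥(P : Subgroup G)) v) * ((α : MulAut ↥(P : Subgroup G)) v)⁻¹ := by rw [e']
        _ = _ := by rw [mul_assoc, mul_inv_cancel_right]
    ext y
    obtain ⟨x, rfl⟩ := Finite.surjective_of_injective hinj y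
    have e' : ψ ((α : MulAut ↥(P : Subgroup G)) x) = ψ x := DFunLike.congr_fun e x
    simp [e']
  have htwinj : ∀ ψ, ψ ≠ 1 → Function.Injective fun α => tw α ψ := by
    intro ψ hψ α β e
    simp only at e
    have := congrArg (tw β⁻¹) e
    rw [htwmul, htwmul, mul_inv_cancel, htw1] at this
    exact (mul_inv_eq_one.1 (hfree _ ψ hψ this))
  have hself : ∀ ψ, ψ ∈ orb P ψ := fun ψ => (horb ψ ψ).2 ⟨1, htw1 ψ⟩
  have hsymm : ∀ ψ μ, μ ∈ orb P ψ → ψ ∈ orb P μ := fun ψ μ hμ => by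
    obtain ⟨α, rfl⟩ := (horb ψ μ).1 hμ
    exact (horb _ _).2 ⟨α⁻¹, by rw [htwmul, mul_inv_cancel, htw1]⟩
  have htrans : ∀ ψ μ ν, μ ∈ orb P ψ → ν ∈ orb P μ → ν ∈ orb P ψ := fun ψ μ ν h1 h2 => by
    obtain ⟨α, rfl⟩ := (horb ψ μ).1 h1
    obtain ⟨β, rfl⟩ := (horb _ ν).1 h2
    exact (horb _ _).2 ⟨α * β, (htwmul β α ψ).symm⟩
  have horb1 : ∀ ψ, ψ ≠ 1 → (1 : ↥(P : Subgroup G) →* ℂˣ) ∉ orb P ψ := fun ψ hψ hc => by
    obtain ⟨α, hα⟩ := (horb ψ 1).1 hc
    have := congrArg (tw α⁻¹) hα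
    rw [htwmul, mul_inv_cancel, htw1] at this
    exact hψ (this.trans (MonoidHom.ext fun x => rfl))
  have horbcard : ∀ ψ, ψ ≠ 1 → (orb P ψ).card = m := fun ψ hψ => by
    rw [orb, Finset.card_image_of_injective _ (htwinj ψ hψ), Finset.card_univ, hmA]
  -- the functions
  let ξ : (↥(P : Subgroup G) →* ℂˣ) → ↥(P : Subgroup G) → ℂ := fun ψ x => ∑ α, (tw α ψ x : ℂ)
  let fl : (↥(P : Subgroup G) →* ℂˣ) → G → ℂ :=
    fun ψ g => if hg : g ∈ (P : Subgroup G) then (m : ℂ) - ξ ψ ⟨g, hg⟩ else 0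
  have hfl : ∀ ψ (x : ↥(P : Subgroup G)), fl ψ x = (m : ℂ) - ξ ψ x := fun ψ x => by simp [fl]
  have hξα : ∀ ψ (β : autGroup P) x, ξ ψ ((β : MulAut ↥(P : Subgroup G)) x) = ξ ψ x := fun ψ β x =>
    Fintype.sum_equiv (Equiv.mulRight β) _ _ fun α => rfl
  have hinv : ∀ ψ, FInv P (fl ψ) := by
    intro ψ g x hx hgx
    obtain ⟨β, hβ, e⟩ := h.exists_aut_of_isConj (x := ⟨x, hx⟩) (y := ⟨_, hgx⟩) (isConj_iff.2 ⟨g, rfl⟩)
    have := hfl ψ ⟨_, hgx⟩
    rw [← e, hξα ψ ⟨β, hβ⟩, ← hfl] at this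
    rwa [e] at this
  have hfl1 : ∀ ψ, fl ψ 1 = 0 := fun ψ => by
    have := hfl ψ 1
    simp only [OneMemClass.coe_one] at this
    rw [this]
    simp [ξ, hmA]
  set F : (↥(P : Subgroup G) →* ℂˣ) → G → ℂ := fun ψ => sFun P (fl ψ) with hF
  have hgc : ∀ ψ, IsGeneralizedCharacter G (F ψ) := fun ψ => by
    refine gc_sFun (hinv ψ) ?_
    have e : (fun x : ↥(P : Subgroup G) => fl ψ x) =
        m • (fun _ : ↥(P : Subgroup G) => (1 : ℂ)) - fun x => ∑ α, (tw α ψ x : ℂ) := by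
      funext x
      simp [hfl, ξ]
    rw [e]
    refine gc_sub (gc_nsmul gc_one m) ?_
    rw [show (fun x => ∑ α, (tw α ψ x : ℂ)) = ∑ α, (fun x => (tw α ψ x : ℂ)) by funext x; simp]
    refine Finset.sum_induction _ (IsGeneralizedCharacter ↥(P : Subgroup G)) (fun a b => gc_add) ?_
      fun α _ => Char.IsCharacter.isGeneralizedCharacter (Char.isCharacter_hom _)
    have := gc_sub (G := ↥(P : Subgroup G)) gc_one gc_one
    rwa [sub_self] at this
  have hF_const : ∀ ψ z, (∃ k, orderOf z = p ^ k) → z ≠ 1 → ∀ s : Subgroup.centralizer ({z} : Set G),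
      IsPRegular p s → F ψ (z * (s : G)) = F ψ z := by
    rintro ψ z ⟨k, hk⟩ - s hs
    have e1 : pEl p (z * (s : G)) = z := pEl_mul (Subgroup.mem_centralizer_singleton_iff.1 s.2).symm hk
      (by rw [Subgroup.orderOf_coe]; exact hs)
    have e2 : pEl p z = z := by
      have := pEl_mul (Commute.one_right z) hk (by rw [orderOf_one]; exact hp.out.not_dvd_one)
      rwa [mul_one] at this
    obtain ⟨u, hu⟩ := exists_conj_pEl P z
    show sFun P (fl ψ) _ = sFun P (fl ψ) z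
    rw [sFun_eq (hinv ψ) hu, sFun_eq (hinv ψ) (u := u) (by rw [e1]; rwa [e2] at hu), e1, e2]
  have hconj : ∀ ψ x, conj (ξ ψ x) = ∑ α, (((tw α ψ)⁻¹ : ↥(P : Subgroup G) →* ℂˣ) x : ℂ) := fun ψ x => by
    simp only [ξ, map_sum, Homocyclic.conj_hom]
  have hsum0 : ∀ ψ, ψ ≠ 1 → ∑ x, ξ ψ x = 0 := by
    intro ψ hψ
    simp only [ξ]
    rw [Finset.sum_comm, Finset.sum_eq_zero]
    intro α _
    rw [Homocyclic.sum_hom, if_neg]
    exact fun e => horb1 ψ hψ ((horb ψ 1).2 ⟨α, e⟩)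
  have hξξ : ∀ ψ μ, ∑ x, ξ ψ x * conj (ξ μ x) = ∑ α, ∑ β, if tw α ψ = tw β μ then (N : ℂ) else 0 := by
    intro ψ μ
    simp only [hconj]
    simp only [ξ, Finset.sum_mul_sum]
    rw [Finset.sum_comm]
    refine Finset.sum_congr rfl fun α _ => ?_
    rw [Finset.sum_comm]
    refine Finset.sum_congr rfl fun β _ => ?_
    calc _ = ∑ x, ((tw α ψ * (tw β μ)⁻¹ : ↥(P : Subgroup G) →* ℂˣ) x : ℂ) :=
          Finset.sum_congr rfl fun x _ => by rw [MonoidHom.mul_apply, Units.val_mul]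
      _ = _ := by
        rw [Homocyclic.sum_hom]
        exact if_congr ⟨fun e => MonoidHom.ext fun x => mul_inv_eq_one.mp (DFunLike.congr_fun e x),
          fun e => by rw [e]; ext x; simp⟩ rfl rfl
  have hmN : ((m * N : ℕ) : ℂ) ≠ 0 := by push_cast; exact mul_ne_zero hm0 hN0
  have hip : ∀ ψ μ, ψ ≠ 1 → μ ≠ 1 → classInner (F ψ) (F μ) * ((m * N : ℕ) : ℂ)
      = (m : ℂ) * m * N + ∑ x, ξ ψ x * conj (ξ μ x) := by
    intro ψ μ hψ hμ
    rw [hF, classInner_sFun h (hinv ψ) (hfl1 ψ) (sFun_isClassFunction (hinv μ)) (hF_const μ), hNat, mul_right_comm,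
      inv_mul_cancel₀ hmN, one_mul]
    simp only [sFun_coe (hinv μ), hfl, map_sub, map_natCast]
    calc ∑ x, ((m : ℂ) - ξ ψ x) * ((m : ℂ) - conj (ξ μ x))
        = ∑ _x : ↥(P : Subgroup G), (m : ℂ) * m - (m : ℂ) * conj (∑ x, ξ μ x) - (m : ℂ) * ∑ x, ξ ψ x
            + ∑ x, ξ ψ x * conj (ξ μ x) := by
          simp only [map_sum, Finset.mul_sum, ← Finset.sum_sub_distrib, ← Finset.sum_add_distrib]
          exact Finset.sum_congr rfl fun x _ => by ring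
      _ = _ := by
          rw [hsum0 ψ hψ, hsum0 μ hμ, map_zero, Finset.sum_const, Finset.card_univ, nsmul_eq_mul]
          ring
  have hnorm : ∀ ψ, ψ ≠ 1 → classInner (F ψ) (F ψ) = (m : ℂ) + 1 := by
    intro ψ hψ
    apply mul_right_cancel₀ hmN
    rw [hip ψ ψ hψ hψ, hξξ, Finset.sum_congr rfl (g := fun _ => (N : ℂ)) fun α _ => by
      rw [Finset.sum_eq_single α (fun β _ hne => if_neg fun e => hne (htwinj ψ hψ e).symm)
        (fun hc => absurd (Finset.mem_univ α) hc), if_pos rfl]]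
    simp only [Finset.sum_const, Finset.card_univ, hmA, nsmul_eq_mul]
    push_cast
    ring
  have hcross : ∀ ψ μ, ψ ≠ 1 → μ ≠ 1 → μ ∉ orb P ψ → classInner (F ψ) (F μ) = (m : ℂ) := by
    intro ψ μ hψ hμ hR
    apply mul_right_cancel₀ hmN
    rw [hip ψ μ hψ hμ, hξξ, Finset.sum_eq_zero fun α _ => Finset.sum_eq_zero fun β _ => if_neg fun e => hR ?_]
    · push_cast; ring
    · exact htrans _ _ _ ((horb ψ _).2 ⟨α, rfl⟩) (e ▸ hsymm _ _ ((horb μ _).2 ⟨β, rfl⟩))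
  set c : (↥(P : Subgroup G) →* ℂˣ) → IrrCharacter G → ℤ := fun ψ => coeff (F ψ) with hc
  have hcRel : ∀ ψ μ, μ ∈ orb P ψ → c ψ = c μ := by
    intro ψ μ hμ
    obtain ⟨γ, rfl⟩ := (horb ψ μ).1 hμ
    have : fl (tw γ ψ) = fl ψ := by
      funext g
      by_cases hg : g ∈ (P : Subgroup G)
      · simp only [fl, dif_pos hg, sub_right_inj, ξ]
        exact Fintype.sum_equiv (Equiv.mulLeft γ) _ _ fun α => by simp only [Equiv.coe_mulLeft, ← htwmul]
      · simp only [fl, dif_neg hg]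
    simp only [c, F, this]
  have hip' : ∀ ψ μ, ψ ≠ 1 → μ ≠ 1 →
      ∑ χ, c ψ χ * c μ χ = (m : ℤ) + if μ ∈ orb P ψ then 1 else 0 := by
    intro ψ μ hψ hμ
    apply Int.cast_injective (α := ℂ)
    rw [← classInner_eq_sum_coeff (hgc ψ) (hgc μ)]
    by_cases hR : μ ∈ orb P ψ
    · have e1 : classInner (F ψ) (F μ) = classInner (F ψ) (F ψ) := by
        rw [classInner_eq_sum_coeff (hgc ψ) (hgc μ), classInner_eq_sum_coeff (hgc ψ) (hgc ψ)]
        simp only [show coeff (F μ) = coeff (F ψ) from (hcRel ψ μ hR).symm]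
      rw [if_pos hR, e1, hnorm ψ hψ]
      push_cast; ring
    · rw [if_neg hR, hcross ψ μ hψ hμ hR]
      push_cast; ring
  have hdeg : ∀ ψ g, ¬ p ∣ orderOf g → ∑ χ, (c ψ χ : ℂ) * (χ : G → ℂ) g = 0 := fun ψ g hg => by
    rw [← eq_sum_coeff (hgc ψ)]
    exact (sFun_of_odd (hinv ψ) hg).trans (hfl1 ψ)
  have hblock : ∀ ψ χ, χ ∉ principalBlock M G → c ψ χ = 0 := by
    intro ψ χ hn
    have e := cast_coeff (hgc ψ) χ
    rw [hF, classInner_sFun_eq_zero h hM (hinv ψ) (hfl1 ψ) hn] at e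
    exact_mod_cast e
  have hcard : Fintype.card (↥(P : Subgroup G) →* ℂˣ) = N := by
    rw [Fintype.card_eq_nat_card, CommGroup.card_monoidHom_of_hasEnoughRootsOfUnity, hNat]
  obtain ⟨ψ₀, hψ₀⟩ : ∃ ψ₀ : ↥(P : Subgroup G) →* ℂˣ, ψ₀ ≠ 1 := by
    by_contra hno
    push Not at hno
    have : Fintype.card (↥(P : Subgroup G) →* ℂˣ) ≤ 1 := Fintype.card_le_one_iff.2 fun a b => (hno a).trans (hno b).symm
    rw [hNat] at hm
    omega
  let κ := {ψ : ↥(P : Subgroup G) →* ℂˣ // ψ ≠ 1 ∧ ψ ∉ orb P ψ₀}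
  obtain ⟨κ₁⟩ : Nonempty κ := by
    obtain ⟨μ, -, hμ⟩ := Finset.exists_mem_notMem_of_card_lt_card
      (s := insert 1 (orb P ψ₀)) (t := Finset.univ) (by
        rw [Finset.card_univ, hcard, Finset.card_insert_of_notMem (horb1 ψ₀ hψ₀), horbcard ψ₀ hψ₀]
        rwa [hNat] at hm)
    simp only [Finset.mem_insert, not_or] at hμ
    exact ⟨⟨μ, hμ⟩⟩
  have he : ∀ i : κ, ∃ u v : IrrCharacter G, u ≠ v ∧
      ∀ χ, c ψ₀ χ - c i.1 χ = (if χ = u then 1 else 0) - (if χ = v then 1 else 0) := by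
    intro i
    refine pair_of_norm_two _ ?_ ?_
    · simp only [sub_mul, mul_sub, Finset.sum_sub_distrib]
      rw [hip' _ _ hψ₀ hψ₀, hip' _ _ i.2.1 i.2.1, hip' _ _ hψ₀ i.2.1, hip' _ _ i.2.1 hψ₀, if_pos (hself _),
        if_pos (hself _), if_neg i.2.2, if_neg fun e => i.2.2 (hsymm _ _ e)]
      ring
    · have h1 : ¬ p ∣ orderOf (1 : G) := by rw [orderOf_one]; exact hp.out.not_dvd_one
      simp only [Int.cast_sub, sub_mul, Finset.sum_sub_distrib, hdeg _ _ h1, sub_self]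
  choose u v huv hev using he
  have hR' : ∀ i j : κ, j.1 ∈ orb P i.1 → u i = u j ∧ v i = v j := by
    intro i j hij
    have hfun : ∀ χ, ((if χ = u i then (1 : ℤ) else 0) - (if χ = v i then 1 else 0))
        = (if χ = u j then 1 else 0) - (if χ = v j then 1 else 0) := fun χ => by
      rw [← hev, ← hev, hcRel _ _ hij]
    refine ⟨?_, ?_⟩
    · have := hfun (u i)
      by_contra hne
      rw [if_pos rfl, if_neg (huv i), if_neg hne] at this
      split_ifs at this <;> omega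
    · have := hfun (v i)
      by_contra hne
      rw [if_pos rfl, if_neg (huv i).symm, if_neg hne] at this
      split_ifs at this <;> omega
  have hn' : ∀ i j : κ, j.1 ∉ orb P i.1 → (u i = u j ∧ v i ≠ v j) ∨ (v i = v j ∧ u i ≠ u j) := by
    intro i j hij
    have hsum : ∑ χ, (c ψ₀ χ - c i.1 χ) * (c ψ₀ χ - c j.1 χ) = 1 := by
      simp only [sub_mul, mul_sub, Finset.sum_sub_distrib]
      rw [hip' _ _ hψ₀ hψ₀, hip' _ _ hψ₀ j.2.1, hip' _ _ i.2.1 hψ₀, hip' _ _ i.2.1 j.2.1, if_pos (hself _),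
        if_neg j.2.2, if_neg fun e => i.2.2 (hsymm _ _ e), if_neg hij]
      ring
    simp only [hev, sub_mul, mul_sub, Finset.sum_sub_distrib, ite_mul, one_mul, zero_mul, Finset.sum_ite_eq',
      Finset.mem_univ, if_true] at hsum
    by_cases e1 : u i = u j <;> by_cases e2 : v i = v j
    · have h1 : u i ≠ v j := fun e => huv i (e.trans e2.symm)
      have h3 : v i ≠ u j := fun e => huv i (e1.trans e.symm)
      rw [if_pos e1, if_pos e2, if_neg h1, if_neg h3] at hsum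
      omega
    · exact Or.inl ⟨e1, e2⟩
    · exact Or.inr ⟨e2, e1⟩
    · rw [if_neg e1, if_neg e2] at hsum
      split_ifs at hsum <;> omega
  -- the exceptional family
  obtain ⟨δ, η₀, sel, hδ, hsel, hsel0⟩ : ∃ (δ : ℤ) (η₀ : IrrCharacter G) (sel : κ → IrrCharacter G),
      (δ = 1 ∨ δ = -1) ∧ (∀ i χ, c i.1 χ = c ψ₀ χ - δ * ((if χ = sel i then 1 else 0) - (if χ = η₀ then 1 else 0))) ∧
        ∀ i, sel i ≠ η₀ := by
    rcases star u v (fun i j : κ => j.1 ∈ orb P i.1) huv hR' hn' κ₁ with hcom | hcom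
    · exact ⟨-1, u κ₁, v, Or.inr rfl, fun i χ => by have := hev i χ; rw [hcom i] at this; linarith,
        fun i e => huv i (by rw [hcom i, e])⟩
    · exact ⟨1, v κ₁, u, Or.inl rfl, fun i χ => by have := hev i χ; rw [hcom i] at this; linarith,
        fun i e => huv i (by rw [hcom i, e])⟩
  let ζ : (↥(P : Subgroup G) →* ℂˣ) → IrrCharacter G :=
    fun ψ => if hk : ψ ≠ 1 ∧ ψ ∉ orb P ψ₀ then sel ⟨ψ, hk⟩ else η₀
  have hζ0 : ∀ ψ, ψ ∈ orb P ψ₀ → ζ ψ = η₀ := fun ψ hψ => dif_neg fun hk => hk.2 hψ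
  have hζc : ∀ ψ, ψ ≠ 1 → ∀ χ, c ψ χ = c ψ₀ χ - δ * ((if χ = ζ ψ then 1 else 0) - (if χ = η₀ then 1 else 0)) := by
    intro ψ hψ χ
    by_cases hR : ψ ∈ orb P ψ₀
    · rw [hζ0 ψ hR, sub_self, mul_zero, sub_zero, ← hcRel _ _ hR]
    · simp only [ζ, dif_pos (⟨hψ, hR⟩ : ψ ≠ 1 ∧ ψ ∉ orb P ψ₀)]
      exact hsel ⟨ψ, hψ, hR⟩ χ
  have hδ0 : δ ≠ 0 := by rcases hδ with e | e <;> rw [e] <;> norm_num
  have hδsq : δ * δ = 1 := by rcases hδ with e | e <;> rw [e] <;> norm_num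
  have hζiff : ∀ ψ μ, ψ ≠ 1 → μ ≠ 1 → (ζ ψ = ζ μ ↔ μ ∈ orb P ψ) := by
    intro ψ μ hψ hμ
    constructor
    · intro e
      by_contra hR
      have h1 : c ψ = c μ := funext fun χ => by rw [hζc ψ hψ, hζc μ hμ, e]
      have h3 := hip' ψ μ hψ hμ
      rw [← h1, hip' ψ ψ hψ hψ, if_pos (hself _), if_neg hR] at h3
      omega
    · intro hR
      have h1 : c ψ = c μ := hcRel ψ μ hR
      by_contra hne
      have h3 : δ * (if ζ ψ = ζ ψ then 1 else 0) = δ * (if ζ ψ = ζ μ then 1 else 0) := by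
        have e1 := hζc ψ hψ (ζ ψ); have e2 := hζc μ hμ (ζ ψ)
        rw [h1] at e1
        linarith
      rw [if_pos rfl, if_neg hne, mul_one, mul_zero] at h3
      exact hδ0 h3
  set d := c ψ₀ η₀ + δ with hd
  have hcζ : ∀ ψ μ, ψ ≠ 1 → μ ≠ 1 → c μ (ζ ψ) = d - δ * (if μ ∈ orb P ψ then 1 else 0) := by
    intro ψ μ hψ hμ
    have h0 : c ψ₀ (ζ ψ) = d - δ * (if ψ₀ ∈ orb P ψ then 1 else 0) := by
      by_cases hR : ψ₀ ∈ orb P ψ
      · rw [if_pos hR, mul_one, hd, hζ0 ψ (hsymm _ _ hR), add_sub_cancel_right]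
      · rw [if_neg hR, mul_zero, sub_zero]
        have hne : ζ ψ ≠ η₀ := fun e => hR ((hζiff ψ ψ₀ hψ hψ₀).1 (e.trans (hζ0 ψ₀ (hself _)).symm))
        have h1 := hip' ψ₀ ψ hψ₀ hψ
        rw [if_neg fun e => hR (hsymm _ _ e)] at h1
        simp only [hζc ψ hψ, mul_sub, Finset.sum_sub_distrib, mul_ite, mul_one, mul_zero, Finset.sum_ite_eq',
          Finset.mem_univ, if_true] at h1
        rw [hip' ψ₀ ψ₀ hψ₀ hψ₀, if_pos (hself _)] at h1
        rcases hδ with e | e <;> rw [e] at h1 hd <;> linarith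
    by_cases hq : μ ∈ orb P ψ
    · rw [if_pos hq, mul_one, ← hcRel ψ μ hq, hζc ψ hψ, if_pos rfl, h0]
      by_cases hR : ψ₀ ∈ orb P ψ
      · rw [if_pos hR, if_pos (hζ0 ψ (hsymm _ _ hR))]; ring
      · rw [if_neg hR, if_neg fun e => hR ((hζiff ψ ψ₀ hψ hψ₀).1 (e.trans (hζ0 ψ₀ (hself _)).symm))]; ring
    · rw [if_neg hq, hζc μ hμ, if_neg fun e => hq ((hζiff ψ μ hψ hμ).1 e), h0]
      by_cases hR : ψ₀ ∈ orb P ψ
      · rw [if_pos hR, if_pos (hζ0 ψ (hsymm _ _ hR))]; ring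
      · rw [if_neg hR, if_neg fun e => hR ((hζiff ψ ψ₀ hψ hψ₀).1 (e.trans (hζ0 ψ₀ (hself _)).symm))]; ring
  set Y := ((Finset.univ : Finset (↥(P : Subgroup G) →* ℂˣ)).erase 1).image ζ with hYdef
  have hYmem : ∀ ψ, ψ ≠ 1 → ζ ψ ∈ Y := fun ψ hψ =>
    Finset.mem_image_of_mem _ (Finset.mem_erase.2 ⟨hψ, Finset.mem_univ _⟩)
  have hYsurj : ∀ η ∈ Y, ∃ ψ, ψ ≠ 1 ∧ ζ ψ = η := fun η hη => by
    obtain ⟨ψ, hψ, e⟩ := Finset.mem_image.1 hη
    exact ⟨ψ, (Finset.mem_erase.1 hψ).1, e⟩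
  have hYcard : m * Y.card + 1 = N := by
    have e := Finset.card_eq_sum_card_fiberwise (f := ζ) (s := (Finset.univ : Finset (↥(P : Subgroup G) →* ℂˣ)).erase 1)
      (t := Y) fun ψ hψ => Finset.mem_image_of_mem _ hψ
    rw [Finset.sum_congr rfl (g := fun _ => m) fun η hη => ?_, Finset.sum_const, smul_eq_mul,
      Finset.card_erase_of_mem (Finset.mem_univ _), Finset.card_univ, hcard] at e
    · rw [mul_comm, ← e]
      have : 0 < N := Fintype.card_pos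
      omega
    · obtain ⟨ψ, hψ, rfl⟩ := hYsurj η hη
      rw [← horbcard ψ hψ]
      congr 1
      ext μ
      simp only [Finset.mem_filter, Finset.mem_erase, Finset.mem_univ, and_true]
      constructor
      · rintro ⟨hμ, e⟩; exact (hζiff ψ μ hψ hμ).1 e.symm
      · intro hμ
        have hμ1 : μ ≠ 1 := fun e => horb1 ψ hψ (e ▸ hμ)
        exact ⟨hμ1, ((hζiff ψ μ hψ hμ1).2 hμ).symm⟩
  -- restriction to `P`
  have hrest : ∀ χ ∈ principalBlock M G, ∀ ψ, ∑ x : ↥(P : Subgroup G), (1 - (ψ x : ℂ)) * conj ((χ : G → ℂ) x)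
      = (N : ℂ) * c ψ χ := by
    intro χ hχ ψ
    have e := cast_coeff (hgc ψ) χ
    rw [hF, classInner_sFun h (hinv ψ) (hfl1 ψ) (Char.IsIrrCharacter.isClassFunction χ.2)
      (fun z hz hz1 s hs => apply_section h hM hχ hz hz1 s hs), hNat] at e
    have hre : ∀ α : autGroup P, ∑ x, (tw α ψ x : ℂ) * conj ((χ : G → ℂ) x)
        = ∑ x, (ψ x : ℂ) * conj ((χ : G → ℂ) x) := fun α => by
      refine Fintype.sum_equiv (α : MulAut ↥(P : Subgroup G)).toEquiv _ _ fun x => ?_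
      obtain ⟨g, hg⟩ := isConj_iff.1 (isConj_of_mem_autGroup α.2 x)
      show (ψ ((α : MulAut ↥(P : Subgroup G)) x) : ℂ) * _ = (ψ ((α : MulAut ↥(P : Subgroup G)) x) : ℂ) * _
      rw [show (((α : MulAut ↥(P : Subgroup G)).toEquiv x : ↥(P : Subgroup G)) : G)
        = (((α : MulAut ↥(P : Subgroup G)) x : ↥(P : Subgroup G)) : G) from rfl, ← hg, irr_conj_apply]
    have e2 : ∑ x : ↥(P : Subgroup G), fl ψ (x : G) * conj ((χ : G → ℂ) x)
        = (m : ℂ) * ∑ x : ↥(P : Subgroup G), (1 - (ψ x : ℂ)) * conj ((χ : G → ℂ) x) := by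
      simp only [hfl, ξ, sub_mul, Finset.sum_mul, Finset.sum_sub_distrib, one_mul, mul_sub]
      rw [Finset.sum_comm (s := Finset.univ) (t := (Finset.univ : Finset (autGroup P))), Finset.sum_congr rfl (fun α _ => hre α), Finset.sum_const,
        Finset.card_univ, hmA, nsmul_eq_mul, ← Finset.mul_sum]
    rw [e2] at e
    simp only [← hmdef] at e
    rw [show c ψ χ = coeff (F ψ) χ from rfl, e]
    push_cast
    field_simp
  have hinvert : ∀ χ ∈ principalBlock M G, ∀ (x : ↥(P : Subgroup G)), x ≠ 1 →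
      conj ((χ : G → ℂ) x) = -∑ ψ ∈ Finset.univ.erase (1 : ↥(P : Subgroup G) →* ℂˣ), (ψ x⁻¹ : ℂ) * (c ψ χ : ℂ) := by
    intro χ hχ x hx
    have h0 : (c 1 χ : ℂ) = 0 := by
      refine mul_left_cancel₀ hN0 ?_
      rw [← hrest χ hχ 1, mul_zero]
      simp
    have e := Homocyclic.inversion (fun x : ↥(P : Subgroup G) => conj ((χ : G → ℂ) x)) hx
    simp only [hrest χ hχ] at e
    rw [← Finset.add_sum_erase _ _ (Finset.mem_univ (1 : ↥(P : Subgroup G) →* ℂˣ)), h0, mul_zero, mul_zero,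
      zero_add] at e
    apply mul_left_cancel₀ hN0
    rw [mul_neg, Finset.mul_sum, ← neg_neg ((N : ℂ) * _), hN, ← e]
    congr 1
    exact Finset.sum_congr rfl fun ψ _ => by ring
  have hsum1 : ∀ (x : ↥(P : Subgroup G)), x ≠ 1 →
      ∑ ψ ∈ Finset.univ.erase (1 : ↥(P : Subgroup G) →* ℂˣ), (ψ x⁻¹ : ℂ) = -1 := fun x hx => by
    rw [Finset.sum_erase_eq_sub (Finset.mem_univ _), Homocyclic.sum_dual, if_neg (by simpa using hx),
      MonoidHom.one_apply, Units.val_one, zero_sub]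
  have hsection : ∀ χ ∈ principalBlock M G, ∀ z y : G, IsPPart p z y → y ≠ 1 →
      (χ : G → ℂ) z = (χ : G → ℂ) y := by
    rintro χ hχ z y ⟨s, hs, hys, ⟨k, hk⟩, hsr⟩ hy1
    rw [← hs]
    exact apply_section h hM hχ ⟨k, hk⟩ hy1 ⟨s, Subgroup.mem_centralizer_singleton_iff.2 hys.eq.symm⟩
      (by show ¬ p ∣ orderOf _; rwa [Subgroup.orderOf_mk])
  set X := Finset.univ.filter (fun χ : IrrCharacter G => χ ∈ principalBlock M G ∧ χ ∉ Y) with hXdef
  have hXc : ∀ χ ∈ X, ∀ ψ, ψ ≠ 1 → c ψ χ = c ψ₀ χ := by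
    intro χ hχ ψ hψ
    have hn := (Finset.mem_filter.1 hχ).2.2
    rw [hζc ψ hψ, if_neg (fun e => hn (by rw [e]; exact hYmem ψ hψ)),
      if_neg (fun e => hn (by rw [e, ← hζ0 ψ₀ (hself _)]; exact hYmem ψ₀ hψ₀)), sub_self, mul_zero, sub_zero]
  have hXval : ∀ χ ∈ X, ∀ x : ↥(P : Subgroup G), x ≠ 1 → (χ : G → ℂ) x = (c ψ₀ χ : ℂ) := by
    intro χ hχ x hx
    have e := hinvert χ (Finset.mem_filter.1 hχ).2.1 x hx
    rw [Finset.sum_congr rfl (g := fun ψ => (ψ x⁻¹ : ℂ) * (c ψ₀ χ : ℂ)) fun ψ hψ => by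
      rw [hXc χ hχ ψ (Finset.mem_erase.1 hψ).1], ← Finset.sum_mul, hsum1 x hx, neg_one_mul, neg_neg] at e
    rw [← Complex.conj_conj ((χ : G → ℂ) x), e, map_intCast]
  have hYB : ∀ η ∈ Y, η ∈ principalBlock M G := by
    intro η hη
    obtain ⟨ψ, hψ, rfl⟩ := hYsurj η hη
    by_contra hn
    obtain ⟨μ, -, hμ⟩ := Finset.exists_mem_notMem_of_card_lt_card
      (s := insert 1 (orb P ψ)) (t := Finset.univ) (by
        rw [Finset.card_univ, hcard, Finset.card_insert_of_notMem (horb1 ψ hψ), horbcard ψ hψ]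
        rwa [hNat] at hm)
    simp only [Finset.mem_insert, not_or] at hμ
    have h1 := hblock ψ _ hn
    have h3 := hblock μ _ hn
    rw [hcζ ψ ψ hψ hψ, if_pos (hself _)] at h1
    rw [hcζ ψ μ hψ hμ.1, if_neg hμ.2] at h3
    omega
  have hYval : ∀ ψ, ψ ≠ 1 → ∀ x : ↥(P : Subgroup G), x ≠ 1 →
      (ζ ψ : G → ℂ) x = (d : ℂ) + (δ : ℂ) * ∑ μ ∈ orb P ψ, ((μ x : ℂˣ) : ℂ) := by
    intro ψ hψ x hx
    have e := hinvert (ζ ψ) (hYB _ (hYmem ψ hψ)) x hx
    have e' : ∑ μ ∈ Finset.univ.erase (1 : ↥(P : Subgroup G) →* ℂˣ), (μ x⁻¹ : ℂ) * (c μ (ζ ψ) : ℂ)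
        = -(d : ℂ) - (δ : ℂ) * ∑ μ ∈ orb P ψ, (μ x⁻¹ : ℂ) := by
      rw [Finset.sum_congr rfl (g := fun μ => (μ x⁻¹ : ℂ) * d - (δ : ℂ) * (if μ ∈ orb P ψ then (μ x⁻¹ : ℂ) else 0))
        fun μ hμ => by
          rw [hcζ ψ μ hψ (Finset.mem_erase.1 hμ).1]
          push_cast
          split_ifs <;> ring,
        Finset.sum_sub_distrib, ← Finset.sum_mul, hsum1 x hx, ← Finset.mul_sum, Finset.sum_ite_mem,
        Finset.inter_eq_right.2 fun μ hμ => Finset.mem_erase.2 ⟨fun e => horb1 ψ hψ (by rw [e] at hμ; exact hμ), Finset.mem_univ _⟩]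
      ring
    rw [e'] at e
    rw [← Complex.conj_conj ((ζ ψ : G → ℂ) x), e]
    simp only [neg_sub, sub_neg_eq_add, map_add, map_mul, map_intCast, map_sum, Homocyclic.conj_hom]
    rw [add_comm]
    congr 2
    refine Finset.sum_congr rfl fun μ _ => ?_
    rw [MonoidHom.inv_apply, map_inv, inv_inv]
  have htB : trivChar G ∈ principalBlock M G := trivChar_mem_principalBlock hM
  have htX : trivChar G ∈ X := by
    refine Finset.mem_filter.2 ⟨Finset.mem_univ _, htB, fun hY => ?_⟩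
    obtain ⟨ψ, hψ, e⟩ := hYsurj _ hY
    have hone : ∀ μ, μ ≠ 1 → (c μ (trivChar G) : ℂ) = 1 := by
      intro μ hμ
      apply mul_left_cancel₀ hN0
      rw [← hrest _ htB μ, mul_one, Finset.sum_congr rfl (g := fun x => (1 : ℂ) - (μ x : ℂ)) fun x _ => by
          rw [show ((trivChar G : IrrCharacter G) : G → ℂ) (x : G) = 1 from rfl, map_one, mul_one],
        Finset.sum_sub_distrib, Homocyclic.sum_hom, if_neg hμ, sub_zero, Finset.sum_const, Finset.card_univ,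
        nsmul_eq_mul, mul_one]
    obtain ⟨μ, -, hμ⟩ := Finset.exists_mem_notMem_of_card_lt_card
      (s := insert 1 (orb P ψ)) (t := Finset.univ) (by
        rw [Finset.card_univ, hcard, Finset.card_insert_of_notMem (horb1 ψ hψ), horbcard ψ hψ]
        rwa [hNat] at hm)
    simp only [Finset.mem_insert, not_or] at hμ
    have h1 := hone ψ hψ
    have h3 := hone μ hμ.1
    rw [← e, hcζ ψ ψ hψ hψ, if_pos (hself _)] at h1
    rw [← e, hcζ ψ μ hψ hμ.1, if_neg hμ.2] at h3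
    have h1' : d - δ * 1 = 1 := by exact_mod_cast h1
    have h3' : d - δ * 0 = 1 := by exact_mod_cast h3
    omega
  have hane : ∀ χ ∈ X, c ψ₀ χ ≠ 0 := by
    intro χ hχ h0
    have hχB := (Finset.mem_filter.1 hχ).2.1
    have hne : trivChar G ≠ χ := fun e => by
      subst e
      obtain ⟨x, hx⟩ : ∃ x : ↥(P : Subgroup G), x ≠ 1 := by
        have : Nontrivial ↥(P : Subgroup G) := Fintype.one_lt_card_iff_nontrivial.1 (by rw [hNat] at hm; omega)
        exact exists_ne 1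
      have := hXval _ hχ x hx
      rw [show ((trivChar G : IrrCharacter G) : G → ℂ) (x : G) = 1 from rfl, h0, Int.cast_zero] at this
      exact one_ne_zero this
    have hvan : ∀ g : G, p ∣ orderOf g → (χ : G → ℂ) g = 0 := by
      intro g hg
      obtain ⟨w, hw⟩ := exists_conj_pEl P g
      have hy1 : pEl p g ≠ 1 := fun e => by
        obtain ⟨s, hs, -, -, hsr⟩ := pEl_spec (p := p) g
        rw [e, one_mul] at hs
        exact hsr (hs ▸ hg)
      rw [hsection χ hχB g _ (pEl_spec g) hy1, ← irr_conj_apply χ (pEl p g) w,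
        show w * pEl p g * w⁻¹ = ((⟨_, hw⟩ : ↥(P : Subgroup G)) : G) from rfl,
        hXval χ hχ ⟨_, hw⟩ (fun e => hy1 (conj_eq_one_iff.mp (congrArg Subtype.val e))), h0, Int.cast_zero]
    have hdeg0 : degVal p (trivChar G) = minDegVal p (principalBlock M G) := by
      have h1 : charDegree ((trivChar G : IrrCharacter G) : G → ℂ) = 1 := by
        show ⌊((1 : ℂ)).re⌋₊ = 1
        simp
      have h2 : degVal p (trivChar G) = 0 := by simp [degVal, h1]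
      have := minDegVal_le (p := p) htB
      omega
    refine regInt_ne_zero_of_min hM isPBlock_principalBlock htB hdeg0 hχB ?_
    apply Int.cast_injective (α := ℂ)
    rw [cast_regInt hp.out, regInner, Int.cast_zero, mul_eq_zero]
    right
    have hs := sum_mul_inv (trivChar G) χ
    rw [if_neg hne, ← Finset.sum_filter_add_sum_filter_not Finset.univ (fun x : G => IsPRegular p x)] at hs
    rw [Finset.sum_eq_zero (s := Finset.univ.filter fun x : G => ¬ IsPRegular p x) fun x hx => by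
      rw [hvan x⁻¹ (by rw [orderOf_inv]; exact not_isPRegular.1 (Finset.mem_filter.1 hx).2), mul_zero],
      add_zero] at hs
    rw [hs]
  -- sums of the coefficients of `ψ₀`
  have hsupp : ∀ w : IrrCharacter G → ℂ, ∑ χ, (c ψ₀ χ : ℂ) * w χ
      = ∑ χ ∈ X, (c ψ₀ χ : ℂ) * w χ + (((d : ℂ) - δ) * w η₀ + ∑ η ∈ Y.erase η₀, (d : ℂ) * w η) := by
    intro w
    have hη₀Y : η₀ ∈ Y := hζ0 ψ₀ (hself _) ▸ hYmem ψ₀ hψ₀
    rw [← Finset.sum_subset (Finset.subset_univ (X ∪ Y)) fun χ _ hχ => by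
        rw [hblock ψ₀ χ fun hB => hχ (Finset.mem_union.2 (by
          by_cases hY : χ ∈ Y
          · exact Or.inr hY
          · exact Or.inl (Finset.mem_filter.2 ⟨Finset.mem_univ _, hB, hY⟩))), Int.cast_zero, zero_mul],
      Finset.sum_union (Finset.disjoint_left.2 fun χ h1 h2 => (Finset.mem_filter.1 h1).2.2 h2),
      ← Finset.add_sum_erase Y _ hη₀Y]
    congr 2
    · rw [show c ψ₀ η₀ = d - δ by rw [hd]; ring, Int.cast_sub]
    · refine Finset.sum_congr rfl fun η hη => ?_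
      obtain ⟨ψ, hψ, rfl⟩ := hYsurj η (Finset.mem_erase.1 hη).2
      rw [hcζ ψ ψ₀ hψ hψ₀, if_neg fun e => (Finset.mem_erase.1 hη).1 (hζ0 ψ (hsymm _ _ e)), mul_zero, sub_zero]
  have hagree : ∀ ψ, ψ ≠ 1 → ∀ g : G, ¬ p ∣ orderOf g → (ζ ψ : G → ℂ) g = (η₀ : G → ℂ) g := by
    intro ψ hψ g hg
    have e1 := hdeg ψ g hg
    simp only [hζc ψ hψ, Int.cast_sub, Int.cast_mul, sub_mul, Finset.sum_sub_distrib, hdeg ψ₀ g hg, zero_sub,
      mul_sub, neg_eq_zero] at e1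
    simp only [Int.cast_ite, Int.cast_one, Int.cast_zero, mul_ite, mul_one, mul_zero, ite_mul, zero_mul,
      Finset.sum_ite_eq', Finset.mem_univ, if_true, sub_eq_zero] at e1
    exact mul_left_cancel₀ (Int.cast_ne_zero.2 hδ0) e1
  have hnormeq : (d - δ) ^ 2 + ((Y.card : ℤ) - 1) * d ^ 2 + ∑ χ ∈ X, c ψ₀ χ ^ 2 = (m : ℤ) + 1 := by
    have e1 := hsupp fun χ => (c ψ₀ χ : ℂ)
    have hη₀Y : η₀ ∈ Y := hζ0 ψ₀ (hself _) ▸ hYmem ψ₀ hψ₀
    rw [Finset.sum_congr rfl (s₂ := Y.erase η₀) (g := fun _ => (d : ℂ) * d) fun η hη => by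
        obtain ⟨ψ, hψ, rfl⟩ := hYsurj η (Finset.mem_erase.1 hη).2
        rw [hcζ ψ ψ₀ hψ hψ₀, if_neg fun e => (Finset.mem_erase.1 hη).1 (hζ0 ψ (hsymm _ _ e)), mul_zero, sub_zero],
      Finset.sum_const, Finset.card_erase_of_mem hη₀Y, nsmul_eq_mul,
      show c ψ₀ η₀ = d - δ by rw [hd]; ring] at e1
    have e2 := hip' ψ₀ ψ₀ hψ₀ hψ₀
    rw [if_pos (hself _)] at e2
    have hY1 : 1 ≤ Y.card := Finset.card_pos.2 ⟨_, hη₀Y⟩
    apply Int.cast_injective (α := ℂ)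
    push_cast
    rw [Nat.cast_sub hY1, Int.cast_sub] at e1
    have e2' : ∑ χ, (c ψ₀ χ : ℂ) * (c ψ₀ χ : ℂ) = (m : ℂ) + 1 := by exact_mod_cast e2
    rw [e2'] at e1
    simp only [sq]
    push_cast at e1
    linear_combination -e1
  refine ⟨X, Y, c ψ₀, d, δ, ζ, fun χ => ?_, Finset.disjoint_left.2 fun χ h1 h2 => (Finset.mem_filter.1 h1).2.2 h2,
    htX, ?_, by rw [hNat]; exact hYcard, hδ, fun χ hχ => ⟨hane χ hχ, fun z y hzy hy hy1 => ?_⟩, hYmem, hYsurj,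
    hζiff, fun ψ hψ z y hzy hy1 => ?_, hnormeq, fun η hη η' hη' g hg => ?_, fun η hη g hg => ?_⟩
  · constructor
    · intro hB
      by_cases hY : χ ∈ Y
      · exact Or.inr hY
      · exact Or.inl (Finset.mem_filter.2 ⟨Finset.mem_univ _, hB, hY⟩)
    · rintro (h1 | h1)
      · exact (Finset.mem_filter.1 h1).2.1
      · exact hYB χ h1
  · have h1 : (X.card : ℤ) ≤ ∑ χ ∈ X, c ψ₀ χ ^ 2 := by
      rw [Finset.card_eq_sum_ones, Nat.cast_sum]
      refine Finset.sum_le_sum fun χ hχ => ?_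
      have := hane χ hχ
      have : 0 < c ψ₀ χ ^ 2 := by positivity
      push_cast; omega
    have hY2 : 2 ≤ Y.card := by
      rw [hNat] at hm
      by_contra hlt
      have : m * Y.card ≤ m * 1 := Nat.mul_le_mul le_rfl (by omega)
      omega
    have h2 : 1 ≤ (d - δ) ^ 2 + ((Y.card : ℤ) - 1) * d ^ 2 := by
      by_cases hd0 : d = 0
      · rw [hd0]; rcases hδ with e | e <;> rw [e] <;> norm_num
      · have : 0 < d ^ 2 := by positivity
        nlinarith [sq_nonneg (d - δ)]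
    omega
  · rw [hsection χ (Finset.mem_filter.1 hχ).2.1 z y hzy hy1]
    exact hXval χ hχ ⟨y, hy⟩ fun e => hy1 (congrArg Subtype.val e)
  · rw [hsection _ (hYB _ (hYmem ψ hψ)) z y hzy hy1]
    exact hYval ψ hψ y fun e => hy1 (congrArg Subtype.val e)
  · obtain ⟨ψ, hψ, rfl⟩ := hYsurj η hη
    obtain ⟨μ, hμ, rfl⟩ := hYsurj η' hη'
    rw [hagree ψ hψ g hg, hagree μ hμ g hg]
  · obtain ⟨ψ, hψ, rfl⟩ := hYsurj η hη
    have e := hdeg ψ₀ g hg
    have hη₀Y : η₀ ∈ Y := hζ0 ψ₀ (hself _) ▸ hYmem ψ₀ hψ₀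
    rw [hsupp fun χ => (χ : G → ℂ) g, Finset.sum_congr rfl (s₂ := Y.erase η₀) (g := fun _ => (d : ℂ) * (η₀ : G → ℂ) g)
      fun η hη => by
        obtain ⟨μ, hμ, rfl⟩ := hYsurj η (Finset.mem_erase.1 hη).2
        rw [hagree μ hμ g hg], Finset.sum_const, Finset.card_erase_of_mem hη₀Y, nsmul_eq_mul,
      Nat.cast_sub (Finset.card_pos.2 ⟨_, hη₀Y⟩ : 1 ≤ Y.card)] at e
    rw [hagree ψ hψ g hg]
    push_cast at e
    linear_combination e

end CfsgLib.Blocks.TIAbelian
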