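import Cfsg.Agent.Lib.Blocks.Section
import Cfsg.Agent.Lib.BrouePuig.PGroupVirtual
import Cfsg.Agent.Lib.Char.Clifford

/-!
# Members of a block above a character of a normal subgroup

The block part of a character induced from a normal subgroup `N` vanishes at the `p`-elements
outside `N`.
-/

set_option autoImplicit false

universe u

namespace CfsgLib.Blocks.OverCount

open Cfsg CfsgLib CfsgLib.Blocks
open scoped Classical ComplexConjugate

variable {G : Type u} [Group G] [Fintype G] {p : ℕ} {M : Ideal AlgInt}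

theorem one_eq_mul_self {q : ℕ} (hq : q = 2 ∨ q = 3) : ∀ a : ZMod q, a ≠ 0 → 1 = a * a := by
  rcases hq with rfl | rfl <;> decide

/-- Multiplicity of `θ` in the restriction of `χ`. -/
noncomputable def mult (N : Subgroup G) (θ : IrrCharacter N) (χ : IrrCharacter G) : ℂ :=
  classInner (fun n : N => (χ : G → ℂ) n) (θ : N → ℂ)

theorem sum_mult_eq_zero (N : Subgroup G) [N.Normal] (θ : IrrCharacter N) {y : G} (hy : y ∉ N) :
    ∑ χ : IrrCharacter G, mult N θ χ * (χ : G → ℂ) y = 0 := by
  simp only [mult, Cfsg.classInner, Finset.mul_sum, Finset.sum_mul]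
  rw [Finset.sum_comm]
  refine Finset.sum_eq_zero fun n _ => ?_
  have h := sum_irr_mul_inv (G := G) (n : G) y⁻¹
  have hno : ∀ g ∈ (Finset.univ : Finset G), ¬ g * (n : G) * g⁻¹ = y⁻¹ := fun g _ hg => hy (by
    have h1 := (inferInstance : N.Normal).conj_mem _ n.2 g
    rw [hg] at h1
    exact (Subgroup.inv_mem_iff N).1 h1)
  rw [Finset.filter_false_of_mem hno, Finset.card_empty, Nat.cast_zero] at h
  simp only [inv_inv] at h
  rw [← mul_zero ((Nat.card N : ℂ)⁻¹ * conj ((θ : N → ℂ) n)), ← h, Finset.mul_sum]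
  exact Finset.sum_congr rfl fun χ _ => by ring

theorem blockPart_mult_eq_zero (hM : IsPModular p M) {B : Set (IrrCharacter G)} (hB : IsPBlock M B)
    (N : Subgroup G) [N.Normal] (θ : IrrCharacter N) {x : G} (hx : ∃ k : ℕ, orderOf x = p ^ k)
    (hxN : x ∉ N) :
    ∑ χ : IrrCharacter G, blockInd B χ * mult N θ χ * (χ : G → ℂ) x = 0 := by
  have hp := hM.1
  haveI := Fact.mk hp
  set C := Subgroup.centralizer ({x} : Set G) with hC
  have h1 : ¬ p ∣ orderOf (1 : C) := by rw [orderOf_one]; exact hp.not_dvd_one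
  have hval : ∀ χ : IrrCharacter G, blockInd B χ * (χ : G → ℂ) x
      = (Nat.card C : ℂ)⁻¹ * ∑ c : C with IsPRegular p c,
          (χ : G → ℂ) (x * c) * blockKernel (sectionSet M C B) c 1 := fun χ => by
    have e := blockPart_sectionSet hM hC hx hB χ (s := 1) h1
    rw [Subgroup.coe_one, mul_one] at e
    rw [← e, blockPart_eq_sum_regular hM (sectionSet_isLocalOn hM C B) _ h1]
  calc ∑ χ : IrrCharacter G, blockInd B χ * mult N θ χ * (χ : G → ℂ) x
      = ∑ χ : IrrCharacter G, mult N θ χ * ((Nat.card C : ℂ)⁻¹ * ∑ c : C with IsPRegular p c,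
          (χ : G → ℂ) (x * c) * blockKernel (sectionSet M C B) c 1) :=
        Finset.sum_congr rfl fun χ _ => by rw [← hval χ]; ring
    _ = (Nat.card C : ℂ)⁻¹ * ∑ c : C with IsPRegular p c,
          (∑ χ : IrrCharacter G, mult N θ χ * (χ : G → ℂ) (x * c))
            * blockKernel (sectionSet M C B) c 1 := by
        simp only [Finset.mul_sum, Finset.sum_mul]
        rw [Finset.sum_comm]
        exact Finset.sum_congr rfl fun c _ => Finset.sum_congr rfl fun χ _ => by ring
    _ = 0 := by
        rw [Finset.sum_eq_zero, mul_zero]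
        intro c hc
        have hcr : ¬ p ∣ orderOf (c : G) := by
          rw [Subgroup.orderOf_coe]; exact (Finset.mem_filter.1 hc).2
        rw [sum_mult_eq_zero N θ, zero_mul]
        intro hxc
        refine hxN ?_
        obtain ⟨k, hk⟩ := hx
        have hcom : Commute x (c : G) := (Subgroup.mem_centralizer_singleton_iff.1 c.2).symm
        have hco : (p ^ k).Coprime (orderOf (c : G)) :=
          Nat.Coprime.pow_left k ((Nat.Prime.coprime_iff_not_dvd hp).2 hcr)
        obtain ⟨e, he1, he2⟩ := Nat.chineseRemainder hco 1 0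
        have : (x * (c : G)) ^ e = x := by
          rw [hcom.mul_pow, pow_eq_pow_iff_modEq.2 (hk ▸ he1 : e ≡ 1 [MOD orderOf x]),
            pow_eq_pow_iff_modEq.2 he2, pow_one, pow_zero, mul_one]
        exact this ▸ N.pow_mem hxc e

/-- The degree sum of the block part is divisible by `p`. -/
theorem LI_sum_mult_deg (hM : IsPModular p M) {B : Set (IrrCharacter G)} (hB : IsPBlock M B)
    (N : Subgroup G) [N.Normal] (θ : IrrCharacter N) {P : Subgroup G} (hP : IsPGroup p P)
    (hPN : ¬ P ≤ N) :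
    MemLocalIdeal M (∑ χ : IrrCharacter G, blockInd B χ * mult N θ χ * (χ : G → ℂ) 1) := by
  haveI := Fact.mk hM.1
  obtain ⟨u, huP, huN⟩ := Set.not_subset.1 hPN
  have hu : ∃ k : ℕ, orderOf u = p ^ k := by
    obtain ⟨k, hk⟩ := IsPGroup.iff_orderOf.1 hP ⟨u, huP⟩
    exact ⟨k, by rw [← hk, Subgroup.orderOf_mk]⟩
  have h0 := blockPart_mult_eq_zero hM hB N θ hu huN
  have h : MemLocalIdeal M (∑ χ : IrrCharacter G, blockInd B χ * mult N θ χ
      * ((χ : G → ℂ) u - (χ : G → ℂ) 1)) := by
    refine LI.sum hM fun χ _ => LI.mul_left hM ?_ ?_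
    · refine LR.mul hM (by unfold blockInd; split <;> [exact LR.one hM; exact LR.zero hM]) ?_
      obtain ⟨n, hn⟩ := Char.IsCharacter.classInner_nat
        (Char.IsCharacter.restrict (Char.isCharacter_irr χ) N) (Char.isCharacter_irr θ)
      rw [show mult N θ χ = n from hn]
      exact LR.natCast hM n
    · exact BrouePuig.gen_congr hM hP (c := fun w : P => (χ : G → ℂ) w)
        (Char.IsCharacter.isGeneralizedCharacter
          (Char.IsCharacter.restrict (Char.isCharacter_irr χ) P)) ⟨u, huP⟩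
  simp only [mul_sub, Finset.sum_sub_distrib] at h
  rw [h0, zero_sub] at h
  simpa using LI.neg h

/-- Degrees above `θ` are the multiplicity times a fixed natural number. -/
theorem exists_deg_eq (N : Subgroup G) [N.Normal] (θ : IrrCharacter N) :
    ∃ m : ℕ, ∀ χ : IrrCharacter G, mult N θ χ ≠ 0 →
      (χ : G → ℂ) 1 = mult N θ χ * (m : ℂ) := by
  refine ⟨∑ ψ ∈ Finset.univ.image fun g : G => Char.conjG (θ : N → ℂ) g, charDegree ψ,
    fun χ hχ => ?_⟩
  have h := congrFun (Char.restrict_eq_smul_orbit χ.2 θ.2 hχ) 1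
  have hset : {ψ : N → ℂ | ∃ g : G, ψ = Char.conjG (θ : N → ℂ) g} =
      ((Finset.univ.image fun g : G => Char.conjG (θ : N → ℂ) g : Finset (N → ℂ)) : Set (N → ℂ)) := by
    ext ψ; simp [eq_comm]
  rw [hset, finsum_mem_coe_finset, Pi.smul_apply, Finset.sum_apply, smul_eq_mul,
    Subgroup.coe_one] at h
  rw [h]
  change mult N θ χ * _ = _
  congr 1
  push_cast
  refine Finset.sum_congr rfl fun ψ hψ => ?_
  obtain ⟨g, -, rfl⟩ := Finset.mem_image.1 hψ
  exact irr_one_eq ⟨_, Char.IsIrrCharacter.conjG θ.2 g⟩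

end CfsgLib.Blocks.OverCount
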