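import Cfsg.Agent.Lib.Blocks.Basic
import Cfsg.Agent.Lib.Blocks.Idempotent
import Cfsg.Agent.Lib.Char.CliffordCorr
import Cfsg.Agent.Lib.Char.Linear
import Cfsg.Agent.Lib.Char.Quotient

/-!
# Sums of irreducible characters over a character of a normal subgroup

`es U g = |G|⁻¹ ∑_{χ ∈ U} χ 1 χ g` is (the reverse of) the central idempotent of the set `U` and
`e0 θ` is the central idempotent of an irreducible character `θ` of a normal subgroup.
-/

set_option autoImplicit false
set_option linter.unusedSectionVars false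

namespace CfsgLib.Blocks.RegIdem

open Cfsg CfsgLib
open scoped Classical ComplexConjugate

section Defs

variable {G : Type*} [Group G]

/-- The coefficients of the central idempotent of `θ`. -/
noncomputable def e0 {N : Subgroup G} (θ : N → ℂ) : N → ℂ :=
  fun n => θ 1 * θ n⁻¹ * (Nat.card N : ℂ)⁻¹

/-- The reversed coefficients of the central idempotent of a set of irreducible characters. -/
noncomputable def es [Fintype G] (U : Set (IrrCharacter G)) (g : G) : ℂ :=
  (Nat.card G : ℂ)⁻¹ * ∑ χ : IrrCharacter G, blockInd U χ * ((χ : G → ℂ) 1 * (χ : G → ℂ) g)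

/-- The irreducible characters lying over `θ`. -/
def lying [Fintype G] (N : Subgroup G) [Fintype N] (θ : N → ℂ) : Set (IrrCharacter G) :=
  {χ | Cfsg.classInner (fun n : N => (χ : G → ℂ) n) θ ≠ 0}

end Defs

section Proj

variable {H : Type*} [Group H] [Fintype H] {N : Subgroup H} [hN : N.Normal] [Fintype N]

theorem kproj {θ : N → ℂ} (hθ : IsIrrCharacter N θ)
    (hinv : ∀ (g : H) (n : N), θ ⟨g * n * g⁻¹, hN.conj_mem n n.2 g⟩ = θ n)
    (φ : IrrCharacter H) (s : H) :
    ∑ n : N, e0 θ n * (φ : H → ℂ) (s * n) =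
      if Cfsg.classInner (fun n : N => (φ : H → ℂ) n) θ ≠ 0 then (φ : H → ℂ) s else 0 := by
  set u := Cfsg.extendByZero N (e0 θ) with hu
  have hucl : ∀ y g : H, u (y * g * y⁻¹) = u g := by
    intro y g
    by_cases hg : g ∈ N
    · rw [hu, Char.extendByZero_apply_mem N _ (hN.conj_mem g hg y),
        Char.extendByZero_apply_mem N _ hg]
      simp only [e0]
      congr 2
      rw [← hinv y ⟨g, hg⟩⁻¹]
      congr 1
      exact Subtype.ext (by simp [mul_assoc])
    · rw [hu, Char.extendByZero_apply_notMem N _ hg, Char.extendByZero_apply_notMem N _ fun h =>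
        hg (by simpa [mul_assoc] using hN.conj_mem _ h y⁻¹)]
  have key : ∀ y : H, ∑ g, u g * (φ : H → ℂ) (s * g) =
      ∑ g, u g * (φ : H → ℂ) (s * (y * g * y⁻¹)) := fun y =>
    (Fintype.sum_equiv (MulAut.conj y).toEquiv _ _ fun g => by simp [hucl]).symm
  have h1 : (Nat.card H : ℂ) * ∑ g, u g * (φ : H → ℂ) (s * g) =
      ((Nat.card H : ℂ) * (φ : H → ℂ) s / (φ : H → ℂ) 1) * ∑ g, u g * (φ : H → ℂ) g := by
    calc (Nat.card H : ℂ) * ∑ g, u g * (φ : H → ℂ) (s * g)
        = ∑ y : H, ∑ g, u g * (φ : H → ℂ) (s * (y * g * y⁻¹)) := by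
          rw [← Finset.sum_congr rfl fun y _ => key y, Finset.sum_const, Finset.card_univ,
            nsmul_eq_mul, Nat.card_eq_fintype_card]
      _ = ∑ g, u g * ∑ y : H, (φ : H → ℂ) (s * (y * g * y⁻¹)) := by
          rw [Finset.sum_comm]; simp only [Finset.mul_sum]
      _ = _ := by
          rw [Finset.mul_sum]
          refine Finset.sum_congr rfl fun g _ => ?_
          rw [sum_conj_mul]
          ring
  rw [hu, Char.sum_extendByZero_mul, Char.sum_extendByZero_mul] at h1
  have h2 : ∑ n : N, e0 θ n * (φ : H → ℂ) n =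
      θ 1 * Cfsg.classInner (fun n : N => (φ : H → ℂ) n) θ := by
    rw [Cfsg.classInner, Finset.mul_sum, Finset.mul_sum]
    refine Finset.sum_congr rfl fun n _ => ?_
    rw [show conj (θ n) = θ n⁻¹ from conj_irr ⟨θ, hθ⟩ n, e0]
    ring
  rw [h2] at h1
  have hc : (Nat.card H : ℂ) ≠ 0 := Char.card_ne_zero
  have hφ : (φ : H → ℂ) 1 ≠ 0 := irr_one_ne_zero φ
  split_ifs with hne
  · have hdeg := CharDeep.Clifford.apply_one_eq φ.2 hθ hne ⊤
      fun g => ⟨fun _ n => hinv g n, fun _ => Subgroup.mem_top g⟩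
    rw [Subgroup.index_top, Nat.cast_one, one_mul] at hdeg
    refine mul_left_cancel₀ hc (h1.trans ?_)
    rw [mul_comm (θ 1), ← hdeg]
    field_simp
  · push Not at hne
    rw [hne, mul_zero, mul_zero] at h1
    exact (mul_eq_zero.1 h1).resolve_left hc

end Proj

section ProjT

variable {G : Type*} [Group G] [Fintype G] {N : Subgroup G} [hN : N.Normal] [Fintype N]

theorem kprojT {T : Subgroup G} [Fintype T] (hNT : N ≤ T) {θ : N → ℂ} (hθ : IsIrrCharacter N θ)
    (hinv : ∀ g ∈ T, ∀ n : N, θ ⟨g * n * g⁻¹, hN.conj_mem n n.2 g⟩ = θ n)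
    {φ : T → ℂ} (hφ : IsIrrCharacter T φ) (s : T) :
    ∑ n : N, e0 θ n * φ (s * ⟨n, hNT n.2⟩) =
      if Cfsg.classInner (Char.resLe hNT φ) θ ≠ 0 then φ s else 0 := by
  let e : N.subgroupOf T ≃* N := Subgroup.subgroupOfEquivOfLe hNT
  have hθ' : IsIrrCharacter (N.subgroupOf T) (θ ∘ e) := Char.IsIrrCharacter.comp_equiv hθ e
  have h := kproj (H := T) (N := N.subgroupOf T) hθ' (fun g n => by
    refine (congrArg θ (Subtype.ext ?_)).trans (hinv g g.2 (e n))
    rfl) ⟨φ, hφ⟩ s
  have hval : Cfsg.classInner (fun x : N.subgroupOf T => φ x) (θ ∘ e) =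
      Cfsg.classInner (Char.resLe hNT φ) θ := Char.classInner_resLe hNT φ θ
  rw [hval] at h
  rw [← h]
  refine (Fintype.sum_equiv e.toEquiv _ _ fun n => ?_).symm
  simp only [e0, Function.comp_apply, map_one, map_inv, MulEquiv.toEquiv_eq_coe, EquivLike.coe_coe,
    Nat.card_congr e.toEquiv]
  rfl

theorem over_unique {θ η : N → ℂ} (hθ : IsIrrCharacter N θ) (hη : IsIrrCharacter N η)
    (χ : IrrCharacter G) (h1 : χ ∈ lying N θ) (h2 : χ ∈ lying N η) :
    ∃ g : G, η = Char.conjG θ g := by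
  have hχc := Char.IsIrrCharacter.isClassFunction χ.2
  have hres : IsCharacter N fun n : N => (χ : G → ℂ) n :=
    Char.IsCharacter.restrict (Char.IsIrrCharacter.isCharacter χ.2) N
  refine Char.exists_conjG_eq hη hθ χ.2 ?_ ?_
  · rw [Char.classInner_indFun N η hχc,
      Char.IsCharacter.classInner_comm (Char.IsIrrCharacter.isCharacter hη) hres]
    exact h2
  · rw [Char.classInner_indFun N θ hχc,
      Char.IsCharacter.classInner_comm (Char.IsIrrCharacter.isCharacter hθ) hres]
    exact h1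

theorem over_conjG (θ : N → ℂ) (g : G) :
    lying N (Char.conjG θ g) = lying N θ := by
  ext χ
  show Cfsg.classInner _ _ ≠ 0 ↔ Cfsg.classInner _ _ ≠ 0
  conv_lhs => rw [← Char.conjG_coe (H := N) (Char.IsIrrCharacter.isClassFunction χ.2) g,
    Char.classInner_conjG]

theorem exists_over (χ : IrrCharacter G) : ∃ θ : IrrCharacter N, χ ∈ lying N (θ : N → ℂ) := by
  have hres : IsCharacter N fun n : N => (χ : G → ℂ) n :=
    Char.IsCharacter.restrict (Char.IsIrrCharacter.isCharacter χ.2) N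
  obtain ⟨θ, hθ, hne⟩ := Char.IsCharacter.exists_constituent hres fun h => by
    exact irr_one_ne_zero χ (congrFun h 1)
  exact ⟨⟨θ, hθ⟩, hne⟩

/-- Over an invariant character the restriction is a multiple of it. -/
theorem restrict_eq {θ : N → ℂ} (hθ : IsIrrCharacter N θ)
    (hinv : ∀ (g : G) (n : N), θ ⟨g * n * g⁻¹, hN.conj_mem n n.2 g⟩ = θ n)
    {χ : IrrCharacter G} (h : χ ∈ lying N θ) (n : N) :
    (χ : G → ℂ) n = Cfsg.classInner (fun n : N => (χ : G → ℂ) n) θ * θ n := by
  have h1 := congrFun (Char.restrict_eq_smul_orbit χ.2 hθ h) n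
  have hset : {ψ : N → ℂ | ∃ g : G, ψ = Char.conjG θ g} = {θ} := by
    ext ψ
    have : ∀ g : G, Char.conjG θ g = θ := fun g => funext fun n => hinv g n
    simp [this]
  rw [hset, finsum_mem_singleton] at h1
  exact h1

theorem es_conv (A B : Set (IrrCharacter G)) (g : G) :
    ∑ x, es A x * es B (x⁻¹ * g) = es (A ∩ B) g := by
  have e : ∀ (S : Set (IrrCharacter G)) (z : G), es S z = fourierInv (blockInd S) z⁻¹ :=
    fun S z => by simp [es, fourierInv]
  have hind : blockInd (A ∩ B) = fun ψ => blockInd A ψ * blockInd B ψ := by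
    funext ψ
    by_cases hA : ψ ∈ A <;> by_cases hB : ψ ∈ B <;> simp [blockInd, hA, hB]
  rw [e, hind, ← fourierInv_mul]
  refine Fintype.sum_equiv (Equiv.inv G) _ _ fun x => ?_
  rw [e, e]
  simp only [Equiv.inv_apply, inv_inv, mul_inv_rev]
  congr 1
  have := fourierInv_isClassFunction (blockInd B) (g⁻¹ * x) x
  rw [← this]
  congr 1
  group

theorem conj_es (U : Set (IrrCharacter G)) (g : G) : conj (es U g) = es U g⁻¹ := by
  simp only [es, map_mul, map_inv₀, map_natCast, map_sum, conj_irr, inv_one]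
  congr 1
  refine Finset.sum_congr rfl fun χ _ => ?_
  congr 1
  by_cases h : χ ∈ U <;> simp [blockInd, h]

theorem sum_normSq_es (U : Set (IrrCharacter G)) :
    ((∑ x, Complex.normSq (es U x) : ℝ) : ℂ) = es U 1 := by
  rw [Complex.ofReal_sum]
  conv_rhs => rw [← Set.inter_self U, ← es_conv]
  refine Finset.sum_congr rfl fun x _ => ?_
  rw [mul_one, ← conj_es, Complex.mul_conj]

/-- The idempotent of all characters over `θ` lives on `N`. -/
theorem es_over_eq_zero {θ : N → ℂ} (hθ : IsIrrCharacter N θ) {g : G} (hg : g ∉ N) :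
    es (lying N θ) g = 0 := by
  set u := Cfsg.indFun N (e0 θ) with hu
  have hucl : IsClassFunction G u := Char.indFun_isClassFunction N _
  let c : ℂ := (Nat.card (Char.stab θ) : ℂ) * (Nat.card N : ℂ)⁻¹
  have hc : c ≠ 0 := mul_ne_zero (Nat.cast_ne_zero.2 Nat.card_pos.ne')
    (inv_ne_zero (Char.card_ne_zero (G := N)))
  have hω : ∀ χ : IrrCharacter G, omega (χ : G → ℂ) u = c * blockInd (lying N θ) χ := by
    intro χ
    have h1 : ∑ x, u x * (χ : G → ℂ) x =
        (Nat.card G : ℂ) * Cfsg.classInner u (irrConj χ : G → ℂ) := by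
      rw [Cfsg.classInner, ← mul_assoc, mul_inv_cancel₀ (Char.card_ne_zero (G := G)), one_mul]
      refine Finset.sum_congr rfl fun x _ => ?_
      rw [irrConj_apply, Complex.conj_conj]
    rw [hu, Char.classInner_indFun N _ (Char.IsIrrCharacter.isClassFunction (irrConj χ).2)] at h1
    have h2 : Cfsg.classInner (e0 θ) (fun n : N => (irrConj χ : G → ℂ) n) =
        (Nat.card N : ℂ)⁻¹ * θ 1 * Cfsg.classInner (fun n : N => (χ : G → ℂ) n) θ := by
      simp only [Cfsg.classInner, Finset.mul_sum]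
      refine Finset.sum_congr rfl fun n _ => ?_
      rw [show conj (θ n) = θ n⁻¹ from conj_irr ⟨θ, hθ⟩ n, irrConj_apply, Complex.conj_conj, e0]
      ring
    rw [h2] at h1
    rw [omega, h1]
    by_cases hne : χ ∈ lying N θ
    · have hdeg := CharDeep.Clifford.apply_one_eq χ.2 hθ hne (Char.stab θ)
        (Char.isInertia_stab θ)
      rw [blockInd_of_mem hne, mul_one, div_eq_iff (irr_one_ne_zero χ), hdeg,
        ← Subgroup.card_mul_index (Char.stab θ), Nat.cast_mul]
      simp only [c]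
      ring
    · rw [blockInd_of_notMem hne]
      simp only [lying, Set.mem_ofPred_eq, ne_eq, not_not] at hne
      simp [hne]
  have h3 : u g⁻¹ = c * es (lying N θ) g := by
    conv_lhs => rw [← fourierInv_omega hucl]
    simp only [hω, fourierInv, es, Finset.mul_sum, inv_inv]
    exact Finset.sum_congr rfl fun χ _ => by ring
  rw [hu, Char.indFun_eq_zero_of_normal N _ (fun h => hg (inv_mem_iff.1 h))] at h3
  exact (mul_eq_zero.1 h3.symm).resolve_left hc

/-- Over an invariant `θ`, on a coset of `N` the characters are proportional to any extension of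
`θ` to a subgroup with abelian quotient. -/
theorem exists_proportional {L : Subgroup G} [Fintype L] (hNL : N ≤ L)
    (hcomm : ∀ a ∈ L, ∀ b ∈ L, a * b * a⁻¹ * b⁻¹ ∈ N)
    {θ : N → ℂ} (hθ : IsIrrCharacter N θ)
    (hinv : ∀ (g : G) (n : N), θ ⟨g * n * g⁻¹, hN.conj_mem n n.2 g⟩ = θ n)
    {Θ : G → ℂ} (hΘ : IsIrrCharacter L fun l : L => Θ l) (hΘN : ∀ n : N, Θ n = θ n)
    {χ : IrrCharacter G} (hχ : χ ∈ lying N θ) {l : G} (hl : l ∈ L) :
    ∃ c : ℂ, ∀ n : N, (χ : G → ℂ) (l * n) = c * Θ (l * n) := by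
  set ΘL : L → ℂ := fun l : L => Θ l with hΘL
  let N' : Subgroup L := N.subgroupOf L
  let e : N' ≃* N := Subgroup.subgroupOfEquivOfLe hNL
  let χL : L → ℂ := fun l : L => (χ : G → ℂ) l
  have hχL : IsCharacter L χL :=
    Char.IsCharacter.restrict (Char.IsIrrCharacter.isCharacter χ.2) L
  suffices h : ∀ φ : IrrCharacter L, ∃ c : ℂ, ∀ n : N,
      Cfsg.classInner χL φ * (φ : L → ℂ) (⟨l, hl⟩ * ⟨n, hNL n.2⟩) = c * Θ (l * n) by
    choose c hc using h
    refine ⟨∑ φ, c φ, fun n => ?_⟩
    have h1 := congrFun (Char.IsClassFunction.eq_sum_irr (Char.IsCharacter.isClassFunction hχL))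
      (⟨l, hl⟩ * ⟨n, hNL n.2⟩)
    rw [Finset.sum_apply] at h1
    refine h1.trans ?_
    rw [Finset.sum_mul]
    exact Finset.sum_congr rfl fun φ _ => hc φ n
  intro φ
  by_cases h0 : Cfsg.classInner χL φ = 0
  · exact ⟨0, fun n => by simp [h0]⟩
  have hresφ : IsCharacter N' fun x : N' => (φ : L → ℂ) x :=
    Char.IsCharacter.restrict (Char.IsIrrCharacter.isCharacter φ.2) N'
  obtain ⟨η, hη, hne⟩ := Char.IsCharacter.exists_constituent hresφ fun h => by
    exact irr_one_ne_zero φ (congrFun h 1)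
  have hη' : IsIrrCharacter N (η ∘ e.symm) := Char.IsIrrCharacter.comp_equiv hη e.symm
  have h2 : Cfsg.classInner (χL ∘ N'.subtype) η ≠ 0 :=
    CharDeep.Clifford.classInner_ne_zero_trans hχL φ.2 h0 N'.subtype
      (Char.IsIrrCharacter.isCharacter hη) hne
  have h3 : χ ∈ lying N (η ∘ e.symm) := by
    show Cfsg.classInner (Char.resLe hNL χL) (η ∘ e.symm) ≠ 0
    rw [← Char.classInner_resLe hNL χL (η ∘ e.symm)]
    convert h2 using 2 <;> funext x <;> first | rfl | exact congrArg η (e.symm_apply_apply x)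
  obtain ⟨g, hg⟩ := over_unique hθ hη' χ hχ h3
  rw [show Char.conjG θ g = θ from funext fun n => hinv g n] at hg
  have hηθ : η = θ ∘ e := by
    funext x
    rw [Function.comp_apply, ← hg, Function.comp_apply, e.symm_apply_apply]
  -- a linear constituent of φ times the conjugate of Θ
  set ψ : L → ℂ := (φ : L → ℂ) * fun x => conj (ΘL x) with hψ
  have hψc : IsCharacter L ψ := Char.IsCharacter.mul (Char.IsIrrCharacter.isCharacter φ.2)
    (Char.IsCharacter.conj' (Char.IsIrrCharacter.isCharacter hΘ))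
  have hψ1 : Cfsg.classInner ψ (Cfsg.indFun N' fun _ => 1) ≠ 0 := by
    rw [Char.classInner_indFun_right _ _ (Char.IsCharacter.isClassFunction hψc)]
    convert hne using 1
    simp only [Cfsg.classInner]
    congr 1
    refine Finset.sum_congr rfl fun x _ => ?_
    have hx : ΘL x = η x := by
      rw [hηθ]
      exact hΘN (e x)
    simp [hψ, hx]
  obtain ⟨μ, hμ1, hμ2⟩ := CharDeep.Clifford.exists_constituent
    (Char.IsCharacter.isClassFunction hψc) hψ1
  rw [Char.classInner_indFun_right _ _ (Char.IsIrrCharacter.isClassFunction μ.2)] at hμ2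
  have hker : ∀ x ∈ N', (μ : L → ℂ) x = (μ : L → ℂ) 1 := by
    intro x hx
    have hr := Char.restrict_eq_smul_orbit μ.2 (Char.isIrrCharacter_one (G := N')) hμ2
    have hset : {ξ : N' → ℂ | ∃ g : L, ξ = Char.conjG (fun _ : N' => (1 : ℂ)) g} =
        {fun _ => 1} := by
      ext ξ
      exact ⟨fun ⟨g, hg⟩ => hg, fun hg => ⟨1, hg⟩⟩
    rw [hset, finsum_mem_singleton] at hr
    exact (congrFun hr ⟨x, hx⟩).trans (congrFun hr 1).symm
  obtain ⟨μ', hμ', hμe⟩ := Char.IsIrrCharacter.exists_deflate μ.2 N' hker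
  have hdeg : (μ : L → ℂ) 1 = 1 := by
    rw [hμe, Function.comp_apply, map_one]
    refine Char.apply_one_eq_one_of_comm (fun a b => ?_) hμ'
    induction a using QuotientGroup.induction_on with
    | H a =>
      induction b using QuotientGroup.induction_on with
      | H b =>
        rw [← QuotientGroup.mk_mul, ← QuotientGroup.mk_mul, QuotientGroup.eq]
        have h4 := hcomm _ (L.inv_mem b.2) _ (L.inv_mem a.2)
        show ((a : G) * b)⁻¹ * (b * a) ∈ N
        simpa [mul_assoc] using h4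
  obtain ⟨f, hf⟩ := Char.exists_hom_of_apply_one_eq_one (Char.IsIrrCharacter.isCharacter μ.2) hdeg
  have hfμ : ∀ x, (μ : L → ℂ) x = (f x : ℂ) := fun x => congrFun hf x
  have hfn : ∀ x ∈ N', (f x : ℂ) = 1 := fun x hx => by rw [← hfμ, hker x hx, hdeg]
  have hff : ∀ x, (f x : ℂ) * conj (f x : ℂ) = 1 := fun x => by
    rw [← hfμ, conj_irr, hfμ, hfμ, ← Units.val_mul, ← map_mul, mul_inv_cancel, map_one,
      Units.val_one]
  have hprod : IsIrrCharacter L (fun x => (f x : ℂ) * ΘL x) := by
    refine Char.IsCharacter.isIrrCharacter_of_norm_one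
      (Char.IsCharacter.mul (Char.isCharacter_hom f) (Char.IsIrrCharacter.isCharacter hΘ)) ?_
    rw [← Char.classInner_irr_self hΘ]
    simp only [Cfsg.classInner, map_mul]
    congr 1
    refine Finset.sum_congr rfl fun x _ => ?_
    linear_combination (ΘL x * conj (ΘL x)) * hff x
  have hφeq : (φ : L → ℂ) = fun x => (f x : ℂ) * ΘL x := by
    by_contra hcon
    refine hμ1 ?_
    rw [← Char.classInner_irr_ne φ.2 hprod hcon]
    simp only [Cfsg.classInner, hψ, Pi.mul_apply, map_mul, hfμ]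
    congr 1
    exact Finset.sum_congr rfl fun x _ => by ring
  refine ⟨Cfsg.classInner χL φ * (f ⟨l, hl⟩ : ℂ), fun n => ?_⟩
  rw [hφeq]
  simp only [map_mul, Units.val_mul, hfn ⟨n, hNL n.2⟩ n.2, mul_one]
  rw [mul_assoc]
  rfl

end ProjT

end CfsgLib.Blocks.RegIdem
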