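import Cfsg.Agent.Lib.Blocks.CoverBasics
import Cfsg.Agent.Lib.Blocks.Kernel
import Cfsg.Agent.Lib.Blocks.RegularIdemBasic
import Cfsg.Agent.Lib.CharDeep.Clifford
import Cfsg.Agent.Lib.Char.Quotient
import Cfsg.Agent.Lib.Char.Constituent
import Cfsg.Agent.Lib.PGroup.Frattini
import Cfsg.Agent.Lib.OddOrder.PLengthOne
import Cfsg.Agent.Lib.OddOrder.PLengthComplement
import Cfsg.Agent.S0081

/-!
# `p`-length one and restrictions to the Sylow normalizer of the principal block
-/

set_option autoImplicit false
set_option linter.unusedSectionVars false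

namespace CfsgLib.Blocks.PLengthCriterion

open Cfsg CfsgLib CfsgLib.Blocks
open scoped Classical ComplexConjugate commutatorElement

variable {G : Type*} [Group G] [Fintype G] {p : ℕ} {M : Ideal AlgInt}

theorem degree_natCast (χ : IrrCharacter G) : ∃ n : ℕ, (χ : G → ℂ) 1 = n :=
  ⟨_, irr_one_eq χ⟩

/-- In the principal block, `∑ χ(1) χ` vanishes at `p`-singular elements. -/
theorem sum_block_apply (hM : IsPModular p M) {B : Set (IrrCharacter G)} (hB : IsPBlock M B)
    {g : G} (hg : p ∣ orderOf g) :
    ∑ χ : IrrCharacter G with χ ∈ B, (χ : G → ℂ) 1 * (χ : G → ℂ) g = 0 := by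
  have h := congrArg conj (IsPBlock.blockCoeff_eq_zero hM hB hg)
  rw [blockCoeff, map_zero, map_mul, map_inv₀, map_natCast, finsum_mem_def,
    finsum_eq_sum_of_fintype, map_sum, mul_eq_zero, inv_eq_zero, Nat.cast_eq_zero] at h
  rw [Finset.sum_filter]
  refine Eq.trans ?_ (h.resolve_left Nat.card_pos.ne')
  refine Finset.sum_congr rfl fun χ _ => ?_
  by_cases hx : χ ∈ B
  · rw [if_pos hx, Set.indicator_of_mem hx, map_mul, Complex.conj_conj, irr_one_eq,
      Complex.conj_natCast]
  · rw [if_neg hx, Set.indicator_of_notMem hx, map_zero]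

/-- If only the trivial character of the principal block has fixed points of `P`, the linear
characters of `P` extend. -/
theorem exists_ext [hp : Fact p.Prime] (hM : IsPModular p M) (P : Sylow p G)
    (hfix : ∀ θ ∈ principalBlock M G,
      classInner (fun x : (P : Subgroup G) => (θ : G → ℂ) x) (fun _ => 1) ≠ 0 → θ = trivChar G)
    (lam : (P : Subgroup G) →* ℂˣ) :
    ∃ μ : G →* ℂˣ, ∀ x : (P : Subgroup G), μ x = lam x := by
  set B := principalBlock M G with hBdef
  have hB : IsPBlock M B := isPBlock_principalBlock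
  set D : ℂ := ∑ χ : IrrCharacter G with χ ∈ B, (χ : G → ℂ) 1 * (χ : G → ℂ) 1
  have key : ∀ ν : (P : Subgroup G) →* ℂˣ,
      ∑ χ : IrrCharacter G with χ ∈ B, (χ : G → ℂ) 1 *
        classInner (fun x : (P : Subgroup G) => (χ : G → ℂ) x) (fun x => (ν x : ℂ)) =
      (Nat.card (P : Subgroup G) : ℂ)⁻¹ * D := by
    intro ν
    simp only [classInner, Finset.mul_sum]
    rw [Finset.sum_comm, Finset.sum_eq_single (1 : (P : Subgroup G))]
    · rw [Finset.mul_sum]
      exact Finset.sum_congr rfl fun χ _ => by simp [mul_left_comm]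
    · intro x _ hx
      have hord : p ∣ orderOf (x : G) := by
        obtain ⟨k, hk⟩ := IsPGroup.iff_orderOf.1 P.2 x
        rw [Subgroup.orderOf_coe, hk]
        refine dvd_pow_self p fun h0 => hx (orderOf_eq_one_iff.1 ?_)
        rw [hk, h0, pow_zero]
      calc _ = (Nat.card (P : Subgroup G) : ℂ)⁻¹ * conj (ν x : ℂ) *
            ∑ χ : IrrCharacter G with χ ∈ B, (χ : G → ℂ) 1 * (χ : G → ℂ) x := by
              rw [Finset.mul_sum]; exact Finset.sum_congr rfl fun χ _ => by ring
        _ = 0 := by rw [sum_block_apply hM hB hord, mul_zero]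
    · exact fun h => absurd (Finset.mem_univ _) h
  have hone : ∑ χ : IrrCharacter G with χ ∈ B, (χ : G → ℂ) 1 *
      classInner (fun x : (P : Subgroup G) => (χ : G → ℂ) x) (fun x => ((1 : (P : Subgroup G) →* ℂˣ) x : ℂ)) = 1 := by
    rw [Finset.sum_eq_single (trivChar G)]
    · simp only [trivChar_apply, one_mul, MonoidHom.one_apply, Units.val_one]
      exact Char.classInner_irr_self Char.isIrrCharacter_one
    · intro χ hχ hne
      by_contra hc
      refine hne (hfix χ (Finset.mem_filter.1 hχ).2 fun h0 => hc ?_)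
      simp only [MonoidHom.one_apply, Units.val_one, h0, mul_zero]
    · intro h
      exact absurd (Finset.mem_filter.2 ⟨Finset.mem_univ _, trivChar_mem_principalBlock hM⟩) h
  have hlam := ((key lam).trans (key 1).symm).trans hone
  choose d hd using degree_natCast (G := G)
  have hm : ∀ χ : IrrCharacter G, ∃ m : ℕ,
      classInner (fun x : (P : Subgroup G) => (χ : G → ℂ) x) (fun x => (lam x : ℂ)) = m := fun χ =>
    Char.IsCharacter.classInner_nat
      (Char.IsCharacter.restrict (Char.IsIrrCharacter.isCharacter χ.2) _) (Char.isCharacter_hom lam)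
  choose m hm using hm
  simp only [hd, hm, ← Nat.cast_mul, ← Nat.cast_sum, Nat.cast_eq_one] at hlam
  obtain ⟨χ, hχ, hpos⟩ : ∃ χ ∈ Finset.univ.filter (fun χ : IrrCharacter G => χ ∈ B),
      d χ * m χ ≠ 0 := Finset.exists_ne_zero_of_sum_ne_zero (by rw [hlam]; exact one_ne_zero)
  have hle : d χ * m χ ≤ 1 := hlam ▸ Finset.single_le_sum
    (f := fun χ => d χ * m χ) (fun _ _ => Nat.zero_le _) hχ
  have h1 : d χ * m χ = 1 := le_antisymm hle (Nat.one_le_iff_ne_zero.2 hpos)
  obtain ⟨hd1, hm1⟩ := mul_eq_one.1 h1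
  obtain ⟨μ, hμ⟩ := Char.exists_hom_of_apply_one_eq_one (Char.IsIrrCharacter.isCharacter χ.2)
    (by rw [hd, hd1, Nat.cast_one])
  refine ⟨μ, fun x => ?_⟩
  have h2 : (fun y : (P : Subgroup G) => (μ y : ℂ)) = fun y => (lam y : ℂ) := by
    by_contra hne
    have h3 := hm χ
    rw [hμ, hm1, Char.classInner_irr_ne (χ := fun y : (P : Subgroup G) => (μ y : ℂ))
      (Char.isIrrCharacter_hom (μ.comp (P : Subgroup G).subtype)) (Char.isIrrCharacter_hom lam) hne]
      at h3
    simp at h3
  exact Units.ext (congrFun h2 x)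

/-- If the linear characters of `P` extend, `P` meets the derived subgroup in `Φ(P)`. -/
theorem commutator_inf_le [hp : Fact p.Prime] (P : Sylow p G)
    (hext : ∀ lam : (P : Subgroup G) →* ℂˣ, ∃ μ : G →* ℂˣ, ∀ x : (P : Subgroup G), μ x = lam x) :
    commutator G ⊓ (P : Subgroup G) ≤
      (frattini (P : Subgroup G)).map (P : Subgroup G).subtype := by
  rintro x ⟨hx, hxP⟩
  refine ⟨⟨x, hxP⟩, ?_, rfl⟩
  have hmem : (⟨x, hxP⟩ : (P : Subgroup G)) ∈ commutator (P : Subgroup G) := by
    by_contra hcon
    have hne : Abelianization.of (⟨x, hxP⟩ : (P : Subgroup G)) ≠ 1 := fun he =>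
      hcon ((QuotientGroup.eq_one_iff _).1 he)
    refine hne (Char.eq_one_of_forall_irr fun φ => ?_)
    obtain ⟨f, hf⟩ := Char.exists_hom_of_apply_one_eq_one (Char.IsIrrCharacter.isCharacter φ.2)
      (Char.apply_one_eq_one_of_comm (fun a b => mul_comm a b) φ.2)
    obtain ⟨μ, hμ⟩ := hext (f.comp Abelianization.of)
    have h1 : μ x = 1 := Abelianization.commutator_subset_ker μ hx
    have h2 := hμ ⟨x, hxP⟩
    rw [h1, MonoidHom.comp_apply] at h2
    rw [hf]
    show (f _ : ℂ) = (f 1 : ℂ)
    rw [← h2, map_one]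
  have hle : commutator (P : Subgroup G) ≤ frattini (P : Subgroup G) := by
    rw [commutator_def, Subgroup.commutator_le]
    exact fun a _ b _ => PGroup.Frattini.commutatorElement_mem_frattini P.2 a b
  exact hle hmem

/-- The group generated by the conjugates of `P` lies in `O_{p'}(G) P`. -/
theorem normalClosure_le [hp : Fact p.Prime] (hM : IsPModular p M) (P : Sylow p G)
    (h : ∀ χ ∈ principalBlock M G,
      Cfsg.IsIrrCharacter (Subgroup.normalizer ((P : Subgroup G) : Set G))
        (fun n : Subgroup.normalizer ((P : Subgroup G) : Set G) => (χ : G → ℂ) n)) :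
    Subgroup.normalClosure ((P : Subgroup G) : Set G) ≤
      Cfsg.pPrimeCore p G ⊔ (P : Subgroup G) := by
  set H := Subgroup.normalizer ((P : Subgroup G) : Set G)
  set K := Subgroup.normalClosure ((P : Subgroup G) : Set G) with hK
  have hPK : (P : Subgroup G) ≤ K := Subgroup.le_normalClosure
  have hPH : (P : Subgroup G) ≤ H := Subgroup.le_normalizer
  let PK : Sylow p K := P.subtype hPK
  -- characters of the principal block with fixed points
  have hfixG : ∀ χ ∈ principalBlock M G,
      classInner (fun x : (P : Subgroup G) => (χ : G → ℂ) x) (fun _ => 1) ≠ 0 →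
        K ≤ irrKer χ := by
    intro χ hχ hne
    have := irrKer_normal χ
    refine Subgroup.normalClosure_le_normal fun x hx => ?_
    let e : (P : Subgroup G).subgroupOf H ≃* (P : Subgroup G) := Subgroup.subgroupOfEquivOfLe hPH
    let φ : IrrCharacter H := ⟨_, h χ hχ⟩
    have hly : classInner (fun y : (P : Subgroup G).subgroupOf H => (φ : H → ℂ) y)
        (fun _ => 1) ≠ 0 := by
      have h1 := Char.classInner_reindex e (fun x : (P : Subgroup G) => (χ : G → ℂ) x)
        (fun _ => (1 : ℂ))
      exact fun h0 => hne (h1.symm.trans h0)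
    have h2 := Blocks.RegIdem.restrict_eq (N := (P : Subgroup G).subgroupOf H)
      Char.isIrrCharacter_one (fun _ _ => rfl) (χ := φ) hly
    have h3 := h2 ⟨⟨x, hPH hx⟩, hx⟩
    have h4 := h2 1
    show (χ : G → ℂ) x = (χ : G → ℂ) 1
    exact h3.trans h4.symm
  -- the same in `K`
  have hfixK : ∀ θ ∈ principalBlock M K,
      classInner (fun x : (PK : Subgroup K) => (θ : K → ℂ) x) (fun _ => 1) ≠ 0 → θ = trivChar K := by
    intro θ hθ hne
    have hcov : ∃ χ ∈ principalBlock M G, ∃ θ ∈ principalBlock M K,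
        classInner (fun n : K => (χ : G → ℂ) n) (θ : K → ℂ) ≠ 0 :=
      ⟨trivChar G, trivChar_mem_principalBlock hM, trivChar K, trivChar_mem_principalBlock hM, by
        rw [show (fun n : K => (trivChar G : G → ℂ) n) = (trivChar K : K → ℂ) from rfl,
          Char.classInner_irr_self (trivChar K).2]
        exact one_ne_zero⟩
    obtain ⟨χ, hχ, hover⟩ := CoverBasics.exists_over_mem hM isPBlock_principalBlock
      isPBlock_principalBlock hcov hθ
    have hker : K ≤ irrKer χ := by
      refine hfixG χ hχ ?_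
      let e : (P : Subgroup G) ≃* (PK : Subgroup K) := (Subgroup.subgroupOfEquivOfLe hPK).symm
      have h1 := CharDeep.Clifford.classInner_ne_zero_trans
        (Char.IsCharacter.restrict (Char.IsIrrCharacter.isCharacter χ.2) K) θ.2 hover
        ((PK : Subgroup K).subtype) (Char.IsIrrCharacter.isCharacter Char.isIrrCharacter_one) hne
      have h2 := Char.classInner_reindex e (fun y : (PK : Subgroup K) => (χ : G → ℂ) (y : K))
        (fun _ => (1 : ℂ))
      exact fun h0 => h1 (h2.symm.trans h0)
    by_contra hθ1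
    refine hover ?_
    rw [show (fun n : K => (χ : G → ℂ) n) = (χ : G → ℂ) 1 • (trivChar K : K → ℂ) from
        funext fun n => by rw [Pi.smul_apply, trivChar_apply, smul_eq_mul, mul_one]; exact hker n.2,
      Char.classInner_smul_left,
      Char.classInner_irr_ne (trivChar K).2 θ.2 (fun he => hθ1 (Subtype.ext he.symm)), mul_zero]
  obtain ⟨Q, N₀, hN₀, hcompl⟩ := Cfsg.Agent.S0081.result PK (commutator K)
    (commutator_inf_le PK (exists_ext hM PK hfixK))
  -- `commutator K ≤ O_{p'}(G) P`
  have hcopN : (Nat.card N₀).Coprime p := by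
    refine Nat.Coprime.symm (hp.out.coprime_iff_not_dvd.2 ?_)
    rw [← hcompl.index_eq_card]
    exact Q.not_dvd_index
  set ι : commutator K →* G := K.subtype.comp (commutator K).subtype with hι
  set O := Cfsg.pPrimeCore p G
  have hKn : K.Normal := Subgroup.normalClosure_normal
  have hC : ((commutator K).map K.subtype).Normal := inferInstance
  have hN₁ : (N₀.map ι).Normal := by
    refine ⟨?_⟩
    rintro _ ⟨y, hy, rfl⟩ g
    obtain ⟨w, hw, hweq⟩ := hC.conj_mem (ι y) ⟨y, y.2, rfl⟩ g
    refine ⟨⟨w, hw⟩, ?_, hweq⟩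
    have hcop : Nat.Coprime (orderOf (⟨w, hw⟩ : commutator K)) p := by
      have h1 : orderOf (⟨w, hw⟩ : commutator K) = orderOf y := by
        rw [← orderOf_injective ι (K.subtype_injective.comp (commutator K).subtype_injective),
          ← orderOf_injective ι (K.subtype_injective.comp (commutator K).subtype_injective) y]
        show orderOf (K.subtype w) = _
        rw [hweq]
        exact orderOf_injective (MulAut.conj g).toMonoidHom (MulAut.conj g).injective _
      rw [h1, show y = ((⟨y, hy⟩ : N₀) : commutator K) from rfl, Subgroup.orderOf_coe]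
      exact Nat.Coprime.coprime_dvd_left (orderOf_dvd_natCard _) hcopN
    obtain ⟨k, hk⟩ := IsPGroup.iff_card.1 Q.2
    exact (QuotientGroup.eq_one_iff _).1 (orderOf_eq_one_iff.1
      (Nat.eq_one_of_dvd_coprimes
        (Nat.Coprime.pow_right k hcop)
        (orderOf_map_dvd (QuotientGroup.mk' N₀) ⟨w, hw⟩)
        (by
          refine (orderOf_dvd_natCard _).trans ?_
          rw [← Subgroup.index_eq_card, hcompl.symm.index_eq_card, hk])))
  have hN₁O : N₀.map ι ≤ O := Solvable.Cores.le_pPrimeCore (by
    rw [Subgroup.card_map_of_injective (f := ι)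
      (K.subtype_injective.comp (commutator K).subtype_injective)]
    exact hcopN)
  set π := QuotientGroup.mk' O
  have hCS : (commutator K).map K.subtype ≤ O ⊔ (P : Subgroup G) := by
    have hn : (((commutator K).map K.subtype).map π).Normal :=
      hC.map π (QuotientGroup.mk'_surjective O)
    have hpg : IsPGroup p (((commutator K).map K.subtype).map π) := by
      rintro ⟨_, _, ⟨y, hy, rfl⟩, rfl⟩
      obtain ⟨k, hk⟩ := IsPGroup.iff_card.1 Q.2
      refine ⟨k, Subtype.ext ?_⟩
      show (π (K.subtype y)) ^ p ^ k = 1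
      rw [← map_pow, QuotientGroup.mk'_apply, QuotientGroup.eq_one_iff]
      refine hN₁O ⟨(⟨y, hy⟩ : commutator K) ^ p ^ k, ?_, by simp [hι]⟩
      refine (QuotientGroup.eq_one_iff _).1 ?_
      rw [QuotientGroup.mk_pow, ← hk, ← hcompl.symm.index_eq_card, Subgroup.index_eq_card]
      exact pow_card_eq_one'
    have h1 := (Solvable.Cores.le_pCore hpg).trans
      (Solvable.Cores.pCore_le_sylow (P.mapSurjective (QuotientGroup.mk'_surjective O)))
    rw [Sylow.coe_mapSurjective, Subgroup.map_le_iff_le_comap, Subgroup.comap_map_eq,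
      QuotientGroup.ker_mk'] at h1
    exact h1.trans_eq (sup_comm _ _)
  refine (Subgroup.closure_le _).2 fun z hz => ?_
  obtain ⟨x, hx, hzx⟩ := Group.mem_conjugatesOfSet_iff.1 hz
  obtain ⟨g, rfl⟩ := isConj_iff.1 hzx
  have hgK : ((g • P : Sylow p G) : Subgroup G) ≤ K := by
    intro y hy
    rw [Sylow.coe_subgroup_smul, Subgroup.mem_pointwise_smul_iff_inv_smul_mem] at hy
    simp [MulAut.smul_def] at hy
    simpa [mul_assoc] using hKn.conj_mem _ (hPK hy) g
  obtain ⟨t, ht⟩ := MulAction.exists_smul_eq K PK ((g • P : Sylow p G).subtype hgK)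
  rw [Sylow.smul_subtype] at ht
  have heq := Sylow.subtype_injective ht
  have hmem : g * x * g⁻¹ ∈ ((g • P : Sylow p G) : Subgroup G) := by
    rw [Sylow.coe_subgroup_smul, Subgroup.mem_pointwise_smul_iff_inv_smul_mem]
    simp [MulAut.smul_def, mul_assoc]
    exact hx
  rw [← heq] at hmem
  rw [Subgroup.smul_def, Sylow.coe_subgroup_smul, Subgroup.mem_pointwise_smul_iff_inv_smul_mem] at hmem
  simp [MulAut.smul_def] at hmem
  set x' := (t : G)⁻¹ * (g * x * g⁻¹) * (t : G) with hx'
  have hx'P : x' ∈ (P : Subgroup G) := by simpa [hx', mul_assoc] using hmem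
  have hcm : ((⁅t, (⟨x', hPK hx'P⟩ : K)⁆ : K) : G) ∈ O ⊔ (P : Subgroup G) :=
    hCS ⟨_, Subgroup.commutator_mem_commutator (Subgroup.mem_top _) (Subgroup.mem_top _), rfl⟩
  have hdec : g * x * g⁻¹ = ((⁅t, (⟨x', hPK hx'P⟩ : K)⁆ : K) : G) * x' := by
    simp [commutatorElement_def, hx', mul_assoc]
  rw [hdec]
  exact Subgroup.mul_mem _ hcm (Subgroup.mem_sup_right hx'P)

/-- `p`-length one is read off from the restrictions to the Sylow normalizer. -/
theorem pLength_iff [hp : Fact p.Prime] (hM : IsPModular p M) (P : Sylow p G) :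
    Cfsg.PLengthLE p 1 G ↔ ∀ χ ∈ principalBlock M G,
      Cfsg.IsIrrCharacter (Subgroup.normalizer ((P : Subgroup G) : Set G))
        (fun n : Subgroup.normalizer ((P : Subgroup G) : Set G) => (χ : G → ℂ) n) := by
  constructor
  · intro h χ hχ
    set O := Cfsg.pPrimeCore p G
    set H := Subgroup.normalizer ((P : Subgroup G) : Set G)
    have := OddOrder.PLengthOne.normal_sup P h
    have hker : ∀ n ∈ O, (χ : G → ℂ) n = (χ : G → ℂ) 1 := by
      intro n hn
      exact le_irrKer_of_sameBlock hM (inferInstance : O.Normal)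
        (fun hd => hp.out.ne_one (Nat.eq_one_of_dvd_coprimes (Solvable.Cores.coprime_card_pPrimeCore p)
          hd dvd_rfl))
        (IsPBlock.sameBlock hM isPBlock_principalBlock (trivChar_mem_principalBlock hM) hχ)
        (fun x _ => rfl) hn
    obtain ⟨ψ, hψ, he⟩ := Char.IsIrrCharacter.exists_deflate χ.2 O hker
    have hsurj : Function.Surjective ((QuotientGroup.mk' O).comp H.subtype) := by
      intro q
      obtain ⟨g, rfl⟩ := QuotientGroup.mk'_surjective O q
      have htop : H ⊔ (O ⊔ (P : Subgroup G)) = ⊤ := Sylow.normalizer_sup_eq_top' P le_sup_right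
      have h2 : H ⊔ O = ⊤ := by
        rw [← htop]
        exact le_antisymm (sup_le le_sup_left (le_sup_left.trans le_sup_right))
          (sup_le le_sup_left (sup_le le_sup_right (Subgroup.le_normalizer.trans le_sup_left)))
      have hg : g ∈ H ⊔ O := h2 ▸ Subgroup.mem_top g
      obtain ⟨a, ha, o, ho, rfl⟩ := Subgroup.mem_sup_of_normal_right.1 hg
      refine ⟨⟨a, ha⟩, ?_⟩
      simp [(QuotientGroup.eq_one_iff o).2 ho]
    rw [show (fun n : H => (χ : G → ℂ) n) = ψ ∘ ((QuotientGroup.mk' O).comp H.subtype) from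
      funext fun n => by rw [he]; rfl]
    exact Char.IsIrrCharacter.comp_surjective hψ _ hsurj
  · intro h
    refine OddOrder.PLengthComplement.of_coprime_index ?_
    set O := Cfsg.pPrimeCore p G
    set π := QuotientGroup.mk' O
    set K := Subgroup.normalClosure ((P : Subgroup G) : Set G)
    have hle : K ≤ O ⊔ (P : Subgroup G) := normalClosure_le hM P h
    have hn : (K.map π).Normal :=
      Subgroup.normalClosure_normal.map π (QuotientGroup.mk'_surjective O)
    have heq : K.map π = (P : Subgroup G).map π := by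
      refine le_antisymm ?_ (Subgroup.map_mono Subgroup.le_normalClosure)
      rw [Subgroup.map_le_iff_le_comap, Subgroup.comap_map_eq, QuotientGroup.ker_mk', sup_comm]
      exact hle
    have hpg : IsPGroup p (K.map π) := by
      rw [heq]; exact P.2.map π
    have hP : (P : Subgroup G) ≤ Cfsg.pPrimePCore p G := fun x hx =>
      Solvable.Cores.le_pCore hpg ⟨x, Subgroup.le_normalClosure hx, rfl⟩
    refine Nat.Coprime.symm (hp.out.coprime_iff_not_dvd.2 fun hd => P.not_dvd_index ?_)
    exact hd.trans (Subgroup.index_dvd_of_le hP)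

end CfsgLib.Blocks.PLengthCriterion
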