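import Cfsg.Agent.Lib.Blocks.RegularBasis
import Cfsg.Agent.Lib.Blocks.GaloisLinear
import Cfsg.Agent.Lib.BrouePuig.Inner
import Mathlib.RingTheory.ZMod.UnitsCyclic

/-!
# Rational characters of a block for an odd prime

For odd `p` the Galois group fixing the roots of unity of order prime to `p` is cyclic; the number
of characters of a block fixed by a generator is the trace of the permutation, which the Second
Main Theorem evaluates section by section.  The identity section gives the regular rank, the others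
give non-negative traces.
-/

set_option autoImplicit false
set_option linter.unusedSectionVars false
set_option maxHeartbeats 1000000

namespace CfsgLib.Blocks.PRationalCount

open Cfsg CfsgLib.Blocks CfsgLib.BrauerPairs CfsgLib.BrouePuig
open scoped Classical ComplexConjugate

universe u

/-- One exponent generates the Galois group over the roots of unity of order prime to `p`. -/
theorem exists_exponent {p : ℕ} [hp : Fact p.Prime] (hodd : p ≠ 2) {n : ℕ} (hn : n ≠ 0) :
    ∃ k₀ : ℕ, k₀.Coprime n ∧ k₀ ≡ 1 [MOD n / p ^ n.factorization p] ∧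
      ∀ k : ℕ, k.Coprime n → k ≡ 1 [MOD n / p ^ n.factorization p] →
        ∃ j : ℕ, k ≡ k₀ ^ j [MOD n] := by
  set q := p ^ n.factorization p
  set m := n / q
  have hn' : q * m = n := Nat.ordProj_mul_ordCompl_eq_self n p
  have hco : q.Coprime m := Nat.Coprime.pow_left _ (Nat.coprime_ordCompl hp.out hn)
  haveI : NeZero q := ⟨pow_ne_zero _ hp.out.ne_zero⟩
  haveI := ZMod.isCyclic_units_of_prime_pow p hp.out hodd (n.factorization p)
  obtain ⟨g, hg⟩ := IsCyclic.exists_generator (α := (ZMod q)ˣ)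
  obtain ⟨k₀, h1, h2⟩ := Nat.chineseRemainder hco (g : ZMod q).val 1
  have hk0 : ((k₀ : ℕ) : ZMod q) = (g : ZMod q) := by
    rw [← ZMod.natCast_zmod_val (g : ZMod q), ZMod.natCast_eq_natCast_iff]
    exact h1
  refine ⟨k₀, ?_, h2, fun k hk hk1 => ?_⟩
  · rw [← hn']
    refine Nat.Coprime.mul_right ((ZMod.isUnit_iff_coprime _ _).1 (hk0 ▸ g.isUnit)) ?_
    rw [Nat.Coprime, h2.gcd_eq, Nat.gcd_one_left]
  · have hkq : k.Coprime q := Nat.Coprime.coprime_dvd_right (Dvd.intro _ hn') hk
    obtain ⟨j, hj⟩ := (mem_powers_iff_mem_zpowers (x := g)).2 (hg (ZMod.unitOfCoprime k hkq))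
    refine ⟨j, ?_⟩
    rw [← hn']
    refine (Nat.modEq_and_modEq_iff_modEq_mul hco).1 ⟨?_, ?_⟩
    · rw [← ZMod.natCast_eq_natCast_iff, Nat.cast_pow, hk0, ← Units.val_pow_eq_pow_val]
      rw [show g ^ j = ZMod.unitOfCoprime k hkq from hj, ZMod.coe_unitOfCoprime]
    · exact hk1.trans (by simpa using (h2.pow j).symm)

variable {G : Type u} [Group G] [Fintype G] {p : ℕ} {M : Ideal AlgInt}

/-- Conjugation by `y` on a subgroup it normalizes. -/
def conjSub {K : Subgroup G} {y : G} (h1 : ∀ c ∈ K, y⁻¹ * c * y ∈ K) (h2 : ∀ c ∈ K, y * c * y⁻¹ ∈ K) :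
    K ≃* K where
  toFun c := ⟨y⁻¹ * (c : G) * y, h1 _ c.2⟩
  invFun c := ⟨y * (c : G) * y⁻¹, h2 _ c.2⟩
  left_inv c := Subtype.ext (by simp [mul_assoc])
  right_inv c := Subtype.ext (by simp [mul_assoc])
  map_mul' a b := Subtype.ext (by simp [mul_assoc])

/-- A conjugation normalizing `K` fixes the blocks inducing `B` as a set. -/
theorem blockCoeff_sectionSet_conj (hM : IsPModular p M) {K : Subgroup G} {B : Set (IrrCharacter G)}
    (α : K ≃* K) (hα : ∀ c : K, IsConj ((α c : K) : G) (c : G)) (h : K) :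
    blockCoeff (sectionSet M K B) (α h) = blockCoeff (sectionSet M K B) h := by
  have hind : ∀ (ξ : IrrCharacter K) (g : G),
      inducedCentralChar K (irrEquiv α ξ : K → ℂ) g = inducedCentralChar K (ξ : K → ℂ) g := by
    intro ξ g
    simp only [inducedCentralChar, irrEquiv_apply, map_one]
    refine finsum_mem_eq_of_bijOn α ⟨fun c hc => hc.trans (hα c).symm, α.injective.injOn,
      fun c hc => ⟨α.symm c, ?_, α.apply_symm_apply c⟩⟩ fun c _ => rfl
    have := hα (α.symm c)
    rw [α.apply_symm_apply] at this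
    exact hc.trans this
  have hsub : irrEquiv α '' sectionSet M K B ⊆ sectionSet M K B := by
    rintro _ ⟨ψ, hψ, rfl⟩
    obtain ⟨h1, h2, h3⟩ := (hψ : IsInducedBlock M K (blockOf M (ψ : K → ℂ)) B)
    refine ⟨⟨_, rfl⟩, h2, fun ξ hξ χ hχ g => ?_⟩
    obtain ⟨ξ, rfl⟩ := (irrEquiv α).surjective ξ
    rw [hind]
    exact h3 ξ ((sameBlock_irrEquiv α _ _).1 hξ) χ hχ g
  have heq : irrEquiv α '' sectionSet M K B = sectionSet M K B :=
    Set.eq_of_subset_of_ncard_le hsub
      (le_of_eq (Set.ncard_image_of_injective _ (irrEquiv α).injective).symm) (Set.toFinite _)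
  conv_rhs => rw [← heq, blockCoeff_image]

theorem pow_eq_self_of_regular (hp : p.Prime) {k : ℕ}
    (hk : k ≡ 1 [MOD Nat.card G / p ^ (Nat.card G).factorization p]) {c : G}
    (hc : ¬ p ∣ orderOf c) : c ^ k = c := by
  conv_rhs => rw [← pow_one c]
  exact pow_eq_pow_iff_modEq.2 (hk.of_dvd (dvd_ordCompl_of_not_dvd hp hc))

/-- The contribution of a section. -/
theorem exists_nat_section [Fact p.Prime] (hM : IsPModular p M) {B : Set (IrrCharacter G)}
    (hB : IsPBlock M B) {k : ℕ} (hk : (Nat.card G).Coprime k)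
    (hk1 : k ≡ 1 [MOD Nat.card G / p ^ (Nat.card G).factorization p]) {u : G}
    (hu : ∃ j : ℕ, orderOf u = p ^ j) :
    ∃ N : ℕ, ∑ c : cenZ u with IsPRegular p c, ∑ χ : IrrCharacter G, blockInd B χ *
      ((χ : G → ℂ) ((u * (c : G)) ^ k) * (χ : G → ℂ) (u * (c : G))⁻¹) = (N : ℂ) := by
  obtain ⟨j, hj⟩ := hu
  have hcomm : ∀ c : cenZ u, Commute u (c : G) := fun c =>
    Subgroup.mem_centralizer_iff.1 c.2 u (Subgroup.mem_zpowers u)
  have hreg : ∀ c : cenZ u, IsPRegular p c → ¬ p ∣ orderOf (c : G) := fun c hc => by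
    rw [Subgroup.orderOf_coe]; exact hc
  have hpow : ∀ c : cenZ u, IsPRegular p c → (u * (c : G)) ^ k = u ^ k * (c : G) := fun c hc => by
    rw [(hcomm c).mul_pow, pow_eq_self_of_regular hM.1 hk1 (hreg c hc)]
  have huk : orderOf (u ^ k) = p ^ j :=
    (Nat.Coprime.orderOf_pow ((hk.coprime_dvd_left (orderOf_dvd_natCard u)))).trans hj
  by_cases hconj : IsConj u (u ^ k)
  · obtain ⟨y, hy⟩ := isConj_iff.1 hconj
    have hK : cenZ u = Subgroup.centralizer ({u} : Set G) := cenZ_eq u
    have hmem : ∀ c : G, c ∈ cenZ u ↔ Commute c u := fun c => by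
      rw [hK, Subgroup.mem_centralizer_singleton_iff]; rfl
    have hmemk : ∀ c : G, c ∈ cenZ u ↔ Commute c (u ^ k) := fun c => by
      rw [hK, ← GaloisLinear.centralizer_pow hk u, Subgroup.mem_centralizer_singleton_iff]; rfl
    have h1 : ∀ c ∈ cenZ u, y⁻¹ * c * y ∈ cenZ u := fun c hc => by
      rw [hmem]
      have := (show Commute c (u ^ k) from (hmemk c).1 hc).map (MulAut.conj y⁻¹)
      rwa [MulAut.conj_apply, MulAut.conj_apply, inv_inv,
        show y⁻¹ * u ^ k * y = u by rw [← hy]; simp [mul_assoc]] at this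
    have h2 : ∀ c ∈ cenZ u, y * c * y⁻¹ ∈ cenZ u := fun c hc => by
      rw [hmemk]
      have := (show Commute c u from (hmem c).1 hc).map (MulAut.conj y)
      rwa [MulAut.conj_apply, MulAut.conj_apply, hy] at this
    let α : cenZ u ≃* cenZ u := conjSub h1 h2
    have hαc : ∀ c, IsConj ((α c : cenZ u) : G) (c : G) := fun c =>
      isConj_iff.2 ⟨y, show y * (y⁻¹ * (c : G) * y) * y⁻¹ = c by simp [mul_assoc]⟩
    obtain ⟨N, hN⟩ := RegularBasis.exists_nat_trace hM (sectionSet_isLocalOn hM (cenZ u) B) α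
      (blockCoeff_sectionSet_conj hM α hαc)
    refine ⟨Nat.card (cenZ u) * N, ?_⟩
    rw [Nat.cast_mul, ← hN]
    refine Finset.sum_congr rfl fun c hc => ?_
    have hc' := (Finset.mem_filter.1 hc).2
    rw [← sum_block_section hM hK ⟨j, hj⟩ hB (show ¬ p ∣ orderOf (α c) by
      rw [MulEquiv.orderOf_eq]; exact hc') hc']
    refine Finset.sum_congr rfl fun χ _ => ?_
    congr 2
    rw [hpow c hc', ← irr_conj_apply χ (u * ((α c : cenZ u) : G)) y]
    refine congrArg (χ : G → ℂ) ?_
    show _ = y * (u * (y⁻¹ * (c : G) * y)) * y⁻¹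
    rw [← hy]
    simp [mul_assoc]
  · refine ⟨0, ?_⟩
    rw [Nat.cast_zero]
    refine Finset.sum_eq_zero fun c hc => ?_
    have hc' := (Finset.mem_filter.1 hc).2
    rw [hpow c hc']
    exact sum_block_mul_eq_zero hM hB (isPPart_mul ((hcomm c).pow_left k) huk (hreg c hc'))
      (isPPart_mul (hcomm c) hj (hreg c hc')) fun h => hconj h.symm

/-- The characters of a block fixed by the twist are at least as many as its regular rank. -/
theorem blockRank_le_fixed [Fact p.Prime] (hM : IsPModular p M) {B : Set (IrrCharacter G)}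
    (hB : IsPBlock M B) {k : ℕ} (hk : (Nat.card G).Coprime k)
    (hk1 : k ≡ 1 [MOD Nat.card G / p ^ (Nat.card G).factorization p]) :
    blockRank p B ≤ (Finset.univ.filter fun χ : IrrCharacter G =>
      χ ∈ B ∧ GaloisLinear.twist hk χ = χ).card := by
  set n : ℂ := (Nat.card G : ℂ) with hn
  set F : G → ℂ := fun g => ∑ χ : IrrCharacter G, blockInd B χ *
    ((χ : G → ℂ) (g ^ k) * (χ : G → ℂ) g⁻¹) with hF
  -- the trace of the twist
  have htot : ∑ g, F g = n * ((Finset.univ.filter fun χ : IrrCharacter G =>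
      χ ∈ B ∧ GaloisLinear.twist hk χ = χ).card : ℂ) := by
    have h : ∀ χ : IrrCharacter G, ∑ g, (χ : G → ℂ) (g ^ k) * (χ : G → ℂ) g⁻¹
        = n * if GaloisLinear.twist hk χ = χ then 1 else 0 := fun χ => by
      rw [← CfsgLib.Char.classInner_irrCharacter (GaloisLinear.twist hk χ) χ, Cfsg.classInner, hn,
        ← mul_assoc, mul_inv_cancel₀ CfsgLib.Char.card_ne_zero, one_mul]
      exact Finset.sum_congr rfl fun g _ => by rw [conj_irr]; rfl
    rw [Finset.natCast_card_filter, Finset.mul_sum, Finset.sum_comm]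
    refine Finset.sum_congr rfl fun χ _ => ?_
    rw [← Finset.mul_sum, h]
    by_cases hχ : χ ∈ B
    · rw [blockInd_of_mem hχ, one_mul]
      exact congrArg (n * ·) (if_congr (and_iff_right hχ).symm rfl rfl)
    · rw [blockInd_of_notMem hχ, zero_mul, if_neg fun h => hχ h.1, mul_zero]
  rw [sum_eq_sum_pParts hM.1] at htot
  -- the identity section
  have h1 : ∑ c : cenZ (1 : G) with IsPRegular p c, F ((1 : G) * (c : G))
      = n * (blockRank p B : ℂ) := by
    rw [hn, ← sum_blockKernel_regular hM hB]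
    refine Finset.sum_bij (fun c _ => (c : G)) (fun c hc => ?_) (fun _ _ _ _ h => Subtype.ext h)
      (fun g hg => ?_) (fun c hc => ?_)
    · refine Finset.mem_filter.2 ⟨Finset.mem_univ _, ?_⟩
      show ¬ p ∣ orderOf (c : G)
      rw [Subgroup.orderOf_coe]; exact (Finset.mem_filter.1 hc).2
    · refine ⟨⟨g, ?_⟩, Finset.mem_filter.2 ⟨Finset.mem_univ _, ?_⟩, rfl⟩
      · rw [cenZ_eq, Subgroup.mem_centralizer_singleton_iff]; simp
      · show ¬ p ∣ orderOf _
        rw [← Subgroup.orderOf_coe]; exact (Finset.mem_filter.1 hg).2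
    · have hreg : ¬ p ∣ orderOf (c : G) := by
        rw [Subgroup.orderOf_coe]; exact (Finset.mem_filter.1 hc).2
      simp only [F, one_mul, blockKernel, pow_eq_self_of_regular hM.1 hk1 hreg]
      exact Finset.sum_congr rfl fun χ _ => by rw [mul_comm ((χ : G → ℂ) (c : G))]
  -- the other sections
  choose N hN using fun (u : {u : G // ∃ j : ℕ, orderOf u = p ^ j}) =>
    exists_nat_section hM hB hk hk1 u.2
  let T : G → ℕ := fun u => if h : ∃ j : ℕ, orderOf u = p ^ j then N ⟨u, h⟩ else 0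
  have hmem : (1 : G) ∈ Finset.univ.filter fun u : G => ∃ j : ℕ, orderOf u = p ^ j :=
    Finset.mem_filter.2 ⟨Finset.mem_univ _, 0, by simp⟩
  rw [← Finset.add_sum_erase _ _ hmem, h1,
    Finset.sum_congr rfl (g := fun u => (T u : ℂ)) fun u hu => by
      have hu' := (Finset.mem_filter.1 (Finset.mem_of_mem_erase hu)).2
      simp only [T, dif_pos hu']
      exact hN ⟨u, hu'⟩, ← Nat.cast_sum, hn, ← Nat.cast_mul, ← Nat.cast_mul, ← Nat.cast_add,
    Nat.cast_inj] at htot
  exact Nat.le_of_mul_le_mul_left (htot ▸ Nat.le_add_right _ _) Nat.card_pos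

theorem twist_eq_iff {k : ℕ} (hk : (Nat.card G).Coprime k) (χ : IrrCharacter G) :
    GaloisLinear.twist hk χ = χ ↔ ∀ g, (χ : G → ℂ) (g ^ k) = (χ : G → ℂ) g :=
  ⟨fun h g => congrFun (congrArg Subtype.val h) g, fun h => Subtype.ext (funext h)⟩

/-- The `p`-rational characters of a block are at least as many as its regular rank. -/
theorem blockRank_le [hp : Fact p.Prime] (hodd : p ≠ 2) (hM : IsPModular p M)
    {B : Set (IrrCharacter G)} (hB : IsPBlock M B) :
    blockRank p B ≤ Nat.card {χ : IrrCharacter G // χ ∈ B ∧ ∀ k : ℕ, Nat.Coprime k (Nat.card G) →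
      k ≡ 1 [MOD Nat.card G / p ^ (Nat.card G).factorization p] →
      ∀ g : G, (χ : G → ℂ) (g ^ k) = (χ : G → ℂ) g} := by
  obtain ⟨k₀, hk₀, hk₁, hgen⟩ := exists_exponent (p := p) hodd (n := Nat.card G) Nat.card_pos.ne'
  refine (blockRank_le_fixed hM hB hk₀.symm hk₁).trans (le_of_eq ?_)
  rw [Nat.subtype_card (Finset.univ.filter fun χ : IrrCharacter G =>
    χ ∈ B ∧ GaloisLinear.twist hk₀.symm χ = χ) fun χ => ?_]
  rw [Finset.mem_filter, twist_eq_iff]
  refine ⟨fun h => ⟨h.2.1, fun k hk hk1 g => ?_⟩,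
    fun h => ⟨Finset.mem_univ _, h.1, fun g => h.2 k₀ hk₀ hk₁ g⟩⟩
  have h := h.2.2
  obtain ⟨j, hj⟩ := hgen k hk hk1
  rw [pow_eq_pow_iff_modEq.2 (hj.of_dvd (orderOf_dvd_natCard g))]
  clear hj
  induction j generalizing g with
  | zero => simp
  | succ j ih => rw [pow_succ', pow_mul, ih, h]

end CfsgLib.Blocks.PRationalCount
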