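import Cfsg.Agent.Lib.Blocks.TIAbelianExceptional
import Cfsg.Agent.Lib.Blocks.CharLattice

/-!
# The principal block for a Sylow subgroup of prime order
-/

set_option autoImplicit false

namespace CfsgLib.Blocks.PrimeOrder

open Cfsg CfsgLib.Blocks CfsgLib.BrauerSuzuki CfsgLib.Blocks.TIAbelian
open scoped Classical ComplexConjugate

variable {G : Type*} [Group G] [Fintype G] {p : ℕ} [hp : Fact p.Prime]

theorem not_sq_dvd (P : Sylow p G) (hP : Nat.card P = p) : ¬ p ^ 2 ∣ Nat.card G := fun h => by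
  have h1 := P.pow_dvd_card_of_pow_dvd_card h
  rw [hP] at h1
  have := Nat.le_of_dvd hp.out.pos h1
  have := hp.out.two_le
  nlinarith

theorem pow_prime_eq_one {x : G} (hx : orderOf x = p) : x ^ p = 1 :=
  orderOf_dvd_iff_pow_eq_one.1 (dvd_of_eq hx)

theorem zpowers_eq (P : Sylow p G) (hP : Nat.card P = p) {y : G} (hy : y ∈ (P : Subgroup G)) (hy1 : y ≠ 1) :
    Subgroup.zpowers y = (P : Subgroup G) := by
  haveI : Fact (Nat.card (P : Subgroup G)).Prime := ⟨by rw [show Nat.card (P : Subgroup G) = p from hP]; exact hp.out⟩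
  refine Subgroup.eq_of_le_of_card_ge (Subgroup.zpowers_le.2 hy) ?_
  rw [Nat.card_zpowers, show Nat.card (P : Subgroup G) = p from hP]
  have hd : orderOf y ∣ p := by
    have := orderOf_dvd_natCard (⟨y, hy⟩ : (P : Subgroup G))
    rwa [Subgroup.orderOf_mk, show Nat.card (P : Subgroup G) = p from hP] at this
  rcases (Nat.dvd_prime hp.out).1 hd with h | h
  · exact absurd (orderOf_eq_one_iff.1 h) hy1
  · exact h.ge

theorem frobSylow_of_card (P : Sylow p G) (hP : Nat.card P = p) : FrobSylow P where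
  comm x hx y hy := by
    by_cases hx1 : x = 1
    · rw [hx1, one_mul, mul_one]
    rw [← zpowers_eq P hP hx hx1] at hy
    obtain ⟨k, rfl⟩ := Subgroup.mem_zpowers_iff.1 hy
    exact (Commute.self_zpow x k).eq
  fpf y hy hy1 := by
    refine inf_le_left.trans fun g hg => Subgroup.mem_centralizer_iff.2 fun z hz => ?_
    rw [SetLike.mem_coe, ← zpowers_eq P hP hy hy1] at hz
    obtain ⟨k, rfl⟩ := Subgroup.mem_zpowers_iff.1 hz
    exact ((show Commute y g from (Subgroup.mem_centralizer_singleton_iff.1 hg).symm).zpow_left k).eq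

theorem exists_generator (P : Sylow p G) (hP : Nat.card P = p) :
    ∃ x : G, x ∈ (P : Subgroup G) ∧ orderOf x = p ∧ Subgroup.zpowers x = (P : Subgroup G) := by
  have hne : (P : Subgroup G) ≠ ⊥ := fun h => hp.out.one_lt.ne' (by rw [← hP, show Nat.card P = Nat.card (P : Subgroup G) from rfl, h, Subgroup.card_bot])
  obtain ⟨x, hx, hx1⟩ := (Subgroup.bot_or_exists_ne_one (P : Subgroup G)).resolve_left hne
  refine ⟨x, hx, ?_, zpowers_eq P hP hx hx1⟩
  rw [← Nat.card_zpowers, zpowers_eq P hP hx hx1]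
  exact hP

/-- The `p'`-part of the centralizer. -/
theorem exists_complement (P : Sylow p G) (hP : Nat.card P = p) {x : G} (hxP : x ∈ (P : Subgroup G))
    (hx : orderOf x = p) :
    ∃ K0 : Subgroup G, (∀ y, y ∈ K0 ↔ Commute y x ∧ ¬ p ∣ orderOf y) ∧
      (∀ n ∈ Subgroup.normalizer ((Subgroup.zpowers x : Subgroup G) : Set G), ∀ y ∈ K0, n * y * n⁻¹ ∈ K0) ∧
      ¬ p ∣ Nat.card K0 ∧ ∀ c, Commute c x → ∃ i : ℕ, ∃ y ∈ K0, c = x ^ i * y := by
  have hx1 : x ≠ 1 := fun h => hp.out.one_lt.ne (by rw [← hx, h, orderOf_one])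
  set C := Subgroup.centralizer ({x} : Set G) with hC
  have hnpc := (frobSylow_of_card P hP).npc_centralizer hxP hx1
  set R := (Cfsg.pResidual p C).map C.subtype with hR
  have hcop := CfsgLib.Fusion.Basic.npc_iff_coprime.mp hnpc
  have hRcard : ¬ p ∣ Nat.card R := by
    rw [hR, Subgroup.card_map_of_injective C.subtype_injective]
    exact (Nat.Prime.coprime_iff_not_dvd hp.out).mp hcop.symm
  have hmem : ∀ y, y ∈ R ↔ Commute y x ∧ ¬ p ∣ orderOf y := by
    intro y
    constructor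
    · intro hy
      refine ⟨?_, fun hd => hRcard (hd.trans (Subgroup.orderOf_dvd_natCard R hy))⟩
      obtain ⟨z, -, rfl⟩ := hy
      exact Subgroup.mem_centralizer_singleton_iff.1 z.2
    · rintro ⟨hyc, hyr⟩
      refine ⟨⟨y, Subgroup.mem_centralizer_singleton_iff.2 hyc⟩, CfsgLib.Fusion.Basic.mem_pResidual_of_coprime ?_, rfl⟩
      rw [Subgroup.orderOf_mk]
      exact ((Nat.Prime.coprime_iff_not_dvd hp.out).mpr hyr).symm
  refine ⟨R, hmem, fun n hn y hy => (hmem _).2 ⟨?_, ?_⟩, hRcard, fun c hc => ?_⟩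
  · obtain ⟨hyc, -⟩ := (hmem y).1 hy
    obtain ⟨k, hk⟩ := Subgroup.mem_zpowers_iff.1 ((Subgroup.mem_normalizer_iff''.1 hn x).1 (Subgroup.mem_zpowers x))
    have h1 : Commute y (n⁻¹ * x * n) := hk ▸ hyc.zpow_right k
    have h2 := h1.map (MulAut.conj n).toMonoidHom
    have e : n * (n⁻¹ * x * n) * n⁻¹ = x := by group
    simpa [e] using h2
  · rw [orderOf_conj']; exact ((hmem y).1 hy).2
  · obtain ⟨z, s, hzs, hzc, hspec⟩ : ∃ z s : G, z * s = c ∧ Commute z s ∧
        (∃ k, orderOf z = p ^ k) ∧ ¬ p ∣ orderOf s ∧ Commute z x := by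
      obtain ⟨z, y, -, hzy, hcomm, hreg, hk, hz1, hy1⟩ := exists_isPPart (G := G) hp.out c
      refine ⟨z, y, hzy, hcomm, hk, hreg, ?_⟩
      obtain ⟨i, rfl⟩ := hz1
      exact hc.zpow_left i
    obtain ⟨⟨k, hk⟩, hsr, hzx⟩ := hspec
    have hle : Subgroup.zpowers z ≤ (P : Subgroup G) := by
      have hsup : IsPGroup p ↥((P : Subgroup G) ⊔ Subgroup.zpowers z : Subgroup G) := by
        refine IsPGroup.to_sup_of_normal_left' P.2 (IsPGroup.of_card (n := k) (by rw [Nat.card_zpowers, hk])) ?_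
        rw [Subgroup.zpowers_le, ← zpowers_eq P hP hxP hx1]
        refine Subgroup.mem_normalizer_iff.2 fun u => ?_
        constructor
        · intro hu
          obtain ⟨j, rfl⟩ := Subgroup.mem_zpowers_iff.1 hu
          rw [(hzx.zpow_right j).eq, mul_inv_cancel_right]
          exact hu
        · intro hu
          obtain ⟨j, hj⟩ := Subgroup.mem_zpowers_iff.1 hu
          have : u = x ^ j := by
            have e := (hzx.inv_left.zpow_right j).eq
            rw [hj] at e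
            calc u = z⁻¹ * (z * u * z⁻¹) * z := by group
              _ = (z * u * z⁻¹) * z⁻¹ * z := by rw [e]
              _ = z * u * z⁻¹ := by group
              _ = x ^ j := hj.symm
          rw [this]
          exact Subgroup.mem_zpowers_iff.2 ⟨j, rfl⟩
      exact le_sup_right.trans (P.3 hsup le_sup_left).le
    have hzP := hle (Subgroup.mem_zpowers z)
    rw [← zpowers_eq P hP hxP hx1] at hzP
    obtain ⟨i, hi⟩ := (isOfFinOrder_of_finite x).mem_powers_iff_mem_zpowers.2 hzP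
    refine ⟨i, s, (hmem s).2 ⟨?_, hsr⟩, by rw [← hzs, ← hi]⟩
    have : s = z⁻¹ * c := by rw [← hzs, inv_mul_cancel_left]
    rw [this]
    exact hzx.inv_left.mul_left hc

theorem isPPart_pow_mul {x y : G} (hx : orderOf x = p) (hyc : Commute y x) (hyr : ¬ p ∣ orderOf y) {i : ℕ}
    (hi : i ∈ Finset.Ico 1 p) : IsPPart p (x ^ i * y) (x ^ i) ∧ x ^ i ≠ 1 := by
  obtain ⟨h1, h2⟩ := Finset.mem_Ico.1 hi
  have hne : x ^ i ≠ 1 := fun h => by
    have := Nat.le_of_dvd (by omega) (orderOf_dvd_iff_pow_eq_one.2 h)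
    omega
  refine ⟨isPPart_mul (hyc.symm.pow_left i) (k := 1) ?_ hyr, hne⟩
  rw [pow_one, orderOf_pow, hx, ((Nat.Prime.coprime_iff_not_dvd hp.out).2 fun h =>
    absurd (Nat.le_of_dvd (by omega) h) (by omega)), Nat.div_one]

/-- A singular element has a conjugate with nontrivial `p`-part in `P`. -/
theorem exists_conj_singular (P : Sylow p G) {g : G} (hg : p ∣ orderOf g) :
    ∃ (u : G) (y : ↥(P : Subgroup G)), IsPPart p (u * g * u⁻¹) (y : G) ∧ (y : G) ≠ 1 := by
  obtain ⟨u, hu⟩ := exists_conj_pEl P g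
  refine ⟨u, ⟨_, hu⟩, isPPart_conj (pEl_spec g) u, fun e => ?_⟩
  have hy1 : pEl p g = 1 := conj_eq_one_iff.mp e
  obtain ⟨s, hs, -, -, hsr⟩ := pEl_spec (p := p) g
  rw [hy1, one_mul] at hs
  exact hsr (hs ▸ hg)

theorem sum_pow_hom (P : Sylow p G) {x : G} (hxP : x ∈ (P : Subgroup G)) (hx : orderOf x = p)
    (hzp : Subgroup.zpowers x = (P : Subgroup G)) {μ : ↥(P : Subgroup G) →* ℂˣ} (hμ : μ ≠ 1) :
    IsPrimitiveRoot ((μ ⟨x, hxP⟩ : ℂˣ) : ℂ) p := by
  have hpow : ((μ ⟨x, hxP⟩ : ℂˣ) : ℂ) ^ p = 1 := by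
    rw [← Units.val_pow_eq_pow_val, ← map_pow, show (⟨x, hxP⟩ : ↥(P : Subgroup G)) ^ p = 1 from
      Subtype.ext (by rw [Subgroup.coe_pow, pow_prime_eq_one hx]; rfl), map_one, Units.val_one]
  refine IsPrimitiveRoot.iff_orderOf.2 (orderOf_eq_prime hpow fun h => hμ (MonoidHom.ext fun y => ?_))
  have hy : (y : G) ∈ Subgroup.zpowers x := by rw [hzp]; exact y.2
  obtain ⟨k, hk⟩ := Subgroup.mem_zpowers_iff.1 hy
  rw [show y = (⟨x, hxP⟩ : ↥(P : Subgroup G)) ^ k from Subtype.ext (by rw [Subgroup.coe_zpow, hk]), map_zpow,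
    show μ ⟨x, hxP⟩ = 1 from Units.ext h, one_zpow]
  rfl

/-- The degree against the values on `P`. -/
theorem degree_add_sum (P : Sylow p G) {x : G} (hxP : x ∈ (P : Subgroup G)) (hx : orderOf x = p)
    (hzp : Subgroup.zpowers x = (P : Subgroup G)) (χ : IrrCharacter G) :
    ∃ n : ℕ, (charDegree (χ : G → ℂ) : ℂ) + ∑ i ∈ Finset.Ico 1 p, (χ : G → ℂ) (x ^ i) = (p : ℂ) * n := by
  obtain ⟨n, hn⟩ := Char.IsCharacter.classInner_nat
    (Char.IsCharacter.restrict (Char.isCharacter_irr χ) (P : Subgroup G)) (Char.isCharacter_one (G := ↥(P : Subgroup G)))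
  refine ⟨n, ?_⟩
  rw [Char.classInner_fun_one_right] at hn
  have hcard : Nat.card ↥(P : Subgroup G) = p := by rw [← hzp, Nat.card_zpowers, hx]
  rw [hcard, inv_mul_eq_iff_eq_mul₀ (Nat.cast_ne_zero.2 hp.out.ne_zero)] at hn
  rw [← hn, ← irr_one_eq, ← pow_zero x, ← Finset.sum_eq_sum_Ico_succ_bot hp.out.pos
    (fun i => (χ : G → ℂ) (x ^ i)), ← Finset.range_eq_Ico]
  refine Finset.sum_bij (fun i _ => (⟨x ^ i, pow_mem hxP i⟩ : ↥(P : Subgroup G))) (fun i _ => Finset.mem_univ _)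
    (fun i hi j hj e => ?_) (fun y _ => ?_) (fun i _ => rfl)
  · exact pow_injOn_Iio_orderOf (by simpa [hx] using Finset.mem_range.1 hi) (by simpa [hx] using Finset.mem_range.1 hj)
      (congrArg Subtype.val e)
  · have hy : (y : G) ∈ Subgroup.zpowers x := by rw [hzp]; exact y.2
    obtain ⟨k, hk⟩ := (isOfFinOrder_of_finite x).mem_powers_iff_mem_zpowers.2 hy
    exact ⟨k % p, Finset.mem_range.2 (Nat.mod_lt _ hp.out.pos), Subtype.ext (by
      show x ^ (k % p) = y
      rw [← pow_eq_pow_mod k (pow_prime_eq_one hx)]; exact hk)⟩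

/-- A member of the principal block does not vanish on all singular elements. -/
theorem not_vanish {M : Ideal AlgInt} (hM : IsPModular p M) (hdiv : p ∣ Nat.card G) {χ : IrrCharacter G}
    (hχ : χ ∈ principalBlock M G) : ∃ g : G, p ∣ orderOf g ∧ (χ : G → ℂ) g ≠ 0 := by
  by_contra hcon
  push Not at hcon
  have hne : trivChar G ≠ χ := fun e => by
    obtain ⟨g, hg⟩ := exists_prime_orderOf_dvd_card' p hdiv
    have := hcon g (by rw [hg])
    rw [← e, show ((trivChar G : IrrCharacter G) : G → ℂ) g = 1 from rfl] at this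
    exact one_ne_zero this
  have htB : trivChar G ∈ principalBlock M G := trivChar_mem_principalBlock hM
  have hdeg0 : degVal p (trivChar G) = minDegVal p (principalBlock M G) := by
    have h1 : charDegree ((trivChar G : IrrCharacter G) : G → ℂ) = 1 := by
      show ⌊((1 : ℂ)).re⌋₊ = 1
      simp
    have h2 : degVal p (trivChar G) = 0 := by simp [degVal, h1]
    have := minDegVal_le (p := p) htB
    omega
  refine regInt_ne_zero_of_min hM isPBlock_principalBlock htB hdeg0 hχ ?_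
  apply Int.cast_injective (α := ℂ)
  rw [cast_regInt hp.out, regInner, Int.cast_zero, mul_eq_zero]
  right
  have hs := sum_mul_inv (trivChar G) χ
  rw [if_neg hne, ← Finset.sum_filter_add_sum_filter_not Finset.univ (fun x : G => IsPRegular p x)] at hs
  rw [Finset.sum_eq_zero (s := Finset.univ.filter fun x : G => ¬ IsPRegular p x) fun x hx => by
    rw [hcon x⁻¹ (by rw [orderOf_inv]; exact not_isPRegular.1 (Finset.mem_filter.1 hx).2), mul_zero],
    add_zero] at hs
  rw [hs]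

/-- The bound of `CharLattice` over the Witt vectors. -/
theorem family_bound' (P : Sylow p G) (hP : Nat.card P = p) {x : G} (hxP : x ∈ (P : Subgroup G)) (hx : orderOf x = p) :
    ∃ ι : CharLattice.coefRing p (Nat.card G / p) →+* ℂ, Function.Injective ι ∧
      ∀ (E : Finset (IrrCharacter G)), E.Nonempty →
        (∀ η ∈ E, ∀ η' ∈ E, ∀ g : G, ¬ p ∣ orderOf g → (η : G → ℂ) g = (η' : G → ℂ) g) →
        (∀ g : G, p ∣ orderOf g → ∃ A : ℤ, ∑ η ∈ E, (η : G → ℂ) g = A) →
        ∀ B : ℤ, (∀ η ∈ E, ∀ y, Commute y x → ¬ p ∣ orderOf y →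
          ∑ i ∈ Finset.Ico 1 p, (η : G → ℂ) (x ^ i * y) = B) →
        ∃ k : IrrCharacter G → ℕ, 0 < ∑ η ∈ E, k η ∧
          (∀ g : G, ∑ η ∈ E, (k η : ℂ) * (η : G → ℂ) g ∈ Set.range ι) ∧
          ((∑ η ∈ E, k η : ℕ) : ℤ) * |B| ≤ (p : ℤ) - 1 := by
  have hp2 := not_sq_dvd P hP
  have hdiv : p ∣ Nat.card G := hx ▸ orderOf_dvd_natCard x
  have hm0 : ¬ p ∣ Nat.card G / p := fun h => hp2 (by
    rw [sq]; exact (Nat.dvd_div_iff_mul_dvd hdiv).1 h)
  obtain ⟨ι, hι, hroots⟩ := CharLattice.exists_embedding p _ hm0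
  obtain ⟨K0, hK0, hKn, hK, hC⟩ := exists_complement P hP hxP hx
  refine ⟨ι, hι, fun E hne hreg hsing B hB => CharLattice.family_bound (CharLattice.not_isUnit_p p _)
    (CharLattice.isUnit_of_not_dvd p _) ι hι (fun g hg z hz => hroots z ?_) hx hp2 K0
    (fun y hy => ((hK0 y).1 hy).1) hKn hK hC E hne hreg hsing B
    (fun η hη y hy => hB η hη y ((hK0 y).1 hy).1 ((hK0 y).1 hy).2)⟩
  have hd : orderOf g ∣ Nat.card G / p := by
    refine (Nat.Coprime.dvd_mul_left ((Nat.Prime.coprime_iff_not_dvd hp.out).2 hg).symm).1 ?_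
    rw [Nat.mul_div_cancel' hdiv]
    exact orderOf_dvd_natCard g
  obtain ⟨j, hj⟩ := hd
  rw [hj, pow_mul, hz, one_pow]

/-- The principal block for a Sylow subgroup of prime order. -/
theorem principal_block {M : Ideal AlgInt} (hM : IsPModular p M) (hodd : p ≠ 2) (P : Sylow p G)
    (hP : Nat.card P = p) :
    ∃ (X Y : Finset (IrrCharacter G)) (εX : IrrCharacter G → ℤ) (ε : ℤ),
      (∀ χ, χ ∈ principalBlock M G ↔ χ ∈ X ∨ χ ∈ Y) ∧ Disjoint X Y ∧ X.card = autCard P ∧
      Y.card = (p - 1) / autCard P ∧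
      (∀ χ ∈ X, (εX χ = 1 ∨ εX χ = -1) ∧ (charDegree (χ : G → ℂ) : ℤ) ≡ εX χ [ZMOD p] ∧
        ∀ z y : G, IsPPart p z y → y ∈ (P : Subgroup G) → y ≠ 1 → (χ : G → ℂ) z = (εX χ : ℂ)) ∧
      (ε = 1 ∨ ε = -1) ∧
      (∀ θ ∈ Y, (charDegree (θ : G → ℂ) : ℤ) ≡ ε * (autCard P : ℤ) [ZMOD p]) ∧
      (∀ θ ∈ Y, ∀ θ' ∈ Y, ∀ g : G, ¬ p ∣ orderOf g → (θ : G → ℂ) g = (θ' : G → ℂ) g) ∧
      ∀ θ ∈ Y, ∀ g : G, ¬ p ∣ orderOf g →
        (ε : ℂ) * (θ : G → ℂ) g = ∑ χ ∈ X, (εX χ : ℂ) * (χ : G → ℂ) g := by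
  obtain ⟨x, hxP, hx, hzp⟩ := exists_generator P hP
  have hF := frobSylow_of_card P hP
  have hcardP : Nat.card (P : Subgroup G) = p := hP
  have hdiv : p ∣ Nat.card G := hx ▸ orderOf_dvd_natCard x
  have hx1 : x ≠ 1 := fun h => hp.out.one_lt.ne (by rw [← hx, h, orderOf_one])
  obtain ⟨ι, hι, hbound⟩ := family_bound' P hP hxP hx
  set m := autCard P with hm
  have hp1 : ((p : ℤ) - 1) > 0 := by have := hp.out.two_le; omega
  have hpart : ∀ y, Commute y x → ¬ p ∣ orderOf y → ∀ i ∈ Finset.Ico 1 p,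
      IsPPart p (x ^ i * y) (x ^ i) ∧ x ^ i ∈ (P : Subgroup G) ∧ x ^ i ≠ 1 := fun y hyc hyr i hi =>
    ⟨(isPPart_pow_mul hx hyc hyr hi).1, pow_mem hxP i, (isPPart_pow_mul hx hyc hyr hi).2⟩
  have hppow : ∀ i ∈ Finset.Ico 1 p, IsPPart p (x ^ i) (x ^ i) ∧ x ^ i ∈ (P : Subgroup G) ∧ x ^ i ≠ 1 :=
    fun i hi => by
      have := hpart 1 (Commute.one_left x) (by rw [orderOf_one]; exact hp.out.not_dvd_one) i hi
      rwa [mul_one] at this
  have hcardIco : ((Finset.Ico 1 p).card : ℂ) = (p : ℂ) - 1 := by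
    rw [Nat.card_Ico, Nat.cast_sub hp.out.one_le, Nat.cast_one]
  -- characters constant on the singular part
  have hsingle : ∀ (χ : IrrCharacter G) (a : ℤ),
      (∀ z y : G, IsPPart p z y → y ∈ (P : Subgroup G) → y ≠ 1 → (χ : G → ℂ) z = (a : ℂ)) →
        |a| ≤ 1 ∧ (charDegree (χ : G → ℂ) : ℤ) ≡ a [ZMOD p] := by
    intro χ a ha
    constructor
    · obtain ⟨k, hk, -, hb⟩ := hbound {χ} (Finset.singleton_nonempty χ)
        (fun η hη η' hη' g _ => by rw [Finset.mem_singleton.1 hη, Finset.mem_singleton.1 hη'])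
        (fun g hg => by
          obtain ⟨u, y, hpy, hy1⟩ := exists_conj_singular P hg
          refine ⟨a, ?_⟩
          rw [Finset.sum_singleton, ← irr_conj_apply χ g u, ha _ _ hpy y.2 hy1])
        (((p : ℤ) - 1) * a) (fun η hη y hyc hyr => by
          rw [Finset.mem_singleton.1 hη, Finset.sum_congr rfl fun i hi =>
            ha _ _ (hpart y hyc hyr i hi).1 (hpart y hyc hyr i hi).2.1 (hpart y hyc hyr i hi).2.2,
            Finset.sum_const, nsmul_eq_mul, hcardIco]
          push_cast; rfl)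
      rw [Finset.sum_singleton] at hk hb
      rw [abs_mul, abs_of_pos hp1] at hb
      have h1 : ((p : ℤ) - 1) * |a| ≤ (k χ : ℤ) * (((p : ℤ) - 1) * |a|) := by
        have : (1 : ℤ) ≤ k χ := by exact_mod_cast hk
        nlinarith [abs_nonneg a, mul_nonneg hp1.le (abs_nonneg a)]
      nlinarith [abs_nonneg a]
    · obtain ⟨n, hn⟩ := degree_add_sum P hxP hx hzp χ
      rw [Finset.sum_congr rfl fun i hi => ha _ _ (hppow i hi).1 (hppow i hi).2.1 (hppow i hi).2.2,
        Finset.sum_const, nsmul_eq_mul, hcardIco] at hn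
      have hn' : (charDegree (χ : G → ℂ) : ℤ) + ((p : ℤ) - 1) * a = (p : ℤ) * n := by exact_mod_cast hn
      rw [Int.modEq_iff_dvd]
      exact ⟨a - n, by linarith⟩
  have hsign : ∀ a : ℤ, |a| ≤ 1 → a ≠ 0 → a = 1 ∨ a = -1 := fun a h1 h2 => by
    rw [abs_le] at h1; omega
  have hm_pos : 0 < m := hF.autCard_pos
  have hm_le : m ≤ p - 1 := by
    rw [hm, ← hF.card_conj_inter hxP hx1]
    refine (Finset.card_le_card (t := Finset.univ.erase 1) fun y hy => Finset.mem_erase.2 ⟨fun e => ?_, Finset.mem_univ _⟩).trans ?_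
    · have := (Finset.mem_filter.1 hy).2
      rw [e, OneMemClass.coe_one, isConj_one_left] at this
      exact hx1 this
    · rw [Finset.card_erase_of_mem (Finset.mem_univ _), Finset.card_univ, ← Nat.card_eq_fintype_card, hcardP]
  rcases lt_or_eq_of_le hm_le with hlt | heq
  · -- several exceptional characters
    obtain ⟨X, Y, a, d, δ, ζ, hB, hdisj, -, -, hYm, hδ, hX, hζY, hsurj, hiff, hval, hnorm, hagree, hrel⟩ :=
      exceptional hF (by rw [hcardP]; omega) hM
    rw [← hm, hcardP] at hYm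
    set r := Y.card with hr
    have hr2 : 2 ≤ r := by
      by_contra h
      have : m * r ≤ m * 1 := Nat.mul_le_mul_left m (by omega)
      omega
    obtain ⟨θ₀, hθ₀⟩ := Finset.card_pos.1 (show 0 < Y.card by omega)
    obtain ⟨ψ₀, hψ₀, -⟩ := hsurj θ₀ hθ₀
    set ζ₀ : ℂ := ((ψ₀ ⟨x, hxP⟩ : ℂˣ) : ℂ) with hζ₀
    have hprim := sum_pow_hom P hxP hx hzp hψ₀
    have hψ₀pow : ∀ j : ℕ, (((ψ₀ ^ j) ⟨x, hxP⟩ : ℂˣ) : ℂ) = ζ₀ ^ j := fun j => by
      rw [MonoidHom.pow_apply, Units.val_pow_eq_pow_val]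
    have hψne : ∀ j ∈ Finset.Ico 1 p, ψ₀ ^ j ≠ 1 := fun j hj e => by
      have := hψ₀pow j
      rw [e, MonoidHom.one_apply, Units.val_one] at this
      exact hprim.pow_ne_one_of_pos_of_lt (by have := Finset.mem_Ico.1 hj; omega) (Finset.mem_Ico.1 hj).2 this.symm
    have hψinj : Set.InjOn (fun j : ℕ => ψ₀ ^ j) (Finset.Ico 1 p : Set ℕ) := fun i hi j hj e => by
      have h1 := hψ₀pow i
      rw [show ψ₀ ^ i = ψ₀ ^ j from e, hψ₀pow j] at h1
      exact hprim.pow_inj (Finset.mem_Ico.1 hj).2 (Finset.mem_Ico.1 hi).2 h1 |>.symm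
    have hψall : ∀ μ : ↥(P : Subgroup G) →* ℂˣ, μ ≠ 1 → ∃ j ∈ Finset.Ico 1 p, ψ₀ ^ j = μ := by
      intro μ hμ
      haveI : NeZero p := ⟨hp.out.ne_zero⟩
      obtain ⟨j, hj, e⟩ := hprim.eq_pow_of_pow_eq_one (sum_pow_hom P hxP hx hzp hμ).pow_eq_one
      have he : ψ₀ ^ j = μ := MonoidHom.ext fun y => by
        have hy : (y : G) ∈ Subgroup.zpowers x := by rw [hzp]; exact y.2
        obtain ⟨k, hk⟩ := Subgroup.mem_zpowers_iff.1 hy
        rw [show y = (⟨x, hxP⟩ : ↥(P : Subgroup G)) ^ k from Subtype.ext (by rw [Subgroup.coe_zpow, hk]), map_zpow,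
          map_zpow]
        congr 1
        exact Units.ext ((hψ₀pow j).trans e)
      refine ⟨j, Finset.mem_Ico.2 ⟨?_, hj⟩, he⟩
      by_contra h
      rw [show j = 0 by omega] at he
      refine hμ (MonoidHom.ext fun y => ?_)
      rw [← he, MonoidHom.pow_apply, pow_zero]
      rfl
    set D : Finset (↥(P : Subgroup G) →* ℂˣ) := (Finset.Ico 1 p).image fun j : ℕ => ψ₀ ^ j with hD
    have hDmem : ∀ μ, μ ∈ D ↔ μ ≠ 1 := fun μ => by
      constructor
      · intro hμ
        obtain ⟨j, hj, rfl⟩ := Finset.mem_image.1 hμ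
        exact hψne j hj
      · intro hμ
        obtain ⟨j, hj, e⟩ := hψall μ hμ
        exact Finset.mem_image.2 ⟨j, hj, e⟩
    have horb1 : ∀ ψ, ψ ≠ 1 → ∀ μ ∈ orb P ψ, μ ≠ 1 := by
      intro ψ hψ μ hμ e
      subst e
      simp only [orb, Finset.mem_image, Finset.mem_univ, true_and] at hμ
      obtain ⟨α, hα⟩ := hμ
      refine hψ (MonoidHom.ext fun y => ?_)
      have := DFunLike.congr_fun hα ((α : MulAut ↥(P : Subgroup G)).symm y)
      simpa using this
    have hfib : ∀ ψ, ψ ≠ 1 → D.filter (fun μ => ζ μ = ζ ψ) = orb P ψ := fun ψ hψ => by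
      ext μ
      rw [Finset.mem_filter, hDmem]
      constructor
      · rintro ⟨hμ, e⟩; exact (hiff ψ μ hψ hμ).1 e.symm
      · intro hμ
        exact ⟨horb1 ψ hψ μ hμ, ((hiff ψ μ hψ (horb1 ψ hψ μ hμ)).2 hμ).symm⟩
    have hsumD : ∀ y : ↥(P : Subgroup G), (y : G) ≠ 1 → ∑ μ ∈ D, ((μ y : ℂˣ) : ℂ) = -1 := by
      intro y hy
      have hy' : (y : G) ∈ Subgroup.zpowers x := by rw [hzp]; exact y.2
      obtain ⟨k, hk⟩ := (isOfFinOrder_of_finite x).mem_powers_iff_mem_zpowers.2 hy'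
      have ey : y = (⟨x, hxP⟩ : ↥(P : Subgroup G)) ^ k := Subtype.ext (by rw [Subgroup.coe_pow]; exact hk.symm)
      have hcop : k.Coprime p := by
        refine ((Nat.Prime.coprime_iff_not_dvd hp.out).2 fun hd => hy ?_).symm
        rw [← hk]
        exact orderOf_dvd_iff_pow_eq_one.1 (by rw [hx]; exact hd)
      have hz := (hprim.pow_of_coprime k hcop).geom_sum_eq_zero hp.out.one_lt
      rw [Finset.range_eq_Ico, Finset.sum_eq_sum_Ico_succ_bot hp.out.pos, pow_zero] at hz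
      rw [hD, Finset.sum_image hψinj, ← eq_neg_of_add_eq_zero_right hz]
      refine Finset.sum_congr rfl fun j _ => ?_
      rw [ey, map_pow, Units.val_pow_eq_pow_val, hψ₀pow, ← pow_mul, ← pow_mul, mul_comm]
    have hfiber : ∀ (f : (↥(P : Subgroup G) →* ℂˣ) → ℂ) (w : IrrCharacter G → ℂ),
        ∑ μ ∈ D, w (ζ μ) * f μ = ∑ η ∈ Y, w η * ∑ μ ∈ D.filter (fun μ => ζ μ = η), f μ := fun f w => by
      rw [← Finset.sum_fiberwise_of_maps_to (s := D) (t := Y) (g := ζ) fun μ hμ => hζY μ ((hDmem μ).1 hμ)]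
      refine Finset.sum_congr rfl fun η _ => ?_
      rw [Finset.mul_sum]
      exact Finset.sum_congr rfl fun μ hμ => by rw [(Finset.mem_filter.1 hμ).2]
    have hYval : ∀ η ∈ Y, ∀ (z : G) (y : ↥(P : Subgroup G)), IsPPart p z (y : G) → (y : G) ≠ 1 →
        (η : G → ℂ) z = (d : ℂ) + (δ : ℂ) * ∑ μ ∈ D.filter (fun μ => ζ μ = η), ((μ y : ℂˣ) : ℂ) := by
      intro η hη z y hzy hy
      obtain ⟨ψ, hψ, rfl⟩ := hsurj η hη
      rw [hfib ψ hψ, hval ψ hψ z y hzy hy]
    have hcardorb : ∀ η ∈ Y, (D.filter fun μ => ζ μ = η).card = m := by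
      intro η hη
      obtain ⟨ψ, hψ, rfl⟩ := hsurj η hη
      rw [hfib ψ hψ]
      have hinj : Function.Injective
          fun α : autGroup P => ψ.comp (α : MulAut ↥(P : Subgroup G)).toMonoidHom := by
        intro α β e
        set ξ := (ψ ⟨x, hxP⟩ : ℂˣ) with hξ
        have hξ' := sum_pow_hom P hxP hx hzp hψ
        have h2 := DFunLike.congr_fun e ⟨x, hxP⟩
        simp only [MonoidHom.comp_apply, MulEquiv.coe_toMonoidHom] at h2
        have hex : ∀ γ : autGroup P, ∃ i, i < p ∧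
            (γ : MulAut ↥(P : Subgroup G)) ⟨x, hxP⟩ = (⟨x, hxP⟩ : ↥(P : Subgroup G)) ^ i := fun γ => by
          have hy : (((γ : MulAut ↥(P : Subgroup G)) ⟨x, hxP⟩ : ↥(P : Subgroup G)) : G) ∈ Subgroup.zpowers x := by
            rw [hzp]; exact Subtype.prop _
          obtain ⟨k, hk⟩ := (isOfFinOrder_of_finite x).mem_powers_iff_mem_zpowers.2 hy
          exact ⟨k % p, Nat.mod_lt _ hp.out.pos, Subtype.ext (by rw [Subgroup.coe_pow, ← pow_eq_pow_mod k (pow_prime_eq_one hx)]; exact hk.symm)⟩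
        obtain ⟨i, hi, ei⟩ := hex α
        obtain ⟨j, hj, ej⟩ := hex β
        rw [ei, ej, map_pow, map_pow] at h2
        have h3 := congrArg (fun u : ℂˣ => (u : ℂ)) h2
        simp only [Units.val_pow_eq_pow_val] at h3
        rw [hξ'.pow_inj hi hj h3] at ei
        refine inv_mul_eq_one.1 (Subtype.ext (hF.eq_one_of_fixed (mul_mem (inv_mem β.2) α.2)
          (x := ⟨x, hxP⟩) (fun e1 => hx1 (congrArg Subtype.val e1)) ?_)) |>.symm
        rw [MulAut.mul_apply, ei, ← ej, MulAut.inv_apply, MulEquiv.symm_apply_apply]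
      rw [orb, Finset.card_image_of_injective _ hinj, Finset.card_univ, hm, autCard, Nat.card_eq_fintype_card]
    set A : ℤ := (r : ℤ) * d - δ with hA
    have hsingY : ∀ g : G, p ∣ orderOf g → ∃ A' : ℤ, ∑ η ∈ Y, (η : G → ℂ) g = A' := by
      intro g hg
      obtain ⟨u, y, hpy, hy1⟩ := exists_conj_singular P hg
      refine ⟨A, ?_⟩
      rw [Finset.sum_congr rfl fun η hη => by
        rw [← irr_conj_apply η g u, hYval η hη _ y hpy hy1], Finset.sum_add_distrib, Finset.sum_const,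
        ← Finset.mul_sum, nsmul_eq_mul]
      have := hfiber (fun μ => ((μ y : ℂˣ) : ℂ)) (fun _ => 1)
      simp only [one_mul] at this
      rw [← this, hsumD y hy1, hA]
      push_cast; ring
    have hBY : ∀ η ∈ Y, ∀ y, Commute y x → ¬ p ∣ orderOf y →
        ∑ i ∈ Finset.Ico 1 p, (η : G → ℂ) (x ^ i * y) = (((p : ℤ) - 1) * d - δ * m : ℤ) := by
      intro η hη y hyc hyr
      rw [Finset.sum_congr rfl (g := fun i => (d : ℂ) + (δ : ℂ) * ∑ μ ∈ D.filter (fun μ => ζ μ = η),
        ((μ ⟨x, hxP⟩ : ℂˣ) : ℂ) ^ i) fun i hi => ?_, Finset.sum_add_distrib, Finset.sum_const, nsmul_eq_mul,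
        hcardIco, ← Finset.mul_sum, Finset.sum_comm, Finset.sum_congr rfl (g := fun _ => (-1 : ℂ)) fun μ hμ => ?_,
        Finset.sum_const, hcardorb η hη]
      · push_cast; rw [nsmul_eq_mul]; ring
      · have hz := (sum_pow_hom P hxP hx hzp ((hDmem μ).1 (Finset.mem_filter.1 hμ).1)).geom_sum_eq_zero hp.out.one_lt
        rw [Finset.range_eq_Ico, Finset.sum_eq_sum_Ico_succ_bot hp.out.pos, pow_zero] at hz
        exact eq_neg_of_add_eq_zero_right hz
      · rw [hYval η hη (x ^ i * y) ⟨x ^ i, (hpart y hyc hyr i hi).2.1⟩ (hpart y hyc hyr i hi).1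
          (hpart y hyc hyr i hi).2.2]
        congr 2
        refine Finset.sum_congr rfl fun μ _ => ?_
        rw [show (⟨x ^ i, (hpart y hyc hyr i hi).2.1⟩ : ↥(P : Subgroup G)) = (⟨x, hxP⟩ : ↥(P : Subgroup G)) ^ i from
          Subtype.ext (by rw [Subgroup.coe_pow]), map_pow, Units.val_pow_eq_pow_val]
    obtain ⟨k, hk, hrange, hb⟩ := hbound Y ⟨θ₀, hθ₀⟩ hagree hsingY _ hBY
    have hmr : (m : ℤ) * r = (p : ℤ) - 1 := by
      have : ((m * r + 1 : ℕ) : ℤ) = p := by exact_mod_cast hYm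
      push_cast at this; linarith
    -- all multiplicities agree
    have hconst : ∀ η ∈ Y, k η = k θ₀ := by
      set K : ℕ := ∑ η ∈ Y, k η with hK
      obtain ⟨t, ht⟩ := hrange x
      have hx' : IsPPart p x x ∧ x ∈ (P : Subgroup G) ∧ x ≠ 1 := by
        have := hppow 1 (Finset.mem_Ico.2 ⟨le_rfl, hp.out.one_lt⟩)
        rwa [pow_one] at this
      have e1 : ∑ j ∈ Finset.Ico 1 p, (k (ζ (ψ₀ ^ j)) : ℂ) * ζ₀ ^ j = ι ((δ : CharLattice.coefRing p (Nat.card G / p)) * (t - (K : CharLattice.coefRing p (Nat.card G / p)) * d)) := by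
        rw [map_mul, map_sub, map_mul, map_intCast, map_intCast, map_natCast, ht]
        rw [Finset.sum_congr rfl (s₂ := Finset.Ico 1 p) (g := fun j => (k (ζ (ψ₀ ^ j)) : ℂ) *
          (((ψ₀ ^ j) ⟨x, hxP⟩ : ℂˣ) : ℂ)) fun j _ => by rw [hψ₀pow],
          ← Finset.sum_image (s := Finset.Ico 1 p) (g := fun j : ℕ => ψ₀ ^ j)
            (f := fun μ => (k (ζ μ) : ℂ) * ((μ ⟨x, hxP⟩ : ℂˣ) : ℂ)) hψinj, ← hD,
          hfiber (fun μ => ((μ ⟨x, hxP⟩ : ℂˣ) : ℂ)) (fun η => (k η : ℂ))]
        rw [hK, Nat.cast_sum, Finset.sum_mul, ← Finset.sum_sub_distrib, Finset.mul_sum]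
        refine Finset.sum_congr rfl fun η hη => ?_
        rw [hYval η hη x ⟨x, hxP⟩ hx'.1 hx'.2.2]
        rcases hδ with h | h <;> rw [h] <;> push_cast <;> ring
      set t' : CharLattice.coefRing p (Nat.card G / p) := (δ : CharLattice.coefRing p (Nat.card G / p)) * (t - (K : CharLattice.coefRing p (Nat.card G / p)) * d) with ht'
      let c : ℕ → CharLattice.coefRing p (Nat.card G / p) := fun j => if j = 0 then -t' else (k (ζ (ψ₀ ^ j)) : CharLattice.coefRing p (Nat.card G / p))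
      have hcrel : ∑ j ∈ Finset.range p, ι (c j) * ζ₀ ^ j = 0 := by
        rw [Finset.range_eq_Ico, Finset.sum_eq_sum_Ico_succ_bot hp.out.pos, pow_zero, mul_one,
          Finset.sum_congr rfl (g := fun j => (k (ζ (ψ₀ ^ j)) : ℂ) * ζ₀ ^ j) fun j hj => by
            have := Finset.mem_Ico.1 hj
            rw [show c j = (k (ζ (ψ₀ ^ j)) : CharLattice.coefRing p (Nat.card G / p)) from if_neg (by omega), map_natCast], e1]
        rw [show c 0 = -t' from if_pos rfl, ht', map_neg, neg_add_cancel]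
      have hall := CharLattice.coeff_eq_of_relation (CharLattice.not_isUnit_p p _)
        (CharLattice.isUnit_of_not_dvd p _) ι hι hprim c hcrel
      have hallk : ∀ η ∈ Y, (k η : CharLattice.coefRing p (Nat.card G / p)) = c (p - 1) := by
        intro η hη
        obtain ⟨ψ, hψ, rfl⟩ := hsurj η hη
        obtain ⟨j, hj, rfl⟩ := hψall ψ hψ
        rw [← hall j (Finset.mem_Ico.1 hj).2]
        exact (if_neg (by have := Finset.mem_Ico.1 hj; omega)).symm
      intro η hη
      exact Nat.cast_injective ((hallk η hη).trans (hallk θ₀ hθ₀).symm)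
    rw [Finset.sum_congr rfl hconst, Finset.sum_const, smul_eq_mul] at hk hb
    rw [show ((p : ℤ) - 1) * d - δ * m = (m : ℤ) * A by rw [← hmr, hA]; ring, abs_mul,
      abs_of_nonneg (show (0 : ℤ) ≤ (m : ℤ) by positivity), ← hr] at hb
    have hA1 : |A| ≤ 1 := by
      have hk1 : (1 : ℤ) ≤ k θ₀ := by
        exact_mod_cast (show 0 < k θ₀ from Nat.pos_of_mul_pos_left hk)
      push_cast at hb
      have h0 : (0 : ℤ) ≤ ((r : ℤ) * m) * |A| := by positivity
      have h1 : ((r : ℤ) * m) * |A| ≤ (k θ₀ : ℤ) * (((r : ℤ) * m) * |A|) := le_mul_of_one_le_left h0 hk1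
      have h2 : (0 : ℤ) < (r : ℤ) * m := by positivity
      by_contra h
      have : ((r : ℤ) * m) * 2 ≤ ((r : ℤ) * m) * |A| := mul_le_mul_of_nonneg_left (by omega) h2.le
      nlinarith
    have hA0 : A ≠ 0 := by
      intro h
      have h1 : (r : ℤ) ∣ 1 := by
        rcases hδ with e | e
        · exact ⟨d, by rw [hA, e] at h; linarith⟩
        · exact ⟨-d, by rw [hA, e] at h; linarith⟩
      have := Int.le_of_dvd one_pos h1
      omega
    have hAs := hsign A hA1 hA0
    have haX : ∀ χ ∈ X, |a χ| ≤ 1 ∧ (charDegree (χ : G → ℂ) : ℤ) ≡ a χ [ZMOD p] := fun χ hχ =>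
      hsingle χ (a χ) (hX χ hχ).2
    have hXcard : X.card = m := by
      have hsq : ∑ χ ∈ X, a χ ^ 2 = (X.card : ℤ) := by
        rw [Finset.sum_congr rfl (g := fun _ => (1 : ℤ)) fun χ hχ => by
          rcases hsign _ (haX χ hχ).1 (hX χ hχ).1 with e | e <;> rw [e] <;> norm_num, Finset.sum_const]
        simp
      have hquad : (d - δ) ^ 2 + ((r : ℤ) - 1) * d ^ 2 = 1 := by
        have e : (d - δ) ^ 2 + ((r : ℤ) - 1) * d ^ 2 = d * (A - δ) + δ ^ 2 := by rw [hA]; ring
        have hr2' : (2 : ℤ) ≤ r := by exact_mod_cast hr2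
        rcases hδ with h | h <;> rcases hAs with h' | h' <;> rw [e, h, h'] <;> rw [hA, h] at h'
        · ring
        · have : d = 0 := by nlinarith [mul_eq_zero.1 (show (r : ℤ) * d = 0 by linarith)]
          rw [this]; ring
        · have : d = 0 := by nlinarith [mul_eq_zero.1 (show (r : ℤ) * d = 0 by linarith)]
          rw [this]; ring
        · ring
      rw [hsq, hquad, ← hm] at hnorm
      omega
    refine ⟨X, Y, a, -A, hB, hdisj, hXcard, ?_, fun χ hχ => ⟨hsign _ (haX χ hχ).1 (hX χ hχ).1, (haX χ hχ).2,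
      (hX χ hχ).2⟩, ?_, fun θ hθ => ?_, hagree, fun θ hθ g hg => ?_⟩
    · rw [← hr, ← hYm, Nat.add_sub_cancel, Nat.mul_div_cancel_left _ hm_pos]
    · rcases hAs with e | e <;> rw [e] <;> simp
    · obtain ⟨n, hn⟩ := degree_add_sum P hxP hx hzp θ
      have := hBY θ hθ 1 (Commute.one_left x) (by rw [orderOf_one]; exact hp.out.not_dvd_one)
      simp only [mul_one] at this
      rw [this, show ((p : ℤ) - 1) * d - δ * m = (m : ℤ) * A by rw [← hmr, hA]; ring] at hn
      have hn' : (charDegree (θ : G → ℂ) : ℤ) + (m : ℤ) * A = (p : ℤ) * n := by exact_mod_cast hn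
      rw [Int.modEq_iff_dvd]
      exact ⟨-n, by linarith⟩
    · have := hrel θ hθ g hg
      rw [hA]
      push_cast
      linear_combination -this
  · -- one exceptional character, indistinguishable from the others
    have hall : ∀ y : ↥(P : Subgroup G), (y : G) ≠ 1 → IsConj x (y : G) := by
      have : (Finset.univ.filter fun y : ↥(P : Subgroup G) => IsConj x (y : G)) = Finset.univ.erase 1 := by
        refine Finset.eq_of_subset_of_card_le (fun y hy => Finset.mem_erase.2 ⟨fun e => ?_, Finset.mem_univ _⟩) ?_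
        · have := (Finset.mem_filter.1 hy).2
          rw [e, OneMemClass.coe_one, isConj_one_left] at this
          exact hx1 this
        · rw [hF.card_conj_inter hxP hx1, ← hm, Finset.card_erase_of_mem (Finset.mem_univ _), Finset.card_univ,
            ← Nat.card_eq_fintype_card, hcardP, heq]
      intro y hy
      have hy' : y ∈ Finset.univ.erase (1 : ↥(P : Subgroup G)) :=
        Finset.mem_erase.2 ⟨fun e => hy (by rw [e]; rfl), Finset.mem_univ _⟩
      rw [← this] at hy'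
      exact (Finset.mem_filter.1 hy').2
    have hchar : ∀ χ : IrrCharacter G, ∀ y : ↥(P : Subgroup G), (y : G) ≠ 1 → (χ : G → ℂ) y = (χ : G → ℂ) x :=
      fun χ y hy => by
        obtain ⟨u, hu⟩ := isConj_iff.1 (hall y hy)
        rw [← hu, irr_conj_apply]
    have hint : ∀ χ : IrrCharacter G, ∃ a : ℤ, (χ : G → ℂ) x = (a : ℂ) := by
      intro χ
      obtain ⟨n, hn⟩ := degree_add_sum P hxP hx hzp χ
      rw [Finset.sum_congr rfl fun i hi => hchar χ ⟨x ^ i, (hppow i hi).2.1⟩ (hppow i hi).2.2, Finset.sum_const,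
        nsmul_eq_mul, hcardIco] at hn
      have hne : ((p : ℂ) - 1) ≠ 0 := by
        rw [sub_ne_zero]; exact_mod_cast hp.out.one_lt.ne'
      refine Char.exists_int_of_isIntegral_rat (irr_isIntegral χ x)
        (q := ((p : ℚ) * n - charDegree (χ : G → ℂ)) / ((p : ℚ) - 1)) ?_
      push_cast
      rw [eq_div_iff hne]
      linear_combination hn
    choose a ha using hint
    have hvalB : ∀ χ ∈ principalBlock M G, ∀ z y : G, IsPPart p z y → y ∈ (P : Subgroup G) → y ≠ 1 →
        (χ : G → ℂ) z = (a χ : ℂ) := by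
      rintro χ hχ z y ⟨s, hs, hys, hk, hsr⟩ hy hy1
      rw [← hs, apply_section hF hM hχ hk hy1 ⟨s, Subgroup.mem_centralizer_singleton_iff.2 hys.eq.symm⟩
        (by show ¬ p ∣ orderOf _; rwa [Subgroup.orderOf_mk]), hchar χ ⟨y, hy⟩ hy1, ha]
    have hne0 : ∀ χ ∈ principalBlock M G, a χ ≠ 0 := by
      intro χ hχ h0
      obtain ⟨g, hg, hgne⟩ := not_vanish hM hdiv hχ
      obtain ⟨u, y, hpy, hy1⟩ := exists_conj_singular P hg
      refine hgne ?_
      rw [← irr_conj_apply χ g u, hvalB χ hχ _ _ hpy y.2 hy1, h0, Int.cast_zero]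
    -- the function `p` on nonidentity elements of `P`
    set f : G → ℂ := fun g => if g = 1 then 0 else (p : ℂ) with hf
    have hinv : FInv P f := fun g y _ _ => by simp [f]
    have hf1 : f 1 = 0 := by simp [f]
    have hfP : ∀ y : ↥(P : Subgroup G), f (y : G) = if y = 1 then 0 else (p : ℂ) := fun y => by
      simp [f]
    set F := sFun P f with hFdef
    have hgc : IsGeneralizedCharacter G F := by
      refine gc_sFun hinv ?_
      have e : (fun y : ↥(P : Subgroup G) => f y) = p • (fun _ : ↥(P : Subgroup G) => (1 : ℂ)) -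
          (Representation.leftRegular ℂ ↥(P : Subgroup G)).character := by
        funext y
        rw [hfP, Pi.sub_apply, Pi.smul_apply, Char.leftRegular_character]
        split_ifs with hy <;> simp [← Nat.card_eq_fintype_card, hcardP]
      rw [e]
      exact gc_sub (gc_nsmul gc_one p) (Char.IsCharacter.isGeneralizedCharacter (Char.isCharacter_of_rep _))
    have hmne : ((m * p : ℕ) : ℂ) ≠ 0 := Nat.cast_ne_zero.2 (Nat.mul_ne_zero hm_pos.ne' hp.out.ne_zero)
    have hsumP : ∀ w : ↥(P : Subgroup G) → ℂ, (∀ y, y ≠ 1 → w y = w ⟨x, hxP⟩) →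
        ∑ y : ↥(P : Subgroup G), f y * w y = (m : ℂ) * (p : ℂ) * w ⟨x, hxP⟩ := fun w hw => by
      rw [← Finset.add_sum_erase _ _ (Finset.mem_univ 1), OneMemClass.coe_one, hf1, zero_mul, zero_add,
        Finset.sum_congr rfl (g := fun _ => (p : ℂ) * w ⟨x, hxP⟩) fun y hy => by
          rw [hfP, if_neg (Finset.mem_erase.1 hy).1, hw y (Finset.mem_erase.1 hy).1],
        Finset.sum_const, Finset.card_erase_of_mem (Finset.mem_univ _), Finset.card_univ,
        ← Nat.card_eq_fintype_card, hcardP, ← heq, nsmul_eq_mul, mul_assoc]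
    have hcoef : ∀ χ, coeff F χ = if χ ∈ principalBlock M G then a χ else 0 := by
      intro χ
      apply Int.cast_injective (α := ℂ)
      rw [cast_coeff hgc, hFdef]
      split_ifs with hB
      · rw [classInner_sFun hF hinv hf1 (Char.IsIrrCharacter.isClassFunction χ.2)
          (fun z hz hz1 s hs => apply_section hF hM hB hz hz1 s hs),
          hsumP (fun y => conj ((χ : G → ℂ) y)) fun y hy => by
            rw [hchar χ y fun e => hy (Subtype.ext e)], hcardP, ← hm, ha, map_intCast]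
        rw [show ((m : ℂ) * p) = ((m * p : ℕ) : ℂ) by push_cast; rfl, inv_mul_cancel_left₀ hmne]
      · rw [classInner_sFun_eq_zero hF hM hinv hf1 hB, Int.cast_zero]
    set Bf := Finset.univ.filter (fun χ : IrrCharacter G => χ ∈ principalBlock M G) with hBf
    have hmemBf : ∀ χ, χ ∈ Bf ↔ χ ∈ principalBlock M G := fun χ => by simp [Bf]
    have hnormF : ∑ χ ∈ Bf, a χ * a χ = (p : ℤ) := by
      have e1 := classInner_eq_sum_coeff hgc hgc
      rw [show classInner F F = classInner (sFun P f) (sFun P f) from rfl,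
        classInner_sFun hF hinv hf1 (sFun_isClassFunction hinv) (fun z hz hz1 s hs => ?_)] at e1
      · simp only [sFun_coe hinv] at e1
        rw [hsumP (fun y => conj (f y)) (fun y hy => by
            rw [hfP, if_neg hy, hfP, if_neg fun e => hx1 (congrArg Subtype.val e)]), hcardP, ← hm,
          show ((m : ℂ) * p) = ((m * p : ℕ) : ℂ) by push_cast; rfl, inv_mul_cancel_left₀ hmne, hfP,
          if_neg (fun e => hx1 (congrArg Subtype.val e)), map_natCast] at e1
        have e2 : (p : ℤ) = ∑ χ, coeff F χ * coeff F χ := by exact_mod_cast e1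
        rw [e2, Finset.sum_filter]
        exact Finset.sum_congr rfl fun χ _ => by rw [hcoef]; split_ifs <;> simp
      · obtain ⟨j, hj⟩ := hz
        have e1 : pEl p (z * (s : G)) = z := pEl_mul (Subgroup.mem_centralizer_singleton_iff.1 s.2).symm hj
          (by rw [Subgroup.orderOf_coe]; exact hs)
        have e2 : pEl p z = z := by
          have := pEl_mul (Commute.one_right z) hj (by rw [orderOf_one]; exact hp.out.not_dvd_one)
          rwa [mul_one] at this
        obtain ⟨u, hu⟩ := exists_conj_pEl P z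
        rw [sFun_eq hinv hu, sFun_eq hinv (u := u) (by rw [e1]; rwa [e2] at hu), e1, e2]
    have hab : ∀ χ ∈ Bf, (a χ = 1 ∨ a χ = -1) ∧ (charDegree (χ : G → ℂ) : ℤ) ≡ a χ [ZMOD p] := fun χ hχ =>
      ⟨hsign _ (hsingle χ _ (hvalB χ ((hmemBf χ).1 hχ))).1 (hne0 χ ((hmemBf χ).1 hχ)),
        (hsingle χ _ (hvalB χ ((hmemBf χ).1 hχ))).2⟩
    have hBcard : Bf.card = p := by
      rw [Finset.sum_congr rfl (g := fun _ => (1 : ℤ)) fun χ hχ => by
        rcases (hab χ hχ).1 with e | e <;> rw [e] <;> norm_num, Finset.sum_const, nsmul_eq_mul, mul_one] at hnormF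
      exact_mod_cast hnormF
    obtain ⟨θ, hθ⟩ := Finset.card_pos.1 (show 0 < Bf.card by rw [hBcard]; exact hp.out.pos)
    refine ⟨Bf.erase θ, {θ}, a, -a θ, fun χ => ?_, Finset.disjoint_singleton_right.2 (Finset.notMem_erase θ Bf),
      ?_, ?_, fun χ hχ => ⟨(hab χ (Finset.mem_erase.1 hχ).2).1, (hab χ (Finset.mem_erase.1 hχ).2).2,
        hvalB χ ((hmemBf χ).1 (Finset.mem_erase.1 hχ).2)⟩, ?_, fun θ' hθ' => ?_, fun θ₁ h₁ θ₂ h₂ g _ => ?_,
      fun θ' hθ' g hg => ?_⟩
    · rw [← hmemBf, Finset.mem_singleton, Finset.mem_erase]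
      constructor
      · intro hχ
        by_cases e : χ = θ
        · exact Or.inr e
        · exact Or.inl ⟨e, hχ⟩
      · rintro (h | rfl)
        · exact h.2
        · exact hθ
    · rw [Finset.card_erase_of_mem hθ, hBcard]; exact heq.symm
    · rw [Finset.card_singleton, heq, Nat.div_self (by have := hp.out.two_le; omega)]
    · rcases (hab θ hθ).1 with e | e <;> rw [e] <;> simp
    · rw [Finset.mem_singleton.1 hθ', heq]
      refine (hab θ hθ).2.trans ?_
      rw [Nat.cast_sub hp.out.one_le, Int.modEq_iff_dvd]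
      exact ⟨-a θ, by push_cast; ring⟩
    · rw [Finset.mem_singleton.1 h₁, Finset.mem_singleton.1 h₂]
    · rw [Finset.mem_singleton.1 hθ']
      have h0 : ∑ χ ∈ Bf, (a χ : ℂ) * (χ : G → ℂ) g = 0 := by
        have e := eq_sum_coeff hgc g
        rw [show F g = 0 from (sFun_of_odd hinv hg).trans hf1] at e
        rw [Finset.sum_filter]
        refine Eq.trans ?_ e.symm
        refine Finset.sum_congr rfl fun χ _ => ?_
        rw [hcoef]
        split_ifs <;> simp
      rw [← Finset.add_sum_erase _ _ hθ] at h0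
      push_cast
      linear_combination -h0

end CfsgLib.Blocks.PrimeOrder
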