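import Cfsg.Agent.Lib.Blocks.SingleBlock
import Cfsg.Agent.Lib.Blocks.DerivedQuotient
import Cfsg.Agent.Lib.Blocks.Kernel
import Cfsg.Agent.Lib.Fusion.PSolvable
import Cfsg.Agent.Lib.Components.PComponents
import Cfsg.Agent.Lib.Fusion.Tate
import Cfsg.Agent.Lib.Char.LinearOverNormal
import Cfsg.Agent.Lib.Char.Linear
import Cfsg.Agent.Lib.Char.Induced
import Mathlib.GroupTheory.FiniteAbelian.Duality
import Cfsg.Agent.Lib.NumberTheory.SylowCount
import Mathlib.Analysis.Complex.Polynomial.Basic
import Mathlib.RingTheory.RootsOfUnity.AlgebraicallyClosed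

/-!
# Kernels of the characters of degree prime to `p` in the principal block of a `p`-solvable group
-/

set_option autoImplicit false
set_option linter.style.haveILetI false

open scoped ComplexConjugate

universe u

namespace CfsgLib.Blocks.PrincipalPrimeDegree

open Cfsg CfsgLib.Blocks

variable {G : Type u} [Group G] [Fintype G]

/-- An element in the kernel of a character is in the kernel of each of its constituents. -/
theorem constituent_apply_eq {X : G → ℂ} (hX : Cfsg.IsCharacter G X) {φ : Cfsg.IrrCharacter G}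
    (hφ : Cfsg.classInner X (φ : G → ℂ) ≠ 0) {g : G} (hg : X g = X 1) :
    (φ : G → ℂ) g = (φ : G → ℂ) 1 := by
  classical
  obtain ⟨m, hm, hsum⟩ := CfsgLib.Char.IsCharacter.exists_multiplicity hX
  choose f hf0 hf using fun ψ : Cfsg.IrrCharacter G => CfsgLib.Char.IsIrrCharacter.apply_one_eq ψ.2
  have hle : ∀ ψ : Cfsg.IrrCharacter G, ‖(ψ : G → ℂ) g‖ ≤ (f ψ : ℝ) := by
    intro ψ
    have h := norm_irr_le ψ g
    have e : (charDegree (ψ : G → ℂ) : ℝ) = f ψ := by
      rw [charDegree, hf ψ, Complex.natCast_re, Nat.floor_natCast]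
    rwa [e] at h
  have h0 : ∑ ψ : Cfsg.IrrCharacter G, (m ψ : ℝ) * ((f ψ : ℝ) - ((ψ : G → ℂ) g).re) = 0 := by
    have h1 := congrArg Complex.re (hsum g)
    have h2 := congrArg Complex.re (hsum 1)
    rw [hg] at h1
    rw [h1] at h2
    simp only [Complex.re_sum, Complex.re_ofNat, Complex.mul_re, Complex.natCast_re, Complex.natCast_im,
      zero_mul, sub_zero, hf] at h2
    simp only [mul_sub, Finset.sum_sub_distrib]
    linarith
  have hterm := (Finset.sum_eq_zero_iff_of_nonneg fun ψ (_ : ψ ∈ Finset.univ) =>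
    mul_nonneg (Nat.cast_nonneg (m ψ)) (sub_nonneg.2 ((Complex.re_le_norm _).trans (hle ψ)))).1 h0 φ
      (Finset.mem_univ _)
  have hmφ : (m φ : ℝ) ≠ 0 := by
    intro e
    apply hφ
    rw [hm φ, show m φ = 0 by exact_mod_cast e, Nat.cast_zero]
  have hre : ((φ : G → ℂ) g).re = f φ := by
    rcases mul_eq_zero.1 hterm with e | e
    · exact absurd e hmφ
    · linarith
  have hb := hle φ
  rw [hf φ]
  apply Complex.ext
  · rw [hre, Complex.natCast_re]
  · rw [Complex.natCast_im]
    have h1 : ((φ : G → ℂ) g).re ^ 2 + ((φ : G → ℂ) g).im ^ 2 = ‖(φ : G → ℂ) g‖ ^ 2 := by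
      rw [← Complex.normSq_eq_norm_sq, Complex.normSq_apply]; ring
    have h2 : ((φ : G → ℂ) g).im ^ 2 ≤ 0 := by
      have h3 := pow_le_pow_left₀ (norm_nonneg _) hb 2
      rw [hre] at h1
      linarith
    nlinarith [sq_nonneg ((φ : G → ℂ) g).im]

/-- An element of a Sylow subgroup killed by every character of degree prime to `p` lies in the derived subgroup. -/
theorem mem_commutator_of_killed {p : ℕ} (P : Subgroup G) (hPi : ¬ p ∣ P.index) (x : P)
    (hx : ∀ χ : Cfsg.IrrCharacter G, ¬ p ∣ charDegree (χ : G → ℂ) → (χ : G → ℂ) x = (χ : G → ℂ) 1) :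
    x ∈ commutator P := by
  classical
  by_contra hc
  have hne : Abelianization.of x ≠ 1 := fun e => hc ((QuotientGroup.eq_one_iff _).1 e)
  haveI : Fintype P := Fintype.ofFinite _
  haveI : Finite (Abelianization P) := Quotient.finite _
  obtain ⟨lam, hlam⟩ := CommGroup.exists_apply_ne_one_of_hasEnoughRootsOfUnity (Abelianization P) ℂ hne
  set l : P →* ℂˣ := lam.comp Abelianization.of
  have hl := CfsgLib.Char.isIrrCharacter_hom l
  have hind := CfsgLib.Char.IsCharacter.indFun P (CfsgLib.Char.IsIrrCharacter.isCharacter hl)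
  obtain ⟨ξ, f, hξ, hin, hf, hpf⟩ := CfsgLib.Char.LinearOverNormal.exists_constituent_not_dvd hind (k := P.index)
    (by rw [CfsgLib.Char.indFun_one, map_one, Units.val_one, mul_one]) hPi
  have hkill : ξ x = ξ 1 := hx ⟨ξ, hξ⟩ (by
    show ¬ p ∣ charDegree ξ
    rwa [charDegree, hf, Complex.natCast_re, Nat.floor_natCast])
  rw [CfsgLib.Char.classInner_indFun P _ (CfsgLib.Char.IsIrrCharacter.isClassFunction hξ)] at hin
  have hres : Cfsg.IsCharacter P (fun h : P => ξ h) :=
    CfsgLib.Char.IsCharacter.restrict (CfsgLib.Char.IsIrrCharacter.isCharacter hξ) P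
  have hin' : Cfsg.classInner (fun h : P => ξ h) (fun g => (l g : ℂ)) ≠ 0 := by
    rw [← CfsgLib.Char.classInner_conj_symm]
    exact (map_ne_zero _).2 hin
  have h2 := constituent_apply_eq hres (φ := ⟨_, hl⟩) hin' (g := x) hkill
  change (l x : ℂ) = (l 1 : ℂ) at h2
  rw [map_one, Units.val_one] at h2
  exact hlam (Units.ext (by simpa [l] using h2))

variable {p : ℕ} [Fact p.Prime] {M : Ideal AlgInt}

/-- In a `p`-solvable group a character trivial on `O_{p'}(G)` is in the principal block. -/
theorem mem_principalBlock_of_pPrimeCore (hM : IsPModular p M) (hps : Cfsg.IsPSolvable p G)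
    (ψ : Cfsg.IrrCharacter (G ⧸ Cfsg.pPrimeCore p G)) :
    inflate (Cfsg.pPrimeCore p G) ψ ∈ principalBlock M G := by
  haveI : Fintype (G ⧸ Cfsg.pPrimeCore p G) := Fintype.ofFinite _
  have hq := CfsgLib.Fusion.PSolvable.psolvable_quotient hps (Cfsg.pPrimeCore p G)
  have hO := CfsgLib.Components.pPrimeCore_quotient_eq_bot (G := G) (p := p)
  have h : SameBlock M (fun _ : G ⧸ Cfsg.pPrimeCore p G => (1 : ℂ)) (ψ : G ⧸ Cfsg.pPrimeCore p G → ℂ) :=
    mem_principalBlock_of_constrained hM (Cfsg.pCore p _) (CfsgLib.Solvable.Cores.isPGroup_pCore p)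
      (CfsgLib.Fusion.PSolvable.centralizer_pCore_le hq hO) ψ
  exact sameBlock_inflate hM (χ := trivChar _) h

/-- A normal subgroup killed by the `p'`-degree characters of the principal block of a `p`-solvable group meets
a Sylow `p`-subgroup inside its derived subgroup. -/
theorem inf_le_commutator (hM : IsPModular p M) (hps : Cfsg.IsPSolvable p G) (P : Sylow p G) (N : Subgroup G)
    (hkill : ∀ χ : Cfsg.IrrCharacter G, χ ∈ principalBlock M G → ¬ p ∣ charDegree (χ : G → ℂ) → N ≤ irrKer χ) :
    N ⊓ (P : Subgroup G) ≤ (commutator P).map (P : Subgroup G).subtype := by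
  classical
  rintro x ⟨hxN, hxP⟩
  haveI hKn : (Cfsg.pPrimeCore p G).Normal := inferInstance
  haveI : Fintype (G ⧸ Cfsg.pPrimeCore p G) := Fintype.ofFinite _
  set π := QuotientGroup.mk' (Cfsg.pPrimeCore p G)
  set ρ : P →* (P : Subgroup G).map π := π.subgroupMap (P : Subgroup G)
  have hinj : Function.Injective ρ := by
    rw [← MonoidHom.ker_eq_bot_iff, eq_bot_iff]
    intro y hy
    have h1 : π y = 1 := congrArg Subtype.val (MonoidHom.mem_ker.1 hy)
    have hyK : (y : G) ∈ Cfsg.pPrimeCore p G := (QuotientGroup.eq_one_iff _).1 h1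
    obtain ⟨k, hk⟩ := P.isPGroup' y
    have hcop := CfsgLib.Solvable.Cores.coprime_card_pPrimeCore (G := G) p
    have hd1 : orderOf (y : G) ∣ p ^ k := orderOf_dvd_of_pow_eq_one (congrArg Subtype.val hk)
    have hd2 : orderOf (y : G) ∣ Nat.card (Cfsg.pPrimeCore p G) := by
      have := orderOf_dvd_natCard (⟨(y : G), hyK⟩ : Cfsg.pPrimeCore p G)
      rwa [← Subgroup.orderOf_coe] at this
    have := Nat.eq_one_of_dvd_coprimes ((hcop.symm).pow_left k) hd1 hd2
    rw [Subgroup.mem_bot]
    exact Subtype.ext (orderOf_eq_one_iff.1 this)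
  have hmem := mem_commutator_of_killed (p := p) ((P : Subgroup G).map π)
    (fun hd => P.not_dvd_index (hd.trans (Subgroup.index_map_dvd _ (QuotientGroup.mk'_surjective _))))
    (ρ ⟨x, hxP⟩) fun χ hχ => by
      have h1 := hkill (inflate _ χ) (mem_principalBlock_of_pPrimeCore hM hps χ) (by
        rwa [charDegree, inflate_apply, map_one]) hxN
      rw [mem_irrKer, inflate_apply, inflate_apply, map_one] at h1
      exact h1
  have hsurj : Function.Surjective ρ := π.subgroupMap_surjective _
  have he : (commutator P).map ρ = commutator ((P : Subgroup G).map π) := by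
    rw [commutator_def, Subgroup.map_commutator, Subgroup.map_top_of_surjective ρ hsurj, commutator_def]
  rw [← he] at hmem
  exact Subgroup.mem_map_of_mem _ ((Subgroup.mem_map_iff_mem hinj).1 hmem)

/-- If `N ⊇ O_{p'}(G)` is killed by the `p'`-degree characters of the principal block, then `G/N` has
trivial `p'`-core, and `N` contains no Sylow `p`-subgroup when `p` divides the order. -/
theorem quotient_core (hM : IsPModular p M) (hps : Cfsg.IsPSolvable p G) (hp : p ∣ Nat.card G)
    (N : Subgroup G) [N.Normal] (hKN : Cfsg.pPrimeCore p G ≤ N)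
    (hkill : ∀ χ : Cfsg.IrrCharacter G, χ ∈ principalBlock M G → ¬ p ∣ charDegree (χ : G → ℂ) → N ≤ irrKer χ) :
    Cfsg.pPrimeCore p (G ⧸ N) = ⊥ ∧ N ≠ ⊤ := by
  classical
  obtain ⟨P⟩ : Nonempty (Sylow p G) := inferInstance
  have hPΦ : (commutator P).map (P : Subgroup G).subtype ≤ (frattini P).map (P : Subgroup G).subtype := by
    refine Subgroup.map_mono ?_
    rw [commutator_def, Subgroup.commutator_le]
    exact fun a _ b _ => CfsgLib.PGroup.Frattini.commutatorElement_mem_frattini P.2 a b
  have hNP := inf_le_commutator hM hps P N hkill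
  constructor
  · set J := (Cfsg.pPrimeCore p (G ⧸ N)).comap (QuotientGroup.mk' N) with hJ
    haveI : J.Normal := Subgroup.Normal.comap inferInstance _
    have hJP : J ⊓ (P : Subgroup G) ≤ N := by
      rintro y ⟨hyJ, hyP⟩
      obtain ⟨k, hk⟩ := P.isPGroup' ⟨y, hyP⟩
      have hd1 : orderOf (QuotientGroup.mk' N y) ∣ p ^ k :=
        (orderOf_map_dvd _ _).trans (orderOf_dvd_of_pow_eq_one (congrArg Subtype.val hk))
      have hd2 : orderOf (QuotientGroup.mk' N y) ∣ Nat.card (Cfsg.pPrimeCore p (G ⧸ N)) := by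
        have := orderOf_dvd_natCard (⟨_, hyJ⟩ : Cfsg.pPrimeCore p (G ⧸ N))
        rwa [← Subgroup.orderOf_coe] at this
      have := Nat.eq_one_of_dvd_coprimes
        ((CfsgLib.Solvable.Cores.coprime_card_pPrimeCore (G := G ⧸ N) p).symm.pow_left k) hd1 hd2
      exact (QuotientGroup.eq_one_iff _).1 (orderOf_eq_one_iff.1 this)
    obtain ⟨S, K, hKn, hKS⟩ := CfsgLib.Fusion.Tate.npc_of_normal_inf_le_frattini P J
      ((le_inf hJP inf_le_right).trans (hNP.trans hPΦ))
    have hle : J ≤ N := by
      obtain ⟨n, hn⟩ := IsPGroup.iff_card.1 S.isPGroup'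
      have hKidx : K.index = p ^ n := by rw [hKS.symm.index_eq_card, hn]
      have hKcop : (Nat.card K).Coprime p := by
        have hidx : ¬ p ∣ Nat.card K := by
          rw [← hKS.index_eq_card]
          exact S.not_dvd_index
        exact ((Fact.out : p.Prime).coprime_iff_not_dvd.2 hidx).symm
      have hKG : (K.map J.subtype).Normal := by
        refine ⟨fun y hy g => ?_⟩
        obtain ⟨k, hk, rfl⟩ := hy
        let α : MulAut J := MulAut.conjNormal g
        have hK' : K.map α.toMonoidHom ≤ K := by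
          haveI := hKn
          rintro z ⟨z', hz', rfl⟩
          have h1 : orderOf (QuotientGroup.mk' K (α z')) ∣ Nat.card K := by
            refine (orderOf_map_dvd _ _).trans ((orderOf_map_dvd α.toMonoidHom z').trans ?_)
            have h3 := orderOf_dvd_natCard (⟨z', hz'⟩ : K)
            rwa [← Subgroup.orderOf_coe] at h3
          have h2 : orderOf (QuotientGroup.mk' K (α z')) ∣ p ^ n :=
            hKidx ▸ (orderOf_dvd_natCard _ : _ ∣ Nat.card (J ⧸ K))
          exact (QuotientGroup.eq_one_iff _).1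
            (orderOf_eq_one_iff.1 (Nat.eq_one_of_dvd_coprimes (hKcop.pow_right n) h1 h2))
        exact ⟨α k, hK' (Subgroup.mem_map_of_mem _ hk), by simp [α]⟩
      have hKle : K.map J.subtype ≤ N := le_trans (CfsgLib.Solvable.Cores.le_pPrimeCore (hn := hKG)
        (by rwa [Subgroup.card_map_of_injective J.subtype_injective])) hKN
      intro y hy
      haveI := hKn
      have hyK : (⟨y, hy⟩ : J) ^ p ^ n ∈ K := hKidx ▸ Subgroup.pow_index_mem K _
      have hyN : y ^ p ^ n ∈ N := hKle (Subgroup.mem_map_of_mem J.subtype hyK)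
      have hd1 : orderOf (QuotientGroup.mk' N y) ∣ p ^ n :=
        orderOf_dvd_of_pow_eq_one (by rw [← map_pow]; exact (QuotientGroup.eq_one_iff _).2 hyN)
      have hd2 : orderOf (QuotientGroup.mk' N y) ∣ Nat.card (Cfsg.pPrimeCore p (G ⧸ N)) := by
        have := orderOf_dvd_natCard (⟨_, hy⟩ : Cfsg.pPrimeCore p (G ⧸ N))
        rwa [← Subgroup.orderOf_coe] at this
      exact (QuotientGroup.eq_one_iff _).1 (orderOf_eq_one_iff.1 (Nat.eq_one_of_dvd_coprimes
        ((CfsgLib.Solvable.Cores.coprime_card_pPrimeCore (G := G ⧸ N) p).symm.pow_left n) hd1 hd2))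
    rw [eq_bot_iff]
    intro q hq
    obtain ⟨y, rfl⟩ := QuotientGroup.mk'_surjective N q
    exact (QuotientGroup.eq_one_iff y).2 (hle hq)
  · intro htop
    haveI : Nontrivial P := by
      rw [Subgroup.nontrivial_iff_ne_bot]
      exact P.ne_bot_of_dvd_card hp
    haveI : Group.IsNilpotent P := P.isPGroup'.isNilpotent
    have hlt : (commutator P) ≠ ⊤ := by
      intro e
      have hΦ : frattini P = ⊤ := top_le_iff.1 (e ▸ by
        rw [commutator_def, Subgroup.commutator_le]
        exact fun a _ b _ => CfsgLib.PGroup.Frattini.commutatorElement_mem_frattini P.2 a b)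
      have h := frattini_nongenerating (G := P) (K := ⊥) (by rw [hΦ, bot_sup_eq])
      exact bot_ne_top h
    refine hlt ((Subgroup.eq_top_iff' _).2 fun y => ?_)
    have h1 : (y : G) ∈ (commutator P).map (P : Subgroup G).subtype :=
      hNP ⟨htop ▸ Subgroup.mem_top _, y.2⟩
    exact (Subgroup.mem_map_iff_mem (P : Subgroup G).subtype_injective).1 h1

end CfsgLib.Blocks.PrincipalPrimeDegree
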