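import Mathlib.LinearAlgebra.Matrix.ToLinearEquiv
import Mathlib.LinearAlgebra.Matrix.NonsingularInverse
import Mathlib.LinearAlgebra.FreeModule.PID
import Mathlib.LinearAlgebra.Matrix.Adjugate
import Mathlib.Tactic

/-!
# The integral lattice behind a scaled integral projection

For an integral symmetric `R` with `R * R = N • R` the rows span a lattice with basis `F`; then
`R = D * A * Dᵀ` with `A * (Dᵀ * D) = N`.
-/

set_option autoImplicit false

namespace CfsgLib.Blocks.RankLattice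

open Matrix

variable {ι : Type*} [Fintype ι] {n : ℕ}

/-- Mutually inverse coordinates for the lattice of rows of `R`. -/
structure Dec (R : Matrix ι ι ℤ) (n : ℕ) where
  U : Matrix (Fin n) ι ℤ
  D : Matrix ι (Fin n) ℤ
  UD : U * D = 1
  DUR : D * U * R = R
  inj : ∀ v : Fin n → ℤ, v ᵥ* (U * R) = 0 → v = 0

/-- The transported form. -/
def Dec.form {R : Matrix ι ι ℤ} (P : Dec R n) : Matrix (Fin n) (Fin n) ℤ := P.U * R * P.Uᵀ

theorem exists_dec (R : Matrix ι ι ℤ) : ∃ n, Nonempty (Dec R n) := by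
  classical
  set L : Submodule ℤ (ι → ℤ) := Submodule.span ℤ (Set.range fun ψ => R ψ)
  obtain ⟨n, bas⟩ := Submodule.basisOfPid (Pi.basisFun ℤ ι) L
  let F : Matrix (Fin n) ι ℤ := Matrix.of fun i => (bas i : ι → ℤ)
  let D : Matrix ι (Fin n) ℤ := Matrix.of fun ψ i =>
    bas.repr ⟨R ψ, Submodule.subset_span ⟨ψ, rfl⟩⟩ i
  have hU : ∀ i, ∃ c : ι → ℤ, ∑ ψ, c ψ • R ψ = (bas i : ι → ℤ) := fun i =>
    (Submodule.mem_span_range_iff_exists_fun ℤ).1 (bas i).2
  choose c hc using hU
  let U : Matrix (Fin n) ι ℤ := Matrix.of c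
  have hUR : U * R = F := by
    ext i η
    have h := congrFun (hc i) η
    simp only [Finset.sum_apply, Pi.smul_apply, smul_eq_mul] at h
    simpa [Matrix.mul_apply, U, F] using h
  have hDF : D * F = R := by
    ext ψ η
    have h := congrFun (congrArg Subtype.val
      (bas.sum_repr ⟨R ψ, Submodule.subset_span ⟨ψ, rfl⟩⟩)) η
    simp only [Submodule.coe_sum, Submodule.coe_smul, Finset.sum_apply, Pi.smul_apply,
      smul_eq_mul] at h
    simpa [Matrix.mul_apply, D, F] using h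
  have hinj : ∀ v : Fin n → ℤ, v ᵥ* F = 0 → v = 0 := by
    intro v hv
    have h : ∑ i, v i • bas i = 0 := by
      refine Subtype.ext (funext fun η => ?_)
      have := congrFun hv η
      simp only [Submodule.coe_sum, Submodule.coe_smul, Finset.sum_apply, Pi.smul_apply,
        smul_eq_mul, Submodule.coe_zero, Pi.zero_apply]
      simpa [Matrix.vecMul, dotProduct, F] using this
    exact funext fun i => Fintype.linearIndependent_iff.1 bas.linearIndependent v h i
  refine ⟨n, ⟨⟨U, D, ?_, ?_, fun v hv => hinj v (hUR ▸ hv)⟩⟩⟩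
  · refine sub_eq_zero.1 (Matrix.ext fun i j => ?_)
    have h : (U * D - 1 : Matrix (Fin n) (Fin n) ℤ) i ᵥ* F = 0 := by
      rw [← Matrix.mul_apply_eq_vecMul, Matrix.sub_mul, Matrix.mul_assoc, hDF, hUR, Matrix.one_mul,
        sub_self]
      rfl
    exact congrFun (hinj _ h) j
  · rw [Matrix.mul_assoc, hUR, hDF]

namespace Dec

variable {R : Matrix ι ι ℤ} (P : Dec R n)

theorem eq_sandwich (hR : R.IsSymm) : R = P.D * P.form * P.Dᵀ := by
  have h : R * P.Uᵀ * P.Dᵀ = R := by
    have := congrArg Matrix.transpose P.DUR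
    rwa [Matrix.transpose_mul, Matrix.transpose_mul, hR.eq, ← Matrix.mul_assoc] at this
  rw [form, ← Matrix.mul_assoc P.D, ← Matrix.mul_assoc P.D, P.DUR, h]

theorem form_isSymm (hR : R.IsSymm) : P.form.IsSymm := by
  rw [Matrix.IsSymm, form, Matrix.transpose_mul, Matrix.transpose_mul, Matrix.transpose_transpose,
    hR.eq, Matrix.mul_assoc]

theorem UR_eq (hR : R.IsSymm) : P.U * R = P.form * P.Dᵀ := by
  refine (congrArg (P.U * ·) (P.eq_sandwich hR)).trans ?_
  show P.U * (P.D * P.form * P.Dᵀ) = _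
  rw [← Matrix.mul_assoc, ← Matrix.mul_assoc, P.UD, Matrix.one_mul]

theorem det_ne_zero (hR : R.IsSymm) : P.form.det ≠ 0 := by
  intro h
  obtain ⟨v, hv, hv0⟩ := Matrix.exists_vecMul_eq_zero_iff.2 h
  refine hv (P.inj v ?_)
  rw [P.UR_eq hR, ← Matrix.vecMul_vecMul, hv0, Matrix.zero_vecMul]

theorem mul_gram (hR : R.IsSymm) {N : ℤ} (hRR : R * R = N • R) :
    P.form * (P.Dᵀ * P.D) = N • (1 : Matrix (Fin n) (Fin n) ℤ) := by
  have h1 : (P.form * (P.Dᵀ * P.D) - N • (1 : Matrix (Fin n) (Fin n) ℤ)) * P.form = 0 := by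
    have e : P.U * (R * R) * P.Uᵀ = P.form * (P.Dᵀ * P.D) * P.form := by
      refine (congrArg (fun X => P.U * (X * X) * P.Uᵀ) (P.eq_sandwich hR)).trans ?_
      simp only [← Matrix.mul_assoc]
      rw [P.UD, Matrix.one_mul]
      simp only [Matrix.mul_assoc]
      rw [show P.Dᵀ * P.Uᵀ = 1 by rw [← Matrix.transpose_mul, P.UD, Matrix.transpose_one],
        Matrix.mul_one]
    rw [hRR, Matrix.mul_smul, Matrix.smul_mul, show P.U * R * P.Uᵀ = P.form from rfl] at e
    rw [Matrix.sub_mul, ← e, Matrix.smul_mul, Matrix.one_mul, sub_self]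
  have h2 := congrArg (· * P.form.adjugate) h1
  simp only [Matrix.mul_assoc, Matrix.zero_mul, Matrix.mul_adjugate, Matrix.mul_smul,
    Matrix.mul_one] at h2
  exact sub_eq_zero.1 ((smul_eq_zero.1 h2).resolve_left (P.det_ne_zero hR))

include P in
theorem trace_eq (hR : R.IsSymm) {N : ℤ} (hRR : R * R = N • R) : R.trace = N * n := by
  refine (congrArg Matrix.trace (P.eq_sandwich hR)).trans ?_
  rw [Matrix.trace_mul_comm, ← Matrix.mul_assoc, Matrix.trace_mul_comm, P.mul_gram hR hRR,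
    Matrix.trace_smul, Matrix.trace_one, Fintype.card_fin, smul_eq_mul]

theorem form_diag_pos (hR : R.IsSymm) {N : ℤ} (hN : 0 < N) (hRR : R * R = N • R) (i : Fin n) :
    0 < P.form i i := by
  have h : N * P.form i i = ∑ ψ, (P.D * P.form) ψ i ^ 2 := by
    have e : P.form * (P.Dᵀ * P.D) * P.form = (P.D * P.form)ᵀ * (P.D * P.form) := by
      rw [Matrix.transpose_mul, (P.form_isSymm hR).eq]
      simp only [Matrix.mul_assoc]
    rw [P.mul_gram hR hRR, Matrix.smul_mul, Matrix.one_mul] at e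
    have := congrFun (congrFun e i) i
    simp only [Matrix.smul_apply, smul_eq_mul, Matrix.mul_apply, Matrix.transpose_apply] at this
    rw [this]
    simp only [Matrix.mul_apply, sq]
  rcases lt_trichotomy (P.form i i) 0 with hlt | h0 | hgt
  · nlinarith [Finset.sum_nonneg fun ψ (_ : ψ ∈ Finset.univ) => sq_nonneg ((P.D * P.form) ψ i)]
  · exfalso
    rw [h0, mul_zero, eq_comm,
      Finset.sum_eq_zero_iff_of_nonneg fun ψ _ => sq_nonneg _] at h
    refine P.det_ne_zero hR (Matrix.det_eq_zero_of_column_eq_zero i fun j => ?_)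
    rw [← Matrix.one_mul P.form, ← P.UD, Matrix.mul_assoc, Matrix.mul_apply]
    exact Finset.sum_eq_zero fun ψ _ => by
      rw [pow_eq_zero_iff two_ne_zero |>.1 (h ψ (Finset.mem_univ ψ)), mul_zero]
  · exact hgt

/-- Change of basis. -/
def change (T T' : Matrix (Fin n) (Fin n) ℤ) (h : T * T' = 1) (h' : T' * T = 1) : Dec R n where
  U := T * P.U
  D := P.D * T'
  UD := by rw [Matrix.mul_assoc, ← Matrix.mul_assoc P.U, P.UD, Matrix.one_mul, h]
  DUR := by
    rw [Matrix.mul_assoc P.D, ← Matrix.mul_assoc T', h', Matrix.one_mul]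
    exact P.DUR
  inj := fun v hv => by
    rw [Matrix.mul_assoc, ← Matrix.vecMul_vecMul] at hv
    have := congrArg (· ᵥ* T') (P.inj _ hv)
    simpa [Matrix.vecMul_vecMul, h] using this

theorem change_form (T T' : Matrix (Fin n) (Fin n) ℤ) (h : T * T' = 1) (h' : T' * T = 1) :
    (P.change T T' h h').form = T * P.form * Tᵀ := by
  simp only [change, form, Matrix.transpose_mul, Matrix.mul_assoc]

end Dec

/-- A basis in which the form is reduced. -/
theorem exists_reduced {R : Matrix ι ι ℤ} (hR : R.IsSymm) {N : ℤ} (hN : 0 < N)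
    (hRR : R * R = N • R) (P : Dec R 2) :
    ∃ Q : Dec R 2, 2 * |Q.form 0 1| ≤ Q.form 0 0 ∧ 2 * |Q.form 0 1| ≤ Q.form 1 1 := by
  classical
  have hex : ∃ k : ℕ, ∃ Q : Dec R 2, Q.form 0 0 + Q.form 1 1 = (k : ℤ) := by
    refine ⟨(P.form 0 0 + P.form 1 1).toNat, P, (Int.toNat_of_nonneg ?_).symm⟩
    have := P.form_diag_pos hR hN hRR 0
    have := P.form_diag_pos hR hN hRR 1
    omega
  obtain ⟨Q, hQ⟩ := Nat.find_spec hex
  refine ⟨Q, ?_⟩
  have hsym : Q.form 1 0 = Q.form 0 1 := (Q.form_isSymm hR).apply 0 1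
  have hmin : ∀ Q' : Dec R 2, Q.form 0 0 + Q.form 1 1 ≤ Q'.form 0 0 + Q'.form 1 1 := by
    intro Q'
    have h0 := Q'.form_diag_pos hR hN hRR 0
    have h1 := Q'.form_diag_pos hR hN hRR 1
    have hle := Nat.find_min' hex
      (m := (Q'.form 0 0 + Q'.form 1 1).toNat) ⟨Q', (Int.toNat_of_nonneg (by omega)).symm⟩
    rw [hQ]
    omega
  have hinv : ∀ t : ℤ, (!![1, 0; t, 1] : Matrix (Fin 2) (Fin 2) ℤ) * !![1, 0; -t, 1] = 1 := by
    intro t; ext i j; fin_cases i <;> fin_cases j <;> simp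
  have hinv' : ∀ t : ℤ, (!![1, t; 0, 1] : Matrix (Fin 2) (Fin 2) ℤ) * !![1, -t; 0, 1] = 1 := by
    intro t; ext i j; fin_cases i <;> fin_cases j <;> simp
  have hlow : ∀ t : ℤ, 0 ≤ 2 * t * Q.form 0 1 + t ^ 2 * Q.form 0 0 := by
    intro t
    have h := hmin (Q.change !![1, 0; t, 1] !![1, 0; -t, 1] (hinv t)
      (by simpa using hinv (-t)))
    rw [Q.change_form] at h
    simp [Matrix.mul_apply, Matrix.vecMul, dotProduct, Fin.sum_univ_two, hsym] at h
    linarith [h]
  have hupp : ∀ t : ℤ, 0 ≤ 2 * t * Q.form 0 1 + t ^ 2 * Q.form 1 1 := by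
    intro t
    have h := hmin (Q.change !![1, t; 0, 1] !![1, -t; 0, 1] (hinv' t)
      (by simpa using hinv' (-t)))
    rw [Q.change_form] at h
    simp [Matrix.mul_apply, Matrix.vecMul, dotProduct, Fin.sum_univ_two, hsym] at h
    linarith [h]
  have a1 := hlow 1
  have a2 := hlow (-1)
  have c1 := hupp 1
  have c2 := hupp (-1)
  constructor <;> rcases abs_choice (Q.form 0 1) with h | h <;> rw [h] <;> linarith

end CfsgLib.Blocks.RankLattice
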