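import Cfsg.Agent.Lib.Blocks.SymLocalCorner
import Mathlib.LinearAlgebra.Matrix.Charpoly.Coeff
import Mathlib.LinearAlgebra.FiniteDimensional.Lemmas
import Mathlib.RingTheory.Nilpotent.Basic

/-!
# The corner of a block algebra with one simple module

Matrix units lifted from the semisimple quotient identify the block algebra with a matrix algebra
over its local corner, and every module of the block has dimension divisible by the size of the
matrices.
-/

set_option autoImplicit false
set_option linter.unusedSectionVars false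
set_option maxHeartbeats 1000000

namespace CfsgLib.Blocks.RankOneCorner

open scoped Classical
open LinearMap (mulLeft mulRight)
open SymLocalCorner LocalRankTwo

variable {k A : Type*} [Field k] [Ring A] [Algebra k A]

/-- The corner at `E`. -/
def corner (k : Type*) {A : Type*} [Field k] [Ring A] [Algebra k A] (E : A) : Submodule k A :=
  LinearMap.range (mulLeft k E ∘ₗ mulRight k E)

theorem mem_corner {E r : A} (hE : IsIdempotentElem E) : r ∈ corner k E ↔ E * r * E = r := by
  constructor
  · rintro ⟨a, rfl⟩
    simp only [LinearMap.comp_apply, LinearMap.mulLeft_apply, LinearMap.mulRight_apply,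
      ← mul_assoc, hE.eq]
    rw [mul_assoc (E * a), hE.eq]
  · intro h
    exact ⟨r, by simpa [mul_assoc] using h⟩

/-- The commutators of the corner have codimension the dimension of the cocentre. -/
theorem finrank_corner [FiniteDimensional k A] {e E : A} (hec : ∀ a, e * a = a * e)
    (hE : IsIdempotentElem E) (heE : e * E = E) (he : IsIdempotentElem e)
    (hgen : e ∈ Submodule.span k (Set.range fun q : A × A => q.1 * E * q.2)) {c : ℕ}
    (hcoc : Module.finrank k (LinearMap.range (mulLeft k e))
      = Module.finrank k ((commSpan k A).map (mulLeft k e)) + c) :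
    Module.finrank k (corner k E) = Module.finrank k (comSub (corner k E)) + c := by
  obtain ⟨n, xs, ys, hexp⟩ := exists_expansion hgen
  have hEe : E * e = E := by rw [← hec, heE]
  -- the corner
  set R := LinearMap.range (mulLeft k E ∘ₗ mulRight k E) with hR
  have memR : ∀ {r : A}, r ∈ R ↔ E * r * E = r := by
    intro r
    constructor
    · rintro ⟨a, rfl⟩
      simp only [LinearMap.comp_apply, LinearMap.mulLeft_apply, LinearMap.mulRight_apply,
        ← mul_assoc, hE.eq]
      rw [mul_assoc (E * a), hE.eq]
    · intro h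
      exact ⟨r, by simpa [mul_assoc] using h⟩
  have cornR : ∀ a, E * a * E ∈ R := fun a => ⟨a, by simp [mul_assoc]⟩
  have hER : E ∈ R := memR.2 (by rw [hE.eq, hE.eq])
  have leftR : ∀ {r : A}, r ∈ R → E * r = r := fun {r} h => by
    conv_lhs => rw [← memR.1 h, ← mul_assoc, ← mul_assoc, hE.eq]
    exact memR.1 h
  have rightR : ∀ {r : A}, r ∈ R → r * E = r := fun {r} h => by
    conv_lhs => rw [← memR.1 h, mul_assoc, hE.eq]
    exact memR.1 h
  have mulR : ∀ {r s : A}, r ∈ R → s ∈ R → r * s ∈ R := fun {r s} hr hs => memR.2 (by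
    rw [← mul_assoc, leftR hr, mul_assoc, rightR hs])
  set C := Submodule.span k {z : A | ∃ r ∈ R, ∃ s ∈ R, r * s - s * r = z} with hC
  have memC : ∀ {r s : A}, r ∈ R → s ∈ R → r * s - s * r ∈ C := fun hr hs =>
    Submodule.subset_span ⟨_, hr, _, hs, rfl⟩
  have hCR : C ≤ R := Submodule.span_le.2 (by
    rintro _ ⟨r, hr, s, hs, rfl⟩
    exact sub_mem (mulR hr hs) (mulR hs hr))
  set K := (commSpan k A).map (mulLeft k e) with hK
  -- the corner maps onto `e A` modulo commutators
  have hsup : R ⊔ K = LinearMap.range (mulLeft k e) := by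
    refine le_antisymm (sup_le (fun r hr => ⟨r, ?_⟩) ?_) ?_
    · rw [LinearMap.mulLeft_apply, ← leftR hr, ← mul_assoc, heE]
    · rw [hK]; rintro _ ⟨z, -, rfl⟩; exact ⟨z, rfl⟩
    · rintro _ ⟨a, rfl⟩
      have e1 : mulLeft k e a = ∑ i, (E * (ys i * a * xs i) * E)
          + mulLeft k e (∑ i, ((xs i * E) * (E * (ys i * a)) - (E * (ys i * a)) * (xs i * E))) := by
        rw [LinearMap.mulLeft_apply, LinearMap.mulLeft_apply, Finset.sum_sub_distrib, mul_sub]
        have h1 : e * a = e * ∑ i, xs i * E * (E * (ys i * a)) := by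
          have : ∑ i, xs i * E * (E * (ys i * a)) = e * a := by
            rw [hexp, Finset.sum_mul]
            refine Finset.sum_congr rfl fun i _ => ?_
            simp only [← mul_assoc]
            rw [mul_assoc (xs i), hE.eq]
          rw [this, ← mul_assoc, he.eq]
        have h2 : e * ∑ i, E * (ys i * a) * (xs i * E) = ∑ i, E * (ys i * a * xs i) * E := by
          rw [Finset.mul_sum]
          refine Finset.sum_congr rfl fun i _ => ?_
          simp only [← mul_assoc, heE]
        rw [← h1, h2]
        abel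
      rw [e1]
      refine Submodule.add_mem_sup (sum_mem fun i _ => cornR _) ⟨_, sum_mem fun i _ => ?_, rfl⟩
      exact comm_mem _ _
  have hinf : R ⊓ K = C := by
    refine le_antisymm ?_ (le_inf hCR (Submodule.span_le.2 ?_))
    · let Ψ : A →ₗ[k] A := ∑ i, mulLeft k (E * ys i) ∘ₗ mulRight k (xs i * E)
      have hΨ : ∀ a, Ψ a = ∑ i, E * ys i * (a * (xs i * E)) := fun a => by simp [Ψ, mul_assoc]
      rintro z ⟨hzR, hzK⟩
      have h1 : Ψ z ∈ C := by
        suffices hall : ∀ w ∈ commSpan k A, Ψ (e * w) ∈ C by
          obtain ⟨w, hw, rfl⟩ := hzK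
          exact hall w hw
        intro w hw
        induction hw using Submodule.span_induction with
        | mem w hw =>
          obtain ⟨⟨b, c⟩, rfl⟩ := hw
          have key : ∀ b c : A, Ψ (e * (b * c))
              = ∑ i, ∑ j, (E * ys i * (b * (xs j * E))) * (E * ys j * (c * (xs i * E))) := by
            intro b c
            rw [hΨ]
            refine Finset.sum_congr rfl fun i _ => ?_
            rw [← mul_assoc e, hec b, mul_assoc b, hexp, Finset.sum_mul, Finset.mul_sum, Finset.sum_mul,
              Finset.mul_sum]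
            refine Finset.sum_congr rfl fun j _ => ?_
            simp only [← mul_assoc]
            rw [mul_assoc (E * ys i * b * xs j) E E, hE.eq]
          rw [mul_sub, map_sub, key, key]
          rw [Finset.sum_comm (f := fun i j => (E * ys i * (c * (xs j * E))) * (E * ys j * (b * (xs i * E)))),
            ← Finset.sum_sub_distrib]
          refine sum_mem fun i _ => ?_
          rw [← Finset.sum_sub_distrib]
          refine sum_mem fun j _ => memC ?_ ?_ <;>
            exact memR.2 (by simp only [← mul_assoc, hE.eq]; rw [mul_assoc _ E E, hE.eq])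
        | zero => simp
        | add w w' _ _ hw hw' => simpa [mul_add] using add_mem hw hw'
        | smul c w _ hw => simpa using Submodule.smul_mem _ c hw
      have h2 : Ψ z - z ∈ C := by
        have e2 : z = ∑ i, (E * xs i * E) * (E * ys i * E * z) := by
          have : ∑ i, (E * xs i * E) * (E * ys i * E * z) = E * (∑ i, xs i * E * ys i) * E * z := by
            rw [Finset.mul_sum, Finset.sum_mul, Finset.sum_mul]
            refine Finset.sum_congr rfl fun i _ => ?_
            simp only [← mul_assoc]
            rw [mul_assoc (E * xs i) E E, hE.eq]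
          rw [this, ← hexp, hEe, hE.eq, leftR hzR]
        nth_rewrite 2 [e2]
        rw [hΨ, ← Finset.sum_sub_distrib]
        refine sum_mem fun i _ => ?_
        have e3 : E * ys i * (z * (xs i * E)) = (E * ys i * E * z) * (E * xs i * E) := by
          conv_lhs => rw [← memR.1 hzR]
          simp only [← mul_assoc]
        rw [e3]
        exact memC (memR.2 (by simp only [← mul_assoc, hE.eq]; rw [mul_assoc _ z E, rightR hzR])) (cornR _)
      simpa using sub_mem h1 h2
    · rintro _ ⟨r, hr, s, hs, rfl⟩
      refine ⟨r * s - s * r, comm_mem _ _, ?_⟩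
      rw [LinearMap.mulLeft_apply, ← leftR (sub_mem (mulR hr hs) (mulR hs hr)), ← mul_assoc, heE]
  have h := Submodule.finrank_sup_add_finrank_inf_eq R K
  rw [hsup, hinf, hcoc] at h
  change Module.finrank k R = Module.finrank k C + c
  omega

/-- Lifted matrix units: `P_l ∈ eAE`, `Q_l ∈ EAe` with `Q_l P_j = δ E` and `∑ P_l Q_l = e`. -/
theorem exists_units {r : ℕ} {d : Fin r → ℕ} (hd : ∀ i, NeZero (d i))
    {π : A →ₐ[k] Π i, Matrix (Fin (d i)) (Fin (d i)) k} (hπ : Function.Surjective π) {N : ℕ}
    (hN : (LinearMap.ker π.toLinearMap) ^ N = ⊥) {e E : A} (hec : ∀ a, e * a = a * e)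
    (hee : e * e = e) {i₀ : Fin r} (hπe : π e = Pi.single i₀ 1) (hE : IsIdempotentElem E)
    (heE : e * E = E) (hπE : π E = Pi.single i₀ (Matrix.single (0 : Fin (d i₀)) 0 1)) :
    ∃ P Q : Fin (d i₀) → A, (∀ l j, Q l * P j = if l = j then E else 0) ∧
      ∑ l, P l * Q l = e ∧ (∀ l, P l * E = P l) ∧ (∀ l, E * Q l = Q l) ∧ (∀ l, e * P l = P l) := by
  haveI := hd i₀
  set m := d i₀ with hm
  set J := LinearMap.ker π.toLinearMap with hJ
  have memJ : ∀ {x : A}, x ∈ J ↔ π x = 0 := fun {x} => LinearMap.mem_ker
  choose al hal using fun l => hπ (Pi.single i₀ (Matrix.single l (0 : Fin (d i₀)) (1 : k)))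
  choose bl hbl using fun l => hπ (Pi.single i₀ (Matrix.single (0 : Fin (d i₀)) l (1 : k)))
  let P' : Fin m → A := fun l => e * al l * E
  let Q' : Fin m → A := fun l => E * bl l * e
  have hπP : ∀ l, π (P' l) = Pi.single i₀ (Matrix.single l (0 : Fin (d i₀)) (1 : k)) := fun l => by
    simp only [P', map_mul, hπe, hal, hπE, ← Pi.single_mul, one_mul]
    congr 1
    exact (Matrix.single_mul_single_same ..).trans (by rw [mul_one])
  have hπQ : ∀ l, π (Q' l) = Pi.single i₀ (Matrix.single (0 : Fin (d i₀)) l (1 : k)) := fun l => by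
    simp only [Q', map_mul, hπe, hbl, hπE, ← Pi.single_mul, mul_one]
    congr 1
    exact (Matrix.single_mul_single_same ..).trans (by rw [mul_one])
  let Nm : Matrix (Fin m) (Fin m) A := Matrix.of fun l j => Q' l * P' j - if l = j then E else 0
  have hNJ : ∀ l j, Nm l j ∈ J := fun l j => by
    refine memJ.2 ?_
    show π (Q' l * P' j - _) = 0
    rw [map_sub, map_mul, hπQ, hπP, ← Pi.single_mul]
    split_ifs with hlj
    · subst hlj; rw [hπE, Matrix.single_mul_single_same, mul_one, sub_self]
    · rw [Matrix.single_mul_single_of_ne (h := hlj), Pi.single_zero, map_zero, sub_zero]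
  have hpow : ∀ t : ℕ, ∀ l j, (Nm ^ (t + 1)) l j ∈ J ^ (t + 1) := fun t => by
    induction t with
    | zero => intro l j; rw [zero_add, pow_one, pow_one]; exact hNJ l j
    | succ t ih =>
      intro l j
      rw [pow_succ J (t + 1), pow_succ Nm (t + 1), Matrix.mul_apply]
      exact sum_mem fun x _ => Submodule.mul_mem_mul (ih l x) (hNJ x j)
  have hnil : IsNilpotent Nm := ⟨N + 1, by
    ext l j
    have h1 := hpow N l j
    rw [pow_succ, hN, Submodule.bot_mul, Submodule.mem_bot] at h1
    exact h1⟩
  obtain ⟨u, hu⟩ := hnil.isUnit_one_add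
  let D : Matrix (Fin m) (Fin m) A := Matrix.diagonal fun _ => E
  have hEN : ∀ l j, E * Nm l j = Nm l j ∧ Nm l j * E = Nm l j := fun l j => by
    simp only [Nm, Matrix.of_apply, mul_sub, sub_mul, Q', P']
    have a1 : E * (E * bl l * e * (e * al j * E)) = E * bl l * e * (e * al j * E) := by
      simp only [← mul_assoc, hE.eq]
    have a2 : E * bl l * e * (e * al j * E) * E = E * bl l * e * (e * al j * E) := by
      simp only [mul_assoc, hE.eq]
    split_ifs <;> simp only [a1, a2, hE.eq, mul_zero, zero_mul, and_self]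
  have hDN : D * Nm = Nm := by
    ext l j; rw [Matrix.diagonal_mul]; exact (hEN l j).1
  have hND : Nm * D = Nm := by
    ext l j; rw [Matrix.mul_diagonal]; exact (hEN l j).2
  have hcomm : Commute D (u : Matrix (Fin m) (Fin m) A) := by
    rw [hu]
    exact (Commute.one_right D).add_right (hDN.trans hND.symm)
  have hW : (↑u⁻¹ : Matrix (Fin m) (Fin m) A) * (D + Nm) = D := by
    rw [show D + Nm = D * (u : Matrix (Fin m) (Fin m) A) by rw [hu, mul_add, mul_one, hDN],
      hcomm.eq, ← mul_assoc, Units.inv_mul, one_mul]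
  let Q : Fin m → A := fun l => E * ∑ j, (↑u⁻¹ : Matrix (Fin m) (Fin m) A) l j * Q' j
  have hQP : ∀ l j, Q l * P' j = if l = j then E else 0 := fun l j => by
    have h1 : (∑ x, (↑u⁻¹ : Matrix (Fin m) (Fin m) A) l x * Q' x) * P' j = D l j := by
      conv_rhs => rw [← hW, Matrix.mul_apply]
      rw [Finset.sum_mul]
      refine Finset.sum_congr rfl fun x _ => ?_
      rw [mul_assoc, Matrix.add_apply]
      simp only [D, Matrix.diagonal_apply]
      congr 1
      simp [Nm]
    show E * _ * _ = _
    rw [mul_assoc, h1]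
    simp only [D, Matrix.diagonal_apply]
    split_ifs
    · exact hE.eq
    · exact mul_zero E
  refine ⟨P', Q, hQP, ?_, fun l => ?_, fun l => ?_, fun l => ?_⟩
  · set f := ∑ l, P' l * Q l with hf
    have hPE : ∀ l, P' l * E = P' l := fun l => by simp only [P', mul_assoc, hE.eq]
    have hff : f * f = f := by
      rw [hf, Finset.sum_mul]
      refine Finset.sum_congr rfl fun l _ => ?_
      rw [Finset.mul_sum, Finset.sum_eq_single l]
      · rw [mul_assoc, ← mul_assoc (Q l), hQP, if_pos rfl, ← mul_assoc, hPE]
      · intro j _ hj; rw [mul_assoc, ← mul_assoc (Q l), hQP, if_neg hj.symm, zero_mul, mul_zero]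
      · simp
    have hef : e * f = f := by
      rw [hf, Finset.mul_sum]
      exact Finset.sum_congr rfl fun l _ => by
        simp only [P', ← mul_assoc, hee]
    have hπu : ∀ l j, π ((↑u⁻¹ : Matrix (Fin m) (Fin m) A) l j) = if l = j then 1 else 0 := fun l j => by
      let Φ := π.toRingHom.mapMatrix (m := Fin m)
      have h1 : Φ (u : Matrix (Fin m) (Fin m) A) = 1 := by
        rw [hu, map_add, map_one, add_eq_left]
        ext l j : 1
        exact memJ.1 (hNJ l j)
      have h2 : Φ (↑u⁻¹ : Matrix (Fin m) (Fin m) A) = 1 := by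
        have := congrArg Φ u.inv_mul
        rwa [map_mul, h1, mul_one, map_one] at this
      exact (congrFun (congrFun h2 l) j).trans (Matrix.one_apply ..)
    have hπQ' : ∀ l, π (Q l) = Pi.single i₀ (Matrix.single (0 : Fin (d i₀)) l (1 : k)) := fun l => by
      show π (E * _) = _
      rw [map_mul, map_sum, Finset.sum_eq_single l]
      · rw [map_mul, hπu, if_pos rfl, one_mul, hπE, hπQ, ← Pi.single_mul, Matrix.single_mul_single_same, mul_one]
      · intro j _ hj; rw [map_mul, hπu, if_neg hj.symm, zero_mul]
      · simp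
    have hπf : π f = π e := by
      rw [hf, map_sum, hπe]
      simp only [map_mul, hπP, hπQ', ← Pi.single_mul, Matrix.single_mul_single_same, mul_one]
      funext i
      rw [Finset.sum_apply]
      by_cases hi : i = i₀
      · subst hi; simp only [Pi.single_eq_same]; exact Matrix.sum_single_one
      · simp [Pi.single_eq_of_ne hi]
    have hfe : f * e = f := by rw [← hec, hef]
    have hidem : IsIdempotentElem (e - f) := by
      show (e - f) * (e - f) = e - f
      rw [mul_sub, sub_mul, sub_mul, hee, hef, hfe, hff, sub_self, sub_zero]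
    exact (sub_eq_zero.1 (eq_zero_of_idem_mem hN hidem (memJ.2 (by rw [map_sub, hπf, sub_self])))).symm
  · simp only [P', mul_assoc, hE.eq]
  · simp only [Q, ← mul_assoc, hE.eq]
  · simp only [P', ← mul_assoc, hee]

variable {m : ℕ} {e E : A} {P Q : Fin m → A}

/-- The block algebra is a matrix algebra over its corner. -/
theorem finrank_range_eq [FiniteDimensional k A] (hE : IsIdempotentElem E) (hec : ∀ a, e * a = a * e)
    (hee : e * e = e) (hQP : ∀ l j, Q l * P j = if l = j then E else 0) (hsum : ∑ l, P l * Q l = e)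
    (hPE : ∀ l, P l * E = P l) (hEQ : ∀ l, E * Q l = Q l) (heP : ∀ l, e * P l = P l) :
    Module.finrank k (LinearMap.range (mulLeft k e)) = m ^ 2 * Module.finrank k (corner k E) := by
  let V := LinearMap.range (mulLeft k e)
  let F : V →ₗ[k] Matrix (Fin m) (Fin m) (corner k E) :=
    { toFun := fun a => Matrix.of fun l j => ⟨Q l * (a : A) * P j, (mem_corner hE).2 (by
        simp only [← mul_assoc, hEQ]; rw [mul_assoc _ (P j), hPE])⟩
      map_add' := fun a b => Matrix.ext fun l j => Subtype.ext (by simp [mul_add, add_mul])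
      map_smul' := fun c a => Matrix.ext fun l j => Subtype.ext (by simp) }
  let G : Matrix (Fin m) (Fin m) (corner k E) →ₗ[k] V :=
    { toFun := fun X => ⟨∑ l, ∑ j, P l * (X l j : A) * Q j, ⟨∑ l, ∑ j, P l * (X l j : A) * Q j, by
        simp only [LinearMap.mulLeft_apply, Finset.mul_sum, ← mul_assoc, heP]⟩⟩
      map_add' := fun X Y => Subtype.ext (by simp [mul_add, add_mul, Finset.sum_add_distrib])
      map_smul' := fun c X => Subtype.ext (by simp [Finset.smul_sum]) }
  have hGF : ∀ a, G (F a) = a := fun a => Subtype.ext (by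
    show ∑ l, ∑ j, P l * (Q l * (a : A) * P j) * Q j = _
    obtain ⟨b, hb⟩ := a.2
    have h1 : e * (a : A) * e = a := by
      rw [← hb, LinearMap.mulLeft_apply, ← mul_assoc, hee, mul_assoc, ← hec, ← mul_assoc, hee]
    conv_rhs => rw [← h1, ← hsum, Finset.sum_mul, Finset.sum_mul]
    refine Finset.sum_congr rfl fun l _ => ?_
    rw [Finset.mul_sum]
    exact Finset.sum_congr rfl fun j _ => by simp only [mul_assoc])
  have hFG : ∀ X, F (G X) = X := fun X => Matrix.ext fun l j => Subtype.ext (by
    show Q l * (∑ l', ∑ j', P l' * (X l' j' : A) * Q j') * P j = _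
    rw [Finset.mul_sum, Finset.sum_mul, Finset.sum_eq_single l, Finset.mul_sum, Finset.sum_mul,
      Finset.sum_eq_single j]
    · simp only [← mul_assoc]
      rw [hQP, if_pos rfl, mul_assoc _ (Q j), hQP, if_pos rfl]
      exact (mem_corner hE).1 (X l j).2
    · intro j' _ hj
      simp only [← mul_assoc]
      rw [mul_assoc _ (Q j'), hQP j' j, if_neg hj, mul_zero]
    · simp
    · intro l' _ hl
      rw [Finset.mul_sum, Finset.sum_mul]
      refine Finset.sum_eq_zero fun j' _ => ?_
      simp only [← mul_assoc]
      rw [hQP, if_neg hl.symm, zero_mul, zero_mul, zero_mul]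
    · simp)
  have e1 : V ≃ₗ[k] Matrix (Fin m) (Fin m) (corner k E) :=
    LinearEquiv.ofLinearMap F G (LinearMap.ext hFG) (LinearMap.ext hGF)
  rw [show Module.finrank k V = _ from e1.finrank_eq, Module.finrank_matrix, Fintype.card_fin, sq]

/-- A module on which `e` is the identity has dimension divisible by `m`. -/
theorem dvd_finrank {V : Type*} [AddCommGroup V] [Module k V] [FiniteDimensional k V]
    (Φ : A →ₐ[k] Module.End k V) (he1 : Φ e = 1)
    (hQP : ∀ l j, Q l * P j = if l = j then E else 0) (hsum : ∑ l, P l * Q l = e)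
    (hEQ : ∀ l, E * Q l = Q l) : m ∣ Module.finrank k V := by
  let W := LinearMap.range (Φ E)
  let F : V →ₗ[k] (Fin m → W) := LinearMap.pi fun l => (Φ (Q l)).codRestrict W fun v =>
    ⟨Φ (Q l) v, by rw [← Module.End.mul_apply, ← map_mul, hEQ]⟩
  let G : (Fin m → W) →ₗ[k] V := ∑ l, Φ (P l) ∘ₗ W.subtype ∘ₗ LinearMap.proj l
  have hGF : ∀ v, G (F v) = v := fun v => by
    simp only [G, LinearMap.sum_apply, LinearMap.comp_apply, LinearMap.proj_apply]
    show ∑ l, Φ (P l) (Φ (Q l) v) = v
    calc _ = Φ (∑ l, P l * Q l) v := by simp [map_sum]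
      _ = v := by rw [hsum, he1]; rfl
  have hFG : ∀ w, F (G w) = w := fun w => funext fun l => Subtype.ext (by
    show Φ (Q l) (G w) = _
    simp only [G, LinearMap.sum_apply, LinearMap.comp_apply, LinearMap.proj_apply, map_sum,
      Submodule.subtype_apply]
    rw [Finset.sum_eq_single l]
    · rw [← Module.End.mul_apply, ← map_mul, hQP, if_pos rfl]
      obtain ⟨x, hx⟩ := (w l).2
      rw [← hx, ← Module.End.mul_apply]
      have hEE : E * E = E := by
        have h := hQP l l
        rw [if_pos rfl] at h
        conv_lhs => rhs; rw [← h]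
        rw [← mul_assoc, hEQ, h]
      rw [← map_mul, hEE]
    · intro j _ hj
      rw [← Module.End.mul_apply, ← map_mul, hQP, if_neg hj.symm, map_zero, LinearMap.zero_apply]
    · simp)
  have e1 : V ≃ₗ[k] (Fin m → W) := LinearEquiv.ofLinearMap F G (LinearMap.ext hFG) (LinearMap.ext hGF)
  rw [e1.finrank_eq, Module.finrank_pi_fintype, Finset.sum_const, Finset.card_univ, Fintype.card_fin, smul_eq_mul]
  exact dvd_mul_right _ _

end CfsgLib.Blocks.RankOneCorner
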