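import Mathlib

/-!
# Regular orbits of coprime automorphisms of abelian groups of rank two

A group of automorphisms of order prime to `p` of an abelian `p`-group with at most `p ^ 2` elements
of order dividing `p`, and of order more than `p ^ 2`, has a regular orbit.
-/

set_option autoImplicit false

namespace CfsgLib.Blocks.RankTwoAut

open scoped Classical

variable {A : Type*} [CommGroup A] [Finite A] {p : ℕ} [hp : Fact p.Prime]

/-- The common fixed points of a group of automorphisms. -/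
def fixedPts (H : Subgroup (MulAut A)) : Subgroup A where
  carrier := {x | ∀ h ∈ H, h x = x}
  mul_mem' {x y} hx hy h hh := by rw [map_mul, hx h hh, hy h hh]
  one_mem' h _ := map_one h
  inv_mem' {x} hx h hh := by rw [map_inv, hx h hh]

omit [Finite A] in
theorem mem_fixedPts {H : Subgroup (MulAut A)} {x : A} :
    x ∈ fixedPts H ↔ ∀ h ∈ H, h x = x := Iff.rfl

omit [Finite A] in
theorem mem_fixedPts_zpowers {α : MulAut A} {x : A} :
    x ∈ fixedPts (Subgroup.zpowers α) ↔ α x = x := by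
  refine ⟨fun h => h α (Subgroup.mem_zpowers α), fun h β hβ => ?_⟩
  have hS : Subgroup.zpowers α ≤ MulAction.stabilizer (MulAut A) x :=
    Subgroup.zpowers_le.2 h
  exact hS hβ

variable [Finite (MulAut A)]

/-- The norm map of a group of automorphisms. -/
noncomputable def normHom (H : Subgroup (MulAut A)) : A →* A :=
  letI := Fintype.ofFinite H
  { toFun := fun x => ∏ h : H, (h : MulAut A) x
    map_one' := by simp
    map_mul' := fun x y => by simp [Finset.prod_mul_distrib] }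

theorem normHom_apply (H : Subgroup (MulAut A)) [Fintype H] (x : A) :
    normHom H x = ∏ h : H, (h : MulAut A) x := by
  simp only [normHom, MonoidHom.coe_mk, OneHom.coe_mk]
  congr 1
  ext h; simp

theorem normHom_apply_mem {H : Subgroup (MulAut A)} {α : MulAut A} (hα : α ∈ H) (x : A) :
    normHom H (α x) = normHom H x := by
  letI := Fintype.ofFinite H
  rw [normHom_apply, normHom_apply]
  exact Fintype.prod_equiv (Equiv.mulRight ⟨α, hα⟩) _ _ fun h => rfl

theorem normHom_mem (H : Subgroup (MulAut A)) (x : A) : normHom H x ∈ fixedPts H := by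
  intro α hα
  letI := Fintype.ofFinite H
  rw [normHom_apply, map_prod]
  exact Fintype.prod_equiv (Equiv.mulLeft ⟨α, hα⟩) _ _ fun h => rfl

theorem normHom_fixed {H : Subgroup (MulAut A)} {x : A} (hx : x ∈ fixedPts H) :
    normHom H x = x ^ Nat.card H := by
  letI := Fintype.ofFinite H
  rw [normHom_apply, Finset.prod_congr rfl fun (h : H) _ => hx h h.2, Finset.prod_const,
    Finset.card_univ, Nat.card_eq_fintype_card]

section Coprime

variable {H : Subgroup (MulAut A)}

theorem eq_one_of_mem_ker (hA : IsPGroup p A) (hH : ¬ p ∣ Nat.card H) {x : A}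
    (hx : x ∈ fixedPts H) (hk : x ∈ (normHom H).ker) : x = 1 := by
  obtain ⟨k, hkk⟩ := IsPGroup.iff_orderOf.1 hA x
  have h1 : orderOf x ∣ Nat.card H := orderOf_dvd_of_pow_eq_one (by
    rw [← normHom_fixed hx]; exact hk)
  rw [hkk] at h1
  rcases Nat.eq_zero_or_pos k with rfl | hpos
  · exact orderOf_eq_one_iff.1 (by rw [hkk, pow_zero])
  · exact absurd ((dvd_pow_self p hpos.ne').trans h1) hH

theorem exists_decomp (hA : IsPGroup p A) (hH : ¬ p ∣ Nat.card H) (x : A) :
    ∃ c ∈ fixedPts H, ∃ k ∈ (normHom H).ker, x = c * k := by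
  have hcop : p.Coprime (Nat.card H) := hp.out.coprime_iff_not_dvd.2 hH
  obtain ⟨⟨c, hc⟩, hcx⟩ := ((hA.to_subgroup (fixedPts H)).powEquiv hcop).surjective
    ⟨normHom H x, normHom_mem H x⟩
  replace hcx : c ^ Nat.card H = normHom H x := congrArg Subtype.val hcx
  refine ⟨c, hc, c⁻¹ * x, ?_, (mul_inv_cancel_left c x).symm⟩
  rw [MonoidHom.mem_ker, map_mul, map_inv, normHom_fixed hc, hcx, inv_mul_cancel]

theorem card_fixed_mul_ker (hA : IsPGroup p A) (hH : ¬ p ∣ Nat.card H) :
    Nat.card (fixedPts H) * Nat.card (normHom H).ker = Nat.card A := by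
  rw [← Nat.card_prod]
  refine Nat.card_eq_of_bijective (fun q : fixedPts H × (normHom H).ker => (q.1 : A) * q.2) ⟨?_, ?_⟩
  · rintro ⟨⟨a, ha⟩, ⟨b, hb⟩⟩ ⟨⟨c, hc⟩, ⟨d, hd⟩⟩ h
    replace h : a * b = c * d := h
    have e : c⁻¹ * a = d * b⁻¹ := by
      rw [eq_mul_inv_iff_mul_eq, mul_assoc, h, inv_mul_cancel_left]
    have h1 := eq_one_of_mem_ker hA hH (mul_mem (inv_mem hc) ha)
      (e ▸ mul_mem hd (inv_mem hb))
    obtain rfl : a = c := (inv_mul_eq_one.1 h1).symm
    obtain rfl : b = d := mul_left_cancel h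
    rfl
  · intro x
    obtain ⟨c, hc, k, hk, rfl⟩ := exists_decomp hA hH x
    exact ⟨(⟨c, hc⟩, ⟨k, hk⟩), rfl⟩

theorem ker_ne_bot {α : MulAut A} (hα : α ∈ H) (hα1 : α ≠ 1) : (normHom H).ker ≠ ⊥ := by
  intro h
  refine hα1 (MulEquiv.ext fun x => ?_)
  have h1 : α x * x⁻¹ ∈ (normHom H).ker := by
    rw [MonoidHom.mem_ker, map_mul, map_inv, normHom_apply_mem hα, mul_inv_cancel]
  rw [h, Subgroup.mem_bot] at h1
  exact mul_inv_eq_one.1 h1

end Coprime

/-- The elements of order dividing `p`. -/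
noncomputable def socle (A : Type*) [CommGroup A] (p : ℕ) : Subgroup A :=
  (powMonoidHom p : A →* A).ker

omit [Finite A] [Finite (MulAut A)] hp in
theorem mem_socle {x : A} : x ∈ socle A p ↔ x ^ p = 1 := Iff.rfl

omit [Finite (MulAut A)] in
theorem exists_mem_socle (hA : IsPGroup p A) {S : Subgroup A} (hS : S ≠ ⊥) :
    ∃ v ∈ S, v ≠ 1 ∧ v ^ p = 1 := by
  obtain ⟨⟨x, hx⟩, hne⟩ := Subgroup.ne_bot_iff_exists_ne_one.1 hS
  have hx1 : x ≠ 1 := fun h => hne (Subtype.ext h)
  obtain ⟨k, hk⟩ := IsPGroup.iff_orderOf.1 hA x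
  obtain ⟨j, rfl⟩ : ∃ j, k = j + 1 := Nat.exists_eq_succ_of_ne_zero fun h => hx1 (by
    rw [← orderOf_eq_one_iff, hk, h, pow_zero])
  refine ⟨x ^ p ^ j, pow_mem hx _, fun h => ?_, ?_⟩
  · have h1 := orderOf_dvd_of_pow_eq_one h
    rw [hk] at h1
    have h2 := (Nat.pow_dvd_pow_iff_le_right hp.out.one_lt).1 h1
    omega
  · rw [← pow_mul, ← pow_succ, ← hk, pow_orderOf_eq_one]

omit [Finite (MulAut A)] in
theorem two_le_card_inf_socle (hA : IsPGroup p A) {S : Subgroup A} (hS : S ≠ ⊥) :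
    p ≤ Nat.card (S ⊓ socle A p : Subgroup A) := by
  obtain ⟨v, hv, hv1, hvp⟩ := exists_mem_socle hA hS
  have h : Subgroup.zpowers v ≤ S ⊓ socle A p := Subgroup.zpowers_le.2 ⟨hv, hvp⟩
  refine le_trans (le_of_eq ?_) (Subgroup.card_le_of_le h)
  rw [Nat.card_zpowers, orderOf_eq_prime hvp hv1]

section Main

variable (hA : IsPGroup p A) (hsoc : Nat.card (socle A p) ≤ p ^ 2)

include hA hsoc

theorem card_fixed_socle_le {H : Subgroup (MulAut A)} (hH : ¬ p ∣ Nat.card H) {α : MulAut A}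
    (hα : α ∈ H) (hα1 : α ≠ 1) : Nat.card (fixedPts H ⊓ socle A p : Subgroup A) ≤ p := by
  have h1 := two_le_card_inf_socle hA (ker_ne_bot hα hα1)
  have h2 : Nat.card (fixedPts H ⊓ socle A p : Subgroup A)
      * Nat.card ((normHom H).ker ⊓ socle A p : Subgroup A) ≤ Nat.card (socle A p) := by
    rw [← Nat.card_prod]
    refine Nat.card_le_card_of_injective
      (fun q => (⟨(q.1 : A) * q.2, mul_mem q.1.2.2 q.2.2.2⟩ : socle A p)) ?_
    rintro ⟨⟨a, ha⟩, ⟨b, hb⟩⟩ ⟨⟨c, hc⟩, ⟨d, hd⟩⟩ h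
    replace h : a * b = c * d := congrArg Subtype.val h
    have e : c⁻¹ * a = d * b⁻¹ := by
      rw [eq_mul_inv_iff_mul_eq, mul_assoc, h, inv_mul_cancel_left]
    have h1 := eq_one_of_mem_ker hA hH (mul_mem (inv_mem hc.1) ha.1)
      (e ▸ mul_mem hd.1 (inv_mem hb.1))
    obtain rfl : a = c := (inv_mul_eq_one.1 h1).symm
    obtain rfl : b = d := mul_left_cancel h
    rfl
  refine Nat.le_of_mul_le_mul_right (((Nat.mul_le_mul_left _ h1).trans h2).trans ?_) hp.out.pos
  exact hsoc.trans_eq (sq p)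

/-- The fixed points of an element are those of the stabilizer of any of its socle elements. -/
theorem fixed_le {H : Subgroup (MulAut A)} (hH : ¬ p ∣ Nat.card H) {α : MulAut A} (hα : α ∈ H)
    (hα1 : α ≠ 1) {u : A} (hu : u ∈ fixedPts H) (hu1 : u ≠ 1) (hup : u ^ p = 1) :
    fixedPts (Subgroup.zpowers α) ≤ fixedPts H := by
  intro x hx
  obtain ⟨c, hc, k, hk, rfl⟩ := exists_decomp hA hH x
  have hle : fixedPts H ≤ fixedPts (Subgroup.zpowers α) := fun y hy =>
    mem_fixedPts_zpowers.2 (hy α hα)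
  have hkα : k ∈ fixedPts (Subgroup.zpowers α) := by
    have := mul_mem (inv_mem (hle hc)) hx
    rwa [inv_mul_cancel_left] at this
  suffices hk1 : k = 1 by rwa [hk1, mul_one]
  by_contra hk1
  obtain ⟨v, hv, hv1, hvp⟩ := exists_mem_socle hA (S := Subgroup.zpowers k)
    (mt Subgroup.zpowers_eq_bot.1 hk1)
  have hHα : ¬ p ∣ Nat.card (Subgroup.zpowers α) := fun h =>
    hH (h.trans (Subgroup.card_dvd_of_le (Subgroup.zpowers_le.2 hα)))
  have hcard := card_fixed_socle_le hA hsoc hHα (Subgroup.mem_zpowers α) hα1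
  have hzu : Subgroup.zpowers u ≤ fixedPts (Subgroup.zpowers α) ⊓ socle A p :=
    Subgroup.zpowers_le.2 ⟨hle hu, hup⟩
  have heq := Subgroup.eq_of_le_of_card_ge hzu
    (hcard.trans_eq (by rw [Nat.card_zpowers, orderOf_eq_prime hup hu1]))
  have hvu : v ∈ Subgroup.zpowers u :=
    heq ▸ (⟨Subgroup.zpowers_le.2 hkα hv, hvp⟩ :
      v ∈ fixedPts (Subgroup.zpowers α) ⊓ socle A p)
  exact hv1 (eq_one_of_mem_ker hA hH (Subgroup.zpowers_le.2 hu hvu)
    (Subgroup.zpowers_le.2 hk hv))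

/-- A regular orbit. -/
theorem exists_regular (hcard : p ^ 2 < Nat.card A) (E : Subgroup (MulAut A))
    (hE : ¬ p ∣ Nat.card E) : ∃ w : A, ∀ α ∈ E, α w = w → α = 1 := by
  by_contra hcon
  push Not at hcon
  choose a haE hafix ha1 using hcon
  set S : A → Subgroup (MulAut A) := fun u => E ⊓ MulAction.stabilizer (MulAut A) u
  have hS : ∀ u, ¬ p ∣ Nat.card (S u) := fun u h =>
    hE (h.trans (Subgroup.card_dvd_of_le inf_le_left))
  have haH : ∀ w, ¬ p ∣ Nat.card (Subgroup.zpowers (a w)) := fun w h =>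
    hE (h.trans (Subgroup.card_dvd_of_le (Subgroup.zpowers_le.2 (haE w))))
  -- an element of the socle that lies in the fixed points of `a w` controls them
  have hkey : ∀ w u : A, u ≠ 1 → u ^ p = 1 → a w u = u →
      fixedPts (Subgroup.zpowers (a w)) ≤ fixedPts (S u) :=
    fun w u hu1 hup hfix => fixed_le hA hsoc (hS u) ⟨haE w, hfix⟩ (ha1 w)
      (fun h hh => hh.2) hu1 hup
  set V : Subgroup A := (powMonoidHom p : A →* A).range ⊓ socle A p with hV
  by_cases hVc : Nat.card V ≤ p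
  · -- two proper subgroups
    have hΩ : socle A p ≠ ⊤ := fun h => by
      rw [h, Subgroup.card_top] at hsoc
      omega
    obtain ⟨w₀, hw₀⟩ : ∃ w₀, w₀ ∉ socle A p := by
      by_contra h
      push Not at h
      exact hΩ (eq_top_iff.2 fun x _ => h x)
    have hsocV : ∀ w, w ∉ socle A p → ∃ u ∈ V, u ≠ 1 ∧ u ^ p = 1 ∧ a w u = u := by
      intro w hw
      obtain ⟨u, hu, hu1, hup⟩ := exists_mem_socle hA (S := Subgroup.zpowers (w ^ p))
        (mt Subgroup.zpowers_eq_bot.1 hw)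
      refine ⟨u, ⟨Subgroup.zpowers_le.2 (MonoidHom.mem_range.2 ⟨w, rfl⟩) hu, hup⟩, hu1, hup, ?_⟩
      exact mem_fixedPts_zpowers.1 (Subgroup.zpowers_le.2
        (pow_mem (mem_fixedPts_zpowers.2 (hafix w)) p) hu)
    obtain ⟨u₀, hu₀V, hu₀1, hu₀p, hu₀fix⟩ := hsocV w₀ hw₀
    set C₀ := fixedPts (Subgroup.zpowers (a w₀))
    have hcover : ∀ w, w ∉ socle A p → w ∈ C₀ := by
      intro w hw
      obtain ⟨u, huV, hu1, hup, hufix⟩ := hsocV w hw
      have hVeq : Subgroup.zpowers u₀ = V := Subgroup.eq_of_le_of_card_ge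
        (Subgroup.zpowers_le.2 hu₀V)
        (hVc.trans_eq (by rw [Nat.card_zpowers, orderOf_eq_prime hu₀p hu₀1]))
      have hVeq' : Subgroup.zpowers u = V := Subgroup.eq_of_le_of_card_ge
        (Subgroup.zpowers_le.2 huV)
        (hVc.trans_eq (by rw [Nat.card_zpowers, orderOf_eq_prime hup hu1]))
      have hfix₀ : a w u₀ = u₀ := mem_fixedPts_zpowers.1
        (Subgroup.zpowers_le.2 (mem_fixedPts_zpowers.2 hufix) (hVeq' ▸ hu₀V))
      have h1 := hkey w u₀ hu₀1 hu₀p hfix₀ (mem_fixedPts_zpowers.2 (hafix w))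
      exact mem_fixedPts_zpowers.2 (h1 (a w₀) ⟨haE w₀, hu₀fix⟩)
    have hC₀ : C₀ ≠ ⊤ := fun h => ha1 w₀ (MulEquiv.ext fun x =>
      mem_fixedPts_zpowers.1 (h ▸ Subgroup.mem_top x : x ∈ C₀))
    obtain ⟨y, hy⟩ : ∃ y, y ∉ C₀ := by
      by_contra h
      push Not at h
      exact hC₀ (eq_top_iff.2 fun x _ => h x)
    have hyΩ : y ∈ socle A p := by_contra fun h => hy (hcover y h)
    have hw₀C : w₀ ∈ C₀ := hcover w₀ hw₀
    by_cases hm : w₀ * y ∈ socle A p
    · exact hw₀ (by simpa using mul_mem hm (inv_mem hyΩ))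
    · exact hy (by simpa using mul_mem (inv_mem hw₀C) (hcover _ hm))
  · -- counting
    have hsmall : ∀ u, (∃ α ∈ S u, α ≠ 1) →
        Nat.card (fixedPts (S u)) * p ^ 2 ≤ Nat.card A := by
      rintro u ⟨α, hα, hα1⟩
      rw [← card_fixed_mul_ker hA (hS u)]
      refine Nat.mul_le_mul_left _ (by_contra fun hlt => hVc ?_)
      obtain ⟨j, hj⟩ := IsPGroup.iff_card.1 (hA.to_subgroup (normHom (S u)).ker)
      rw [hj] at hlt
      have hj1 : j ≤ 1 := by
        have := (Nat.pow_lt_pow_iff_right hp.out.one_lt).1 (not_le.1 hlt)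
        omega
      refine le_trans (Subgroup.card_le_of_le ?_) (card_fixed_socle_le hA hsoc (hS u) hα hα1)
      rintro v ⟨⟨x, rfl⟩, hv⟩
      refine ⟨?_, hv⟩
      obtain ⟨c, hc, k, hk, rfl⟩ := exists_decomp hA (hS u) x
      have hkp : k ^ p = 1 := by
        have h1 : k ^ Nat.card (normHom (S u)).ker = 1 :=
          congrArg Subtype.val (pow_card_eq_one' (x := (⟨k, hk⟩ : (normHom (S u)).ker)))
        rw [hj] at h1
        exact orderOf_dvd_iff_pow_eq_one.1 ((orderOf_dvd_of_pow_eq_one h1).trans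
          ((pow_dvd_pow p hj1).trans (by rw [pow_one])))
      rw [powMonoidHom_apply, mul_pow, hkp, mul_one]
      exact pow_mem hc _
    letI := Fintype.ofFinite A
    set U := Finset.univ.filter fun u : A => u ≠ 1 ∧ u ^ p = 1 ∧ ∃ α ∈ S u, α ≠ 1
    have hall : Finset.univ.erase (1 : A) ⊆
        U.biUnion fun u => (Finset.univ.filter fun x : A => x ∈ fixedPts (S u)).erase 1 := by
      intro w hw
      have hw1 := (Finset.mem_erase.1 hw).1
      obtain ⟨u, hu, hu1, hup⟩ := exists_mem_socle hA (S := Subgroup.zpowers w)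
        (mt Subgroup.zpowers_eq_bot.1 hw1)
      have hufix : a w u = u := mem_fixedPts_zpowers.1
        (Subgroup.zpowers_le.2 (mem_fixedPts_zpowers.2 (hafix w)) hu)
      refine Finset.mem_biUnion.2 ⟨u, Finset.mem_filter.2 ⟨Finset.mem_univ _, hu1, hup,
        a w, ⟨haE w, hufix⟩, ha1 w⟩, Finset.mem_erase.2 ⟨hw1, Finset.mem_filter.2
          ⟨Finset.mem_univ _, hkey w u hu1 hup hufix (mem_fixedPts_zpowers.2 (hafix w))⟩⟩⟩
    have hU : U.card + 1 ≤ p ^ 2 := by
      have hsub : insert 1 U ⊆ Finset.univ.filter fun x : A => x ∈ socle A p := by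
        intro x hx
        rcases Finset.mem_insert.1 hx with rfl | hx
        · exact Finset.mem_filter.2 ⟨Finset.mem_univ _, one_mem _⟩
        · exact Finset.mem_filter.2 ⟨Finset.mem_univ _, (Finset.mem_filter.1 hx).2.2.1⟩
      have h1 := Finset.card_le_card hsub
      rw [Finset.card_insert_of_notMem fun h => (Finset.mem_filter.1 h).2.1 rfl] at h1
      refine h1.trans (le_trans (le_of_eq ?_) hsoc)
      rw [← Fintype.card_subtype, ← Nat.card_eq_fintype_card]
    have hbnd : ∀ u ∈ U,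
        ((Finset.univ.filter fun x : A => x ∈ fixedPts (S u)).erase 1).card * p ^ 2 + p ^ 2
          ≤ Nat.card A := by
      intro u hu
      rw [← Nat.succ_mul, Nat.succ_eq_add_one, Finset.card_erase_add_one
        (Finset.mem_filter.2 ⟨Finset.mem_univ _, one_mem _⟩), ← Fintype.card_subtype,
        ← Nat.card_eq_fintype_card]
      exact hsmall u (Finset.mem_filter.1 hu).2.2.2
    have h1 := (Finset.card_le_card hall).trans Finset.card_biUnion_le
    rw [Finset.card_erase_of_mem (Finset.mem_univ _), Finset.card_univ,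
      ← Nat.card_eq_fintype_card] at h1
    have h2 := Finset.sum_le_sum hbnd
    rw [Finset.sum_add_distrib, ← Finset.sum_mul, Finset.sum_const, Finset.sum_const,
      smul_eq_mul, smul_eq_mul] at h2
    set T := ∑ u ∈ U, ((Finset.univ.filter fun x : A => x ∈ fixedPts (S u)).erase 1).card
    have h3 : (Nat.card A - 1) * p ^ 2 ≤ T * p ^ 2 := Nat.mul_le_mul_right _ h1
    obtain ⟨N, hN⟩ : ∃ N, Nat.card A = N + 1 := ⟨Nat.card A - 1, by omega⟩
    rw [hN] at h2 h3 hcard
    simp only [Nat.add_sub_cancel] at h3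
    nlinarith [Nat.mul_le_mul_right (N + 1) hU]

end Main

end CfsgLib.Blocks.RankTwoAut
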