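import Cfsg.Agent.Lib.Blocks.Height
import Cfsg.Agent.Lib.Blocks.Section
import Cfsg.Agent.Lib.Char.FS
import Cfsg.Agent.Lib.CharDeep.Galois.CharAut

/-!
# Real characters of the principal block at an odd prime

The indicators weight the regular inner products with the principal character to the same total as the
principal character alone, so the non-principal real characters of the principal block contribute zero.
-/

set_option autoImplicit false

namespace CfsgLib.Blocks.RealPartner

open Cfsg CfsgLib.Blocks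
open scoped Classical ComplexConjugate

variable {G : Type*} [Group G] [Fintype G] {p : ℕ}

/-- The Frobenius-Schur indicator. -/
noncomputable def indic (χ : IrrCharacter G) : ℂ := (Nat.card G : ℂ)⁻¹ * ∑ s : G, (χ : G → ℂ) (s * s)

theorem indic_cases (χ : IrrCharacter G) :
    (indic χ = 0 ∨ indic χ = 1 ∨ indic χ = -1) ∧ (indic χ = 0 ↔ ∃ s : G, ((χ : G → ℂ) s).im ≠ 0) := by
  obtain ⟨n, ρ, hρ, he⟩ := χ.2
  haveI := hρ
  have h := CfsgLib.Char.frobeniusSchur ρ
  rwa [he] at h

theorem indic_trivChar : indic (trivChar G) = 1 := by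
  simp only [indic, trivChar_apply, Finset.sum_const, Finset.card_univ, nsmul_eq_mul, mul_one,
    Fintype.card_eq_nat_card]
  exact inv_mul_cancel₀ CfsgLib.Char.card_ne_zero

theorem sq_regular_iff (hp : p.Prime) (hp2 : p ≠ 2) (s : G) : IsPRegular p (s * s) ↔ IsPRegular p s := by
  constructor
  · intro h hd
    refine h ?_
    rw [← pow_two, orderOf_pow]
    have h2 : (orderOf s).gcd 2 = 1 ∨ (orderOf s).gcd 2 = 2 :=
      (Nat.dvd_prime Nat.prime_two).1 (Nat.gcd_dvd_right _ 2)
    rcases h2 with e | e
    · rw [e, Nat.div_one]; exact hd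
    · rw [e]
      obtain ⟨k, hk⟩ : 2 ∣ orderOf s := e ▸ Nat.gcd_dvd_left _ 2
      rw [hk, Nat.mul_div_cancel_left _ two_pos]
      rw [hk] at hd
      exact ((hp.dvd_mul).1 hd).resolve_left fun h => hp2 ((Nat.prime_dvd_prime_iff_eq hp Nat.prime_two).1 h)
  · intro h hd
    rw [← pow_two] at hd
    exact h (hd.trans (orderOf_pow_dvd 2))

/-- The indicators weight the regular inner products with `1` to the inner product of `1` with itself. -/
theorem sum_indic_regInner (hp : p.Prime) (hp2 : p ≠ 2) :
    ∑ χ : IrrCharacter G, indic χ * regInner p (trivChar G : G → ℂ) (χ : G → ℂ)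
      = regInner p (trivChar G : G → ℂ) (trivChar G : G → ℂ) := by
  simp only [indic, regInner, trivChar_apply, one_mul, mul_assoc, ← Finset.mul_sum]
  have e : ∀ χ : IrrCharacter G, (∑ s : G, (χ : G → ℂ) (s * s)) *
      ((pPartCard p G : ℂ) * ((Nat.card G : ℂ)⁻¹ * ∑ x : G with IsPRegular p x, (χ : G → ℂ) x⁻¹))
      = (pPartCard p G : ℂ) * (Nat.card G : ℂ)⁻¹ *
        ∑ s : G, ∑ x : G with IsPRegular p x, (χ : G → ℂ) (s * s) * (χ : G → ℂ) x⁻¹ := by
    intro χ
    rw [← Finset.sum_mul_sum]
    ring
  rw [Finset.sum_congr rfl fun χ _ => e χ, ← Finset.mul_sum, Finset.sum_comm]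
  simp only [Finset.sum_comm (s := (Finset.univ : Finset (IrrCharacter G))), sum_irr_mul_inv]
  have hin : ∀ s : G, ∑ x : G with IsPRegular p x,
      ((Finset.univ.filter fun g : G => g * (s * s) * g⁻¹ = x).card : ℂ)
      = if IsPRegular p s then (Nat.card G : ℂ) else 0 := by
    intro s
    rw [← Nat.cast_sum]
    simp only [Finset.card_filter]
    rw [Finset.sum_comm]
    simp only [Finset.sum_ite_eq]
    have hconj : ∀ g : G, (g * (s * s) * g⁻¹ ∈ Finset.univ.filter fun x : G => IsPRegular p x) ↔
        IsPRegular p s := fun g => by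
      rw [Finset.mem_filter, and_iff_right (Finset.mem_univ _), IsPRegular, ← sq_regular_iff hp hp2]
      show _ ↔ ¬ p ∣ orderOf (s * s)
      rw [(MulAut.conj g).orderOf_eq (s * s) |>.symm]
      rfl
    simp only [hconj]
    split_ifs with h
    · rw [Finset.sum_const, Finset.card_univ, smul_eq_mul, mul_one, Fintype.card_eq_nat_card]
    · simp only [Finset.sum_const_zero, Nat.cast_zero]
  rw [Finset.sum_congr rfl fun s _ => hin s, ← Finset.sum_filter, Finset.sum_const, nsmul_eq_mul,
    Finset.sum_const, nsmul_eq_mul, mul_one]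
  have := CfsgLib.Char.card_ne_zero (G := G)
  field_simp

/-- A second real character of the principal block, outside the Galois orbit of the first. -/
theorem exists_partner [Fact p.Prime] (hp2 : p ≠ 2) {M : Ideal AlgInt} (hM : IsPModular p M)
    {α : IrrCharacter G} (hα : α ∈ principalBlock M G) (hα1 : α ≠ trivChar G)
    (hαr : ∀ g : G, ((α : G → ℂ) g).im = 0) :
    ∃ β : IrrCharacter G, β ∈ principalBlock M G ∧ β ≠ trivChar G ∧ (∀ g : G, ((β : G → ℂ) g).im = 0) ∧
      ∀ σ : ℂ ≃+* ℂ, (β : G → ℂ) ≠ (σ : ℂ → ℂ) ∘ (α : G → ℂ) := by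
  have hp : p.Prime := Fact.out
  by_contra hcon
  push Not at hcon
  have htB : trivChar G ∈ principalBlock M G := trivChar_mem_principalBlock hM
  have hdeg0 : degVal p (trivChar G) = minDegVal p (principalBlock M G) := by
    have h1 : charDegree ((trivChar G : IrrCharacter G) : G → ℂ) = 1 := by
      show ⌊((1 : ℂ)).re⌋₊ = 1
      simp
    have h2 : degVal p (trivChar G) = 0 := by simp [degVal, h1]
    have := minDegVal_le (p := p) htB
    omega
  set c : ℂ := indic α * regInner p (trivChar G : G → ℂ) (α : G → ℂ) with hc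
  have hνα : indic α = 1 ∨ indic α = -1 :=
    (indic_cases α).1.resolve_left fun h => by
      obtain ⟨s, hs⟩ := (indic_cases α).2.1 h
      exact hs (hαr s)
  have hc0 : c ≠ 0 := by
    refine mul_ne_zero (by rcases hνα with e | e <;> rw [e] <;> norm_num) ?_
    rw [← cast_regInt hp]
    exact Int.cast_ne_zero.2 (regInt_ne_zero_of_min hM isPBlock_principalBlock htB hdeg0 hα)
  set O : Finset (IrrCharacter G) := Finset.univ.filter fun β =>
    β ∈ principalBlock M G ∧ β ≠ trivChar G ∧ ∀ g : G, ((β : G → ℂ) g).im = 0 with hO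
  have hval : ∀ β ∈ O, indic β * regInner p (trivChar G : G → ℂ) (β : G → ℂ) = c := by
    intro β hβ
    obtain ⟨hB, hne, hr⟩ := (Finset.mem_filter.1 hβ).2
    obtain ⟨σ, hσ⟩ := hcon β hB hne hr
    have h1 : indic β = σ (indic α) := by
      simp only [indic, map_mul, map_inv₀, map_natCast, map_sum, hσ, Function.comp_apply]
    have h2 : regInner p (trivChar G : G → ℂ) (β : G → ℂ) = σ (regInner p (trivChar G : G → ℂ) (α : G → ℂ)) := by
      simp only [regInner, map_mul, map_inv₀, map_natCast, map_sum, hσ, Function.comp_apply, trivChar_apply,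
        map_one]
    rw [h1, h2, hc, ← cast_regInt hp]
    rcases hνα with e | e <;> rw [e] <;> simp
  have hzero : ∑ β ∈ O, indic β * regInner p (trivChar G : G → ℂ) (β : G → ℂ) = 0 := by
    have h := sum_indic_regInner (G := G) hp hp2
    rw [← Finset.add_sum_erase _ _ (Finset.mem_univ (trivChar G)), indic_trivChar, one_mul, add_eq_left] at h
    rw [← h]
    refine Finset.sum_subset (fun β hβ => Finset.mem_erase.2 ⟨(Finset.mem_filter.1 hβ).2.2.1, Finset.mem_univ _⟩)
      fun β hβ hβO => ?_
    by_cases hB : β ∈ principalBlock M G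
    · by_cases hr : ∀ g : G, ((β : G → ℂ) g).im = 0
      · exact absurd (Finset.mem_filter.2 ⟨Finset.mem_univ _, hB, (Finset.mem_erase.1 hβ).1, hr⟩) hβO
      · push Not at hr
        rw [(indic_cases β).2.2 hr, zero_mul]
    · rw [IsPBlock.regInner_eq_zero hM isPBlock_principalBlock htB hB, mul_zero]
  rw [Finset.sum_congr rfl hval, Finset.sum_const, nsmul_eq_mul, mul_eq_zero, Nat.cast_eq_zero,
    Finset.card_eq_zero] at hzero
  rcases hzero with h | h
  · have : α ∈ O := Finset.mem_filter.2 ⟨Finset.mem_univ _, hα, hα1, hαr⟩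
    rw [h] at this
    exact Finset.notMem_empty _ this
  · exact hc0 h

end CfsgLib.Blocks.RealPartner
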