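import Cfsg.Agent.Lib.Blocks.RegularIdemBasic
import Cfsg.Agent.Lib.Blocks.RegularIdemExt
import Cfsg.Agent.Lib.Blocks.AlperinDade
import Cfsg.Agent.Lib.Blocks.LocalRing
import Cfsg.Agent.Lib.Fusion.PSolvable
import Cfsg.Agent.Lib.Components.PComponents
import Cfsg.Agent.Lib.Solvable.Cores
import Cfsg.Agent.Lib.Char.CoprimeCoset

/-!
# Sets of characters whose idempotent is supported on `p`-regular elements

In a `p`-solvable group such an idempotent has local integral coefficients; hence the set is a union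
of `p`-blocks.
-/

set_option autoImplicit false
set_option linter.unusedSectionVars false

namespace CfsgLib.Blocks.RegIdemMain

open Cfsg CfsgLib CfsgLib.Blocks.RegIdem
open scoped Classical ComplexConjugate

variable {p : ℕ} [hp : Fact p.Prime] {G : Type*} [Group G] [Fintype G]

theorem dvd_orderOf_mk {N : Subgroup G} [N.Normal] (hN : (Nat.card N).Coprime p) (g : G) :
    p ∣ orderOf (g : G ⧸ N) ↔ p ∣ orderOf g := by
  constructor
  · exact fun h => h.trans (orderOf_map_dvd (QuotientGroup.mk' N) g)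
  · intro h
    have h1 : g ^ orderOf (g : G ⧸ N) ∈ N := by
      rw [← QuotientGroup.eq_one_iff, QuotientGroup.mk_pow, pow_orderOf_eq_one]
    have h2 : orderOf g ∣ orderOf (g : G ⧸ N) * Nat.card N := by
      refine orderOf_dvd_of_pow_eq_one ?_
      rw [pow_mul]
      exact congrArg Subtype.val
        (pow_card_eq_one' (x := (⟨g ^ orderOf (g : G ⧸ N), h1⟩ : N)))
    exact ((hp.out.dvd_mul).1 (h.trans h2)).resolve_right
      fun h3 => (hp.out.coprime_iff_not_dvd.1 hN.symm) h3

theorem vanish_inter {N : Subgroup G} [N.Normal] [Fintype N] (hN : (Nat.card N).Coprime p)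
    {U : Set (IrrCharacter G)} (hvan : ∀ g : G, p ∣ orderOf g → es U g = 0)
    {θ : N → ℂ} (hθ : IsIrrCharacter N θ) {g : G} (hg : p ∣ orderOf g) :
    es (U ∩ lying N θ) g = 0 := by
  rw [Set.inter_comm, ← es_conv]
  refine Finset.sum_eq_zero fun x _ => ?_
  by_cases hx : x ∈ N
  · rw [hvan (x⁻¹ * g) ?_, mul_zero]
    rw [← dvd_orderOf_mk hN, QuotientGroup.mk_mul, QuotientGroup.mk_inv,
      (QuotientGroup.eq_one_iff x).2 hx, inv_one, one_mul, dvd_orderOf_mk hN]
    exact hg
  · rw [es_over_eq_zero hθ hx, zero_mul]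

theorem es_eq_sum (U : Set (IrrCharacter G)) (g : G) :
    es U g = (Nat.card G : ℂ)⁻¹ *
      ∑ χ : IrrCharacter G with χ ∈ U, (χ : G → ℂ) 1 * (χ : G → ℂ) g := by
  rw [es, Finset.sum_filter]
  congr 1
  refine Finset.sum_congr rfl fun χ _ => ?_
  by_cases h : χ ∈ U <;> simp [blockInd, h]

/-- A character that is irreducible on a normal subgroup is irreducible. -/
theorem isIrr_of_restrict {N : Subgroup G} [hN : N.Normal] [Fintype N] {ψ : G → ℂ}
    (hψ : IsCharacter G ψ) {θ : N → ℂ} (hθ : IsIrrCharacter N θ) (h : ∀ n : N, ψ n = θ n) :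
    IsIrrCharacter G ψ := by
  have h1 : ψ 1 = θ 1 := h 1
  obtain ⟨φ, hφ, hne⟩ := Char.IsCharacter.exists_constituent hψ fun h0 => by
    rw [h0, Pi.zero_apply] at h1
    exact Char.IsIrrCharacter.apply_one_ne_zero hθ h1.symm
  obtain ⟨η, hη, hne'⟩ := Char.IsCharacter.exists_constituent
    (Char.IsCharacter.restrict (Char.IsIrrCharacter.isCharacter hφ) N) fun h0 =>
      Char.IsIrrCharacter.apply_one_ne_zero hφ (congrFun h0 1)
  have h2 : Cfsg.classInner θ η ≠ 0 := by
    have := CharDeep.Clifford.classInner_ne_zero_trans hψ hφ hne N.subtype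
      (Char.IsIrrCharacter.isCharacter hη) hne'
    rwa [show ψ ∘ N.subtype = θ from funext h] at this
  obtain rfl : η = θ := by
    by_contra hcon
    exact h2 (Char.classInner_irr_ne hθ hη (Ne.symm hcon))
  have hdeg := CharDeep.Clifford.apply_one_eq hφ hθ hne' (Char.stab η) (Char.isInertia_stab η)
  obtain ⟨m, hm⟩ := Char.IsCharacter.classInner_nat
    (Char.IsCharacter.restrict (Char.IsIrrCharacter.isCharacter hφ) N)
    (Char.IsIrrCharacter.isCharacter hη)
  obtain ⟨d, hd, hd'⟩ := Char.IsIrrCharacter.apply_one_eq hη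
  obtain ⟨a, b, ha, hb, hab, heq⟩ := Char.IsCharacter.constituent_degree_le hψ hφ hne
  rw [h1, hd'] at hb
  rw [hm, hd', ha] at hdeg
  have hb' : b = d := by exact_mod_cast hb.symm
  have ha' : a = (Char.stab η).index * m * d := by exact_mod_cast hdeg
  have hm0 : m ≠ 0 := fun h0 => hne' (by rw [hm, h0, Nat.cast_zero])
  have hpos : 0 < (Char.stab η).index * m :=
    Nat.mul_pos (Nat.pos_of_ne_zero Subgroup.index_ne_zero_of_finite) (Nat.pos_of_ne_zero hm0)
  have : a = b := le_antisymm hab (by rw [hb', ha']; exact Nat.le_mul_of_pos_left d hpos)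
  rw [heq this]
  exact hφ

theorem sum_normSq_coset {M L : Subgroup G} [hM : M.Normal] [Fintype M] [Fintype L] (hML : M ≤ L)
    {θ : M → ℂ} (hθ : IsIrrCharacter M θ) {Θ : G → ℂ} (hΘ : IsIrrCharacter L fun l => Θ l)
    (hΘM : ∀ m : M, Θ m = θ m) {z : G} (hz : z ∈ L) :
    ∑ m : M, Complex.normSq (Θ (z * m)) = (Nat.card M : ℝ) := by
  let e : M.subgroupOf L ≃* M := Subgroup.subgroupOfEquivOfLe hML
  have h := Blocks.AlperinDade.sum_coset_sq (N := M.subgroupOf L) hΘ
    (θ := ⟨θ ∘ e, Char.IsIrrCharacter.comp_equiv hθ e⟩) (fun m => hΘM (e m)) ⟨z, hz⟩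
  have h' : ((∑ m : M, Complex.normSq (Θ (z * m)) : ℝ) : ℂ) = ((Nat.card M : ℝ) : ℂ) := by
    rw [Complex.ofReal_natCast, ← Nat.card_congr e.toEquiv, ← h, Complex.ofReal_sum]
    refine (Fintype.sum_equiv e.toEquiv _ _ fun m => ?_).symm
    rw [← Complex.mul_conj]
    rfl
  exact_mod_cast h'

variable {M : Ideal AlgInt}

/-- The case of an invariant character. -/
theorem es_LR_invariant (hM : IsPModular p M) (hsolv : IsPSolvable p G)
    {N : Subgroup G} [hN : N.Normal] (hNdef : N = pPrimeCore p G)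
    {θ : N → ℂ} (hθ : IsIrrCharacter N θ)
    (hinv : ∀ (g : G) (n : N), θ ⟨g * n * g⁻¹, hN.conj_mem n n.2 g⟩ = θ n)
    {U : Set (IrrCharacter G)} (hU : U ⊆ lying N θ)
    (hvan : ∀ g : G, p ∣ orderOf g → es U g = 0) :
    ∀ g, MemLocalRing M (es U g) := by
  have hNc : (Nat.card N).Coprime p := hNdef ▸ Solvable.Cores.coprime_card_pPrimeCore p
  have hQO : pPrimeCore p (G ⧸ N) = ⊥ := by
    subst hNdef
    exact Components.pPrimeCore_quotient_eq_bot
  set π := QuotientGroup.mk' N with hπ
  set Kb := pCore p (G ⧸ N) with hKb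
  set K : Subgroup G := Kb.comap π with hKdef
  have hKbp : IsPGroup p Kb := Solvable.Cores.isPGroup_pCore p
  have hNK : N ≤ K := fun n hn => by
    show π n ∈ Kb
    rw [hπ, QuotientGroup.mk'_apply, (QuotientGroup.eq_one_iff n).2 hn]
    exact one_mem _
  obtain ⟨kk, hkk⟩ := IsPGroup.iff_card.1 hKbp
  have hrel : N.relIndex K = p ^ kk := by
    conv_lhs => rw [show N = (⊥ : Subgroup (G ⧸ N)).comap π by
      rw [hπ, MonoidHom.comap_bot, QuotientGroup.ker_mk']]
    rw [Subgroup.relIndex_comap, hKdef,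
      Subgroup.map_comap_eq_self_of_surjective (QuotientGroup.mk'_surjective N),
      Subgroup.relIndex_bot_left, hkk]
  have hcardK : Nat.card K = Nat.card N * p ^ kk := by
    rw [← hrel, Subgroup.relIndex, ← Nat.card_congr (Subgroup.subgroupOfEquivOfLe hNK).toEquiv,
      Subgroup.card_mul_index]
  obtain ⟨Θ0, hΘ0, hΘ0N, hΘ0inv⟩ := RegIdemExt.exists_invariant_extension hNK
    (by rw [hrel]; exact Nat.Coprime.pow_left _ hNc.symm) hθ hinv
  set U' := U ∩ lying K Θ0 with hU'
  have hregN : ∀ g ∈ K, ¬ p ∣ orderOf g → g ∈ N := by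
    intro g hg hr
    obtain ⟨j, hj⟩ := IsPGroup.iff_orderOf.1 hKbp ⟨π g, hg⟩
    have hj' := (orderOf_injective Kb.subtype Kb.subtype_injective _).trans hj
    replace hj : orderOf (π g) = p ^ j := hj'
    rcases j with _ | j
    · rw [pow_zero, orderOf_eq_one_iff] at hj
      exact (QuotientGroup.eq_one_iff g).1 hj
    · exact absurd ((hj ▸ dvd_pow_self p j.succ_ne_zero).trans (orderOf_map_dvd π g)) hr
  have hh : ∀ g, es U' g = ∑ k : K, e0 Θ0 k * es U (g * k) := by
    intro g
    simp only [es, Finset.mul_sum]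
    rw [Finset.sum_comm]
    refine Finset.sum_congr rfl fun χ _ => ?_
    have h := kproj hΘ0 hΘ0inv χ g
    have e1 : ∀ k : K, e0 Θ0 k * ((Nat.card G : ℂ)⁻¹ *
        (blockInd U χ * ((χ : G → ℂ) 1 * (χ : G → ℂ) (g * k)))) =
        (Nat.card G : ℂ)⁻¹ * (blockInd U χ * (χ : G → ℂ) 1) *
          (e0 Θ0 k * (χ : G → ℂ) (g * k)) := fun k => by ring
    rw [Finset.sum_congr rfl fun k _ => e1 k, ← Finset.mul_sum, h]
    by_cases h1 : χ ∈ U <;> by_cases h2 : χ ∈ lying K Θ0 <;>
      simp_all [blockInd, lying, mul_assoc]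
  have hh1 : es U' 1 = ((p ^ kk : ℕ) : ℂ)⁻¹ * es U 1 := by
    rw [hh]
    simp only [one_mul]
    have h1 : ∑ n : N, e0 θ n * es U n = es U 1 := by
      simp only [es, Finset.mul_sum]
      rw [Finset.sum_comm]
      refine Finset.sum_congr rfl fun χ _ => ?_
      have e1 : ∀ n : N, e0 θ n * ((Nat.card G : ℂ)⁻¹ *
          (blockInd U χ * ((χ : G → ℂ) 1 * (χ : G → ℂ) n))) =
          (Nat.card G : ℂ)⁻¹ * (blockInd U χ * (χ : G → ℂ) 1) *
            (e0 θ n * (χ : G → ℂ) (1 * n)) := fun n => by rw [one_mul]; ring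
      rw [Finset.sum_congr rfl fun n _ => e1 n, ← Finset.mul_sum, kproj hθ hinv χ 1]
      by_cases hχ : χ ∈ U
      · rw [if_pos]
        · ring
        · exact hU hχ
      · simp [blockInd, hχ]
    rw [← h1, Finset.mul_sum]
    refine (Fintype.sum_of_injective (Subgroup.inclusion hNK) (Subgroup.inclusion_injective hNK)
      _ _ ?_ ?_).symm
    · intro k hk
      rw [hvan k ?_, mul_zero]
      by_contra hr
      exact hk ⟨⟨k, hregN k k.2 hr⟩, rfl⟩
    · intro n
      have hc := Char.card_ne_zero (G := N)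
      simp only [e0, Subgroup.coe_inclusion, hcardK, Nat.cast_mul, mul_inv]
      rw [show Θ0 1 = θ 1 from hΘ0N 1, show Θ0 (Subgroup.inclusion hNK n)⁻¹ = θ n⁻¹ from hΘ0N n⁻¹]
      ring
  -- compare the two norms on each coset of K
  let fib : G ⧸ K → Finset G := fun c => Finset.univ.filter fun g : G => (g : G ⧸ K) = c
  set q : ℝ := ((p ^ kk : ℕ) : ℝ) with hq
  have hq0 : 0 < q := by rw [hq]; exact_mod_cast pow_pos hp.out.pos kk
  set A : G ⧸ K → ℝ := fun c => ∑ g ∈ fib c, Complex.normSq (es U' g) with hA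
  set B : G ⧸ K → ℝ := fun c => ∑ g ∈ fib c, Complex.normSq (es U g) with hB
  have htot : ∑ c, B c = ∑ c, q * A c := by
    rw [← Finset.mul_sum]
    have e1 : ∑ c, A c = ∑ g, Complex.normSq (es U' g) := Finset.sum_fiberwise _ _ _
    have e2 : ∑ c, B c = ∑ g, Complex.normSq (es U g) := Finset.sum_fiberwise _ _ _
    rw [e1, e2]
    apply Complex.ofReal_injective
    rw [Complex.ofReal_mul, sum_normSq_es, sum_normSq_es, hh1, hq, Complex.ofReal_natCast,
      ← mul_assoc, mul_inv_cancel₀ (Nat.cast_ne_zero.2 (pow_pos hp.out.pos kk).ne'), one_mul]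
  have hkey : ∀ c, B c ≤ q * A c ∧ (q * A c ≤ B c → ∀ x ∈ fib c, es U x ≠ 0 →
      ∀ k ∈ K, x⁻¹ * (k * x * k⁻¹) ∈ N) := by
    intro c
    by_cases h0 : ∀ x ∈ fib c, es U x = 0
    · refine ⟨?_, fun _ x hx hne => absurd (h0 x hx) hne⟩
      have : B c = 0 := Finset.sum_eq_zero fun x hx => by rw [h0 x hx, map_zero]
      rw [this]
      exact mul_nonneg hq0.le (Finset.sum_nonneg fun g _ => Complex.normSq_nonneg _)
    push Not at h0
    obtain ⟨x, hxc, hxne⟩ := h0
    have hxc' : (x : G ⧸ K) = c := (Finset.mem_filter.1 hxc).2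
    have hxr : ¬ p ∣ orderOf x := fun h => hxne (hvan x h)
    obtain ⟨Θ, hΘ, hΘK⟩ := RegIdemExt.exists_extension_sup_zpowers hΘ0 hΘ0inv x
    set Lh := K ⊔ Subgroup.zpowers x with hLh
    have hxL : x ∈ Lh := Subgroup.mem_sup_right (Subgroup.mem_zpowers x)
    have hKL : K ≤ Lh := le_sup_left
    have hNL : N ≤ Lh := hNK.trans hKL
    have hΘN : ∀ n : N, Θ n = θ n := fun n => (hΘK ⟨n, hNK n.2⟩).trans (hΘ0N n)
    have hΘcl : ∀ a ∈ Lh, ∀ b ∈ Lh, Θ (a * b * a⁻¹) = Θ b := fun a ha b hb =>
      Char.IsIrrCharacter.isClassFunction hΘ ⟨b, hb⟩ ⟨a, ha⟩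
    have hmemC : ∀ z, z ∈ fib c ↔ x⁻¹ * z ∈ K := by
      intro z
      rw [Finset.mem_filter, ← hxc', eq_comm, QuotientGroup.eq]
      simp
    have hCL : ∀ z ∈ fib c, z ∈ Lh := fun z hz => by
      have := Lh.mul_mem hxL (hKL ((hmemC z).1 hz))
      rwa [mul_inv_cancel_left] at this
    -- proportionality on x N
    set L := N ⊔ Subgroup.zpowers x with hLdef
    have hLLh : L ≤ Lh := sup_le hNL le_sup_right
    have hΘL : IsIrrCharacter L fun l : L => Θ l := by
      refine isIrr_of_restrict (N := N.subgroupOf L)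
        (Char.IsCharacter.comp (Char.IsIrrCharacter.isCharacter hΘ) (Subgroup.inclusion hLLh))
        (Char.IsIrrCharacter.comp_equiv hθ (Subgroup.subgroupOfEquivOfLe le_sup_left)) fun n => ?_
      exact hΘN ⟨(n : L), n.2⟩
    have hLcomm : ∀ a ∈ L, ∀ b ∈ L, a * b * a⁻¹ * b⁻¹ ∈ N := by
      intro a ha b hb
      obtain ⟨n, hn, _, ⟨i, rfl⟩, rfl⟩ := Subgroup.mem_sup_of_normal_left.1 ha
      obtain ⟨n', hn', _, ⟨j, rfl⟩, rfl⟩ := Subgroup.mem_sup_of_normal_left.1 hb
      rw [← QuotientGroup.eq_one_iff]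
      simp only [QuotientGroup.mk_mul, QuotientGroup.mk_inv, QuotientGroup.mk_zpow,
        (QuotientGroup.eq_one_iff n).2 hn, (QuotientGroup.eq_one_iff n').2 hn', one_mul]
      group
    have hchoice : ∀ χ : IrrCharacter G, ∃ cc : ℂ, χ ∈ U →
        ∀ n : N, (χ : G → ℂ) (x * n) = cc * Θ (x * n) := by
      intro χ
      by_cases hχ : χ ∈ U
      · obtain ⟨cc, hcc⟩ := exists_proportional (L := L) le_sup_left hLcomm hθ hinv hΘL hΘN
          (hU hχ) (l := x) (Subgroup.mem_sup_right (Subgroup.mem_zpowers x))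
        exact ⟨cc, fun _ => hcc⟩
      · exact ⟨0, fun h => absurd h hχ⟩
    choose cc hcc using hchoice
    set a : ℂ := (Nat.card G : ℂ)⁻¹ *
      ∑ χ : IrrCharacter G with χ ∈ U, (χ : G → ℂ) 1 * cc χ with ha
    have hxn : ∀ n : N, es U (x * n) = a * Θ (x * n) := by
      intro n
      rw [es_eq_sum, ha, mul_assoc, Finset.sum_mul]
      congr 1
      refine Finset.sum_congr rfl fun χ hχ => ?_
      rw [hcc χ (Finset.mem_filter.1 hχ).2 n, mul_assoc]
    have ha0 : a ≠ 0 := fun h => hxne (by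
      have := hxn 1
      rwa [h, zero_mul, Subgroup.coe_one, mul_one] at this)
    set R := (fib c).filter (fun z => ¬ p ∣ orderOf z) with hR
    have hscl : ∀ y z : G, es U (y * z * y⁻¹) = es U z := fun y z => by
      simp only [es_eq_sum, Char.IsIrrCharacter.isClassFunction (Subtype.prop _) z y]
    have hRval : ∀ z ∈ R, es U z = a * Θ z := by
      intro z hz
      obtain ⟨hzc, hzr⟩ := Finset.mem_filter.1 hz
      have hxb : (x : G ⧸ N) ∈ Subgroup.normalizer (Kb : Set (G ⧸ N)) := by
        rw [Subgroup.normalizer_eq_top]; exact Subgroup.mem_top _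
      have hcop : Nat.Coprime (orderOf (x : G ⧸ N)) (Nat.card Kb) := by
        rw [hkk]
        exact Nat.Coprime.pow_right _ ((hp.out.coprime_iff_not_dvd.2
          fun h => hxr ((dvd_orderOf_mk hNc x).1 h)).symm)
      have hzx : (z : G ⧸ N) * (x : G ⧸ N)⁻¹ ∈ Kb := by
        have h1 := (inferInstance : K.Normal).conj_mem _ ((hmemC z).1 hzc) x
        rw [mul_inv_cancel_left] at h1
        exact h1
      obtain ⟨kb, hkb, cb, hcb, hcomm, heq⟩ :=
        Char.exists_conj_commuting Kb (x : G ⧸ N) hxb hcop _ hzx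
      rw [inv_mul_cancel_right] at heq
      have hcb1 : cb = 1 := by
        obtain ⟨j, hj⟩ := IsPGroup.iff_orderOf.1 hKbp ⟨cb, hcb⟩
        rw [Subgroup.orderOf_mk] at hj
        rcases j with _ | j
        · rwa [pow_zero, orderOf_eq_one_iff] at hj
        exfalso
        have hordz : orderOf (cb * (x : G ⧸ N)) = orderOf (z : G ⧸ N) := by
          rw [← heq]
          exact orderOf_injective (MulAut.conj kb).toMonoidHom (MulAut.conj kb).injective _
        have hd : orderOf cb ∣ orderOf (cb * (x : G ⧸ N)) * orderOf (x : G ⧸ N) := by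
          refine orderOf_dvd_of_pow_eq_one ?_
          have hc : Commute (cb * (x : G ⧸ N)) (x : G ⧸ N)⁻¹ :=
            (Commute.mul_left hcomm (Commute.refl _)).inv_right
          rw [show cb = (cb * (x : G ⧸ N)) * (x : G ⧸ N)⁻¹ by rw [mul_inv_cancel_right]]
          rw [mul_inv_cancel_right cb, ← mul_inv_cancel_right cb (x : G ⧸ N), hc.mul_pow,
            mul_inv_cancel_right]
          conv_lhs => rw [pow_mul, pow_orderOf_eq_one, one_pow, one_mul, mul_comm, pow_mul,
            inv_pow, pow_orderOf_eq_one, inv_one, one_pow]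
        rw [hj, hordz] at hd
        rcases (hp.out.dvd_mul).1 ((dvd_pow_self p j.succ_ne_zero).trans hd) with h | h
        · exact hzr ((dvd_orderOf_mk hNc z).1 h)
        · exact hxr ((dvd_orderOf_mk hNc x).1 h)
      obtain ⟨k, rfl⟩ := QuotientGroup.mk_surjective kb
      have hn : x⁻¹ * (k * z * k⁻¹) ∈ N := by
        rw [← QuotientGroup.eq_one_iff]
        simp only [QuotientGroup.mk_mul, QuotientGroup.mk_inv]
        rw [heq, hcb1, one_mul, inv_mul_cancel]
      have h1 := hxn ⟨_, hn⟩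
      simp only [mul_inv_cancel_left] at h1
      rwa [hscl, hΘcl k (hKL hkb) z (hCL z hzc)] at h1
    have hNR : ∀ z ∈ R, ∀ n : N, z * n ∈ R := by
      intro z hz n
      obtain ⟨hzc, hzr⟩ := Finset.mem_filter.1 hz
      refine Finset.mem_filter.2 ⟨(hmemC _).2 ?_, ?_⟩
      · rw [← mul_assoc]; exact K.mul_mem ((hmemC z).1 hzc) (hNK n.2)
      · rwa [← dvd_orderOf_mk hNc, QuotientGroup.mk_mul, (QuotientGroup.eq_one_iff (n : G)).2 n.2,
          mul_one, dvd_orderOf_mk hNc]
    have hxR : x ∈ R := Finset.mem_filter.2 ⟨hxc, hxr⟩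
    set W : G → ℝ := fun z => Complex.normSq (Θ z) with hW
    have hNpos : (0 : ℝ) < Nat.card N := by exact_mod_cast Nat.card_pos
    have hsumR : ∑ z ∈ R, W z = (R.card : ℝ) := by
      have h1 : ∀ n : N, ∑ z ∈ R, W (z * n) = ∑ z ∈ R, W z := fun n =>
        Finset.sum_nbij' (fun z => z * n) (fun z => z * (n : G)⁻¹) (fun z hz => hNR z hz n)
          (fun z hz => hNR z hz n⁻¹) (fun z _ => by simp) (fun z _ => by simp) (fun z _ => rfl)
      have h2 : (Nat.card N : ℝ) * ∑ z ∈ R, W z = (R.card : ℝ) * (Nat.card N : ℝ) := by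
        calc (Nat.card N : ℝ) * ∑ z ∈ R, W z = ∑ n : N, ∑ z ∈ R, W (z * n) := by
              rw [Finset.sum_congr rfl fun n _ => h1 n, Finset.sum_const, Finset.card_univ,
                nsmul_eq_mul, Nat.card_eq_fintype_card]
          _ = ∑ z ∈ R, (Nat.card N : ℝ) := by
              rw [Finset.sum_comm]
              exact Finset.sum_congr rfl fun z hz =>
                sum_normSq_coset hNL hθ hΘ hΘN (hCL z (Finset.mem_filter.1 hz).1)
          _ = _ := by rw [Finset.sum_const, nsmul_eq_mul]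
      rw [mul_comm (R.card : ℝ)] at h2
      exact mul_left_cancel₀ hNpos.ne' h2
    have hsumC : ∑ z ∈ fib c, W z = (Nat.card N : ℝ) * q := by
      have h1 := sum_normSq_coset hKL hΘ0 hΘ hΘK hxL
      rw [hcardK, Nat.cast_mul] at h1
      rw [hq, ← h1]
      refine Finset.sum_bij' (fun z hz => (⟨x⁻¹ * z, (hmemC z).1 hz⟩ : K))
        (fun k _ => x * (k : G)) (fun z hz => Finset.mem_univ _) ?_ ?_ ?_ ?_
      · intro k _
        exact (hmemC _).2 (by simp)
      · intro z hz; simp
      · intro k hk; exact Subtype.ext (by simp)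
      · intro z hz; simp [hW]
    have hsupp : ∀ z ∈ fib c, z ∉ R → es U z = 0 := fun z hz hzR => by
      refine hvan z ?_
      by_contra h
      exact hzR (Finset.mem_filter.2 ⟨hz, h⟩)
    have hBval : B c = Complex.normSq a * (R.card : ℝ) := by
      simp only [hB]
      rw [← hsumR, Finset.mul_sum]
      rw [← Finset.sum_subset (Finset.filter_subset (fun z => ¬ p ∣ orderOf z) (fib c))
        fun z hz hzR => by rw [hsupp z hz hzR, map_zero]]
      exact Finset.sum_congr rfl fun z hz => by rw [hRval z hz, map_mul]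
    -- the inner product with Θ
    have hconj0 : ∀ k : K, conj (e0 Θ0 k) = e0 Θ0 k⁻¹ := fun k => by
      simp only [e0, map_mul, map_inv₀, map_natCast, inv_inv]
      rw [conj_irr ⟨Θ0, hΘ0⟩ 1, conj_irr ⟨Θ0, hΘ0⟩ k⁻¹, inv_one, inv_inv]
    have hkprojΘ : ∀ y ∈ Lh, ∑ k : K, e0 Θ0 k * Θ (y * k) = Θ y := by
      intro y hy
      have h := kprojT hKL hΘ0 (fun g _ n => hΘ0inv g n) hΘ ⟨y, hy⟩
      rw [if_pos] at h
      · exact h
      · rw [show Char.resLe hKL (fun l : Lh => Θ l) = Θ0 from funext fun k => hΘK k,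
          Char.classInner_irr_self hΘ0]
        exact one_ne_zero
    have hD : ∑ g ∈ fib c, es U' g * conj (Θ g) = a * (R.card : ℂ) := by
      have step : ∀ k : K, ∑ g ∈ fib c, es U (g * k) * conj (Θ g) =
          ∑ g ∈ fib c, es U g * conj (Θ (g * (k : G)⁻¹)) := fun k =>
        Finset.sum_nbij' (fun g => g * k) (fun g => g * (k : G)⁻¹)
          (fun g hg => (hmemC _).2 (by rw [← mul_assoc]; exact K.mul_mem ((hmemC g).1 hg) k.2))
          (fun g hg => (hmemC _).2 (by
            rw [← mul_assoc]; exact K.mul_mem ((hmemC g).1 hg) (K.inv_mem k.2)))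
          (fun g _ => by simp) (fun g _ => by simp) (fun g _ => by simp)
      have hD1 : ∑ g ∈ fib c, es U' g * conj (Θ g) = ∑ g ∈ fib c, es U g * conj (Θ g) := by
        calc ∑ g ∈ fib c, es U' g * conj (Θ g)
            = ∑ k : K, e0 Θ0 k * ∑ g ∈ fib c, es U (g * k) * conj (Θ g) := by
              simp only [hh, Finset.sum_mul, Finset.mul_sum, mul_assoc]
              rw [Finset.sum_comm]
          _ = ∑ g ∈ fib c, es U g * ∑ k : K, e0 Θ0 k * conj (Θ (g * (k : G)⁻¹)) := by
              simp only [step, Finset.mul_sum]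
              rw [Finset.sum_comm]
              exact Finset.sum_congr rfl fun g _ => Finset.sum_congr rfl fun k _ => by ring
          _ = _ := by
              refine Finset.sum_congr rfl fun g hg => ?_
              congr 1
              rw [← hkprojΘ g (hCL g hg), map_sum]
              refine Fintype.sum_equiv (Equiv.inv K) _ _ fun k => ?_
              rw [map_mul, Equiv.inv_apply, hconj0, inv_inv]
              rfl
      rw [hD1, ← Finset.sum_subset (Finset.filter_subset (fun z => ¬ p ∣ orderOf z) (fib c))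
        fun z hz hzR => by rw [hsupp z hz hzR, zero_mul]]
      rw [show (R.card : ℂ) = ((∑ z ∈ R, W z : ℝ) : ℂ) by rw [hsumR]; simp, Complex.ofReal_sum,
        Finset.mul_sum]
      refine Finset.sum_congr rfl fun z hz => ?_
      rw [hRval z hz, mul_assoc, Complex.mul_conj]
    have hCS : Complex.normSq a * (R.card : ℝ) ^ 2 ≤ A c * ((Nat.card N : ℝ) * q) := by
      have h1 : ‖∑ g ∈ fib c, es U' g * conj (Θ g)‖ ≤ ∑ g ∈ fib c, ‖es U' g‖ * ‖Θ g‖ := by
        refine (norm_sum_le _ _).trans_eq (Finset.sum_congr rfl fun g _ => ?_)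
        rw [norm_mul, Complex.norm_conj]
      have h2 := Finset.sum_mul_sq_le_sq_mul_sq (fib c) (fun g => ‖es U' g‖) (fun g => ‖Θ g‖)
      simp only [← Complex.normSq_eq_norm_sq] at h2
      rw [← hsumC]
      refine le_trans (le_of_eq ?_) ((pow_le_pow_left₀ (norm_nonneg _) h1 2).trans h2)
      rw [hD, norm_mul, mul_pow, ← Complex.normSq_eq_norm_sq, Complex.norm_natCast]
    have hRN : (Nat.card N : ℝ) ≤ (R.card : ℝ) := by
      have : (Finset.univ.image fun n : N => x * (n : G)).card ≤ R.card :=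
        Finset.card_le_card fun z hz => by
          obtain ⟨n, -, rfl⟩ := Finset.mem_image.1 hz
          exact hNR x hxR n
      rw [Finset.card_image_of_injective _ fun n n' h => Subtype.ext (mul_left_cancel h),
        Finset.card_univ, ← Nat.card_eq_fintype_card] at this
      exact_mod_cast this
    have hapos : 0 < Complex.normSq a := Complex.normSq_pos.2 ha0
    refine ⟨?_, fun hle x' hx' hne' k hk => ?_⟩
    · rw [hBval]
      refine le_of_mul_le_mul_right ?_ hNpos
      calc Complex.normSq a * (R.card : ℝ) * (Nat.card N : ℝ)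
          ≤ Complex.normSq a * (R.card : ℝ) ^ 2 := by
            rw [sq, ← mul_assoc]
            exact mul_le_mul_of_nonneg_left hRN (mul_nonneg hapos.le (Nat.cast_nonneg _))
        _ ≤ _ := hCS
        _ = q * A c * (Nat.card N : ℝ) := by ring
    · have hRle : (R.card : ℝ) ≤ (Nat.card N : ℝ) := by
        have hRpos : (0 : ℝ) < R.card := hNpos.trans_le hRN
        refine le_of_mul_le_mul_left ?_ (mul_pos hapos hRpos)
        calc Complex.normSq a * (R.card : ℝ) * (R.card : ℝ)
            = Complex.normSq a * (R.card : ℝ) ^ 2 := by ring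
          _ ≤ q * A c * (Nat.card N : ℝ) := hCS.trans (le_of_eq (by ring))
          _ ≤ B c * (Nat.card N : ℝ) := mul_le_mul_of_nonneg_right hle hNpos.le
          _ = _ := by rw [hBval]
      have hsub : (Finset.univ.image fun n : N => x' * (n : G)) = R := by
        refine Finset.eq_of_subset_of_card_le (fun z hz => ?_) ?_
        · obtain ⟨n, -, rfl⟩ := Finset.mem_image.1 hz
          exact hNR x' (Finset.mem_filter.2 ⟨hx', fun h => hne' (hvan x' h)⟩) n
        · rw [Finset.card_image_of_injective _ fun n n' h => Subtype.ext (mul_left_cancel h),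
            Finset.card_univ, ← Nat.card_eq_fintype_card]
          exact_mod_cast hRle
      have hmem : k * x' * k⁻¹ ∈ R := by
        refine Finset.mem_filter.2 ⟨(hmemC _).2 ?_, ?_⟩
        · have h1 : x⁻¹ * k * x ∈ K := by
            simpa using (inferInstance : K.Normal).conj_mem k hk x⁻¹
          have h2 := K.mul_mem (K.mul_mem h1 ((hmemC x').1 hx')) (K.inv_mem hk)
          simpa [mul_assoc] using h2
        · have : orderOf (k * x' * k⁻¹) = orderOf x' :=
            orderOf_injective (MulAut.conj k).toMonoidHom (MulAut.conj k).injective x'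
          rw [this]
          exact fun h => hne' (hvan x' h)
      rw [← hsub, Finset.mem_image] at hmem
      obtain ⟨n, -, hn⟩ := hmem
      rw [← hn, inv_mul_cancel_left]
      exact n.2
  have hsuppN : ∀ x : G, es U x ≠ 0 → x ∈ N := by
    intro x hx
    have heq := (Finset.sum_eq_sum_iff_of_le fun c _ => (hkey c).1).1 htot (x : G ⧸ K)
      (Finset.mem_univ _)
    have hxc : x ∈ fib (x : G ⧸ K) := Finset.mem_filter.2 ⟨Finset.mem_univ _, rfl⟩
    have h := (hkey (x : G ⧸ K)).2 heq.ge x hxc hx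
    refine hregN x ?_ fun hd => hx (hvan x hd)
    show π x ∈ Kb
    refine Fusion.PSolvable.centralizer_pCore_le (Fusion.PSolvable.psolvable_quotient hsolv N)
      hQO ?_
    rw [Subgroup.mem_centralizer_iff]
    intro yb hyb
    obtain ⟨k, rfl⟩ := QuotientGroup.mk'_surjective N yb
    have h2 := h k hyb
    rw [← QuotientGroup.eq_one_iff] at h2
    simp only [QuotientGroup.mk_mul, QuotientGroup.mk_inv] at h2
    rw [inv_mul_eq_one, eq_mul_inv_iff_mul_eq] at h2
    exact h2.symm
  -- the values on N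
  set cm : ℂ := (Nat.card G : ℂ)⁻¹ * ∑ χ : IrrCharacter G with χ ∈ U,
    (χ : G → ℂ) 1 * Cfsg.classInner (fun n : N => (χ : G → ℂ) n) θ with hcm
  have hval : ∀ n : N, es U n = cm * θ n := by
    intro n
    rw [es_eq_sum, hcm, mul_assoc, Finset.sum_mul]
    congr 1
    refine Finset.sum_congr rfl fun χ hχ => ?_
    rw [restrict_eq hθ hinv (hU (Finset.mem_filter.1 hχ).2) n, mul_assoc]
  have hnorm : cm * conj cm * (Nat.card N : ℂ) = cm * θ 1 := by
    have h1 := sum_normSq_es U
    rw [show es U 1 = cm * θ 1 from hval 1] at h1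
    rw [← h1, Complex.ofReal_sum]
    have h2 := Char.classInner_irr_self hθ
    rw [Cfsg.classInner, inv_mul_eq_one₀ Char.card_ne_zero] at h2
    rw [h2, Finset.mul_sum]
    refine Fintype.sum_of_injective (fun n : N => (n : G)) Subtype.val_injective _ _ ?_ ?_
    · intro g hg
      by_cases h : es U g = 0
      · rw [h, map_zero, Complex.ofReal_zero]
      · exact absurd ⟨⟨g, hsuppN g h⟩, rfl⟩ hg
    · intro n
      rw [← Complex.mul_conj, hval, (starRingEnd ℂ).map_mul cm (θ n)]
      ring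
  intro g
  by_cases hg : es U g = 0
  · rw [hg]; exact LR.zero hM
  have hgN := hsuppN g hg
  rw [show es U g = cm * θ ⟨g, hgN⟩ from hval ⟨g, hgN⟩]
  refine LR.mul hM ?_ (LR.of_isIntegral hM (irr_isIntegral ⟨θ, hθ⟩ _))
  by_cases hc0 : cm = 0
  · rw [hc0]; exact LR.zero hM
  rw [mul_assoc] at hnorm
  have h3 := mul_left_cancel₀ hc0 hnorm
  have hd := irr_one_eq (⟨θ, hθ⟩ : IrrCharacter N)
  rw [show θ 1 = ((charDegree θ : ℕ) : ℂ) from hd] at h3
  have h4 : conj cm = (charDegree θ : ℂ) * (Nat.card N : ℂ)⁻¹ :=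
    (eq_mul_inv_iff_mul_eq₀ Char.card_ne_zero).2 h3
  have h5 := congrArg conj h4
  rw [Complex.conj_conj, map_mul, map_inv₀, map_natCast, map_natCast] at h5
  rw [h5]
  exact LR.mul hM (LR.natCast hM _) (LR.inv hM (LR.natCast hM _)
    fun h => hp.out.coprime_iff_not_dvd.1 hNc.symm ((LI.natCast_iff hM _).1 h))

theorem indFun_LR (hM : IsPModular p M) (T : Subgroup G) [Fintype T] {F : T → ℂ}
    (hF : IsClassFunction T F) (hR : ∀ t, MemLocalRing M (F t)) (g : G) :
    MemLocalRing M (Cfsg.indFun T F g) := by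
  set W : G → ℂ := fun x => Cfsg.extendByZero T F (x⁻¹ * g * x) with hW
  have hWR : ∀ x, MemLocalRing M (W x) := fun x => by
    by_cases h : x⁻¹ * g * x ∈ T
    · rw [hW]; dsimp only; rw [Char.extendByZero_apply_mem T F h]; exact hR _
    · rw [hW]; dsimp only; rw [Char.extendByZero_apply_notMem T F h]; exact LR.zero hM
  have hWt : ∀ x : G, ∀ t ∈ T, W (x * t) = W x := by
    intro x t ht
    simp only [hW]
    rw [show (x * t)⁻¹ * g * (x * t) = t⁻¹ * (x⁻¹ * g * x) * t by group]
    by_cases h : x⁻¹ * g * x ∈ T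
    · rw [Char.extendByZero_apply_mem T F h,
        Char.extendByZero_apply_mem T F (T.mul_mem (T.mul_mem (T.inv_mem ht) h) ht)]
      rw [← hF ⟨x⁻¹ * g * x, h⟩ ⟨t, ht⟩⁻¹]
      congr 1
      exact Subtype.ext (by simp)
    · rw [Char.extendByZero_apply_notMem T F h, Char.extendByZero_apply_notMem T F]
      intro h'
      refine h ?_
      have := T.mul_mem (T.mul_mem ht h') (T.inv_mem ht)
      simpa [mul_assoc] using this
  rw [Char.indFun_def]
  change MemLocalRing M ((Nat.card T : ℂ)⁻¹ * ∑ x, W x)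
  have h1 : ∑ x, W x = (Nat.card T : ℂ) * ∑ q : G ⧸ T, W q.out := by
    rw [Finset.mul_sum, ← Finset.sum_fiberwise Finset.univ (fun x : G => (x : G ⧸ T)) W]
    refine Finset.sum_congr rfl fun q _ => ?_
    have hc : (Finset.univ.filter fun x : G => (x : G ⧸ T) = q).card = Nat.card T := by
      rw [Nat.card_eq_fintype_card, Fintype.card_subtype]
      refine Finset.card_equiv (Equiv.mulLeft q.out⁻¹) fun x => ?_
      simp only [Finset.mem_filter, Finset.mem_univ, true_and, Equiv.coe_mulLeft]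
      rw [← QuotientGroup.eq, QuotientGroup.out_eq', eq_comm]
    rw [← hc, ← nsmul_eq_mul, ← Finset.sum_const]
    refine Finset.sum_congr rfl fun x hx => ?_
    have hq : (q.out : G ⧸ T) = (x : G ⧸ T) := by
      rw [QuotientGroup.out_eq', (Finset.mem_filter.1 hx).2]
    rw [QuotientGroup.eq] at hq
    conv_lhs => rw [show x = q.out * (q.out⁻¹ * x) by simp, hWt _ _ hq]
  rw [h1, ← mul_assoc, inv_mul_cancel₀ (Char.card_ne_zero (G := T)), one_mul]
  exact LR.sum hM fun q _ => hWR _

/-- The reduction to the inertia group. -/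
theorem es_LR_inertia (hM : IsPModular p M) {N T : Subgroup G} [hN : N.Normal] [Fintype N]
    [Fintype T] (hNc : (Nat.card N).Coprime p) {θ : N → ℂ} (hθ : IsIrrCharacter N θ)
    (hNT : N ≤ T) (hT : Char.IsInertia θ T)
    (hIH : ∀ V : Set (IrrCharacter T), (∀ t : T, p ∣ orderOf t → es V t = 0) →
      ∀ t, MemLocalRing M (es V t))
    {U : Set (IrrCharacter G)} (hU : U ⊆ lying N θ)
    (hvan : ∀ g : G, p ∣ orderOf g → es U g = 0) :
    ∀ g, MemLocalRing M (es U g) := by
  let V : Set (IrrCharacter T) := {ψ | Cfsg.classInner (Char.resLe hNT (ψ : T → ℂ)) θ ≠ 0 ∧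
    ∃ χ ∈ U, (χ : G → ℂ) = Cfsg.indFun T (ψ : T → ℂ)}
  have hirr : ∀ ψ : IrrCharacter T, ψ ∈ V → IsIrrCharacter G (Cfsg.indFun T (ψ : T → ℂ)) :=
    fun ψ hψ => (Char.indFun_inertia hNT hθ hT ψ.2 hψ.1).1
  have hbij : ∀ F : (G → ℂ) → ℂ, ∑ χ : IrrCharacter G with χ ∈ U, F (χ : G → ℂ) =
      ∑ ψ : IrrCharacter T with ψ ∈ V, F (Cfsg.indFun T (ψ : T → ℂ)) := by
    intro F
    symm
    refine Finset.sum_bij (fun ψ hψ => ⟨_, hirr ψ (Finset.mem_filter.1 hψ).2⟩) ?_ ?_ ?_ ?_
    · intro ψ hψ
      obtain ⟨-, χ, hχ, he⟩ := (Finset.mem_filter.1 hψ).2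
      refine Finset.mem_filter.2 ⟨Finset.mem_univ _, ?_⟩
      rw [show (⟨_, hirr ψ (Finset.mem_filter.1 hψ).2⟩ : IrrCharacter G) = χ from
        Subtype.ext he.symm]
      exact hχ
    · intro ψ hψ ψ' hψ' he
      exact Subtype.ext (Char.indFun_inertia_inj hNT hθ hT ψ.2 (Finset.mem_filter.1 hψ).2.1 ψ'.2
        (Finset.mem_filter.1 hψ').2.1 (congrArg Subtype.val he))
    · intro χ hχ
      obtain ⟨ψ, hψ, hne, he⟩ :=
        Char.exists_eq_indFun_inertia hNT hθ hT χ.2 (hU (Finset.mem_filter.1 hχ).2)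
      exact ⟨⟨ψ, hψ⟩, Finset.mem_filter.2 ⟨Finset.mem_univ _, hne, χ, (Finset.mem_filter.1 hχ).2,
        he⟩, Subtype.ext he.symm⟩
    · intro ψ hψ; rfl
  have hdeg : ∀ ψ : T → ℂ, (Nat.card G : ℂ)⁻¹ * Cfsg.indFun T ψ 1 =
      (Nat.card T : ℂ)⁻¹ * ψ 1 := by
    intro ψ
    have hi : (T.index : ℂ) ≠ 0 := Nat.cast_ne_zero.2 Subgroup.index_ne_zero_of_finite
    rw [Char.indFun_one, ← Subgroup.card_mul_index T, Nat.cast_mul]
    field_simp
  have hind : es U = Cfsg.indFun T (es V) := by
    funext g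
    have hfun : (es V : T → ℂ) = ∑ ψ : IrrCharacter T with ψ ∈ V,
        ((Nat.card T : ℂ)⁻¹ * (ψ : T → ℂ) 1) • (ψ : T → ℂ) := by
      funext t
      rw [es_eq_sum, Finset.mul_sum, Finset.sum_apply]
      exact Finset.sum_congr (by ext; simp) fun ψ _ => by simp [mul_assoc]
    rw [hfun, Char.indFun_sum, Finset.sum_apply, es_eq_sum, Finset.mul_sum,
      hbij fun f => (Nat.card G : ℂ)⁻¹ * (f 1 * f g)]
    refine Finset.sum_congr rfl fun ψ _ => ?_
    rw [Char.indFun_smul, Pi.smul_apply, smul_eq_mul, ← hdeg]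
    ring
  have hproj : ∀ ψ : IrrCharacter T, ψ ∈ V → ∀ t : T,
      ∑ n : N, e0 θ n * Cfsg.indFun T (ψ : T → ℂ) ((t : G) * n) = (ψ : T → ℂ) t := by
    intro ψ hψ t
    set χ := Cfsg.indFun T (ψ : T → ℂ) with hχ
    have hχirr : IsIrrCharacter G χ := hirr ψ hψ
    clear_value χ
    have hres : IsCharacter T fun s : T => χ s :=
      Char.IsCharacter.restrict (Char.IsIrrCharacter.isCharacter hχirr) T
    have hexp : ∀ s : T, χ s = ∑ φ : IrrCharacter T,
        Cfsg.classInner (fun s : T => χ s) φ * (φ : T → ℂ) s := by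
      intro s
      have := congrFun (Char.IsClassFunction.eq_sum_irr (Char.IsCharacter.isClassFunction hres)) s
      simp only [Finset.sum_apply, Pi.smul_apply, smul_eq_mul] at this
      exact this
    have e1 : ∀ n : N, χ ((t : G) * n) = ∑ φ : IrrCharacter T,
        Cfsg.classInner (fun s : T => χ s) φ * (φ : T → ℂ) (t * ⟨n, hNT n.2⟩) :=
      fun n => hexp (t * ⟨n, hNT n.2⟩)
    calc ∑ n : N, e0 θ n * χ ((t : G) * n)
        = ∑ φ : IrrCharacter T, Cfsg.classInner (fun s : T => χ s) φ *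
            ∑ n : N, e0 θ n * (φ : T → ℂ) (t * ⟨n, hNT n.2⟩) := by
          simp only [e1, Finset.mul_sum]
          rw [Finset.sum_comm]
          exact Finset.sum_congr rfl fun φ _ => Finset.sum_congr rfl fun n _ => by ring
      _ = (ψ : T → ℂ) t := by
          simp only [kprojT hNT hθ (fun g hg => (hT g).1 hg) (Subtype.prop _)]
          rw [Finset.sum_eq_single ψ]
          · rw [if_pos hψ.1, Char.IsCharacter.classInner_comm hres
              (Char.IsIrrCharacter.isCharacter ψ.2),
              ← Char.classInner_indFun T (ψ : T → ℂ)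
                (Char.IsIrrCharacter.isClassFunction hχirr), ← hχ,
              Char.classInner_irr_self hχirr, one_mul]
          · intro φ _ hne
            split_ifs with hφ
            · rw [Char.IsCharacter.classInner_comm hres (Char.IsIrrCharacter.isCharacter φ.2),
                ← Char.classInner_indFun T (φ : T → ℂ)
                  (Char.IsIrrCharacter.isClassFunction hχirr),
                Char.classInner_irr_ne (Char.indFun_inertia hNT hθ hT φ.2 hφ).1 hχirr
                  fun he => hne (Subtype.ext (Char.indFun_inertia_inj hNT hθ hT φ.2 hφ ψ.2 hψ.1 (he.trans hχ))),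
                zero_mul]
            · rw [mul_zero]
          · intro h; exact absurd (Finset.mem_univ ψ) h
  have hV : ∀ t : T, p ∣ orderOf t → es V t = 0 := by
    intro t ht
    have h : es V t = ∑ n : N, e0 θ n * es U ((t : G) * n) := by
      simp only [es_eq_sum, Finset.mul_sum]
      conv_rhs => rw [Finset.sum_comm]
      rw [hbij fun f => ∑ n : N, e0 θ n * ((Nat.card G : ℂ)⁻¹ * (f 1 * f ((t : G) * n)))]
      refine Finset.sum_congr (by ext; simp) fun ψ hψ => ?_
      have e1 : ∀ n : N, e0 θ n * ((Nat.card G : ℂ)⁻¹ *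
          (Cfsg.indFun T (ψ : T → ℂ) 1 * Cfsg.indFun T (ψ : T → ℂ) ((t : G) * n))) =
          ((Nat.card T : ℂ)⁻¹ * (ψ : T → ℂ) 1) *
            (e0 θ n * Cfsg.indFun T (ψ : T → ℂ) ((t : G) * n)) := fun n => by
        rw [← hdeg]; ring
      rw [Finset.sum_congr rfl fun n _ => e1 n, ← Finset.mul_sum,
        hproj ψ (Finset.mem_filter.1 hψ).2 t]
      ring
    rw [h]
    refine Finset.sum_eq_zero fun n _ => ?_
    rw [hvan _ ?_, mul_zero]
    rwa [← dvd_orderOf_mk hNc, QuotientGroup.mk_mul, (QuotientGroup.eq_one_iff (n : G)).2 n.2,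
      mul_one, dvd_orderOf_mk hNc, Subgroup.orderOf_coe]
  intro g
  rw [hind]
  refine indFun_LR hM T (fun a b => ?_) (hIH V hV) g
  simp only [es_eq_sum, Char.IsIrrCharacter.isClassFunction (Subtype.prop _) a b]

/-- Idempotents supported on regular elements are local integral. -/
theorem es_LR_aux.{u} (hM : IsPModular p M) (n : ℕ) : ∀ (G : Type u) [Group G] [Fintype G],
    Nat.card G = n → IsPSolvable p G → ∀ U : Set (IrrCharacter G),
      (∀ g : G, p ∣ orderOf g → es U g = 0) → ∀ g, MemLocalRing M (es U g) := by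
  induction n using Nat.strong_induction_on with
  | _ n ih =>
    intro G _ _ hn hsolv U hvan g
    have hNc : (Nat.card (pPrimeCore p G)).Coprime p := Solvable.Cores.coprime_card_pPrimeCore p
    let pc : IrrCharacter (pPrimeCore p G) → Set (IrrCharacter G) :=
      fun θ => U ∩ lying (pPrimeCore p G) (θ : pPrimeCore p G → ℂ)
    have hpiece : ∀ θ : IrrCharacter (pPrimeCore p G), MemLocalRing M (es (pc θ) g) := by
      intro θ
      have hv : ∀ g : G, p ∣ orderOf g → es (pc θ) g = 0 :=
        fun g hg => vanish_inter hNc hvan θ.2 hg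
      by_cases hst : Char.stab (θ : pPrimeCore p G → ℂ) = ⊤
      · exact es_LR_invariant hM hsolv rfl θ.2
          (fun x m => congrFun (Char.mem_stab.1 (hst ▸ Subgroup.mem_top x)) m)
          Set.inter_subset_right hv g
      · refine es_LR_inertia hM hNc θ.2 (Char.le_stab (Char.IsIrrCharacter.isClassFunction θ.2))
          (Char.isInertia_stab _) ?_ Set.inter_subset_right hv g
        intro V hV
        exact ih _ (hn ▸ lt_of_le_of_ne (Subgroup.card_le_card_group _)
          fun h => hst (Subgroup.eq_top_of_card_eq _ h)) _ rfl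
          (Fusion.PSolvable.psolvable_subgroup hsolv _) V hV
    have hblock : ∀ χ : IrrCharacter G, blockInd U χ =
        ∑ S ∈ Finset.univ.image pc, blockInd S χ := by
      intro χ
      by_cases hχ : χ ∈ U
      · obtain ⟨θ, hθ⟩ := exists_over (N := pPrimeCore p G) χ
        rw [blockInd_of_mem hχ, Finset.sum_eq_single (pc θ)]
        · rw [blockInd_of_mem (show χ ∈ pc θ from ⟨hχ, hθ⟩)]
        · intro S hS hne
          obtain ⟨η, -, rfl⟩ := Finset.mem_image.1 hS
          refine blockInd_of_notMem fun hmem => hne ?_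
          obtain ⟨x, hx⟩ := over_unique θ.2 η.2 χ hθ hmem.2
          show U ∩ _ = U ∩ _
          rw [hx, over_conjG]
        · intro h
          exact absurd (Finset.mem_image_of_mem pc (Finset.mem_univ θ)) h
      · rw [blockInd_of_notMem hχ]
        refine (Finset.sum_eq_zero fun S hS => ?_).symm
        obtain ⟨η, -, rfl⟩ := Finset.mem_image.1 hS
        exact blockInd_of_notMem fun h => hχ h.1
    have hsum : es U g = ∑ S ∈ Finset.univ.image pc, es S g := by
      simp only [es, hblock, Finset.sum_mul, Finset.mul_sum]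
      exact Finset.sum_comm
    rw [hsum]
    refine LR.sum hM fun S hS => ?_
    obtain ⟨η, -, rfl⟩ := Finset.mem_image.1 hS
    exact hpiece η

/-- A set of characters of a `p`-solvable group whose weighted sum vanishes at the singular
elements is a union of blocks. -/
theorem mem_of_sameBlock (hM : IsPModular p M) (hsolv : IsPSolvable p G)
    {U : Set (IrrCharacter G)}
    (hU : ∀ g : G, p ∣ orderOf g → es U g = 0) {χ ψ : IrrCharacter G} (hχ : χ ∈ U)
    (h : SameBlock M (χ : G → ℂ) (ψ : G → ℂ)) : ψ ∈ U := by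
  have hLR : ∀ g, MemLocalRing M (fourierInv (blockInd U) g) := fun g => by
    have := es_LR_aux hM _ G rfl hsolv U hU g⁻¹
    simpa [es, fourierInv] using this
  have h1 := omega_congr hM h (fourierInv_isClassFunction (blockInd U)) hLR
  rw [omega_fourierInv, omega_fourierInv, blockInd_of_mem hχ] at h1
  by_contra hψ
  rw [blockInd_of_notMem hψ, sub_zero] at h1
  exact LI.not_one hM h1

end CfsgLib.Blocks.RegIdemMain
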