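import Cfsg.Agent.Lib.Blocks.Idempotent
import Cfsg.Agent.Lib.Blocks.RegularSum

/-!
# The inner product over `p`-regular elements

`regInner p χ ψ = (|G|_p / |G|) ∑_{x p-regular} χ x ψ x⁻¹` is the integer matrix `|G|_p (D C⁻¹ Dᵗ)`
of the classical theory, obtained here without modular representations.
-/

set_option autoImplicit false

namespace CfsgLib.Blocks

open Cfsg
open scoped Classical ComplexConjugate

variable {G : Type*} [Group G] [Fintype G] {p : ℕ} {M : Ideal AlgInt}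

/-- The `p`-part of the order of `G`. -/
noncomputable def pPartCard (p : ℕ) (G : Type*) [Group G] : ℕ :=
  p ^ (Nat.card G).factorization p

/-- The scaled inner product over `p`-regular elements. -/
noncomputable def regInner (p : ℕ) (χ ψ : G → ℂ) : ℂ :=
  (pPartCard p G : ℂ) * (Nat.card G : ℂ)⁻¹ * ∑ x : G with IsPRegular p x, χ x * ψ x⁻¹

theorem isPRegular_inv {x : G} : IsPRegular p x⁻¹ ↔ IsPRegular p x := by
  simp [IsPRegular]

theorem not_isPRegular {x : G} : ¬ IsPRegular p x ↔ p ∣ orderOf x := by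
  simp [IsPRegular]

theorem regInner_comm (χ ψ : G → ℂ) : regInner p χ ψ = regInner p ψ χ := by
  rw [regInner, regInner]
  congr 1
  refine Finset.sum_nbij' (fun x => x⁻¹) (fun x => x⁻¹) ?_ ?_ ?_ ?_ ?_ <;>
    simp [isPRegular_inv, mul_comm]

theorem pPartCard_mul_ordCompl :
    pPartCard p G * (Nat.card G / p ^ (Nat.card G).factorization p) = Nat.card G :=
  Nat.ordProj_mul_ordCompl_eq_self _ _

theorem pPartCard_ne_zero (hp : p.Prime) : (pPartCard p G : ℂ) ≠ 0 := by
  rw [pPartCard]; push_cast; exact pow_ne_zero _ (by exact_mod_cast hp.ne_zero)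

theorem pPartCard_div (hp : p.Prime) :
    (pPartCard p G : ℂ) * (Nat.card G : ℂ)⁻¹
      = ((Nat.card G / p ^ (Nat.card G).factorization p : ℕ) : ℂ)⁻¹ := by
  conv_lhs => arg 2; rw [← pPartCard_mul_ordCompl (p := p) (G := G), Nat.cast_mul]
  rw [mul_inv, ← mul_assoc, mul_inv_cancel₀ (pPartCard_ne_zero hp), one_mul]

theorem LR_inv_ordCompl (hM : IsPModular p M) :
    MemLocalRing M (((Nat.card G / p ^ (Nat.card G).factorization p : ℕ) : ℂ)⁻¹) :=
  LR.inv hM (LR.natCast hM _) fun h =>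
    Nat.not_dvd_ordCompl hM.1 Nat.card_pos.ne' ((LI.natCast_iff hM _).1 h)

theorem exists_int_regInner (hp : p.Prime) {χ ψ : G → ℂ} (hχ : IsCharacter G χ)
    (hψ : IsCharacter G ψ) : ∃ n : ℤ, regInner p χ ψ = (n : ℂ) := by
  haveI := Fact.mk hp
  obtain ⟨a, ρ, rfl⟩ := hχ
  obtain ⟨b, σ, rfl⟩ := hψ
  obtain ⟨n, hn⟩ := ordCompl_dvd_sum_regular (p := p) (ρ.tprod σ.dual)
  refine ⟨n, ?_⟩
  rw [regInner, pPartCard_div hp]
  have : ∀ x, (ρ.tprod σ.dual).character x = ρ.character x * σ.character x⁻¹ := fun x => by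
    rw [Representation.char_tensor, Pi.mul_apply, Representation.char_dual]
  simp only [this] at hn
  have hn' : ∑ x : G with IsPRegular p x, ρ.character x * σ.character x⁻¹
      = ((Nat.card G / p ^ (Nat.card G).factorization p : ℕ) : ℂ) * (n : ℂ) := by
    rw [← hn]
    exact Finset.sum_congr (Finset.filter_congr fun x _ => Iff.rfl) fun x _ => rfl
  rw [hn']
  exact inv_mul_cancel_left₀ (Nat.cast_ne_zero.2 (Nat.ordCompl_pos p Nat.card_pos.ne').ne') _

/-- The class function whose central character values are `regInner p χ ψ / ψ 1`. -/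
noncomputable def regClassFun (p : ℕ) (χ : G → ℂ) : G → ℂ := fun x =>
  if IsPRegular p x then
    (pPartCard p G : ℂ) * (Nat.card G : ℂ)⁻¹ * χ x⁻¹ else 0

theorem regClassFun_isClassFunction {χ : G → ℂ} (hχ : IsClassFunction G χ) :
    IsClassFunction G (regClassFun p χ) := fun x y => by
  have h1 : orderOf (y * x * y⁻¹) = orderOf x :=
    (MulAut.conj y).orderOf_eq x
  simp only [regClassFun]
  refine if_congr (by simp only [IsPRegular, h1]) ?_ rfl
  rw [show (y * x * y⁻¹)⁻¹ = y * x⁻¹ * y⁻¹ by simp [mul_assoc], hχ x⁻¹ y]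

theorem regClassFun_LR (hM : IsPModular p M) (χ : IrrCharacter G) (x : G) :
    MemLocalRing M (regClassFun p (χ : G → ℂ) x) := by
  unfold regClassFun
  split
  · rw [pPartCard_div hM.1]
    exact LR.mul hM (LR_inv_ordCompl hM) (LR.of_isIntegral hM (irr_isIntegral χ _))
  · exact LR.zero hM

theorem omega_regClassFun (χ ψ : G → ℂ) :
    omega ψ (regClassFun p χ) = regInner p χ ψ / ψ 1 := by
  rw [regInner_comm, omega, regInner, Finset.mul_sum, Finset.sum_filter]
  congr 1
  refine Finset.sum_congr rfl fun x _ => ?_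
  unfold regClassFun
  split <;> ring

theorem regInner_eq_omega (χ : G → ℂ) (ψ : IrrCharacter G) :
    regInner p χ (ψ : G → ℂ) = (ψ : G → ℂ) 1 * omega (ψ : G → ℂ) (regClassFun p χ) := by
  rw [omega_regClassFun, mul_div_cancel₀ _ (irr_one_ne_zero ψ)]

theorem omega_regClassFun_congr (hM : IsPModular p M) (χ : IrrCharacter G) {ψ φ : IrrCharacter G}
    (h : SameBlock M (ψ : G → ℂ) (φ : G → ℂ)) :
    MemLocalIdeal M (omega (ψ : G → ℂ) (regClassFun p (χ : G → ℂ))
      - omega (φ : G → ℂ) (regClassFun p (χ : G → ℂ))) :=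
  omega_congr hM h (regClassFun_isClassFunction (CfsgLib.Char.IsIrrCharacter.isClassFunction χ.2))
    (regClassFun_LR hM χ)

/-- Orthogonality of irreducible characters with inverses. -/
theorem sum_mul_inv (χ ψ : IrrCharacter G) :
    ∑ x, (χ : G → ℂ) x * (ψ : G → ℂ) x⁻¹ = if χ = ψ then (Nat.card G : ℂ) else 0 := by
  have h := CfsgLib.Char.classInner_irrCharacter χ ψ
  rw [Cfsg.classInner, inv_mul_eq_iff_eq_mul₀ CfsgLib.Char.card_ne_zero] at h
  simp only [conj_irr] at h
  rw [h, mul_ite, mul_one, mul_zero]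

theorem coeff_eq_of_sum_eq {c : IrrCharacter G → ℂ} {θ : G → ℂ}
    (h : ∀ y, ∑ ψ : IrrCharacter G, c ψ * (ψ : G → ℂ) y = θ y) (φ : IrrCharacter G) :
    c φ = (Nat.card G : ℂ)⁻¹ * ∑ y, θ y * (φ : G → ℂ) y⁻¹ := by
  simp only [← h, Finset.sum_mul]
  rw [Finset.sum_comm, Finset.sum_eq_single φ]
  · simp only [mul_assoc, ← Finset.mul_sum]
    rw [sum_mul_inv, if_pos rfl, mul_left_comm, inv_mul_cancel₀ CfsgLib.Char.card_ne_zero, mul_one]
  · intro ψ _ hne
    simp only [mul_assoc, ← Finset.mul_sum]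
    rw [sum_mul_inv, if_neg hne, mul_zero]
  · simp

section Local

variable {C : Subgroup G} {S : Set (IrrCharacter G)}

/-- `|G|_p` times the restriction of `χ` to regular elements, expanded inside `S`. -/
theorem sum_regInner_mul (hM : IsPModular p M) (hS : IsLocalOn M C (blockInd S))
    (χ : IrrCharacter G) (y : G) :
    ∑ ψ : IrrCharacter G, blockInd S ψ * regInner p (χ : G → ℂ) (ψ : G → ℂ) * (ψ : G → ℂ) y
      = if IsPRegular p y then
          (pPartCard p G : ℂ) * blockInd S χ * (χ : G → ℂ) y else 0 := by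
  have hL : ∑ ψ : IrrCharacter G,
        blockInd S ψ * regInner p (χ : G → ℂ) (ψ : G → ℂ) * (ψ : G → ℂ) y
      = (pPartCard p G : ℂ) * (Nat.card G : ℂ)⁻¹ * ∑ x : G with IsPRegular p x, (χ : G → ℂ) x *
          ∑ ψ : IrrCharacter G, blockInd S ψ * ((ψ : G → ℂ) x⁻¹ * (ψ : G → ℂ) y) := by
    simp only [regInner, Finset.mul_sum, Finset.sum_mul]
    rw [Finset.sum_comm]
    exact Finset.sum_congr rfl fun x _ => Finset.sum_congr rfl fun ψ _ => by ring
  rw [hL]
  by_cases hy : IsPRegular p y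
  · rw [if_pos hy, Finset.sum_filter_of_ne (fun x _ hx => by
      by_contra hxr
      exact hx (by rw [hS.sum_mul_eq_zero hM (blockInd_mul_self S)
        (by simpa using not_isPRegular.1 hxr) hy, mul_zero]))]
    simp only [Finset.mul_sum]
    rw [Finset.sum_comm, Finset.sum_eq_single χ]
    · calc _ = (pPartCard p G : ℂ) * (Nat.card G : ℂ)⁻¹ * blockInd S χ * (χ : G → ℂ) y *
              ∑ x, (χ : G → ℂ) x * (χ : G → ℂ) x⁻¹ := by
            rw [Finset.mul_sum]; exact Finset.sum_congr rfl fun x _ => by ring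
        _ = _ := by
            rw [sum_mul_inv, if_pos rfl]
            have := CfsgLib.Char.card_ne_zero (G := G)
            field_simp
    · intro ψ _ hψ
      calc _ = (pPartCard p G : ℂ) * (Nat.card G : ℂ)⁻¹ * blockInd S ψ * (ψ : G → ℂ) y *
              ∑ x, (χ : G → ℂ) x * (ψ : G → ℂ) x⁻¹ := by
            rw [Finset.mul_sum]; exact Finset.sum_congr rfl fun x _ => by ring
        _ = 0 := by rw [sum_mul_inv, if_neg (Ne.symm hψ), mul_zero]
    · simp
  · rw [if_neg hy, Finset.sum_eq_zero fun x hx => ?_, mul_zero]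
    have hsw : ∀ ψ : IrrCharacter G, blockInd S ψ * ((ψ : G → ℂ) x⁻¹ * (ψ : G → ℂ) y)
        = blockInd S ψ * ((ψ : G → ℂ) y * (ψ : G → ℂ) x⁻¹) := fun ψ => by ring
    rw [Finset.sum_congr rfl fun ψ _ => hsw ψ,
      hS.sum_mul_eq_zero hM (blockInd_mul_self S) (not_isPRegular.1 hy)
        (isPRegular_inv.2 (Finset.mem_filter.1 hx).2), mul_zero]

theorem regInner_eq_zero_of_notMem (hM : IsPModular p M) (hS : IsLocalOn M C (blockInd S))
    {χ ψ : IrrCharacter G} (hχ : χ ∉ S) (hψ : ψ ∈ S) :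
    regInner p (χ : G → ℂ) (ψ : G → ℂ) = 0 := by
  have h := coeff_eq_of_sum_eq (c := fun φ => blockInd S φ * regInner p (χ : G → ℂ) (φ : G → ℂ))
    (θ := fun _ => 0) (fun y => by
      rw [sum_regInner_mul hM hS χ y, blockInd_of_notMem hχ]; simp) ψ
  simpa [blockInd_of_mem hψ] using h

/-- The matrix `regInner` restricted to `S` squares to `|G|_p` times itself. -/
theorem sum_regInner_sq (hM : IsPModular p M) (hS : IsLocalOn M C (blockInd S))
    (χ φ : IrrCharacter G) :
    ∑ ψ : IrrCharacter G, blockInd S ψ * regInner p (χ : G → ℂ) (ψ : G → ℂ)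
        * regInner p (ψ : G → ℂ) (φ : G → ℂ)
      = (pPartCard p G : ℂ) * blockInd S χ * regInner p (χ : G → ℂ) (φ : G → ℂ) := by
  simp only [regInner, Finset.mul_sum]
  rw [Finset.sum_comm]
  refine Finset.sum_congr rfl fun y hy => ?_
  have h := sum_regInner_mul hM hS χ y
  rw [if_pos (Finset.mem_filter.1 hy).2] at h
  calc _ = (pPartCard p G : ℂ) * (Nat.card G : ℂ)⁻¹ * (φ : G → ℂ) y⁻¹ *
        ∑ ψ : IrrCharacter G, blockInd S ψ * regInner p (χ : G → ℂ) (ψ : G → ℂ) * (ψ : G → ℂ) y := by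
        simp only [regInner, Finset.mul_sum, Finset.sum_mul]
        exact Finset.sum_congr rfl fun ψ _ => Finset.sum_congr rfl fun x _ => by ring
    _ = _ := by rw [h]; ring

end Local

theorem IsPBlock.regInner_eq_zero (hM : IsPModular p M) {B : Set (IrrCharacter G)}
    (hB : IsPBlock M B) {χ ψ : IrrCharacter G} (hχ : χ ∈ B) (hψ : ψ ∉ B) :
    regInner p (χ : G → ℂ) (ψ : G → ℂ) = 0 := by
  rw [regInner_comm]
  exact regInner_eq_zero_of_notMem hM (IsPBlock.isLocalOn hM hB) hψ hχ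

/-! ### Generalized characters vanishing at singular elements -/

theorem pPartCard_dvd_of_vanish (hp : p.Prime) {θ : G → ℂ} (hθ : IsGeneralizedCharacter G θ)
    (h0 : ∀ x, p ∣ orderOf x → θ x = 0) : ∃ n : ℤ, θ 1 = (pPartCard p G : ℂ) * n := by
  haveI := Fact.mk hp
  obtain ⟨a, b, ha, hb, rfl⟩ := hθ
  obtain ⟨P⟩ : Nonempty (Sylow p G) := inferInstance
  have hP : Nat.card (P : Subgroup G) = pPartCard p G := P.card_eq_multiplicity
  have hdiv : ∀ c : G → ℂ, IsCharacter G c →
      ∃ n : ℕ, ∑ x : (P : Subgroup G), c x = (pPartCard p G : ℂ) * n := by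
    intro c hc
    obtain ⟨n, hn⟩ := CfsgLib.Char.IsCharacter.classInner_nat
      (CfsgLib.Char.IsCharacter.restrict hc (P : Subgroup G)) CfsgLib.Char.isCharacter_one
    refine ⟨n, ?_⟩
    rw [Cfsg.classInner, inv_mul_eq_iff_eq_mul₀ CfsgLib.Char.card_ne_zero, hP] at hn
    simpa using hn
  obtain ⟨m, hm⟩ := hdiv a ha
  obtain ⟨k, hk⟩ := hdiv b hb
  refine ⟨(m : ℤ) - k, ?_⟩
  push_cast
  rw [mul_sub, ← hm, ← hk, ← Finset.sum_sub_distrib, Finset.sum_eq_single (1 : (P : Subgroup G))]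
  · rfl
  · intro x _ hx
    refine h0 x ?_
    obtain ⟨j, hj⟩ := (IsPGroup.iff_orderOf.1 P.isPGroup') x
    rw [Subgroup.orderOf_coe, hj]
    refine dvd_pow_self p fun h => hx ?_
    rwa [h, pow_zero, orderOf_eq_one_iff] at hj
  · simp

end CfsgLib.Blocks
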