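import Cfsg.Agent.Lib.Blocks.TIAbelian

/-!
# Sums over the sections of p-elements

Outside the principal block the sum over each section vanishes; in the principal block a character is
constant on a section whose centralizer has a normal p-complement.
-/

set_option autoImplicit false

namespace CfsgLib.Blocks.SectionSums

open Cfsg CfsgLib.Blocks CfsgLib.BrauerSuzuki CfsgLib.Blocks.TIAbelian
open scoped Classical ComplexConjugate

variable {G : Type*} [Group G] [Fintype G] {p : ℕ} [hp : Fact p.Prime] {M : Ideal AlgInt}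

theorem sum_regular_eq_zero {H : Type*} [Group H] [Fintype H] (hM : IsPModular p M) {ξ : IrrCharacter H}
    (hξ : ξ ∉ principalBlock M H) : ∑ s : H with IsPRegular p s, (ξ : H → ℂ) s = 0 := by
  have h0 := IsPBlock.regInner_eq_zero hM isPBlock_principalBlock (trivChar_mem_principalBlock hM) hξ
  rw [regInner_comm, regInner] at h0
  simp only [trivChar_apply, mul_one, mul_eq_zero] at h0
  exact h0.resolve_left (not_or.2 ⟨pPartCard_ne_zero hp.out, inv_ne_zero (Nat.cast_ne_zero.2 Nat.card_pos.ne')⟩)

/-- Outside the principal block the sum over a section is zero. -/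
theorem sum_section_eq_zero (hM : IsPModular p M) {χ : IrrCharacter G} (hχ : χ ∉ principalBlock M G)
    {z : G} (hz : ∃ k, orderOf z = p ^ k) :
    ∑ s : Subgroup.centralizer ({z} : Set G) with IsPRegular p s, (χ : G → ℂ) (z * (s : G)) = 0 := by
  set C := Subgroup.centralizer ({z} : Set G) with hC
  set b := principalBlock M ↥C
  have hb : IsPBlock M b := isPBlock_principalBlock
  obtain ⟨B₀, hind⟩ := exists_isInducedBlock_centralizer_singleton hM hz hb
  have hprin : IsInducedBlock M C b (principalBlock M G) :=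
    (Cfsg.Agent.S0936.result p M hM C b ⟨B₀, hind⟩).mpr rfl
  have hnot : ¬ IsInducedBlock M C b (blockOf M (χ : G → ℂ)) := fun h' =>
    hχ (IsInducedBlock.unique hM h' hprin ▸ SameBlock_refl hM _)
  set ϑ : ↥C → ℂ := fun c => (χ : G → ℂ) (z * (c : G)) with hϑ
  have hcl : IsClassFunction ↥C ϑ := by
    intro c w
    have hw : (w : G) * z = z * (w : G) := Subgroup.mem_centralizer_singleton_iff.1 w.2
    show (χ : G → ℂ) (z * ((w : G) * (c : G) * (w : G)⁻¹)) = (χ : G → ℂ) (z * (c : G))
    rw [← mul_assoc, ← mul_assoc, ← hw, mul_assoc (w : G) z (c : G), irr_conj_apply]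
  have hexp : ∀ s : ↥C, ϑ s = ∑ ξ : IrrCharacter ↥C, classInner ϑ (ξ : ↥C → ℂ) * (ξ : ↥C → ℂ) s := by
    intro s
    conv_lhs => rw [CfsgLib.Char.IsClassFunction.eq_sum_irr hcl]
    simp
  show ∑ s : ↥C with IsPRegular p s, ϑ s = 0
  rw [Finset.sum_congr rfl fun s _ => hexp s, Finset.sum_comm,
    ← Finset.sum_subset (Finset.subset_univ b.toFinset) fun ξ _ hξ => by
      rw [← Finset.mul_sum, sum_regular_eq_zero hM (by simpa using hξ), mul_zero],
    Finset.sum_comm]
  refine Finset.sum_eq_zero fun s hs => ?_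
  have h0 := blockPart_section_eq_zero hM hz (isPBlock_blockOf χ) (SameBlock_refl hM _) hb hnot
    (y := s) (Finset.mem_filter.1 hs).2
  rw [blockPart, finsum_mem_eq_toFinset_sum] at h0
  rw [← h0]
  refine Finset.sum_congr rfl fun ξ _ => ?_
  rw [Subsingleton.elim (Fintype.ofFinite ↥C) (inferInstance : Fintype ↥C)]

/-- A principal block character on a section with a `p`-nilpotent centralizer. -/
theorem apply_section (hM : IsPModular p M) {χ : IrrCharacter G} (hχ : χ ∈ principalBlock M G) {z : G}
    (hz : ∃ k, orderOf z = p ^ k)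
    (hnpc : Cfsg.HasNormalPComplement p ↥(Subgroup.centralizer ({z} : Set G)))
    {s : G} (hsz : Commute s z) (hs : ¬ p ∣ orderOf s) : (χ : G → ℂ) (z * s) = (χ : G → ℂ) z :=
  principalBlock_apply_section hM hz hχ (Cfsg.pResidual p ↥(Subgroup.centralizer ({z} : Set G)))
    ((Nat.Prime.coprime_iff_not_dvd hp.out).mp (CfsgLib.Fusion.Basic.npc_iff_coprime.mp hnpc).symm)
    (y := ⟨s, Subgroup.mem_centralizer_singleton_iff.2 hsz.eq⟩)
    (CfsgLib.Fusion.Basic.mem_pResidual_of_coprime (by
      rw [Subgroup.orderOf_mk]; exact ((Nat.Prime.coprime_iff_not_dvd hp.out).mpr hs).symm))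

/-- The number of regular elements of a `p`-nilpotent centralizer containing a Sylow subgroup. -/
theorem regCard_mul (P : Sylow p G) {x : G}
    (hPx : (P : Subgroup G) ≤ Subgroup.centralizer ({x} : Set G))
    (hnpc : Cfsg.HasNormalPComplement p ↥(Subgroup.centralizer ({x} : Set G))) :
    (regCard p x : ℂ) * Nat.card (P : Subgroup G) = Nat.card (Subgroup.centralizer ({x} : Set G)) := by
  let T : Sylow p ↥(Subgroup.centralizer ({x} : Set G)) := P.subtype hPx
  obtain ⟨π, hπ, hker⟩ := exists_retraction hnpc T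
  have hk' : regCard p x = Nat.card π.ker := by
    rw [regCard, Nat.card_eq_fintype_card, Fintype.card_subtype]
    refine congrArg Finset.card (Finset.filter_congr fun s _ => ?_)
    refine ⟨fun hs => ?_, fun hs => ?_⟩
    · obtain ⟨j, hj⟩ := IsPGroup.iff_orderOf.mp T.2 (π s)
      rw [MonoidHom.mem_ker]
      by_contra hne
      have hj0 : j ≠ 0 := fun h0 => hne (orderOf_eq_one_iff.mp (by rw [hj, h0, pow_zero]))
      exact hs (((dvd_pow_self p hj0).trans (dvd_of_eq hj.symm)).trans (orderOf_map_dvd π s))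
    · exact (Nat.Prime.coprime_iff_not_dvd hp.out).mp (hker s hs).symm
  have hidx : π.ker.index = Nat.card ↥(P : Subgroup G) := by
    rw [Subgroup.index_ker, (MonoidHom.range_eq_top (f := π)).mpr fun q => ⟨q, hπ q⟩, Subgroup.card_top]
    exact Nat.card_congr (Subgroup.subgroupOfEquivOfLe hPx).toEquiv
  rw [hk', ← hidx, ← Nat.cast_mul, Subgroup.card_mul_index]

end CfsgLib.Blocks.SectionSums
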