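import Cfsg.Agent.Lib.Blocks.DefectOneSection
import Cfsg.Agent.Lib.Solvable.Cores
import Mathlib.GroupTheory.Transfer
import Mathlib.GroupTheory.SpecificGroups.Cyclic
import Mathlib.GroupTheory.Abelianization.Defs

/-!
# An element of prime order that is its own centralizer

`P = ⟨x⟩` is a Sylow subgroup, the automizer has order `e` and there are `(p - 1) / e` classes of
elements of order `p`.
-/

set_option autoImplicit false

namespace CfsgLib.Blocks.SelfCent

open Cfsg CfsgLib.Blocks CfsgLib.Blocks.DefectOne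
open scoped Classical commutatorElement

variable {G : Type*} [Group G] [Fintype G] {p : ℕ} [hp : Fact p.Prime]

theorem exists_frame_selfCent {x : G} (hx : orderOf x = p)
    (hC : Subgroup.centralizer ({x} : Set G) = Subgroup.zpowers x) :
    ∃ (P : Sylow p G) (D : Frame P), D.x = x ∧ D.K0 = ⊥ := by
  have hZ : Nat.card (Subgroup.zpowers x) = p := by rw [Nat.card_zpowers, hx]
  have hpg : IsPGroup p (Subgroup.zpowers x) := IsPGroup.of_card (n := 1) (by rw [pow_one, hZ])
  obtain ⟨Q, hQ⟩ := hpg.exists_le_sylow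
  have hcomm : ∀ c : G, Commute c x → c ∈ Subgroup.zpowers x := fun c hc =>
    hC ▸ Subgroup.mem_centralizer_singleton_iff.2 hc.eq
  have hQeq : (Q : Subgroup G) = Subgroup.zpowers x := by
    refine le_antisymm (fun q hq => hcomm q ?_) hQ
    haveI : Nontrivial (Q : Subgroup G) := (Subgroup.nontrivial_iff_exists_ne_one _).2
      ⟨x, hQ (Subgroup.mem_zpowers x), fun h => hp.out.one_lt.ne (by rw [← hx, h, orderOf_one])⟩
    haveI := Q.2.center_nontrivial
    obtain ⟨⟨z, hzc⟩, hz1⟩ := exists_ne (1 : Subgroup.center (Q : Subgroup G))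
    have hz : ∀ r ∈ (Q : Subgroup G), Commute r (z : G) := fun r hr =>
      congrArg Subtype.val (Subgroup.mem_center_iff.1 hzc ⟨r, hr⟩)
    have hzx : (z : G) ∈ Subgroup.zpowers x := hcomm _ (hz x (hQ (Subgroup.mem_zpowers x))).symm
    have hzne : (z : G) ≠ 1 := fun h => hz1 (Subtype.ext (Subtype.ext h))
    have hgen : Subgroup.zpowers (z : G) = Subgroup.zpowers x := by
      refine Subgroup.eq_of_le_of_card_ge (Subgroup.zpowers_le.2 hzx) ?_
      rw [hZ, Nat.card_zpowers]
      have hd : orderOf (z : G) ∣ p := (Subgroup.orderOf_dvd_natCard _ hzx).trans (dvd_of_eq hZ)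
      exact (((Nat.dvd_prime hp.out).1 hd).resolve_left (mt orderOf_eq_one_iff.1 hzne)).ge
    obtain ⟨i, hi⟩ := Subgroup.mem_zpowers_iff.1 (hgen ▸ Subgroup.mem_zpowers x)
    rw [← hi]
    exact (hz q hq).zpow_right i
  have htriv : ∀ y : G, y ∈ (⊥ : Subgroup G) ↔ Commute y x ∧ ¬ p ∣ orderOf y := fun y => by
    rw [Subgroup.mem_bot]
    constructor
    · rintro rfl
      exact ⟨Commute.one_left x, by rw [orderOf_one]; exact hp.out.not_dvd_one⟩
    · rintro ⟨h1, h2⟩
      have hd : orderOf y ∣ p := (Subgroup.orderOf_dvd_natCard _ (hcomm y h1)).trans (dvd_of_eq hZ)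
      exact orderOf_eq_one_iff.1 (((Nat.dvd_prime hp.out).1 hd).resolve_right fun h => h2 h.symm.dvd)
  refine ⟨Q, ⟨x, ⊥, hx, hQeq.symm, htriv, fun n _ y hy => ?_, ?_, fun c hc => ?_⟩, rfl, rfl⟩
  · rw [Subgroup.mem_bot] at hy ⊢
    rw [hy, mul_one, mul_inv_cancel]
  · rw [Subgroup.card_bot]; exact hp.out.not_dvd_one
  · obtain ⟨i, hi⟩ := (isOfFinOrder_of_finite x).mem_powers_iff_mem_zpowers.2 (hcomm c hc)
    exact ⟨i, 1, one_mem _, by rw [mul_one]; exact hi.symm⟩

/-- The order of the automizer. -/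
noncomputable abbrev auto {P : Sylow p G} (D : Frame P) : ℕ := Nat.card D.act.range

variable {P : Sylow p G} {D : Frame P} (hK : D.K0 = ⊥)
include hK

theorem mem_of_commute {a : ZMod p} (ha : a ≠ 0) {c : G} (hc : Commute c (D.x ^ a.val)) :
    c ∈ (P : Subgroup G) := by
  have hcc : c ∈ cent P := by
    rw [D.cent_eq_singleton ha]
    exact Subgroup.mem_centralizer_singleton_iff.2 hc.eq
  obtain ⟨i, y, hy, rfl⟩ := D.decomp c ((D.mem_cent_iff c).1 hcc)
  rw [hK, Subgroup.mem_bot] at hy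
  rw [hy, mul_one]
  exact pow_mem D.x_mem i

theorem mem_of_commute_x {c : G} (hc : Commute c D.x) : c ∈ (P : Subgroup G) :=
  mem_of_commute hK (one_ne_zero (α := ZMod p)) (by rwa [ZMod.val_one, pow_one])

theorem cent_eq : cent P = (P : Subgroup G) := by
  refine le_antisymm (fun c hc => mem_of_commute_x hK ((D.mem_cent_iff c).1 hc)) fun c hc => ?_
  rw [← D.zp] at hc
  obtain ⟨i, rfl⟩ := Subgroup.mem_zpowers_iff.1 hc
  exact (D.mem_cent_iff _).2 (Commute.zpow_self D.x i)

theorem act_eq_one_iff (g : nrm P) : D.act g = 1 ↔ (g : G) ∈ (P : Subgroup G) := by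
  rw [D.act_eq_one_iff, cent_eq hK]

theorem card_nrm : Nat.card (nrm P) = p * auto D := by
  rw [D.card_nrm, cent_eq hK, show Nat.card (P : Subgroup G) = p from D.card_P, mul_comm]

omit hK in
theorem exists_conj_pow (D : Frame P) {g : G} (hg : orderOf g = p) :
    ∃ a : (ZMod p)ˣ, IsConj (D.x ^ (a : ZMod p).val) g := by
  obtain ⟨u, a, y, ha, he⟩ := D.exists_conj_el (dvd_of_eq hg.symm)
  have hy : (y : G) = 1 := by
    by_contra hy
    have h1 := orderOf_eq_one_iff.not.2 hy
    have h2 : orderOf (u * g * u⁻¹) = p := by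
      rw [← hg]; exact orderOf_injective (MulAut.conj u).toMonoidHom (MulEquiv.injective _) g
    rw [he, D.coe_el, Commute.orderOf_mul_eq_mul_orderOf_of_coprime ((D.commute_x y.2).symm.pow_left _)
      (by rw [D.orderOf_xpow ha]; exact hp.out.coprime_iff_not_dvd.2 (D.regular y.2)), D.orderOf_xpow ha] at h2
    exact h1 (by simpa [hp.out.ne_zero] using h2)
  refine ⟨Units.mk0 a ha, (isConj_iff.2 ⟨u, ?_⟩).symm⟩
  rw [he, D.coe_el, hy, mul_one, Units.val_mk0]

omit hK in
theorem isConj_pow_iff (D : Frame P) (a b : (ZMod p)ˣ) :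
    IsConj (D.x ^ (a : ZMod p).val) (D.x ^ (b : ZMod p).val) ↔ a⁻¹ * b ∈ D.act.range := by
  rw [isConj_iff]
  constructor
  · rintro ⟨g, hg⟩
    refine ⟨⟨g, D.mem_nrm_of_conj (Units.ne_zero a) hg⟩, ?_⟩
    have h := D.conj_x ⟨g, D.mem_nrm_of_conj (Units.ne_zero a) hg⟩
    rw [← conj_pow, show g * D.x * g⁻¹ = _ from h, D.xpow_mul] at hg
    rw [eq_inv_mul_iff_mul_eq, Units.ext_iff, Units.val_mul, mul_comm]
    exact D.xpow_inj hg
  · rintro ⟨n, hn⟩
    refine ⟨n, ?_⟩
    rw [← conj_pow, D.conj_x, D.xpow_mul, hn, Units.val_mul, mul_comm _ (b : ZMod p), mul_assoc,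
      ← Units.val_mul, inv_mul_cancel, Units.val_one, mul_one]

omit hK in
theorem card_classes_mul (D : Frame P) :
    Nat.card {C : ConjClasses G // ∃ g ∈ C.carrier, orderOf g = p} * auto D = p - 1 := by
  let f : (ZMod p)ˣ ⧸ D.act.range → {C : ConjClasses G // ∃ g ∈ C.carrier, orderOf g = p} := fun q =>
    Quotient.liftOn' q (fun a => ⟨ConjClasses.mk (D.x ^ (a : ZMod p).val), _, ConjClasses.mem_carrier_mk,
      D.orderOf_xpow (Units.ne_zero a)⟩) fun a b hab => Subtype.ext (ConjClasses.mk_eq_mk_iff_isConj.2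
        ((isConj_pow_iff D a b).2 (QuotientGroup.leftRel_apply.1 hab)))
  have hf : Function.Bijective f := by
    constructor
    · intro q r
      refine Quotient.inductionOn₂' q r fun a b h => Quotient.sound' ?_
      exact QuotientGroup.leftRel_apply.2
        ((isConj_pow_iff D a b).1 (ConjClasses.mk_eq_mk_iff_isConj.1 (congrArg Subtype.val h)))
    · rintro ⟨C, g, hg, hord⟩
      obtain ⟨a, ha⟩ := exists_conj_pow D hord
      refine ⟨Quotient.mk'' a, Subtype.ext ?_⟩
      show ConjClasses.mk (D.x ^ (a : ZMod p).val) = C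
      rw [ConjClasses.mk_eq_mk_iff_isConj.2 ha]
      exact ConjClasses.mem_carrier_iff_mk_eq.1 hg
  rw [← Nat.card_congr (Equiv.ofBijective f hf), ← Subgroup.index, auto, Subgroup.index_mul_card,
    Nat.card_eq_fintype_card, ZMod.card_units]

/-! ### Normal subgroups -/

omit hK in
theorem sup_nrm (D : Frame P) (L : Subgroup G) [L.Normal] (hx : D.x ∈ L) : nrm P ⊔ L = ⊤ :=
  P.normalizer_sup_eq_top' (D.zp ▸ Subgroup.zpowers_le.2 hx)

theorem commutator_mem_P (a b : nrm P) : ⁅(a : G), (b : G)⁆ ∈ (P : Subgroup G) := by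
  have h : D.act ⁅a, b⁆ = 1 := by
    rw [map_commutatorElement, commutatorElement_eq_one_iff_commute]
    exact Commute.all _ _
  exact (act_eq_one_iff hK ⁅a, b⁆).1 h

theorem commutator_le (L : Subgroup G) [hL : L.Normal] (hx : D.x ∈ L) : commutator G ≤ L := by
  have hP : (P : Subgroup G) ≤ L := D.zp ▸ Subgroup.zpowers_le.2 hx
  rw [commutator_def, Subgroup.commutator_le]
  intro g _ h _
  obtain ⟨a, ha, u, hu, rfl⟩ := Subgroup.mem_sup_of_normal_right.1 (sup_nrm D L hx ▸ Subgroup.mem_top g)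
  obtain ⟨b, hb, v, hv, rfl⟩ := Subgroup.mem_sup_of_normal_right.1 (sup_nrm D L hx ▸ Subgroup.mem_top h)
  rw [← QuotientGroup.eq_one_iff, ← QuotientGroup.mk'_apply, map_commutatorElement, map_mul, map_mul,
    show QuotientGroup.mk' L u = 1 from (QuotientGroup.eq_one_iff u).2 hu,
    show QuotientGroup.mk' L v = 1 from (QuotientGroup.eq_one_iff v).2 hv, mul_one, mul_one,
    ← map_commutatorElement]
  exact (QuotientGroup.eq_one_iff _).2 (hP (commutator_mem_P hK ⟨a, ha⟩ ⟨b, hb⟩))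

omit hK in
theorem x_mem_commutator (D : Frame P) (he : auto D ≠ 1) : D.x ∈ commutator G := by
  obtain ⟨n, hn⟩ : ∃ n, D.act n ≠ 1 := by
    by_contra hno
    push Not at hno
    refine he (Subgroup.card_eq_one.2 ((Subgroup.eq_bot_iff_forall _).2 ?_))
    rintro _ ⟨n, rfl⟩
    exact hno n
  set y := ⁅(n : G), D.x⁆ with hy
  have hyc : y ∈ commutator G :=
    commutator_def G ▸ Subgroup.commutator_mem_commutator (Subgroup.mem_top _) (Subgroup.mem_top _)
  have hy' : y = D.x ^ (D.act n : ZMod p).val * D.x⁻¹ := by rw [hy, commutatorElement_def, D.conj_x]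
  have hyP : y ∈ (P : Subgroup G) := hy' ▸ mul_mem (pow_mem D.x_mem _) (inv_mem D.x_mem)
  have hy1 : y ≠ 1 := fun h => hn (by
    rw [hy', mul_inv_eq_one] at h
    exact Units.ext (D.xpow_inj (by rw [h, Units.val_one, ZMod.val_one, pow_one])))
  exact Subgroup.zpowers_le.2 hyc (by rw [PrimeOrder.zpowers_eq P D.card_P hyP hy1]; exact D.x_mem)

/-- A normal subgroup of order prime to `p` is contained in the commutator subgroup. -/
theorem le_commutator (S : Subgroup G) [S.Normal] (hS : ¬ p ∣ Nat.card S) : S ≤ commutator G := by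
  let f : S → S := fun s => ⟨⁅(s : G), D.x⁆, by
    rw [commutatorElement_def, mul_assoc (s : G), mul_assoc]
    refine mul_mem s.2 ?_
    simpa [mul_assoc] using Subgroup.Normal.conj_mem inferInstance _ (inv_mem s.2) D.x⟩
  have hf : Function.Injective f := by
    intro s s' h
    have h' : (s : G) * D.x * (s : G)⁻¹ = (s' : G) * D.x * (s' : G)⁻¹ := by
      have h2 := congrArg Subtype.val h
      simp only [f, commutatorElement_def] at h2
      exact mul_right_cancel h2
    have hc : Commute ((s' : G)⁻¹ * (s : G)) D.x := by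
      show _ = _
      calc (s' : G)⁻¹ * s * D.x = (s' : G)⁻¹ * ((s : G) * D.x * (s : G)⁻¹) * s := by group
        _ = _ := by rw [h']; group
    have hd := Subgroup.orderOf_dvd_natCard S (mul_mem (inv_mem s'.2) s.2)
    have hP' := Subgroup.orderOf_dvd_natCard (P : Subgroup G) (mem_of_commute_x hK hc)
    rw [show Nat.card (P : Subgroup G) = p from D.card_P] at hP'
    have h1 := ((Nat.dvd_prime hp.out).1 hP').resolve_right fun e => hS (e ▸ hd)
    exact Subtype.ext (inv_mul_eq_one.1 (orderOf_eq_one_iff.1 h1)).symm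
  intro s hs
  obtain ⟨r, hr⟩ := Finite.injective_iff_surjective.1 hf ⟨s, hs⟩
  rw [show s = ⁅(r : G), D.x⁆ from (congrArg Subtype.val hr).symm, commutator_def]
  exact Subgroup.commutator_mem_commutator (Subgroup.mem_top _) (Subgroup.mem_top _)

theorem pPrimeCore_le : Cfsg.pPrimeCore p G ≤ commutator G :=
  le_commutator hK _ (hp.out.coprime_iff_not_dvd.1 (CfsgLib.Solvable.Cores.coprime_card_pPrimeCore p).symm)

theorem commutator_of_auto_eq_one (he : auto D = 1) :
    (commutator G).index = p ∧ ¬ p ∣ Nat.card (commutator G) := by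
  have hN : Subgroup.normalizer ((P : Subgroup G) : Set G) ≤ Subgroup.centralizer ((P : Subgroup G) : Set G) := by
    intro g hg
    refine (D.act_eq_one_iff ⟨g, hg⟩).1 ?_
    have := (Subgroup.eq_bot_iff_forall _).1 (Subgroup.card_eq_one.1 he) (D.act ⟨g, hg⟩) ⟨_, rfl⟩
    exact this
  set K := (MonoidHom.transferSylow P hN).ker with hKdef
  have hnd : ¬ p ∣ Nat.card K := MonoidHom.not_dvd_card_ker_transferSylow P hN
  have hle : commutator G ≤ K := by
    rw [commutator_def, Subgroup.commutator_le]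
    intro g _ h _
    rw [hKdef, MonoidHom.mem_ker, map_commutatorElement, commutatorElement_eq_one_iff_commute]
    haveI : IsMulCommutative (P : Subgroup G) :=
      ⟨⟨fun a b => Subtype.ext (hN (Subgroup.le_normalizer b.2) a a.2)⟩⟩
    exact Subtype.ext (congrArg Subtype.val
      (IsMulCommutative.is_comm.comm (MonoidHom.transferSylow P hN g) (MonoidHom.transferSylow P hN h)))
  have heq : commutator G = K := le_antisymm hle (le_commutator hK K hnd)
  refine ⟨?_, heq ▸ hnd⟩
  rw [heq, (MonoidHom.ker_transferSylow_isComplement' P hN).symm.index_eq_card]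
  exact D.card_P

theorem index_commutator_dvd (he : auto D ≠ 1) : (commutator G).index ∣ auto D := by
  have hP : (P : Subgroup G) ≤ commutator G := D.zp ▸ Subgroup.zpowers_le.2 (x_mem_commutator D he)
  have h1 := Subgroup.relIndex_sup_left (K := commutator G) (H := nrm P)
  rw [sup_comm, sup_nrm D _ (x_mem_commutator D he), Subgroup.relIndex_top_right] at h1
  rw [h1]
  have h2 : (commutator G).relIndex (nrm P) ∣ (P : Subgroup G).relIndex (nrm P) :=
    Subgroup.relIndex_dvd_of_le_left _ hP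
  refine h2.trans (dvd_of_eq ?_)
  rw [← cent_eq hK]
  exact D.relIndex_nrm

/-- A subgroup that the commutator subgroup normalizes and whose order is divisible by `p`. -/
theorem le_of_dvd_card (hx : D.x ∈ commutator G) {L : Subgroup G} (hn : ∀ g ∈ commutator G, ∀ l ∈ L, g * l * g⁻¹ ∈ L) (hd : p ∣ Nat.card L) :
    commutator G ≤ L := by
  obtain ⟨⟨y, hyL⟩, hy⟩ := exists_prime_orderOf_dvd_card' p hd
  rw [Subgroup.orderOf_mk] at hy
  obtain ⟨a, ha⟩ := exists_conj_pow D hy
  obtain ⟨w, hw⟩ := isConj_iff.1 ha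
  have hxw : ∀ g : G, g * D.x * g⁻¹ ∈ L := by
    intro g
    obtain ⟨n, hn', u, hu, he⟩ := Subgroup.mem_sup_of_normal_right.1
      (sup_nrm D (commutator G) hx ▸ Subgroup.mem_top g⁻¹)
    obtain ⟨n', hn'', u', hu', he'⟩ := Subgroup.mem_sup_of_normal_right.1
      (sup_nrm D (commutator G) hx ▸ Subgroup.mem_top w⁻¹)
    -- the conjugate of `P` by `u'⁻¹` lies in `L`
    have hxy : u'⁻¹ * D.x * u' ∈ L := by
      have h1 : n'⁻¹ * (D.x ^ (a : ZMod p).val) * n' ∈ (P : Subgroup G) :=
        (Subgroup.mem_normalizer_iff''.1 hn'' _).1 (pow_mem D.x_mem _)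
      have h2 : u'⁻¹ * (n'⁻¹ * (D.x ^ (a : ZMod p).val) * n') * u' = y := by
        rw [← hw, show w = u'⁻¹ * n'⁻¹ by rw [← mul_inv_rev, he', inv_inv]]
        group
      have hne : n'⁻¹ * (D.x ^ (a : ZMod p).val) * n' ≠ 1 := fun e => hp.out.one_lt.ne (by
        rw [← hy, ← h2, e]; simp)
      obtain ⟨i, hi⟩ := Subgroup.mem_zpowers_iff.1 (show D.x ∈ Subgroup.zpowers
        (n'⁻¹ * (D.x ^ (a : ZMod p).val) * n') by rw [PrimeOrder.zpowers_eq P D.card_P h1 hne]; exact D.x_mem)
      rw [← hi, show u'⁻¹ * (n'⁻¹ * D.x ^ (a : ZMod p).val * n') ^ i * u' = y ^ i from by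
        rw [← h2]; simpa using (conj_zpow (a := u'⁻¹) (b := n'⁻¹ * D.x ^ (a : ZMod p).val * n') (i := i)).symm]
      exact zpow_mem hyL i
    obtain ⟨i, hi⟩ := Subgroup.mem_zpowers_iff.1 (show n⁻¹ * D.x * n ∈ Subgroup.zpowers D.x by
      rw [D.zp]; exact (Subgroup.mem_normalizer_iff''.1 hn' _).1 D.x_mem)
    have hg : g * D.x * g⁻¹ = (u⁻¹ * u') * (u'⁻¹ * D.x * u') ^ i * (u⁻¹ * u')⁻¹ := by
      rw [show g = u⁻¹ * n⁻¹ by rw [← mul_inv_rev, he, inv_inv],
        show (u'⁻¹ * D.x * u') ^ i = u'⁻¹ * D.x ^ i * u' by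
          simpa using (conj_zpow (a := u'⁻¹) (b := D.x) (i := i))]
      calc u⁻¹ * n⁻¹ * D.x * (u⁻¹ * n⁻¹)⁻¹ = u⁻¹ * (n⁻¹ * D.x * n) * u := by group
        _ = _ := by rw [← hi]; group
    rw [hg]
    exact hn _ (mul_mem (inv_mem hu) hu') _ (zpow_mem hxy i)
  refine (commutator_le hK (Subgroup.normalClosure {D.x}) (Subgroup.subset_normalClosure rfl)).trans ?_
  rw [Subgroup.normalClosure, Subgroup.closure_le]
  intro z hz
  obtain ⟨b, rfl, hb⟩ := Group.mem_conjugatesOfSet_iff.1 hz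
  obtain ⟨g, rfl⟩ := isConj_iff.1 hb
  exact hxw g

theorem nrm_inf (S : Subgroup G) [S.Normal] (hS : ¬ p ∣ Nat.card S) : nrm P ⊓ S = ⊥ := by
  rw [Subgroup.eq_bot_iff_forall]
  rintro s ⟨hs, hsS⟩
  have h1 : ⁅s, D.x⁆ ∈ (P : Subgroup G) := by
    rw [commutatorElement_def]
    exact mul_mem ((Subgroup.mem_normalizer_iff.1 hs _).1 D.x_mem) (inv_mem D.x_mem)
  have h2 : ⁅s, D.x⁆ ∈ S := by
    rw [commutatorElement_def, mul_assoc s, mul_assoc]
    refine mul_mem hsS ?_
    simpa [mul_assoc] using Subgroup.Normal.conj_mem inferInstance _ (inv_mem hsS) D.x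
  have key : ∀ r : G, r ∈ S → r ∈ (P : Subgroup G) → r = 1 := fun r hr hr' => by
    have hd := Subgroup.orderOf_dvd_natCard S hr
    have hP' := Subgroup.orderOf_dvd_natCard (P : Subgroup G) hr'
    rw [show Nat.card (P : Subgroup G) = p from D.card_P] at hP'
    exact orderOf_eq_one_iff.1 (((Nat.dvd_prime hp.out).1 hP').resolve_right fun e => hS (e ▸ hd))
  exact key s hsS (mem_of_commute_x hK (commutatorElement_eq_one_iff_commute.1 (key _ h2 h1)))

theorem card_sup_P (S : Subgroup G) [S.Normal] (hS : ¬ p ∣ Nat.card S) :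
    Nat.card (S ⊔ (P : Subgroup G) : Subgroup G) = p * Nat.card S ∧
      (S ⊔ (P : Subgroup G)) ⊓ nrm P = (P : Subgroup G) := by
  have hi := nrm_inf hK S hS
  constructor
  · have h := CfsgLib.Solvable.Basic.card_sup_mul S (P : Subgroup G)
    rw [inf_comm, show (P : Subgroup G) ⊓ S = ⊥ from le_bot_iff.1 (le_trans (inf_le_inf_right S Subgroup.le_normalizer) hi.le),
      Subgroup.card_bot, mul_one, show Nat.card (P : Subgroup G) = p from D.card_P] at h
    rw [sup_comm]
    exact h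
  · refine le_antisymm ?_ (le_inf le_sup_right Subgroup.le_normalizer)
    rintro c ⟨hc, hcn⟩
    obtain ⟨u, hu, s, hs, rfl⟩ := Subgroup.mem_sup_of_normal_right.1
      (show c ∈ (P : Subgroup G) ⊔ S by rwa [sup_comm])
    have hun : u ∈ nrm P := Subgroup.le_normalizer hu
    have hsn : s ∈ nrm P ⊓ S := ⟨inv_mul_cancel_left u s ▸ (nrm P).mul_mem ((nrm P).inv_mem hun) hcn, hs⟩
    rw [hi, Subgroup.mem_bot] at hsn
    rwa [hsn, mul_one]

theorem card_of_normal_sup (S : Subgroup G) [S.Normal] (hS : ¬ p ∣ Nat.card S)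
    [hn : (S ⊔ (P : Subgroup G)).Normal] : Nat.card G = Nat.card S * p * auto D := by
  obtain ⟨h1, h2⟩ := card_sup_P hK S hS
  have hx : D.x ∈ S ⊔ (P : Subgroup G) := Subgroup.mem_sup_right D.x_mem
  have h3 := Subgroup.relIndex_sup_left (K := S ⊔ (P : Subgroup G)) (H := nrm P)
  have h5 : (S ⊔ (P : Subgroup G)) ⊔ nrm P = ⊤ := by rw [sup_comm]; exact sup_nrm D _ hx
  have h4 : (S ⊔ (P : Subgroup G)).relIndex (nrm P) = auto D := by
    rw [← Subgroup.inf_relIndex_right, h2, ← cent_eq hK]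
    exact D.relIndex_nrm
  rw [← Subgroup.card_mul_index (S ⊔ (P : Subgroup G)), h1, ← h4, mul_comm p]
  congr 1
  rw [← Subgroup.relIndex_top_right, ← h5, ← h3]

end CfsgLib.Blocks.SelfCent
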