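import Cfsg.Agent.Lib.Blocks.TwoCharacters
import Cfsg.Agent.Lib.Blocks.SecondMainBlocks
import Cfsg.Agent.Lib.Blocks.Rank
import Cfsg.Agent.Lib.Blocks.PCentralizer
import Mathlib.RingTheory.SimpleModule.Basic
import Mathlib.LinearAlgebra.Matrix.Charpoly.Coeff

/-!
# The simple modules of a block are at most as many as its regular rank

The trace functionals of the simple modules kill commutators and see only the `p`-regular part of
a group element, and the reduced pairing of classes with regular elements has rank at most the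
regular rank of the block.
-/

set_option autoImplicit false
set_option linter.unusedSectionVars false
set_option maxHeartbeats 1000000

namespace CfsgLib.Blocks.SimpleCount

open Cfsg CfsgLib.Blocks CfsgLib.Blocks.ResidueAlgebra CfsgLib.Blocks.TwoCharacters
open scoped Classical ComplexConjugate
open LinearMap (mulLeft)

/-! ### Simple modules of an algebra with split semisimple quotient -/

section Split

variable {k A : Type*} [Field k] [Ring A] [Algebra k A] {r : ℕ} {d : Fin r → ℕ} [∀ i, NeZero (d i)]
  {π : A →ₐ[k] Π i, Matrix (Fin (d i)) (Fin (d i)) k} (hπ : Function.Surjective π) {N : ℕ}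
  (hN : (LinearMap.ker π.toLinearMap) ^ N = ⊥)
  {V : Type*} [AddCommGroup V] [Module A V] [IsSimpleModule A V]

include hN

/-- The kernel of the semisimple quotient kills simple modules. -/
theorem smul_eq_zero_of_ker {x : A} (hx : π x = 0) (v : V) : x • v = 0 := by
  by_contra hne
  have hv : v ∈ Submodule.span A {x • v} := by
    rw [IsSimpleModule.span_singleton_eq_top A hne]; exact Submodule.mem_top
  obtain ⟨a, ha⟩ := Submodule.mem_span_singleton.1 hv
  rw [← mul_smul] at ha
  obtain ⟨n, hn⟩ := isNilpotent_of_map hN (x := a * x) (by rw [map_mul, hx, mul_zero])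
  have hpow : ∀ j : ℕ, (a * x) ^ j • v = v := fun j => by
    induction j with
    | zero => rw [pow_zero, one_smul]
    | succ j ih => rw [pow_succ, mul_smul, ha, ih]
  refine hne ?_
  rw [← hpow n, hn, zero_smul, smul_zero]

theorem smul_congr {x y : A} (h : π x = π y) (v : V) : x • v = y • v := by
  rw [← sub_eq_zero, ← sub_smul]
  exact smul_eq_zero_of_ker hN (by rw [map_sub, h, sub_self]) v

include hπ

/-- A simple module has a matrix component. -/
theorem exists_index [Nontrivial V] : ∃ (i : Fin r) (u : A) (v : V),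
    π u = Pi.single i (Matrix.single 0 0 1) ∧ u • v = v ∧ v ≠ 0 := by
  obtain ⟨v, hv⟩ := exists_ne (0 : V)
  choose L hL using fun q : Σ i, Fin (d i) =>
    hπ (Pi.single q.1 (Matrix.single q.2 q.2 (1 : k)))
  have hsum : π (∑ q, L q) = π 1 := by
    rw [map_sum, map_one, Finset.sum_congr rfl fun q _ => hL q, Fintype.sum_sigma]
    funext i
    rw [Finset.sum_apply, Finset.sum_eq_single i (fun j _ hj => by
      simp [Pi.single_eq_of_ne (Ne.symm hj)]) (by simp)]
    simp only [Pi.single_eq_same, Finset.sum_apply, Pi.one_apply]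
    exact Matrix.sum_single_one
  obtain ⟨⟨i, l⟩, hil⟩ : ∃ q, L q • v ≠ 0 := by
    by_contra hno
    push Not at hno
    refine hv ?_
    rw [← one_smul A v, ← smul_congr hN hsum v, Finset.sum_smul, Finset.sum_eq_zero fun q _ => hno q]
  obtain ⟨u, hu⟩ := hπ (Pi.single i (Matrix.single 0 0 1))
  obtain ⟨a, ha⟩ := hπ (Pi.single i (Matrix.single l 0 1))
  obtain ⟨b, hb⟩ := hπ (Pi.single i (Matrix.single 0 l 1))
  refine ⟨i, u, u • b • v, hu, ?_, fun h0 => hil ?_⟩
  · rw [← mul_smul u u]
    refine smul_congr hN ?_ _
    rw [map_mul, hu, ← Pi.single_mul, Matrix.single_mul_single_same, mul_one]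
  · have h1 : π (L ⟨i, l⟩) = π (a * (u * b)) := by
      rw [hL, map_mul, map_mul, ha, hu, hb, ← Pi.single_mul, ← Pi.single_mul,
        Matrix.single_mul_single_same, Matrix.single_mul_single_same, mul_one, mul_one]
    rw [smul_congr hN h1 v, mul_smul, mul_smul, h0, smul_zero]

/-- The annihilator of a vector fixed by a primitive element. -/
theorem smul_eq_zero_iff {i : Fin r} {u : A} (hu : π u = Pi.single i (Matrix.single 0 0 1)) {w : V}
    (hw : u • w = w) (hw0 : w ≠ 0) (a : A) : a • w = 0 ↔ π (a * u) = 0 := by
  constructor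
  · intro ha
    by_contra hne
    obtain ⟨c, b, hcb⟩ : ∃ c b : Fin (d i), π (a * u) i c b ≠ 0 := by
      by_contra hno
      push Not at hno
      refine hne (funext fun j => ?_)
      by_cases hj : j = i
      · subst hj; ext c b; exact hno c b
      · rw [map_mul, Pi.mul_apply, hu, Pi.single_eq_of_ne hj, mul_zero]; rfl
    have hb0 : b = 0 := by
      by_contra hb
      refine hcb ?_
      rw [map_mul, Pi.mul_apply, hu, Pi.single_eq_same, Matrix.mul_apply]
      exact Finset.sum_eq_zero fun x _ => by simp [Matrix.single_apply, Ne.symm hb]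
    subst hb0
    obtain ⟨y, hy⟩ := hπ (Pi.single i (Matrix.single 0 c (π (a * u) i c 0)⁻¹))
    have h1 : π (y * (a * u)) = π u := by
      funext j
      rw [map_mul, Pi.mul_apply, hy, hu]
      by_cases hj : j = i
      · subst hj
        rw [Pi.single_eq_same, Pi.single_eq_same]
        have h2 : π (a * u) j * Matrix.single 0 0 1 = π (a * u) j := by
          rw [map_mul, Pi.mul_apply, hu, Pi.single_eq_same, Matrix.mul_assoc,
            Matrix.single_mul_single_same, mul_one]
        rw [← h2] at hcb
        conv_lhs => rw [← h2, ← Matrix.mul_assoc, Matrix.single_mul_mul_single, mul_one]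
        refine congrArg (Matrix.single 0 0) ?_
        rw [h2] at hcb ⊢
        exact inv_mul_cancel₀ hcb
      · rw [Pi.single_eq_of_ne hj, Pi.single_eq_of_ne hj, zero_mul]
    have h2 := smul_congr (V := V) hN h1 w
    rw [mul_smul, mul_smul, hw, ha, smul_zero] at h2
    exact hw0 h2.symm
  · intro ha
    rw [← hw, ← mul_smul]
    exact smul_eq_zero_of_ker hN ha w

/-- Simple modules with the same component are isomorphic. -/
theorem nonempty_equiv {V' : Type*} [AddCommGroup V'] [Module A V'] [IsSimpleModule A V'] {i : Fin r}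
    {u u' : A} {v : V} {v' : V'} (hu : π u = Pi.single i (Matrix.single 0 0 1)) (huv : u • v = v)
    (hv : v ≠ 0) (hu' : π u' = Pi.single i (Matrix.single 0 0 1)) (huv' : u' • v' = v')
    (hv' : v' ≠ 0) : Nonempty (V ≃ₗ[A] V') := by
  have hker : LinearMap.ker (LinearMap.toSpanSingleton A V v)
      = LinearMap.ker (LinearMap.toSpanSingleton A V' v') := by
    ext a
    simp only [LinearMap.mem_ker, LinearMap.toSpanSingleton_apply]
    exact (smul_eq_zero_iff hπ hN hu huv hv a).trans
      (smul_eq_zero_iff hπ hN hu ((smul_congr hN (hu.trans hu'.symm) v').trans huv') hv' a).symm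
  exact ⟨((LinearMap.quotKerEquivOfSurjective _ (IsSimpleModule.toSpanSingleton_surjective A hv)).symm.trans
    (Submodule.quotEquivOfEq _ _ hker)).trans
      (LinearMap.quotKerEquivOfSurjective _ (IsSimpleModule.toSpanSingleton_surjective A hv'))⟩

omit hπ in
theorem index_eq_one {e : A} (he : ∀ w : V, e • w = w) {i : Fin r} {u : A} {v : V}
    (hu : π u = Pi.single i (Matrix.single 0 0 1)) (huv : u • v = v) (hv : v ≠ 0)
    (h01 : π e i = 0 ∨ π e i = 1) : π e i = 1 := by
  refine h01.resolve_left fun h => hv ?_
  rw [← he v, ← huv, ← mul_smul]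
  refine smul_eq_zero_of_ker hN (funext fun j => ?_) v
  rw [map_mul, Pi.mul_apply, hu]
  by_cases hj : j = i
  · subst hj; rw [h, zero_mul]; rfl
  · rw [Pi.single_eq_of_ne hj, mul_zero]; rfl

end Split

/-! ### The count -/

variable {G : Type*} [Group G] [Fintype G] {p : ℕ} {M : Ideal AlgInt}

/-- At most `blockRank` matrix components belong to a block. -/
theorem card_le_blockRank (hM : IsPModular p M) {B : Set (IrrCharacter G)} (hB : IsPBlock M B)
    {r : ℕ} {d : Fin r → ℕ} [∀ i, NeZero (d i)]
    {π : MonoidAlgebra (Residue hM) G →ₐ[Residue hM] Π i, Matrix (Fin (d i)) (Fin (d i)) (Residue hM)}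
    (hπ : Function.Surjective π) {N : ℕ} (hN : (LinearMap.ker π.toLinearMap) ^ N = ⊥) :
    (Finset.univ.filter fun i => π (idem hM B) i = 1).card ≤ blockRank p B := by
  haveI := Fact.mk hM.1
  haveI := TwoCharacters.charP_residue hM
  let k := Residue hM
  set e := idem hM B with hedef
  set I := Finset.univ.filter fun i => π e i = 1 with hI
  let T : MonoidAlgebra k G →ₗ[k] (I → k) := LinearMap.pi fun i =>
    Matrix.traceLinearMap (Fin (d i)) k k ∘ₗ LinearMap.proj (i : Fin r) ∘ₗ π.toLinearMap
  have hT : ∀ x i, T x i = (π x i).trace := fun x i => rfl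
  have hcomm : ∀ x ∈ LinearMap.ker (classSum hM (G := G)), T x = 0 := by
    intro x hx
    rw [ker_classSum] at hx
    refine funext fun i => ?_
    induction hx using Submodule.span_induction with
    | mem z hz =>
      obtain ⟨⟨a, b⟩, rfl⟩ := hz
      rw [map_sub, Pi.sub_apply, hT, hT, map_mul, map_mul, Pi.mul_apply, Pi.mul_apply,
        Matrix.trace_mul_comm, sub_self]
      rfl
    | zero => simp
    | add z w _ _ hz hw => simp [map_add, hz, hw]
    | smul c z _ hz => simp [map_smul, hz]
  -- a group element counts as its regular part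
  have hreg : ∀ g : G, ∃ y : G, IsPRegular p y ∧
      T (e * MonoidAlgebra.single g 1) = T (e * MonoidAlgebra.single y 1) := by
    intro g
    obtain ⟨y, hgy, huy, ⟨j, hj⟩, hy⟩ := pPart_spec hM.1 g
    refine ⟨y, hy, funext fun i => ?_⟩
    rw [hT, hT, ← sub_eq_zero, ← Matrix.trace_sub, ← Pi.sub_apply, ← map_sub, ← mul_sub]
    set w : MonoidAlgebra k G := MonoidAlgebra.single (pPart p g) 1 - 1 with hw
    have hfac : MonoidAlgebra.single g (1 : k) - MonoidAlgebra.single y 1
        = w * MonoidAlgebra.single y 1 := by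
      rw [hw, sub_mul, one_mul, MonoidAlgebra.single_mul_single, mul_one, hgy]
    have hwn : IsNilpotent w := by
      haveI : CharP (MonoidAlgebra k G) p := charP_of_injective_algebraMap
        (algebraMap k (MonoidAlgebra k G)).injective p
      refine ⟨p ^ j, ?_⟩
      rw [hw, sub_pow_char_pow_of_commute p _ (Commute.one_right _), one_pow,
        MonoidAlgebra.single_pow, one_pow, ← hj, pow_orderOf_eq_one, ← MonoidAlgebra.one_def,
        sub_self]
    have hwy : Commute w (e * MonoidAlgebra.single y 1) := by
      refine Commute.mul_right (show e * w = w * e from idem_commute hM w).symm ?_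
      refine Commute.sub_left ?_ (Commute.one_left _)
      rw [Commute, SemiconjBy, MonoidAlgebra.single_mul_single, MonoidAlgebra.single_mul_single,
        huy.eq]
    have hn : IsNilpotent (e * (MonoidAlgebra.single g (1 : k) - MonoidAlgebra.single y 1)) := by
      rw [hfac, ← mul_assoc, show e * w = w * e from idem_commute hM w, mul_assoc]
      exact hwy.isNilpotent_mul_right hwn
    obtain ⟨m, hm⟩ := hn
    exact IsNilpotent.eq_zero (Matrix.isNilpotent_trace_of_isNilpotent
      ⟨m, by rw [← Pi.pow_apply, ← map_pow, hm, map_zero]; rfl⟩)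
  -- the regular elements span
  let Ψ : (G → k) →ₗ[k] MonoidAlgebra k G := Fintype.linearCombination k fun s =>
    if IsPRegular p s then e * MonoidAlgebra.single s 1 else 0
  have hsurj : Function.Surjective (T ∘ₗ Ψ) := by
    rw [← LinearMap.range_eq_top, eq_top_iff]
    have hspan : ∀ g : G, T (e * MonoidAlgebra.single g 1) ∈ LinearMap.range (T ∘ₗ Ψ) := fun g => by
      obtain ⟨y, hy, heq⟩ := hreg g
      refine ⟨Pi.single y 1, ?_⟩
      rw [LinearMap.comp_apply, Fintype.linearCombination_apply_single, one_smul, if_pos hy, heq]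
    intro f _
    obtain ⟨a, ha⟩ := hπ (∑ i : I, Pi.single (i : Fin r) (Matrix.single 0 0 (f i)))
    have hfa : T (e * a) = f := by
      funext i
      rw [hT, map_mul, Pi.mul_apply, (Finset.mem_filter.1 i.2).2, one_mul, ha, Finset.sum_apply,
        Finset.sum_eq_single i]
      · rw [Pi.single_eq_same, Matrix.trace_single_eq_same]
      · intro j _ hj
        rw [Pi.single_eq_of_ne fun h => hj (Subtype.ext h.symm)]
      · simp
    rw [← hfa, ← sum_single_eq hM a, Finset.mul_sum, map_sum]
    refine sum_mem fun g _ => ?_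
    rw [show MonoidAlgebra.single g (a.coeff g) = a.coeff g • MonoidAlgebra.single g (1 : k) by simp,
      mul_smul_comm, map_smul]
    exact Submodule.smul_mem _ _ (hspan g)
  let cs : MonoidAlgebra k G →ₗ[k] (G → k) :=
    LinearMap.funLeft k k (ConjClasses.mk : G → ConjClasses G) ∘ₗ classSum hM
  have hle : LinearMap.ker (cs ∘ₗ Ψ) ≤ LinearMap.ker (T ∘ₗ Ψ) := fun c hc => by
    refine hcomm _ (LinearMap.mem_ker.2 (funext fun C => ?_))
    obtain ⟨g, rfl⟩ := ConjClasses.mk_surjective C
    exact congrFun (LinearMap.mem_ker.1 hc) g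
  have hrank : I.card ≤ Module.finrank k (LinearMap.range (cs ∘ₗ Ψ)) := by
    have h1 := LinearMap.finrank_range_add_finrank_ker (T ∘ₗ Ψ)
    have h2 := LinearMap.finrank_range_add_finrank_ker (cs ∘ₗ Ψ)
    have h3 := Submodule.finrank_mono hle
    rw [LinearMap.range_eq_top.2 hsurj, finrank_top, Module.finrank_pi, Fintype.card_coe] at h1
    omega
  -- the pairing of classes with regular elements
  let f : G → G → ℂ := fun g h => if IsConj g h⁻¹ then 1 else 0
  let Q : Matrix G G ℂ := Matrix.of fun g s =>
    if IsPRegular p s then ∑ x, (if IsConj g x then blockCoeff B (x * s⁻¹) else 0) else 0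
  have hQL : ∀ g s, MemLocalRing M (Q g s) := fun g s => by
    simp only [Q, Matrix.of_apply]
    split
    · refine LR.sum hM (fun x _ => ?_)
      split
      · exact blockCoeff_LR hM hB _
      · exact LR.zero hM
    · exact LR.zero hM
  have hcs : cs ∘ₗ Ψ = (Q.map (resid hM)).mulVecLin := by
    refine LinearMap.pi_ext fun s a => funext fun g => ?_
    rw [LinearMap.comp_apply, Fintype.linearCombination_apply_single, Matrix.mulVecLin_apply,
      Matrix.mulVec_single, map_smul]
    show a * cs _ g = Q.map (resid hM) g s * a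
    rw [mul_comm, Matrix.map_apply]
    congr 1
    simp only [Q, Matrix.of_apply]
    split_ifs with hs
    · show classSum hM (e * MonoidAlgebra.single s 1) (ConjClasses.mk g) = _
      rw [resid_sum hM _ (fun x _ => by
        split
        · exact blockCoeff_LR hM hB _
        · exact LR.zero hM)]
      show (∑ x, if ConjClasses.mk x = ConjClasses.mk g then
        (e * MonoidAlgebra.single s (1 : k)).coeff x else 0) = _
      refine Finset.sum_congr rfl fun x _ => ?_
      rw [MonoidAlgebra.coeff_mul_single_apply, mul_one, hedef, coeff_idem,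
        if_congr (ConjClasses.mk_eq_mk_iff_isConj.trans isConj_comm) rfl rfl]
      split_ifs
      · rfl
      · rw [resid_zero]
    · rw [map_zero, resid_zero]; rfl
  have hrow : ∀ g, Q.row g ∈ Submodule.span ℂ
      ((fun χ : IrrCharacter G => pRegularPart p (χ : G → ℂ)) '' B) := fun g => by
    have hrw : Q.row g = ∑ χ ∈ B.toFinset, ((Nat.card G : ℂ)⁻¹ * (χ : G → ℂ) 1
        * omega (χ : G → ℂ) (f g)) • pRegularPart p (χ : G → ℂ) := by
      funext s
      show Q g s = _
      rw [Finset.sum_apply]
      simp only [Q, Matrix.of_apply, Pi.smul_apply, smul_eq_mul, pRegularPart_apply]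
      split_ifs with hs
      · simp only [blockCoeff, finsum_mem_eq_toFinset_sum, Finset.mul_sum, ← Finset.sum_filter]
        rw [Finset.sum_comm]
        refine Finset.sum_congr rfl fun χ _ => ?_
        rw [mul_assoc ((Nat.card G : ℂ)⁻¹ * (χ : G → ℂ) 1), ← sum_classFun_mul_char χ (by
          intro a b
          show (if IsConj g (b * a * b⁻¹)⁻¹ then (1 : ℂ) else 0) = if IsConj g a⁻¹ then 1 else 0
          refine if_congr ?_ rfl rfl
          rw [show (b * a * b⁻¹)⁻¹ = b * a⁻¹ * b⁻¹ by group]
          exact ⟨fun h => h.trans (isConj_iff.2 ⟨b, rfl⟩).symm,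
            fun h => h.trans (isConj_iff.2 ⟨b, rfl⟩)⟩) s]
        rw [Finset.mul_sum, Finset.sum_filter]
        refine Fintype.sum_equiv (Equiv.inv G) _ _ fun x => ?_
        simp only [f, Equiv.inv_apply, inv_inv]
        split_ifs with hx
        · rw [one_mul, conj_irr, mul_inv_rev, inv_inv]; ring
        · ring
      · simp
    rw [hrw]
    exact sum_mem fun χ hχ => Submodule.smul_mem _ _
      (Submodule.subset_span ⟨χ, Set.mem_toFinset.1 hχ, rfl⟩)
  calc I.card ≤ Module.finrank k (LinearMap.range (cs ∘ₗ Ψ)) := hrank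
    _ = (Q.map (resid hM)).rank := by rw [hcs]; rfl
    _ ≤ Q.rank := rank_resid_le hM Q hQL
    _ ≤ blockRank p B := by
      rw [Matrix.rank_eq_finrank_span_row, blockRank]
      haveI : Module.Finite ℂ (G → ℂ) := inferInstance
      refine Submodule.finrank_mono (Submodule.span_le.2 ?_)
      rintro _ ⟨g, rfl⟩
      exact hrow g

end CfsgLib.Blocks.SimpleCount
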