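import Mathlib.LinearAlgebra.FiniteDimensional.Basic
import Mathlib.LinearAlgebra.Dimension.Constructions
import Mathlib.LinearAlgebra.Matrix.ToLin
import Mathlib.Algebra.Algebra.Operations
import Cfsg.Agent.Lib.Blocks.LocalRankTwo

/-!
# Symmetric local corners with a small cocentre are commutative

Let `R = EAE` be a local corner of a finite-dimensional algebra with a symmetrizing form. If the
commutator subspace has codimension at most four in `R`, then `R` is commutative (Külshammer).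
-/

set_option autoImplicit false
set_option linter.unusedSectionVars false

namespace CfsgLib.Blocks.SymLocalCorner

open scoped Classical
open LinearMap (mulLeft mulRight)

variable {k A : Type*} [Field k] [Ring A] [Algebra k A]

/-- The powers of `v` of exponent at least `c`. -/
def powSpan (k : Type*) {A : Type*} [Field k] [Ring A] [Algebra k A] (v : A) (c : ℕ) : Submodule k A :=
  Submodule.span k (Set.range fun j : ℕ => v ^ (j + c))

theorem commute_powSpan {v x : A} {c : ℕ} (hx : x ∈ powSpan k v c) : Commute v x := by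
  induction hx using Submodule.span_induction with
  | mem x hx => obtain ⟨j, rfl⟩ := hx; exact (Commute.refl v).pow_right _
  | zero => exact Commute.zero_right v
  | add x y _ _ hx hy => exact hx.add_right hy
  | smul r x _ hx => exact hx.smul_right r

theorem exists_eq_mul {v x : A} (hx : x ∈ powSpan k v 2) : ∃ h ∈ powSpan k v 1, x = v * h := by
  have : x ∈ (powSpan k v 1).map (mulLeft k v) := by
    rw [powSpan, Submodule.map_span]
    refine (Submodule.span_mono ?_) hx
    rintro _ ⟨j, rfl⟩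
    exact ⟨v ^ (j + 1), ⟨j, rfl⟩, by rw [LinearMap.mulLeft_apply, ← pow_succ']⟩
  obtain ⟨h, hh, rfl⟩ := this
  exact ⟨h, hh, rfl⟩

variable [FiniteDimensional k A] {E : A} {R I : Submodule k A}

/-- The hypotheses: a local corner with a symmetrizing form. -/
structure SymLocal (τ : A →ₗ[k] k) (E : A) (R I : Submodule k A) : Prop where
  memE : E ∈ R
  left : ∀ r ∈ R, E * r = r
  right : ∀ r ∈ R, r * E = r
  mul : ∀ r ∈ R, ∀ s ∈ R, r * s ∈ R
  le : I ≤ R
  idealI : ∀ r ∈ R, ∀ y ∈ I, r * y ∈ I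
  split : ∀ r ∈ R, ∃ c : k, r - c • E ∈ I
  nil : ∃ N, I ^ N = ⊥
  symm : ∀ a b, τ (a * b) = τ (b * a)
  nondeg : ∀ r ∈ R, r ≠ 0 → ∃ s ∈ R, τ (r * s) ≠ 0

variable {τ : A →ₗ[k] k}

/-- Commutators of the corner. -/
def comSub (R : Submodule k A) : Submodule k A :=
  Submodule.span k {z : A | ∃ r ∈ R, ∃ s ∈ R, r * s - s * r = z}

theorem comSub_comm {r s : A} (hr : r ∈ R) (hs : s ∈ R) : r * s - s * r ∈ comSub R :=
  Submodule.subset_span ⟨_, hr, _, hs, rfl⟩

namespace SymLocal

variable (h : SymLocal τ E R I)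
include h

theorem tau_comSub {z : A} (hz : z ∈ comSub R) : τ z = 0 := by
  induction hz using Submodule.span_induction with
  | mem z hz =>
    obtain ⟨r, -, s, -, rfl⟩ := hz
    rw [map_sub, h.symm, sub_self]
  | zero => exact map_zero τ
  | add x y _ _ hx hy => rw [map_add, hx, hy, add_zero]
  | smul c x _ hx => rw [map_smul, hx, smul_zero]

/-- An element annihilated by the radical and killed by the form vanishes. -/
theorem eq_zero {d : A} (hd : d ∈ R) (hann : ∀ y ∈ I, y * d = 0) (hτ : τ d = 0) : d = 0 := by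
  by_contra hne
  obtain ⟨s, hs, hne'⟩ := h.nondeg d hd hne
  obtain ⟨c, hc⟩ := h.split s hs
  refine hne' ?_
  rw [h.symm, show s * d = c • d + (s - c • E) * d by
    rw [sub_mul, smul_mul_assoc, h.left d hd]; abel, hann _ hc, add_zero, map_smul, hτ, smul_zero]

theorem eq_zero_of_comSub {d : A} (hd : d ∈ R) (hC : d ∈ comSub R) (hann : ∀ y ∈ I, y * d = 0) :
    d = 0 :=
  h.eq_zero hd hann (h.tau_comSub hC)

theorem comSub_le_sq : comSub R ≤ I * I := by
  refine Submodule.span_le.2 ?_
  rintro _ ⟨r, hr, s, hs, rfl⟩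
  obtain ⟨c, hc⟩ := h.split r hr
  obtain ⟨d, hd⟩ := h.split s hs
  have e : r * s - s * r = (r - c • E) * (s - d • E) - (s - d • E) * (r - c • E) := by
    simp only [sub_mul, mul_sub, smul_mul_assoc, mul_smul_comm, h.left r hr, h.right r hr,
      h.left s hs, h.right s hs, h.left E h.memE, smul_sub, smul_smul, mul_comm c d]
    abel
  rw [SetLike.mem_coe, e]
  exact sub_mem (Submodule.mul_mem_mul hc hd) (Submodule.mul_mem_mul hd hc)

theorem sq_le : I * I ≤ I :=
  Submodule.mul_le.2 fun a ha b hb => h.idealI a (h.le ha) b hb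

theorem pow_succ_le (n : ℕ) : I ^ (n + 1) ≤ I := by
  induction n with
  | zero => rw [zero_add, pow_one]
  | succ n ih =>
    rw [pow_succ']
    exact (Submodule.mul_le.2 fun a ha b hb => Submodule.mul_mem_mul ha (ih hb)).trans h.sq_le

theorem le_succ_eq_bot {n : ℕ} (hle : I ^ (n + 1) ≤ I ^ (n + 2)) : I ^ (n + 1) = ⊥ := by
  have hstep : ∀ j, I ^ (n + 1) ≤ I ^ (n + 1 + j) := fun j => by
    induction j with
    | zero => rw [Nat.add_zero]
    | succ j ih =>
      refine hle.trans ?_
      rw [pow_succ' I (n + 1), show n + 1 + (j + 1) = n + 1 + j + 1 from rfl, pow_succ' I (n + 1 + j)]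
      exact Submodule.mul_le.2 fun a ha b hb => Submodule.mul_mem_mul ha (ih hb)
  obtain ⟨N, hN⟩ := h.nil
  refine le_bot_iff.1 ((hstep N).trans ?_)
  rw [pow_add, hN, Submodule.mul_bot]

theorem comSub_eq_bot_of_cube (h3 : I ^ 3 = ⊥) : comSub R = ⊥ := by
  refine (Submodule.eq_bot_iff _).2 fun d hd => ?_
  have hd2 := h.comSub_le_sq hd
  refine h.eq_zero_of_comSub (h.le (h.sq_le hd2)) hd fun y hy => ?_
  have : y * d ∈ I ^ 3 := by
    rw [pow_succ', pow_two]
    exact Submodule.mul_mem_mul hy hd2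
  rwa [h3, Submodule.mem_bot] at this

/-- If `I²` is one-dimensional modulo `I³`, the corner is commutative. -/
theorem comSub_eq_bot_of_cyclic {w : A} (hw : I ^ 2 ≤ Submodule.span k {w} ⊔ I ^ 3) :
    comSub R = ⊥ := by
  by_cases h2 : I ^ 2 ≤ I ^ 3
  · refine h.comSub_eq_bot_of_cube ?_
    have e := h.le_succ_eq_bot (n := 1) h2
    rw [pow_succ', show (I ^ 2 : Submodule k A) = ⊥ from e, Submodule.mul_bot]
  -- a product spans `I²` modulo `I³`
  obtain ⟨u, hu, v, hv, huv⟩ : ∃ u ∈ I, ∃ v ∈ I, u * v ∉ I ^ 3 := by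
    by_contra hno
    push Not at hno
    exact h2 (by rw [pow_two]; exact Submodule.mul_le.2 hno)
  have huv2 : u * v ∈ I ^ 2 := by rw [pow_two]; exact Submodule.mul_mem_mul hu hv
  have hspan : I ^ 2 ≤ Submodule.span k {u * v} ⊔ I ^ 3 := by
    obtain ⟨y, hy, z, hz, hyz⟩ := Submodule.mem_sup.1 (hw huv2)
    obtain ⟨c, rfl⟩ := Submodule.mem_span_singleton.1 hy
    have hc : c ≠ 0 := fun e => huv (by rw [← hyz, e, zero_smul, zero_add]; exact hz)
    refine hw.trans (sup_le ((Submodule.span_singleton_le_iff_mem _ _).2 ?_) le_sup_right)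
    rw [show w = c⁻¹ • (u * v) + -(c⁻¹ • z) by
      rw [← hyz, smul_add, smul_smul, inv_mul_cancel₀ hc, one_smul, add_neg_cancel_right]]
    exact Submodule.add_mem_sup (Submodule.smul_mem _ _ (Submodule.mem_span_singleton_self _))
      (neg_mem (Submodule.smul_mem _ _ hz))
  have hlayer : ∀ (a b : A), a ∈ I → b ∈ I → I ^ 2 ≤ Submodule.span k {a * b} ⊔ I ^ 3 →
      ∀ n, I ^ (n + 2) ≤ Submodule.span k {a * b ^ (n + 1)} ⊔ I ^ (n + 3) := by
    intro a b ha hb hab n
    induction n with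
    | zero => simpa using hab
    | succ n ih =>
      rw [show n + 1 + 2 = n + 2 + 1 from rfl, pow_succ']
      refine Submodule.mul_le.2 fun y hy z hz => ?_
      obtain ⟨z₁, hz₁, z₂, hz₂, rfl⟩ := Submodule.mem_sup.1 (ih hz)
      obtain ⟨c, rfl⟩ := Submodule.mem_span_singleton.1 hz₁
      rw [mul_add]
      refine add_mem ?_ (Submodule.mem_sup_right ?_)
      · rw [mul_smul_comm]
        refine Submodule.smul_mem _ c ?_
        have hya : y * a ∈ I ^ 2 := by rw [pow_two]; exact Submodule.mul_mem_mul hy ha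
        obtain ⟨p₁, hp₁, p₂, hp₂, hp⟩ := Submodule.mem_sup.1 (hab hya)
        obtain ⟨c', rfl⟩ := Submodule.mem_span_singleton.1 hp₁
        rw [← mul_assoc, ← hp, add_mul, smul_mul_assoc, mul_assoc, ← pow_succ']
        refine Submodule.add_mem_sup (Submodule.smul_mem _ _ (Submodule.mem_span_singleton_self _)) ?_
        rw [show n + 1 + 3 = 3 + (n + 1) by omega, pow_add]
        exact Submodule.mul_mem_mul hp₂ (Submodule.pow_mem_pow I hb _)
      · rw [show n + 1 + 3 = n + 3 + 1 from rfl, pow_succ']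
        exact Submodule.mul_mem_mul hy hz₂
  by_cases hvv : v * v ∈ I ^ 3
  · refine h.comSub_eq_bot_of_cube (h.le_succ_eq_bot (n := 2) ?_)
    refine (hlayer u v hu hv hspan 1).trans (sup_le ((Submodule.span_singleton_le_iff_mem _ _).2 ?_) le_rfl)
    rw [pow_two v]
    show u * (v * v) ∈ I ^ (3 + 1)
    rw [pow_succ' I 3]
    exact Submodule.mul_mem_mul hu hvv
  have hvv2 : v * v ∈ I ^ 2 := by rw [pow_two]; exact Submodule.mul_mem_mul hv hv
  have hspan' : I ^ 2 ≤ Submodule.span k {v * v} ⊔ I ^ 3 := by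
    obtain ⟨y, hy, z, hz, hyz⟩ := Submodule.mem_sup.1 (hspan hvv2)
    obtain ⟨c, rfl⟩ := Submodule.mem_span_singleton.1 hy
    have hc : c ≠ 0 := fun e => hvv (by rw [← hyz, e, zero_smul, zero_add]; exact hz)
    refine hspan.trans (sup_le ((Submodule.span_singleton_le_iff_mem _ _).2 ?_) le_sup_right)
    rw [show u * v = c⁻¹ • (v * v) + -(c⁻¹ • z) by
      rw [← hyz, smul_add, smul_smul, inv_mul_cancel₀ hc, one_smul, add_neg_cancel_right]]
    exact Submodule.add_mem_sup (Submodule.smul_mem _ _ (Submodule.mem_span_singleton_self _))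
      (neg_mem (Submodule.smul_mem _ _ hz))
  have hall : ∀ j, I ^ 2 ≤ powSpan k v 2 ⊔ I ^ (2 + j) := fun j => by
    induction j with
    | zero => exact le_sup_right
    | succ j ih =>
      refine ih.trans (sup_le le_sup_left ?_)
      have e := hlayer v v hv hv hspan' j
      rw [show 2 + (j + 1) = j + 3 by omega, show 2 + j = j + 2 by omega]
      refine e.trans (sup_le ?_ le_sup_right)
      refine ((Submodule.span_singleton_le_iff_mem _ _).2 ?_).trans le_sup_left
      exact Submodule.subset_span ⟨j, by rw [← pow_succ']⟩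
  have hP : I ^ 2 ≤ powSpan k v 2 := by
    obtain ⟨N, hN⟩ := h.nil
    refine (hall N).trans (sup_le le_rfl ?_)
    rw [pow_add, hN, Submodule.mul_bot]
    exact bot_le
  have memP : ∀ {a b : A}, a ∈ I → b ∈ I → a * b ∈ powSpan k v 2 := fun ha hb =>
    hP (by rw [pow_two]; exact Submodule.mul_mem_mul ha hb)
  have kill : ∀ d ∈ comSub R, v * d = 0 → d = 0 := by
    intro d hd hvd
    have hd2 : d ∈ I ^ 2 := by rw [pow_two]; exact h.comSub_le_sq hd
    refine h.eq_zero_of_comSub (h.le (h.sq_le (by rw [← pow_two]; exact hd2))) hd fun y hy => ?_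
    obtain ⟨e, -, he⟩ := exists_eq_mul (hP hd2)
    obtain ⟨g, hg, hgy⟩ := exists_eq_mul (memP hy hv)
    have hgd : g * d = 0 := by
      clear hgy
      induction hg using Submodule.span_induction with
      | mem x hx => obtain ⟨j, rfl⟩ := hx; show v ^ (j + 1) * d = 0; rw [pow_succ, mul_assoc, hvd, mul_zero]
      | zero => exact zero_mul d
      | add a b _ _ ha hb => rw [add_mul, ha, hb, add_zero]
      | smul c a _ ha => rw [smul_mul_assoc, ha, smul_zero]
    rw [he, ← mul_assoc, hgy, (commute_powSpan hg).eq, mul_assoc, ← he, hgd]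
  have hcen : ∀ a ∈ I, Commute v a := fun a ha => by
    refine sub_eq_zero.1 (kill _ (comSub_comm (h.le hv) (h.le ha)) ?_)
    rw [mul_sub, (commute_powSpan (memP hv ha)).eq, mul_assoc, sub_self]
  refine (Submodule.eq_bot_iff _).2 fun d hd => ?_
  induction hd using Submodule.span_induction with
  | mem z hz =>
    obtain ⟨r, hr, s, hs, rfl⟩ := hz
    obtain ⟨c, hc⟩ := h.split r hr
    obtain ⟨c', hc'⟩ := h.split s hs
    set a := r - c • E with hadef
    set b := s - c' • E with hbdef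
    have hb' : ∀ x ∈ powSpan k v 2, Commute b x := fun x hx => by
      induction hx using Submodule.span_induction with
      | mem x hx => obtain ⟨j, rfl⟩ := hx; exact ((hcen b hc').symm).pow_right _
      | zero => exact Commute.zero_right b
      | add x y _ _ hx hy => exact hx.add_right hy
      | smul r x _ hx => exact hx.smul_right r
    have hab : a * b - b * a = 0 := by
      refine kill _ (comSub_comm (h.le hc) (h.le hc')) ?_
      rw [mul_sub, ← mul_assoc, ← (hb' _ (memP hv hc)).eq, (hcen a hc).eq,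
        ← mul_assoc b, (commute_powSpan (memP hc' hc)).eq, sub_self]
    have e : r * s - s * r = a * b - b * a := by
      simp only [hadef, hbdef, sub_mul, mul_sub, smul_mul_assoc, mul_smul_comm, h.left r hr,
        h.right r hr, h.left s hs, h.right s hs, h.left E h.memE, smul_sub, smul_smul, mul_comm c c']
      abel
    rw [e, hab]
  | zero => rfl
  | add x y _ _ hx hy => rw [hx, hy, add_zero]
  | smul c x _ hx => rw [hx, smul_zero]

/-- A corner whose radical has one generator is commutative. -/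
theorem comSub_eq_bot_of_gen {x : A} (hxI : x ∈ I) (hx : I ≤ Submodule.span k {x} ⊔ I ^ 2) :
    comSub R = ⊥ := by
  refine h.comSub_eq_bot_of_cyclic (w := x * x) ?_
  rw [pow_two, show I ^ 3 = I * (I * I) by rw [pow_succ', pow_two]]
  refine Submodule.mul_le.2 fun a ha b hb => ?_
  obtain ⟨a₁, ha₁, a₂, ha₂, rfl⟩ := Submodule.mem_sup.1 (hx ha)
  obtain ⟨b₁, hb₁, b₂, hb₂, rfl⟩ := Submodule.mem_sup.1 (hx hb)
  obtain ⟨c, rfl⟩ := Submodule.mem_span_singleton.1 ha₁
  obtain ⟨d, rfl⟩ := Submodule.mem_span_singleton.1 hb₁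
  rw [add_mul, mul_add, add_assoc, smul_mul_assoc, mul_smul_comm, smul_smul]
  rw [pow_two] at ha₂ hb₂
  refine Submodule.add_mem_sup (Submodule.smul_mem _ _ (Submodule.mem_span_singleton_self _))
    (add_mem (Submodule.mul_mem_mul (Submodule.smul_mem _ _ hxI) hb₂) ?_)
  rw [← mul_assoc]
  exact Submodule.mul_mem_mul ha₂ hb

/-- A symmetric local corner with cocentre of dimension at most four is commutative. -/
theorem comSub_eq_bot {K : ℕ} (hK : K ≤ 4) (hI : Module.finrank k I + 1 = Module.finrank k R)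
    (hR : Module.finrank k R = Module.finrank k (comSub R) + K) : comSub R = ⊥ := by
  by_contra hne
  have hne3 : I ^ 3 ≠ ⊥ := fun e => hne (h.comSub_eq_bot_of_cube e)
  have hex : ∃ m, I ^ (m + 4) = ⊥ := by
    obtain ⟨N, hN⟩ := h.nil
    exact ⟨N, by rw [pow_add, hN, Submodule.bot_mul]⟩
  obtain ⟨m, hm, hm'⟩ : ∃ m, I ^ (m + 3) ≠ ⊥ ∧ I ^ (m + 4) = ⊥ := by
    rcases hn : Nat.find hex with _ | n
    · exact ⟨0, hne3, hn ▸ Nat.find_spec hex⟩
    · exact ⟨n + 1, fun e => Nat.find_min hex (m := n) (by omega) e, hn ▸ Nat.find_spec hex⟩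
  obtain ⟨s, hs, hs0⟩ := Submodule.exists_mem_ne_zero_of_ne_bot hm
  have hle : ∀ j, I ^ (j + 3) ≤ I ^ 3 := fun j => by
    induction j with
    | zero => rfl
    | succ j ih =>
      rw [show j + 1 + 3 = j + 3 + 1 from rfl, pow_succ' I (j + 3)]
      refine (Submodule.mul_le.2 fun a ha b hb => Submodule.mul_mem_mul ha (ih hb) : I * I ^ (j + 3) ≤ I * I ^ 3).trans ?_
      rw [show I ^ 3 = I * (I * I) by rw [pow_succ', pow_two]]
      refine Submodule.mul_le.2 fun a ha z hz => Submodule.mul_mem_mul ha ?_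
      exact (Submodule.mul_le.2 fun b hb z' hz' => Submodule.mul_mem_mul hb (h.sq_le hz') :
        I * (I * I) ≤ I * I) hz
  have hs3 : s ∈ I ^ 3 := hle m hs
  have hsI : s ∈ I := h.pow_succ_le (m + 2) hs
  have hsC : s ∉ comSub R := fun hc => hs0 (h.eq_zero_of_comSub (h.le hsI) hc fun y hy => by
    have : y * s ∈ I ^ (m + 4) := by
      rw [show m + 4 = m + 3 + 1 from rfl, pow_succ']
      exact Submodule.mul_mem_mul hy hs
    rwa [hm', Submodule.mem_bot] at this)
  have hCle : comSub R ⊔ Submodule.span k {s} ≤ I ^ 2 := by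
    refine sup_le (by rw [pow_two]; exact h.comSub_le_sq) ((Submodule.span_singleton_le_iff_mem _ _).2 ?_)
    have e3 : I ^ 3 ≤ I ^ 2 := by
      rw [pow_succ', pow_two]
      exact Submodule.mul_le.2 fun b hb z' hz' => Submodule.mul_mem_mul hb (h.sq_le hz')
    exact e3 hs3
  have hdim : Module.finrank k (comSub R ⊔ Submodule.span k {s} : Submodule k A)
      = Module.finrank k (comSub R) + 1 := by
    have h1 := Submodule.finrank_sup_add_finrank_inf_eq (comSub R) (Submodule.span k {s})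
    rw [disjoint_iff.1 (Submodule.disjoint_span_singleton_of_notMem hsC), finrank_bot, add_zero,
      finrank_span_singleton hs0] at h1
    exact h1
  have hge := Submodule.finrank_mono (R := k) hCle
  have hI2 : I ^ 2 ≤ I := h.pow_succ_le 1
  -- few generators
  by_cases hcase : Module.finrank k I ≤ Module.finrank k (I ^ 2 : Submodule k A) + 1
  · obtain ⟨x, hxI, hx⟩ : ∃ x ∈ I, I ≤ Submodule.span k {x} ⊔ I ^ 2 := by
      by_cases hsub : I ≤ I ^ 2
      · exact ⟨0, zero_mem _, hsub.trans le_sup_right⟩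
      obtain ⟨x, hxI, hx2⟩ := SetLike.not_le_iff_exists.1 hsub
      refine ⟨x, hxI, ?_⟩
      have hlt : I ^ 2 < Submodule.span k {x} ⊔ I ^ 2 := lt_of_le_of_ne le_sup_right fun e =>
        hx2 (e ▸ Submodule.mem_sup_left (Submodule.mem_span_singleton_self x))
      refine (Submodule.eq_of_le_of_finrank_le (sup_le ((Submodule.span_singleton_le_iff_mem _ _).2 hxI) hI2) ?_).ge
      have := Submodule.finrank_lt_finrank_of_lt hlt
      omega
    exact hne (h.comSub_eq_bot_of_gen hxI hx)
  have h2eq : comSub R ⊔ Submodule.span k {s} = I ^ 2 :=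
    Submodule.eq_of_le_of_finrank_le hCle (by omega)
  obtain ⟨x, hxI, hx2⟩ := SetLike.not_le_iff_exists.1 (fun hsub : I ≤ I ^ 2 => hcase (by
    have := Submodule.finrank_mono (R := k) hsub
    omega))
  have hxd : Module.finrank k (Submodule.span k {x} ⊔ I ^ 2 : Submodule k A)
      ≤ Module.finrank k (I ^ 2 : Submodule k A) + 1 := by
    refine (Submodule.finrank_add_le_finrank_add_finrank _ _).trans ?_
    have : Module.finrank k (Submodule.span k {x}) ≤ 1 := by
      refine (finrank_span_le_card ({x} : Set A)).trans ?_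
      simp
    omega
  obtain ⟨y, hyI, hy2⟩ := SetLike.not_le_iff_exists.1
    (fun hsub : I ≤ Submodule.span k {x} ⊔ I ^ 2 => hcase ((Submodule.finrank_mono (R := k) hsub).trans hxd))
  have hIxy : I ≤ Submodule.span k {y} ⊔ (Submodule.span k {x} ⊔ I ^ 2) := by
    refine (Submodule.eq_of_le_of_finrank_le (sup_le ((Submodule.span_singleton_le_iff_mem _ _).2 hyI)
      (sup_le ((Submodule.span_singleton_le_iff_mem _ _).2 hxI) hI2)) ?_).ge
    have l1 : I ^ 2 < Submodule.span k {x} ⊔ I ^ 2 := lt_of_le_of_ne le_sup_right fun e =>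
      hx2 (e ▸ Submodule.mem_sup_left (Submodule.mem_span_singleton_self x))
    have l2 : Submodule.span k {x} ⊔ I ^ 2 < Submodule.span k {y} ⊔ (Submodule.span k {x} ⊔ I ^ 2) :=
      lt_of_le_of_ne le_sup_right fun e =>
      hy2 (e ▸ Submodule.mem_sup_left (Submodule.mem_span_singleton_self y))
    have := Submodule.finrank_lt_finrank_of_lt l1
    have := Submodule.finrank_lt_finrank_of_lt l2
    omega
  refine hne (h.comSub_eq_bot_of_cyclic (w := x * y - y * x) ?_)
  rw [← h2eq]
  refine sup_le ?_ (((Submodule.span_singleton_le_iff_mem _ _).2 hs3).trans le_sup_right)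
  refine Submodule.span_le.2 ?_
  rintro _ ⟨r, hr, t, ht, rfl⟩
  obtain ⟨c, hc⟩ := h.split r hr
  obtain ⟨c', hc'⟩ := h.split t ht
  have e : r * t - t * r = (r - c • E) * (t - c' • E) - (t - c' • E) * (r - c • E) := by
    simp only [sub_mul, mul_sub, smul_mul_assoc, mul_smul_comm, h.left r hr, h.right r hr,
      h.left t ht, h.right t ht, h.left E h.memE, smul_sub, smul_smul, mul_comm c c']
    abel
  rw [SetLike.mem_coe, e]
  obtain ⟨a₁, ha₁, a', ha', ea⟩ := Submodule.mem_sup.1 (hIxy hc)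
  obtain ⟨a₂, ha₂, a₃, ha₃, ea'⟩ := Submodule.mem_sup.1 ha'
  obtain ⟨b₁, hb₁, b', hb', eb⟩ := Submodule.mem_sup.1 (hIxy hc')
  obtain ⟨b₂, hb₂, b₃, hb₃, eb'⟩ := Submodule.mem_sup.1 hb'
  obtain ⟨p₁, rfl⟩ := Submodule.mem_span_singleton.1 ha₁
  obtain ⟨p₂, rfl⟩ := Submodule.mem_span_singleton.1 ha₂
  obtain ⟨q₁, rfl⟩ := Submodule.mem_span_singleton.1 hb₁
  obtain ⟨q₂, rfl⟩ := Submodule.mem_span_singleton.1 hb₂
  rw [← ea, ← ea', ← eb, ← eb']
  have h3l : ∀ {a z : A}, a ∈ I → z ∈ I ^ 2 → a * z ∈ I ^ 3 := fun ha hz => by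
    rw [pow_succ' I 2]; exact Submodule.mul_mem_mul ha hz
  have h3r : ∀ {a z : A}, a ∈ I → z ∈ I ^ 2 → z * a ∈ I ^ 3 := fun ha hz => by
    rw [pow_succ I 2]; exact Submodule.mul_mem_mul hz ha
  rw [show (p₁ • y + (p₂ • x + a₃)) * (q₁ • y + (q₂ • x + b₃))
      - (q₁ • y + (q₂ • x + b₃)) * (p₁ • y + (p₂ • x + a₃))
      = (p₂ * q₁ - p₁ * q₂) • (x * y - y * x)
        + ((p₁ • y + p₂ • x) * b₃ - b₃ * (p₁ • y + p₂ • x)
          + (a₃ * (q₁ • y + q₂ • x) - (q₁ • y + q₂ • x) * a₃) + (a₃ * b₃ - b₃ * a₃)) by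
    simp only [mul_add, add_mul, smul_mul_assoc, mul_smul_comm, smul_sub, sub_smul, smul_smul,
      mul_comm q₁ p₁, mul_comm q₂ p₁, mul_comm q₁ p₂, mul_comm q₂ p₂, smul_add]
    abel]
  have hA : p₁ • y + p₂ • x ∈ I := add_mem (Submodule.smul_mem _ _ hyI) (Submodule.smul_mem _ _ hxI)
  have hB : q₁ • y + q₂ • x ∈ I := add_mem (Submodule.smul_mem _ _ hyI) (Submodule.smul_mem _ _ hxI)
  exact Submodule.add_mem_sup (Submodule.smul_mem _ _ (Submodule.mem_span_singleton_self _))
    (add_mem (add_mem (sub_mem (h3l hA hb₃) (h3r hA hb₃)) (sub_mem (h3r hB ha₃) (h3l hB ha₃)))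
      (sub_mem (h3l (hI2 ha₃) hb₃) (h3r (hI2 ha₃) hb₃)))

end SymLocal

end CfsgLib.Blocks.SymLocalCorner
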