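import Cfsg.Agent.Lib.Blocks.RealPartner
import Cfsg.Agent.Lib.Blocks.RealBlocks

/-!
# Principal blocks with three irreducible characters

Row `1` of the regular inner product matrix, the indicator relation and weak block orthogonality
force a Sylow subgroup of order three.
-/

set_option autoImplicit false

namespace CfsgLib.Blocks.ThreeChars

open Cfsg CfsgLib.Blocks CfsgLib.Blocks.RealPartner
open scoped Classical ComplexConjugate

variable {G : Type*} [Group G] [Fintype G] {p : ℕ} {M : Ideal AlgInt}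

theorem degVal_trivChar : degVal p (trivChar G) = 0 := by
  have h1 : charDegree ((trivChar G : IrrCharacter G) : G → ℂ) = 1 := by
    show ⌊((1 : ℂ)).re⌋₊ = 1
    simp
  simp [degVal, h1]

theorem minDeg_trivChar (hM : IsPModular p M) :
    degVal p (trivChar G) = minDegVal p (principalBlock M G) := by
  have := minDegVal_le (p := p) (trivChar_mem_principalBlock (G := G) hM)
  rw [degVal_trivChar] at this ⊢
  omega

/-- The first row of `regInner` expands the indicator of the regular elements. -/
theorem sum_row (hM : IsPModular p M) (y : G) :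
    ∑ χ ∈ (principalBlock M G).toFinset, (regInt p (trivChar G) χ : ℂ) * (χ : G → ℂ) y
      = if IsPRegular p y then (pPartCard p G : ℂ) else 0 := by
  have h := sum_regInner_mul hM (IsPBlock.isLocalOn hM isPBlock_principalBlock) (trivChar G) y
  rw [blockInd_of_mem (trivChar_mem_principalBlock hM), mul_one, trivChar_apply, mul_one] at h
  rw [← h, ← Finset.sum_subset (Finset.subset_univ (principalBlock M G).toFinset) fun χ _ hχ => by
    rw [blockInd_of_notMem (by simpa using hχ), zero_mul, zero_mul]]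
  refine Finset.sum_congr rfl fun χ hχ => ?_
  rw [blockInd_of_mem (Set.mem_toFinset.1 hχ), one_mul, cast_regInt hM.1]

/-- Weak orthogonality with the identity. -/
theorem sum_degree (hM : IsPModular p M) {y : G} (hy : ¬ IsPRegular p y) :
    ∑ χ ∈ (principalBlock M G).toFinset, (charDegree (χ : G → ℂ) : ℂ) * (χ : G → ℂ) y = 0 := by
  have h := IsPBlock.sum_mul_eq_zero hM (isPBlock_principalBlock (G := G) (M := M)) (g := y) (h := (1 : G))
    (not_isPRegular.1 hy) (by simp [hM.1.ne_one])
  rw [← h, ← Finset.sum_subset (Finset.subset_univ (principalBlock M G).toFinset) fun χ _ hχ => by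
    rw [blockInd_of_notMem (by simpa using hχ), zero_mul]]
  refine Finset.sum_congr rfl fun χ hχ => ?_
  rw [blockInd_of_mem (Set.mem_toFinset.1 hχ), irr_one_eq]
  ring

/-- The regular inner product with `1` is minus the singular one. -/
theorem row_eq_singular (hp : p.Prime) (χ : IrrCharacter G) :
    (regInt p (trivChar G) χ : ℂ) = (if χ = trivChar G then (pPartCard p G : ℂ) else 0)
      - (pPartCard p G : ℂ) * (Nat.card G : ℂ)⁻¹ * ∑ x : G with ¬ IsPRegular p x, (χ : G → ℂ) x⁻¹ := by
  have h := sum_mul_inv (trivChar G) χ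
  rw [← Finset.sum_filter_add_sum_filter_not Finset.univ (fun x : G => IsPRegular p x)] at h
  simp only [trivChar_apply, one_mul, eq_comm (a := trivChar G)] at h
  rw [cast_regInt hp, regInner]
  simp only [trivChar_apply, one_mul]
  rw [eq_sub_iff_add_eq, ← mul_add, h]
  split_ifs
  · rw [mul_assoc, inv_mul_cancel₀ CfsgLib.Char.card_ne_zero, mul_one]
  · rw [mul_zero]

theorem row_exact (hM : IsPModular p M) {χ : IrrCharacter G} (hχ : χ ∈ principalBlock M G) :
    (¬ (p : ℤ) ∣ regInt p (trivChar G) χ ↔ ¬ p ∣ charDegree (χ : G → ℂ)) := by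
  obtain ⟨h1, h2⟩ := regInt_exact_of_min hM isPBlock_principalBlock (trivChar_mem_principalBlock hM)
    (minDeg_trivChar hM) hχ
  rw [hM.1.dvd_iff_one_le_factorization (charDegree_pos χ).ne', ← degVal, not_le, Nat.lt_one_iff]
  refine ⟨fun h => ?_, fun h => by rwa [h, zero_add, pow_one] at h2⟩
  by_contra hne
  exact h ((dvd_pow_self _ hne).trans h1)

theorem eq_one_of_natCast_mul {c : ℕ} (hc : 0 < c) {z : ℂ} (hz : IsIntegral ℤ z) (h : 1 + (c : ℂ) * z = 0) :
    c = 1 := by
  have hc' : (c : ℂ) ≠ 0 := Nat.cast_ne_zero.2 hc.ne'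
  have e : ((1 : ℕ) : ℂ) / (c : ℂ) = -z := by
    rw [div_eq_iff hc', Nat.cast_one]
    linear_combination h
  exact Nat.dvd_one.1 (CfsgLib.Char.dvd_of_isIntegral_div hc.ne' (e ▸ hz.neg))

/-- `q = 3 S` with `S` prime to `p` forces `q = 3`. -/
theorem eq_three {k : ℕ} (hp : p.Prime) {S : ℤ} (h : ((p ^ k : ℕ) : ℤ) = 3 * S) (hS : ¬ (p : ℤ) ∣ S) :
    p ^ k = 3 := by
  have hS0 : 0 ≤ S := by
    have : (0 : ℤ) ≤ ((p ^ k : ℕ) : ℤ) := Int.natCast_nonneg _
    omega
  obtain ⟨s, rfl⟩ := Int.eq_ofNat_of_zero_le hS0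
  have h' : p ^ k = 3 * s := by exact_mod_cast h
  obtain ⟨j, -, hj⟩ := (Nat.dvd_prime_pow hp).1 (h' ▸ dvd_mul_left s 3)
  rcases Nat.eq_zero_or_pos j with rfl | hpos
  · rw [h', hj, pow_zero, mul_one]
  · exact absurd (Int.natCast_dvd_natCast.2 (hj ▸ dvd_pow_self p hpos.ne')) hS

theorem card_sylow_eq_three [Fact p.Prime] (hM : IsPModular p M)
    (hk : (principalBlock M G).toFinset.card = 3) : pPartCard p G = 3 := by
  have hp : p.Prime := hM.1
  have htB : trivChar G ∈ principalBlock M G := trivChar_mem_principalBlock hM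
  obtain ⟨α, β, hαβ, hrest⟩ := Finset.card_eq_two.1
    (show ((principalBlock M G).toFinset.erase (trivChar G)).card = 2 by
      rw [Finset.card_erase_of_mem (Set.mem_toFinset.2 htB), hk])
  have hαm : α ≠ trivChar G ∧ α ∈ principalBlock M G :=
    (Finset.mem_erase.1 (hrest.symm ▸ Finset.mem_insert_self α _)).imp id Set.mem_toFinset.1
  have hβm : β ≠ trivChar G ∧ β ∈ principalBlock M G :=
    (Finset.mem_erase.1 (hrest.symm ▸ by simp : β ∈ (principalBlock M G).toFinset.erase (trivChar G))).imp id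
      Set.mem_toFinset.1
  have hmem : ∀ χ ∈ principalBlock M G, χ = trivChar G ∨ χ = α ∨ χ = β := fun χ hχ => by
    by_cases h : χ = trivChar G
    · exact Or.inl h
    · have : χ ∈ ({α, β} : Finset (IrrCharacter G)) :=
        hrest ▸ Finset.mem_erase.2 ⟨h, Set.mem_toFinset.2 hχ⟩
      simpa [h] using this
  have hsum : ∀ F : IrrCharacter G → ℂ,
      ∑ χ ∈ (principalBlock M G).toFinset, F χ = F (trivChar G) + (F α + F β) := fun F => by
    rw [← Finset.add_sum_erase _ _ (Set.mem_toFinset.2 htB), hrest, Finset.sum_pair hαβ]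
  set q := pPartCard p G with hq
  obtain ⟨k, hqk⟩ : ∃ k, q = p ^ k := ⟨_, rfl⟩
  set n := regInt p (trivChar G) (trivChar G) with hn
  set R := regInt p (trivChar G) α with hR
  set R' := regInt p (trivChar G) β with hR'
  set c := charDegree (α : G → ℂ) with hc
  set e := charDegree (β : G → ℂ) with he
  have hR0 : R ≠ 0 := regInt_ne_zero_of_min hM isPBlock_principalBlock htB (minDeg_trivChar hM) hαm.2
  have hR'0 : R' ≠ 0 := regInt_ne_zero_of_min hM isPBlock_principalBlock htB (minDeg_trivChar hM) hβm.2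
  have hdeg1 : charDegree ((trivChar G : IrrCharacter G) : G → ℂ) = 1 := by
    show ⌊((1 : ℂ)).re⌋₊ = 1
    simp
  have hnp : ¬ (p : ℤ) ∣ n := (row_exact hM htB).2 (by rw [hdeg1]; exact hp.not_dvd_one)
  have hone : (n : ℂ) + ((R : ℂ) * c + (R' : ℂ) * e) = (q : ℂ) := by
    have h := sum_row (p := p) hM (1 : G)
    rw [if_pos (by simp [IsPRegular, hp.ne_one]), hsum, trivChar_apply, mul_one, irr_one_eq, irr_one_eq] at h
    exact h
  have hone' : n + (R * c + R' * e) = (q : ℤ) := by exact_mod_cast hone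
  have hsq : n ^ 2 + (R ^ 2 + R' ^ 2) = (q : ℤ) * n := by
    have h := sum_regInt_sq hM (isPBlock_principalBlock (G := G) (M := M)) htB
    rw [← Finset.add_sum_erase _ _ (Set.mem_toFinset.2 htB), hrest, Finset.sum_pair hαβ] at h
    exact h
  by_cases hp2 : p = 2
  · -- parities
    exfalso
    subst hp2
    have h2 : ∀ χ ∈ principalBlock M G,
        regInt 2 (trivChar G) χ % 2 = (charDegree (χ : G → ℂ) : ℤ) % 2 := fun χ hχ => by
      have := row_exact hM hχ
      push_cast at this
      omega
    have a1 := h2 _ hαm.2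
    have a2 := h2 _ hβm.2
    rw [← hR, ← hc] at a1
    rw [← hR', ← he] at a2
    have hn2 : n % 2 = 1 := by push_cast at hnp; omega
    rcases Nat.eq_zero_or_pos k with rfl | hk0
    · rw [hqk, pow_zero, Nat.cast_one, one_mul] at hsq
      have : 0 < R ^ 2 := by positivity
      nlinarith [sq_nonneg R', sq_nonneg n]
    · have hqev : (q : ℤ) % 2 = 0 := by
        have : 2 ∣ q := hqk ▸ dvd_pow_self 2 hk0.ne'
        omega
      have hpar : (R + R') % 2 = 1 := by
        have e1 : (R * c) % 2 = R % 2 := by rw [Int.mul_emod, ← a1]; rcases Int.emod_two_eq R with h | h <;> rw [h] <;> rfl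
        have e2 : (R' * e) % 2 = R' % 2 := by rw [Int.mul_emod, ← a2]; rcases Int.emod_two_eq R' with h | h <;> rw [h] <;> rfl
        omega
      rcases Nat.eq_or_lt_of_le hk0 with hk1 | hk1
      · rw [hqk, ← hk1] at hsq
        norm_num at hsq
        have h1 : 0 < R ^ 2 := by positivity
        have h2 : 0 < R' ^ 2 := by positivity
        nlinarith [sq_nonneg (n - 1)]
      · have h4 : (q : ℤ) % 4 = 0 := by
          have : 2 ^ 2 ∣ q := hqk ▸ Nat.pow_dvd_pow 2 hk1
          omega
        obtain ⟨n', hn'⟩ : ∃ n', n = 2 * n' + 1 := ⟨n / 2, by omega⟩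
        obtain ⟨q', hq'⟩ : ∃ q', (q : ℤ) = 4 * q' := ⟨(q : ℤ) / 4, by omega⟩
        rcases Int.emod_two_eq R with hr | hr
        · obtain ⟨r, hr'⟩ : ∃ r, R = 2 * r := ⟨R / 2, by omega⟩
          obtain ⟨r₂, hr₂⟩ : ∃ r, R' = 2 * r + 1 := ⟨R' / 2, by omega⟩
          rw [hn', hq', hr', hr₂] at hsq
          ring_nf at hsq
          omega
        · obtain ⟨r, hr'⟩ : ∃ r, R = 2 * r + 1 := ⟨R / 2, by omega⟩
          obtain ⟨r₂, hr₂⟩ : ∃ r, R' = 2 * r := ⟨R' / 2, by omega⟩
          rw [hn', hq', hr', hr₂] at hsq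
          ring_nf at hsq
          omega
  -- odd prime
  obtain ⟨ε, hε, hRR⟩ : ∃ ε : ℤ, (ε = 1 ∨ ε = -1) ∧ R' = ε * R := by
    rcases hmem _ (irrConj_mem_principalBlock hM hαm.2) with h | h | h
    · exfalso
      apply hαm.1
      have := congrArg irrConj h
      rw [irrConj_irrConj] at this
      rw [this]
      exact Subtype.ext (funext fun g => by simp [irrConj_apply])
    · -- both real
      have hreal : ∀ χ : IrrCharacter G, irrConj χ = χ → ∀ g : G, ((χ : G → ℂ) g).im = 0 := fun χ hχ g =>
        Complex.conj_eq_iff_im.1 (by rw [← irrConj_apply, hχ])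
      have hβc : irrConj β = β := by
        rcases hmem _ (irrConj_mem_principalBlock hM hβm.2) with h' | h' | h'
        · exfalso
          apply hβm.1
          have := congrArg irrConj h'
          rw [irrConj_irrConj] at this
          rw [this]
          exact Subtype.ext (funext fun g => by simp [irrConj_apply])
        · exfalso
          have := congrArg irrConj h'
          rw [irrConj_irrConj, h] at this
          exact hαβ this.symm
        · exact h'
      have hν : ∀ χ : IrrCharacter G, (∀ g : G, ((χ : G → ℂ) g).im = 0) → indic χ = 1 ∨ indic χ = -1 :=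
        fun χ hr => (indic_cases χ).1.resolve_left fun h0 => by
          obtain ⟨s, hs⟩ := (indic_cases χ).2.1 h0
          exact hs (hr s)
      have hFS : indic α * (R : ℂ) + indic β * (R' : ℂ) = 0 := by
        have h0 := sum_indic_regInner (G := G) hp hp2
        rw [← Finset.sum_subset (Finset.subset_univ (principalBlock M G).toFinset) fun χ _ hχ => by
          rw [IsPBlock.regInner_eq_zero hM isPBlock_principalBlock htB (by simpa using hχ), mul_zero],
          hsum, indic_trivChar, one_mul, add_eq_left, ← cast_regInt hp, ← cast_regInt hp] at h0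
        exact h0
      rcases hν α (hreal α h) with e1 | e1 <;> rcases hν β (hreal β hβc) with e2 | e2 <;> rw [e1, e2] at hFS
      · exact ⟨-1, Or.inr rfl, by exact_mod_cast (by push_cast; linear_combination hFS : (R' : ℂ) = ((-1 * R : ℤ) : ℂ))⟩
      · exact ⟨1, Or.inl rfl, by exact_mod_cast (by push_cast; linear_combination -hFS : (R' : ℂ) = ((1 * R : ℤ) : ℂ))⟩
      · exact ⟨1, Or.inl rfl, by exact_mod_cast (by push_cast; linear_combination hFS : (R' : ℂ) = ((1 * R : ℤ) : ℂ))⟩
      · exact ⟨-1, Or.inr rfl, by exact_mod_cast (by push_cast; linear_combination -hFS : (R' : ℂ) = ((-1 * R : ℤ) : ℂ))⟩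
    · -- a conjugate pair
      refine ⟨1, Or.inl rfl, ?_⟩
      apply Int.cast_injective (α := ℂ)
      rw [one_mul, cast_regInt hp, ← h, ← map_intCast (starRingEnd ℂ) R, cast_regInt hp]
      simp only [regInner, map_mul, map_inv₀, map_natCast, map_sum, trivChar_apply, one_mul, irrConj_apply]
  -- a singular element
  obtain ⟨y, hy⟩ : ∃ y : G, ¬ IsPRegular p y := by
    by_contra hno
    push Not at hno
    apply hR0
    apply Int.cast_injective (α := ℂ)
    rw [row_eq_singular hp, if_neg hαm.1, Finset.filter_false_of_mem fun x _ => not_not.2 (hno x)]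
    simp
  have heq : ∀ g : G, ¬ IsPRegular p g → (n : ℂ) + (R : ℂ) * ((α : G → ℂ) g + (ε : ℂ) * (β : G → ℂ) g) = 0 ∧
      1 + (c : ℂ) * (α : G → ℂ) g + (e : ℂ) * (β : G → ℂ) g = 0 := by
    intro g hg
    constructor
    · have h := sum_row (p := p) hM g
      rw [if_neg hg, hsum, trivChar_apply, mul_one, ← hn, ← hR, ← hR', hRR] at h
      push_cast at h
      linear_combination h
    · have h := sum_degree (p := p) hM hg
      rw [hsum, trivChar_apply, mul_one, hdeg1] at h
      push_cast at h
      linear_combination h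
  -- heights
  have hRp : ¬ (p : ℤ) ∣ R := by
    intro hd
    have hdc : p ∣ c := by
      by_contra hh
      exact (row_exact hM hαm.2).2 hh hd
    have hde : p ∣ e := by
      by_contra hh
      exact (row_exact hM hβm.2).2 hh (show (p : ℤ) ∣ R' by rw [hRR]; exact dvd_mul_of_dvd_right hd _)
    obtain ⟨c', hc'⟩ := hdc
    obtain ⟨e', he'⟩ := hde
    have h := (heq y hy).2
    rw [hc', he'] at h
    push_cast at h
    refine hp.ne_one (eq_one_of_natCast_mul (z := (c' : ℂ) * (α : G → ℂ) y + (e' : ℂ) * (β : G → ℂ) y) hp.pos ?_ ?_)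
    · exact ((isIntegral_algebraMap (R := ℤ) (x := (c' : ℤ))).mul (irr_isIntegral α y)).add
        ((isIntegral_algebraMap (R := ℤ) (x := (e' : ℤ))).mul (irr_isIntegral β y))
    · linear_combination h
  rw [hqk]
  have hqz : (q : ℤ) = ((p ^ k : ℕ) : ℤ) := by rw [hqk]
  by_cases hce : (e : ℤ) = ε * c
  · have hε1 : ε = 1 := by
      rcases hε with h | h
      · exact h
      · rw [h] at hce
        have h1 : 0 < c := charDegree_pos α
        have h2 : 0 < e := charDegree_pos β
        omega
    subst hε1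
    have hec : e = c := by omega
    have hc1 : c = 1 := by
      refine eq_one_of_natCast_mul (z := (α : G → ℂ) y + (β : G → ℂ) y) (charDegree_pos α)
        ((irr_isIntegral α y).add (irr_isIntegral β y)) ?_
      have h := (heq y hy).2
      rw [hec] at h
      linear_combination h
    obtain ⟨h1, h2⟩ := heq y hy
    rw [hec, hc1] at h2
    have hnR : (n : ℂ) = (R : ℂ) := by
      push_cast at h1 h2
      linear_combination h1 - (R : ℂ) * h2
    have hnR' : n = R := by exact_mod_cast hnR
    refine eq_three hp (S := n) ?_ hnp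
    rw [← hqz, ← hone', hRR, hec, hc1, ← hnR']
    push_cast
    ring
  · -- constant values on singular elements
    have hdet : (R : ℂ) * ((e : ℂ) - (ε : ℂ) * c) ≠ 0 :=
      mul_ne_zero (Int.cast_ne_zero.2 hR0) fun h0 => hce (by exact_mod_cast sub_eq_zero.1 h0)
    have hεε : (ε : ℂ) * ε = 1 := by rcases hε with h | h <;> rw [h] <;> norm_num
    have hva : ∀ g : G, ¬ IsPRegular p g →
        (α : G → ℂ) g = ((((ε * R - n * e : ℤ) : ℚ) / ((R * (e - ε * c) : ℤ) : ℚ) : ℚ) : ℂ) := by
      intro g hg
      obtain ⟨h1, h2⟩ := heq g hg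
      push_cast
      rw [eq_div_iff hdet]
      linear_combination (e : ℂ) * h1 - (ε : ℂ) * (R : ℂ) * h2
    obtain ⟨A, hA⟩ := CfsgLib.Char.exists_int_of_isIntegral_rat (irr_isIntegral α y) (hva y hy)
    have hvb : ∀ g : G, ¬ IsPRegular p g →
        (β : G → ℂ) g = ((((n * c - R : ℤ) : ℚ) / ((R * (e - ε * c) : ℤ) : ℚ) : ℚ) : ℂ) := by
      intro g hg
      obtain ⟨h1, h2⟩ := heq g hg
      push_cast
      rw [eq_div_iff hdet]
      linear_combination (R : ℂ) * h2 - (c : ℂ) * h1
    obtain ⟨A', hA'⟩ := CfsgLib.Char.exists_int_of_isIntegral_rat (irr_isIntegral β y) (hvb y hy)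
    have hinv : ∀ g : G, ¬ IsPRegular p g → ¬ IsPRegular p g⁻¹ := fun g hg h => hg (isPRegular_inv.1 h)
    have hconst : ∀ g : G, ¬ IsPRegular p g → (α : G → ℂ) g⁻¹ = (A : ℂ) ∧ (β : G → ℂ) g⁻¹ = (A' : ℂ) :=
      fun g hg => ⟨by rw [hva _ (hinv g hg), ← hva y hy, hA], by rw [hvb _ (hinv g hg), ← hvb y hy, hA']⟩
    set T : ℂ := (pPartCard p G : ℂ) * (Nat.card G : ℂ)⁻¹ *
      ((Finset.univ.filter fun x : G => ¬ IsPRegular p x).card : ℂ) with hT
    have hTn : (n : ℂ) = (q : ℂ) - T := by
      rw [hn, row_eq_singular hp, if_pos rfl, hT]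
      simp only [trivChar_apply, Finset.sum_const, nsmul_eq_mul, mul_one]
      rfl
    have hTα : (R : ℂ) = -(A : ℂ) * T := by
      rw [hR, row_eq_singular hp, if_neg hαm.1, Finset.sum_congr rfl fun x hx =>
        (hconst x (Finset.mem_filter.1 hx).2).1, Finset.sum_const, nsmul_eq_mul, hT]
      ring
    have hTβ : (R' : ℂ) = -(A' : ℂ) * T := by
      rw [hR', row_eq_singular hp, if_neg hβm.1, Finset.sum_congr rfl fun x hx =>
        (hconst x (Finset.mem_filter.1 hx).2).2, Finset.sum_const, nsmul_eq_mul, hT]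
      ring
    have hT0 : T ≠ 0 := fun h0 => hR0 (by exact_mod_cast (by rw [hTα, h0]; ring : (R : ℂ) = 0))
    have hAA : A' = ε * A := by
      have : (R' : ℂ) = (ε : ℂ) * (R : ℂ) := by exact_mod_cast hRR
      rw [hTβ, hTα] at this
      have h2 : (A' : ℂ) = (ε : ℂ) * A := mul_right_cancel₀ hT0 (by linear_combination -this)
      exact_mod_cast h2
    obtain ⟨h1, h2⟩ := heq y hy
    rw [hA, hA', hAA] at h1 h2
    have hAu : A = 1 ∨ A = -1 := by
      have h2' : A * ((c : ℤ) + ε * e) = -1 := by
        apply Int.cast_injective (α := ℂ)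
        push_cast at h2 ⊢
        linear_combination h2
      exact Int.eq_one_or_neg_one_of_mul_eq_neg_one h2'
    have hn2 : n = -(2 * A * R) := by
      apply Int.cast_injective (α := ℂ)
      push_cast at h1 ⊢
      linear_combination h1 - (R : ℂ) * (A : ℂ) * hεε
    refine eq_three hp (S := -(A * R)) ?_ (fun hd => hRp ?_)
    · rw [← hqz]
      apply Int.cast_injective (α := ℂ)
      have hn2' : (n : ℂ) = -(2 * (A : ℂ) * R) := by exact_mod_cast hn2
      push_cast
      have hAA2 : (A : ℂ) * A = 1 := by rcases hAu with h | h <;> rw [h] <;> norm_num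
      linear_combination hTn.symm + hn2' + (A : ℂ) * hTα - T * hAA2
    · rcases hAu with h | h <;> rw [h] at hd <;> simpa using hd

end CfsgLib.Blocks.ThreeChars
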