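import Cfsg.Agent.Lib.Blocks.FirstMain

/-!
# A normal defect group is an intersection of two Sylow subgroups
-/

set_option autoImplicit false

namespace CfsgLib.Blocks

open Cfsg
open scoped Classical ComplexConjugate

variable {G : Type*} [Group G] [Fintype G] {p : ℕ} {M : Ideal AlgInt} {B : Set (IrrCharacter G)}

theorem centExp_inv (y : G) : centExp p y⁻¹ = centExp p y := by
  have h : Subgroup.centralizer ({y⁻¹} : Set G) = Subgroup.centralizer ({y} : Set G) := by
    ext z
    rw [Subgroup.mem_centralizer_singleton_iff, Subgroup.mem_centralizer_singleton_iff]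
    exact ⟨fun h => by simpa using (Commute.inv_right (h : Commute z y⁻¹)).eq,
      fun h => (Commute.inv_right (h : Commute z y)).eq⟩
  rw [centExp, centExp, h]

theorem le_centExp_of_le_centralizer (hp : p.Prime) {Q : Subgroup G} {z : G}
    (h : Q ≤ Subgroup.centralizer ({z} : Set G)) {j : ℕ} (hj : Nat.card Q = p ^ j) :
    j ≤ centExp p z :=
  (hp.pow_dvd_iff_le_factorization Nat.card_pos.ne').1 (hj ▸ Subgroup.card_dvd_of_le h)

/-- A coset sum of the idempotent vanishes modulo `M` if the intersection of the two Sylow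
subgroups attached to it is bigger than the defect group. -/
theorem sum_coset_LI (hM : IsPModular p M) (hB : IsPBlock M B) (S : Sylow p G) (y : G) {j : ℕ}
    (hQ : Nat.card ((S : Subgroup G) ⊓ (S : Subgroup G).map (MulAut.conj y).toMonoidHom :
      Subgroup G) = p ^ j) (hj : blockDefect p B < j) :
    MemLocalIdeal M (∑ z : G, if y⁻¹ * z ∈ (S : Subgroup G) then blockCoeff B z else 0) := by
  haveI := Fact.mk hM.1
  set Q : Subgroup G := (S : Subgroup G) ⊓ (S : Subgroup G).map (MulAut.conj y).toMonoidHom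
  have hQp : IsPGroup p Q := IsPGroup.of_card hQ
  let act : MulAction Q G := MulAction.compHom G (ConjAct.toConjAct.toMonoidHom.comp Q.subtype)
  letI := act
  have hyQ : ∀ u ∈ Q, y⁻¹ * u * y ∈ (S : Subgroup G) := fun u hu => by
    obtain ⟨w, hw, he⟩ := Subgroup.mem_inf.1 hu |>.2
    change y * w * y⁻¹ = u at he
    rw [← he, show y⁻¹ * (y * w * y⁻¹) * y = w by simp [mul_assoc]]
    exact hw
  have h1 := sum_congr_fixedPoints hM hQp
    (fun z => if y⁻¹ * z ∈ (S : Subgroup G) then blockCoeff B z else 0)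
    (fun z => by
      split
      · exact blockCoeff_LR hM hB z
      · exact LR.zero hM)
    fun u z => by
      show (if y⁻¹ * ((u : G) * z * (u : G)⁻¹) ∈ (S : Subgroup G)
        then blockCoeff B ((u : G) * z * (u : G)⁻¹) else 0) = _
      have hiff : y⁻¹ * ((u : G) * z * (u : G)⁻¹) ∈ (S : Subgroup G)
          ↔ y⁻¹ * z ∈ (S : Subgroup G) := by
        rw [show y⁻¹ * ((u : G) * z * (u : G)⁻¹) = y⁻¹ * (u : G) * y * (y⁻¹ * z) * (u : G)⁻¹ by
          simp [mul_assoc], Subgroup.mul_mem_cancel_right _ (inv_mem (Subgroup.mem_inf.1 u.2).1),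
          Subgroup.mul_mem_cancel_left _ (hyQ u u.2)]
      have hbc : blockCoeff B ((u : G) * z * (u : G)⁻¹) = blockCoeff B z :=
        blockCoeff_isClassFunction B z u
      rw [if_congr hiff hbc rfl]
  have h2 : MemLocalIdeal M (∑ z : G with z ∈ MulAction.fixedPoints Q G,
      if y⁻¹ * z ∈ (S : Subgroup G) then blockCoeff B z else 0) := LI.sum hM fun z hz => by
    split
    · by_contra hne
      have hfix := (Finset.mem_filter.1 hz).2
      have hle : Q ≤ Subgroup.centralizer ({z} : Set G) := fun u hu =>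
        Subgroup.mem_centralizer_singleton_iff.2 (mul_inv_eq_iff_eq_mul.1 (hfix ⟨u, hu⟩))
      have := le_centExp_of_le_centralizer hM.1 hle hQ
      have := centExp_le_blockDefect hM hB hne
      omega
    · exact LI.zero hM
  have := LI.add hM h1 h2
  rwa [sub_add_cancel] at this

/-- In a group with normal defect group `D`, some `p`-regular element with defect group `D`
separates any Sylow subgroup from a conjugate down to `D`. -/
theorem exists_sylow_inter_eq (hM : IsPModular p M) (hB : IsPBlock M B) {D : Subgroup G}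
    [D.Normal] (hD : IsDefectGroup p M B D) (S : Sylow p G) :
    ∃ y : G, IsPRegular p y ∧ y ∈ Subgroup.centralizer (D : Set G) ∧
      p ^ centExp p y = Nat.card D ∧
      (S : Subgroup G) ⊓ (S : Subgroup G).map (MulAut.conj y).toMonoidHom = D := by
  haveI := Fact.mk hM.1
  have hp := hM.1
  have hDp := isPGroup_defectGroup hD
  have hcardD := card_defectGroup hM hB hD
  have hDS : D ≤ (S : Subgroup G) := hDp.le_sylow_of_normal S
  set a := (Nat.card G).factorization p
  set d := blockDefect p B
  set m := minDegVal p B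
  have hadd : d + m = a := blockDefect_add_min (IsPBlock.nonempty hM hB)
  set e : G → ℂ := fun g => blockCoeff B g
  set h : G → ℂ := fun y => ∑ z : G, if y⁻¹ * z ∈ (S : Subgroup G) then e z else 0
  have htotal : ∑ y, e y⁻¹ * h y = e 1 := by
    simp only [h, Finset.mul_sum, mul_ite, mul_zero]
    have hre : ∀ y : G, (∑ z : G, if y⁻¹ * z ∈ (S : Subgroup G) then e y⁻¹ * e z else 0)
        = ∑ u : G, if u ∈ (S : Subgroup G) then e y⁻¹ * e (y * u) else 0 := fun y =>
      (Fintype.sum_equiv (Equiv.mulLeft y) _ _ fun u => by simp).symm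
    simp only [hre]
    rw [Finset.sum_comm, Finset.sum_eq_single (1 : G)]
    · simp only [one_mem, if_true, mul_one]
      have := blockCoeff_conv B B 1
      rw [Set.inter_self] at this
      rw [show e 1 = blockCoeff B 1 from rfl, ← this]
      exact Fintype.sum_equiv (Equiv.inv G) _ _ fun y => by simp [e]
    · intro u _ hu
      by_cases huS : u ∈ (S : Subgroup G)
      · simp only [huS, if_true]
        have := blockCoeff_conv B B u
        rw [Set.inter_self] at this
        rw [show (0 : ℂ) = blockCoeff B u from ?_, ← this]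
        · exact Fintype.sum_equiv (Equiv.inv G) _ _ fun y => by simp [e]
        · symm
          refine IsPBlock.blockCoeff_eq_zero hM hB ?_
          obtain ⟨k, hk⟩ := IsPGroup.iff_orderOf.1 S.isPGroup' ⟨u, huS⟩
          rw [Subgroup.orderOf_mk] at hk
          rw [hk]
          refine dvd_pow_self p fun h0 => hu ?_
          rwa [h0, pow_zero, orderOf_eq_one_iff] at hk
      · simp [huS]
    · simp
  set u : ℕ := Nat.card G / p ^ a
  have hu : ¬ MemLocalIdeal M (u : ℂ) := fun h =>
    Nat.not_dvd_ordCompl hp Nat.card_pos.ne' ((LI.natCast_iff hM _).1 h)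
  have hu0 := ne_zero_of_not_LI hM hu
  have hGu : (Nat.card G : ℂ) = (p : ℂ) ^ a * (u : ℂ) := by
    rw [← Nat.cast_pow, ← Nat.cast_mul, Nat.ordProj_mul_ordCompl_eq_self]
  have hp0 : (p : ℂ) ≠ 0 := Nat.cast_ne_zero.2 hp.ne_zero
  -- `e 1` is `p ^ m` times a unit
  have he1 : ∀ z : ℂ, e 1 = (p : ℂ) ^ m * z → ¬ MemLocalIdeal M z := by
    intro z hz hI
    set s := ∑ ψ ∈ B.toFinset, charDegree (ψ : G → ℂ) ^ 2
    have hs : (Nat.card G : ℂ) * e 1 = (s : ℂ) := by
      show (Nat.card G : ℂ) * blockCoeff B 1 = _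
      rw [blockCoeff_eq_fourierInv, fourierInv, mul_inv_cancel_left₀ CfsgLib.Char.card_ne_zero,
        Nat.cast_sum]
      refine Eq.symm ((Finset.sum_congr rfl fun ψ hψ => ?_).trans
        (Finset.sum_subset (Finset.subset_univ _) fun ψ _ hψ => ?_))
      · rw [blockInd_of_mem (Set.mem_toFinset.1 hψ), one_mul, inv_one, irr_one_eq, Nat.cast_pow, sq]
      · rw [blockInd_of_notMem (by simpa using hψ), zero_mul]
    have hs0 : s ≠ 0 := by
      obtain ⟨χ, hχ⟩ := IsPBlock.nonempty hM hB
      exact (Finset.sum_pos (fun ψ _ => pow_pos (charDegree_pos ψ) 2)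
        ⟨χ, Set.mem_toFinset.2 hχ⟩).ne'
    have hfac : s.factorization p = a + m := by
      rw [factorization_sum_sq hM hB]; omega
    obtain ⟨t, ht⟩ := (hp.pow_dvd_iff_le_factorization hs0).2 hfac.ge
    have htu : ¬ p ∣ t := fun ⟨r, hr⟩ => by
      have : p ^ (a + m + 1) ∣ s := ⟨r, by rw [ht, hr, pow_succ]; ring⟩
      have := (hp.pow_dvd_iff_le_factorization hs0).1 this
      omega
    refine htu ((LI.natCast_iff hM t).1 ?_)
    have : (t : ℂ) = (u : ℂ) * z := by
      rw [hGu, hz, ht, Nat.cast_mul, Nat.cast_pow, pow_add] at hs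
      have h2 : ((p : ℂ) ^ a * (p : ℂ) ^ m) * ((u : ℂ) * z)
          = ((p : ℂ) ^ a * (p : ℂ) ^ m) * (t : ℂ) := by linear_combination hs
      exact (mul_left_cancel₀ (mul_ne_zero (pow_ne_zero _ hp0) (pow_ne_zero _ hp0)) h2).symm
    rw [this]
    exact LI.mul_left hM (LR.natCast hM u) hI
  -- orbits of `S` under conjugation
  let act : MulAction S G :=
    MulAction.compHom G (ConjAct.toConjAct.toMonoidHom.comp (S : Subgroup G).subtype)
  letI := act
  have hsmul : ∀ (s : S) (z : G), s • z = (s : G) * z * (s : G)⁻¹ := fun _ _ => rfl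
  have hinv : ∀ (s : S) (y : G), e (s • y)⁻¹ * h (s • y) = e y⁻¹ * h y := by
    intro s y
    rw [hsmul]
    congr 1
    · rw [show ((s : G) * y * (s : G)⁻¹)⁻¹ = (s : G) * y⁻¹ * (s : G)⁻¹ by simp [mul_assoc]]
      exact blockCoeff_isClassFunction B y⁻¹ s
    · refine (Fintype.sum_equiv (MulAut.conj (s : G)).toEquiv _ _ fun z => ?_).symm
      refine if_congr ?_ (blockCoeff_isClassFunction B z s).symm rfl
      show y⁻¹ * z ∈ (S : Subgroup G)
        ↔ ((s : G) * y * (s : G)⁻¹)⁻¹ * ((s : G) * z * (s : G)⁻¹) ∈ (S : Subgroup G)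
      rw [show ((s : G) * y * (s : G)⁻¹)⁻¹ * ((s : G) * z * (s : G)⁻¹)
        = (s : G) * (y⁻¹ * z) * (s : G)⁻¹ by simp [mul_assoc],
        Subgroup.mul_mem_cancel_right _ (inv_mem s.2), Subgroup.mul_mem_cancel_left _ s.2]
  by_contra hcon
  push Not at hcon
  have key : ∀ y : G, ∃ z, MemLocalIdeal M z ∧
      (Nat.card (MulAction.orbit S y) : ℂ) * (e y⁻¹ * h y) = (p : ℂ) ^ m * z := by
    intro y
    by_cases hyC : y ∈ Subgroup.centralizer (D : Set G)
    swap
    · refine ⟨0, LI.zero hM, ?_⟩
      rw [show e y⁻¹ = 0 from blockCoeff_eq_zero_of_notMem_centralizer hM hDp hB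
        fun h' => hyC (by simpa using inv_mem h'), zero_mul, mul_zero, mul_zero]
    obtain ⟨j, hj⟩ := IsPGroup.iff_card.1 (S.isPGroup'.to_subgroup (MulAction.stabilizer S y))
    set k := centExp p y
    have hstab : (MulAction.stabilizer S y).map (S : Subgroup G).subtype
        ≤ Subgroup.centralizer ({y} : Set G) := by
      rintro _ ⟨s, hs, rfl⟩
      exact Subgroup.mem_centralizer_singleton_iff.2
        (mul_inv_eq_iff_eq_mul.1 (MulAction.mem_stabilizer_iff.1 hs))
    have hstabQ : (MulAction.stabilizer S y).map (S : Subgroup G).subtype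
        ≤ (S : Subgroup G) ⊓ (S : Subgroup G).map (MulAut.conj y).toMonoidHom := by
      intro w hw
      have hc := Subgroup.mem_centralizer_singleton_iff.1 (hstab hw)
      obtain ⟨s, hs, rfl⟩ := hw
      exact ⟨s.2, s, s.2, by
        show y * (S : Subgroup G).subtype s * y⁻¹ = _
        rw [← hc, mul_inv_cancel_right]⟩
    have hcardmap : Nat.card ((MulAction.stabilizer S y).map (S : Subgroup G).subtype) = p ^ j := by
      rw [Subgroup.card_map_of_injective (Subgroup.subtype_injective _), hj]
    have hjk : j ≤ k := le_centExp_of_le_centralizer hp hstab hcardmap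
    have hdk : d ≤ k := le_centExp_of_le_centralizer hp (fun w hw =>
      Subgroup.mem_centralizer_singleton_iff.2 (Subgroup.mem_centralizer_iff.1 hyC w hw)) hcardD
    have hka : k ≤ a := centExp_le y
    have horb : Nat.card (MulAction.orbit S y) = p ^ (a - j) := by
      have h1 := Nat.card_congr (MulAction.orbitProdStabilizerEquivGroup S y)
      rw [Nat.card_prod, hj, S.card_eq_multiplicity] at h1
      refine Nat.eq_of_mul_eq_mul_right (pow_pos hp.pos j) ?_
      rw [h1, ← pow_add, Nat.sub_add_cancel (hjk.trans hka)]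
    obtain ⟨w, hw, he⟩ := blockCoeff_eq_mul_LR hM hB y⁻¹
    rw [centExp_inv, hGu] at he
    have hev : (p : ℂ) ^ (a - j) * e y⁻¹ = (p : ℂ) ^ m * ((p : ℂ) ^ (k - j) * ((u : ℂ)⁻¹ * w)) := by
      refine mul_left_cancel₀ (mul_ne_zero (pow_ne_zero j hp0) hu0) ?_
      have e1 : (p : ℂ) ^ j * (p : ℂ) ^ (a - j) = (p : ℂ) ^ a := by
        rw [← pow_add, Nat.add_sub_cancel' (hjk.trans hka)]
      have e2 : (p : ℂ) ^ j * (p : ℂ) ^ (k - j) = (p : ℂ) ^ k := by
        rw [← pow_add, Nat.add_sub_cancel' hjk]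
      calc (p : ℂ) ^ j * (u : ℂ) * ((p : ℂ) ^ (a - j) * e y⁻¹)
          = ((p : ℂ) ^ j * (p : ℂ) ^ (a - j)) * (u : ℂ) * e y⁻¹ := by ring
        _ = (p : ℂ) ^ (m + k) * w := by rw [e1]; exact he
        _ = (p : ℂ) ^ m * ((p : ℂ) ^ j * (p : ℂ) ^ (k - j)) * w * ((u : ℂ) * (u : ℂ)⁻¹) := by
            rw [e2, mul_inv_cancel₀ hu0, pow_add]; ring
        _ = _ := by ring
    refine ⟨(p : ℂ) ^ (k - j) * ((u : ℂ)⁻¹ * w) * h y, ?_, ?_⟩
    · have hLR : MemLocalRing M (h y) := LR.sum hM fun z _ => by
        split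
        · exact blockCoeff_LR hM hB z
        · exact LR.zero hM
      have hwu : MemLocalRing M ((u : ℂ)⁻¹ * w) := LR.mul hM (LR.inv hM (LR.natCast hM u) hu) hw
      rcases Nat.lt_or_ge j k with hlt | hge
      · refine LI.mul_right hM (LI.mul_right hM ?_ hwu) hLR
        rw [← Nat.cast_pow]
        exact (LI.natCast_iff hM _).2 (dvd_pow_self p (by omega))
      · obtain ⟨i, hi⟩ := IsPGroup.iff_card.1 (IsPGroup.to_le S.isPGroup'
          (inf_le_left : (S : Subgroup G) ⊓ (S : Subgroup G).map (MulAut.conj y).toMonoidHom ≤ S))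
        by_cases hid : d < i
        · exact LI.mul_left hM (LR.mul hM (LR.pow hM (LR.natCast hM p) _) hwu)
            (sum_coset_LI hM hB S y hi hid)
        -- now the intersection is `D`
        have hji : j ≤ i := (Nat.pow_dvd_pow_iff_le_right hp.one_lt).1
          (hcardmap ▸ hi ▸ Subgroup.card_dvd_of_le hstabQ)
        have hkd : k = d := by omega
        refine LI.mul_right hM ?_ hLR
        rw [show k - j = 0 by omega, pow_zero, one_mul]
        by_contra hne
        have hey : e y⁻¹ = (u : ℂ)⁻¹ * w := by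
          rw [show a - j = m by omega, show k - j = 0 by omega, pow_zero, one_mul] at hev
          exact mul_left_cancel₀ (pow_ne_zero _ hp0) hev
        have hreg : IsPRegular p y := isPRegular_inv.1
          (isPRegular_of_not_LI hM hB (show ¬ MemLocalIdeal M (e y⁻¹) by rwa [hey]))
        refine hcon y hreg hyC (by rw [hcardD, ← hkd]) ?_
        refine (Subgroup.eq_of_le_of_card_ge (le_inf hDS fun w hw => ?_) ?_).symm
        · exact ⟨y⁻¹ * w * y, hDS (Subgroup.Normal.conj_mem' inferInstance w hw y),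
            by simp [mul_assoc]⟩
        · rw [hi, hcardD]; exact Nat.pow_le_pow_right hp.pos (by omega)
    · rw [horb, Nat.cast_pow, ← mul_assoc, hev]; ring
  choose z hz hzeq using key
  let q : G → MulAction.orbitRel.Quotient S G := Quotient.mk''
  have hfib : ∀ ω : MulAction.orbitRel.Quotient S G,
      ∑ y with q y = ω, e y⁻¹ * h y = (p : ℂ) ^ m * z ω.out := by
    intro ω
    rw [← hzeq]
    have hmem : ∀ y, q y = ω ↔ y ∈ MulAction.orbit S ω.out := fun y => by
      conv_lhs => rw [← Quotient.out_eq' ω]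
      exact Quotient.eq''
    have hconst : ∀ y ∈ Finset.univ.filter (fun y => q y = ω),
        e y⁻¹ * h y = e ω.out⁻¹ * h ω.out := fun y hy => by
      obtain ⟨s, hs⟩ := (hmem y).1 (Finset.mem_filter.1 hy).2
      rw [← hs]
      exact hinv s _
    rw [Finset.sum_congr rfl hconst, Finset.sum_const, nsmul_eq_mul, Nat.card_eq_fintype_card,
      ← Set.toFinset_card]
    congr 3
    ext y
    rw [Finset.mem_filter, Set.mem_toFinset, ← hmem]
    simp
  have hsum : e 1 = (p : ℂ) ^ m * ∑ ω : MulAction.orbitRel.Quotient S G, z ω.out := by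
    rw [← htotal, ← Finset.sum_fiberwise (Finset.univ : Finset G) q, Finset.mul_sum]
    exact Finset.sum_congr rfl fun ω _ => hfib ω
  exact he1 _ hsum (LI.sum hM fun ω _ => hz _)

end CfsgLib.Blocks
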