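import Cfsg.Agent.Lib.Blocks.LocalRing
import Mathlib.LinearAlgebra.Matrix.NonsingularInverse
import Mathlib.LinearAlgebra.Matrix.Trace
import Mathlib.GroupTheory.QuotientGroup.Defs
import Mathlib.GroupTheory.Coset.Basic

/-!
# The twisting criterion for vanishing traces

If an idempotent `A` (entries in the local ring) commutes with `L`, and a matrix `D` twists `L`
by a scalar `ω ≠ 1` and satisfies `A D A ≡ A`, then `L A` has trace `0`.  Applied to an
idempotent of a group algebra this says that the character of a projective module vanishes at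
`p`-singular elements.
-/

namespace CfsgLib.Blocks

open Cfsg

variable {p : ℕ} {M : Ideal AlgInt}

theorem det_ne_zero_of_congr_one (hM : IsPModular p M) {n : Type*} [Fintype n] [DecidableEq n]
    (X : Matrix n n ℂ) (h : ∀ i j, MemLocalIdeal M (X i j - (1 : Matrix n n ℂ) i j)) :
    X.det ≠ 0 := by
  have hR : ∀ i j, MemLocalRing M (X i j) := fun i j => by
    have h1 : MemLocalRing M ((1 : Matrix n n ℂ) i j) := by
      rw [Matrix.one_apply]; split_ifs
      exacts [LR.one hM, LR.zero hM]
    have h2 := LR.add hM (LI.memLocalRing (h i j)) h1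
    rwa [sub_add_cancel] at h2
  let Y : Matrix n n (localSubring hM) := fun i j => ⟨X i j, hR i j⟩
  have hY : Y.map (Ideal.Quotient.mk (localMaxIdeal hM)) = 1 := by
    rw [← (Matrix.map_one (n := n) (Ideal.Quotient.mk (localMaxIdeal hM)) (map_zero _) (map_one _))]
    ext i j
    simp only [Matrix.map_apply]
    rw [Ideal.Quotient.mk_eq_mk_iff_sub_mem, mem_localMaxIdeal]
    by_cases hij : i = j
    · subst hij
      simpa [Y] using h i i
    · simpa [Y, Matrix.one_apply_ne hij] using h i j
  have hd : (Ideal.Quotient.mk (localMaxIdeal hM)) Y.det = 1 := by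
    rw [RingHom.map_det, RingHom.mapMatrix_apply, hY, Matrix.det_one]
  intro h0
  have hX : ((Y.det : localSubring hM) : ℂ) = X.det := by
    have := RingHom.map_det (localSubring hM).subtype Y
    exact this
  rw [← map_one (Ideal.Quotient.mk (localMaxIdeal hM)), Ideal.Quotient.mk_eq_mk_iff_sub_mem,
    mem_localMaxIdeal] at hd
  simp only [AddSubgroupClass.coe_sub, OneMemClass.coe_one, hX, h0, zero_sub] at hd
  exact LI.not_one hM (by simpa using LI.neg hd)

/-- The twisting criterion. -/
theorem trace_mul_eq_zero_of_twist (hM : IsPModular p M) {n : Type*} [Fintype n] [DecidableEq n]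
    {A L D : Matrix n n ℂ} {ω : ℂ} (hω : ω ≠ 1) (hA : A * A = A) (hLA : L * A = A * L)
    (hLD : L * D = ω • (D * L))
    (hcong : ∀ i j, MemLocalIdeal M ((A * D * A) i j - A i j)) : (L * A).trace = 0 := by
  set φ : Matrix n n ℂ := A * D * A + (1 - A) with hφ
  have hdet : φ.det ≠ 0 := by
    refine det_ne_zero_of_congr_one hM φ fun i j => ?_
    have : φ i j - (1 : Matrix n n ℂ) i j = (A * D * A) i j - A i j := by
      simp [hφ]; ring
    rw [this]; exact hcong i j
  have h1 : A * φ = A * D * A := by
    rw [hφ, mul_add, mul_sub, mul_one, hA, sub_self, add_zero, ← mul_assoc, ← mul_assoc, hA]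
  have h2 : φ * A = A * D * A := by
    rw [hφ, add_mul, sub_mul, one_mul, hA, sub_self, add_zero, mul_assoc, hA]
  have h3 : L * A * φ = ω • (φ * (L * A)) := by
    calc L * A * φ = L * (A * D * A) := by rw [mul_assoc, h1]
      _ = A * (L * D) * A := by simp only [← mul_assoc]; rw [hLA]
      _ = ω • (A * D * (L * A)) := by
        rw [hLD, Matrix.mul_smul, Matrix.smul_mul]; simp only [mul_assoc]
      _ = ω • ((φ * A) * L) := by rw [h2, hLA]; simp only [mul_assoc]
      _ = ω • (φ * (L * A)) := by rw [mul_assoc, hLA]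
  have hu : IsUnit φ.det := isUnit_iff_ne_zero.2 hdet
  have h4 : (L * A).trace = ω * (L * A).trace := by
    calc (L * A).trace = (L * A * φ * φ⁻¹).trace := by
          rw [Matrix.mul_nonsing_inv_cancel_right _ _ hu]
      _ = (φ⁻¹ * (L * A * φ)).trace := Matrix.trace_mul_comm _ _
      _ = ω * (L * A).trace := by
        rw [h3, Matrix.mul_smul, Matrix.trace_smul, Matrix.nonsing_inv_mul_cancel_left _ _ hu,
          smul_eq_mul]
  have h5 : (ω - 1) * (L * A).trace = 0 := by rw [sub_mul, one_mul, ← h4, sub_self]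
  exact (mul_eq_zero.1 h5).resolve_left (sub_ne_zero.2 hω)

section Group

variable {W : Type*} [Group W] [Fintype W]

/-- For an element `w` of order divisible by `p`, a function multiplied by a primitive `p`-th
root of unity under left translation by `w`. -/
theorem exists_twist_fun {w : W} (hw : p ∣ orderOf w) {ω : ℂ} (hω : ω ^ p = 1) (hp : p ≠ 0) :
    ∃ f : W → ℂ, (∀ x, f (w * x) = ω * f x) ∧ ∀ x, f x ^ p = 1 := by
  classical
  let U := Subgroup.zpowers w
  let r : W → W := fun x => (Quotient.mk (QuotientGroup.rightRel U) x).out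
  have hr : ∀ x, x * (r x)⁻¹ ∈ U := fun x => by
    have := (QuotientGroup.rightRel_apply).1
      (Quotient.mk_out (s := QuotientGroup.rightRel U) x)
    exact this
  choose j hj using fun x => Subgroup.mem_zpowers_iff.1 (hr x)
  have hω0 : ω ≠ 0 := fun h => by simp [h, zero_pow hp] at hω
  refine ⟨fun x => ω ^ j x, fun x => ?_, fun x => ?_⟩
  · have hrr : r (w * x) = r x := by
      refine congrArg Quotient.out (Quotient.sound ?_)
      refine QuotientGroup.rightRel_apply.2 ?_
      simp [U]
    have h1 : w ^ j (w * x) = w ^ (j x + 1) := by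
      rw [hj, hrr, zpow_add, zpow_one, hj]
      have hc : Commute w (x * (r x)⁻¹) := by
        rw [← hj]; exact (Commute.refl w).zpow_right _
      rw [← hc.eq, mul_assoc]
    have h2 : (p : ℤ) ∣ (j x + 1) - j (w * x) :=
      (Int.natCast_dvd_natCast.2 hw).trans (Int.modEq_iff_dvd.1 (zpow_eq_zpow_iff_modEq.1 h1))
    obtain ⟨c, hc⟩ := h2
    show ω ^ j (w * x) = ω * ω ^ j x
    rw [show j (w * x) = j x + 1 - p * c by linarith, zpow_sub₀ hω0, zpow_mul, zpow_natCast, hω,
      one_zpow, div_one, zpow_add₀ hω0, zpow_one, mul_comm]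
  · show (ω ^ j x) ^ p = 1
    rw [← zpow_natCast, ← zpow_mul, mul_comm, zpow_mul, zpow_natCast, hω, one_zpow]

/-- An idempotent of the group algebra over the local ring has vanishing class sums of
coefficients at every element of order divisible by `p`. -/
theorem sum_conj_eq_zero_of_idempotent (hM : IsPModular p M) {a : W → ℂ}
    (hR : ∀ x, MemLocalRing M (a x)) (ha : ∀ g, ∑ x, a x * a (x⁻¹ * g) = a g)
    {w : W} (hw : p ∣ orderOf w) : ∑ y, a (y * w * y⁻¹) = 0 := by
  classical
  obtain ⟨w, rfl⟩ : ∃ w', w = w'⁻¹ := ⟨w⁻¹, (inv_inv w).symm⟩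
  rw [orderOf_inv] at hw
  have hp : p.Prime := hM.1
  obtain ⟨ω, hω⟩ : ∃ ω : ℂ, IsPrimitiveRoot ω p :=
    ⟨_, Complex.isPrimitiveRoot_exp p hp.ne_zero⟩
  obtain ⟨f, hf, hfp⟩ := exists_twist_fun hw hω.pow_eq_one hp.ne_zero
  let A : Matrix W W ℂ := Matrix.of fun x y => a (x⁻¹ * y)
  let L : Matrix W W ℂ := Matrix.of fun x y => if y = w * x then 1 else 0
  let D : Matrix W W ℂ := Matrix.diagonal f
  have hLmul : ∀ (B : Matrix W W ℂ) x y, (L * B) x y = B (w * x) y := fun B x y => by
    simp [L, Matrix.mul_apply]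
  have hmulL : ∀ (B : Matrix W W ℂ) x y, (B * L) x y = B x (w⁻¹ * y) := fun B x y => by
    rw [Matrix.mul_apply, Finset.sum_eq_single (w⁻¹ * y)]
    · simp [L]
    · intro b _ hb
      have : y ≠ w * b := fun h => hb (by rw [h, inv_mul_cancel_left])
      simp [L, this]
    · simp
  have hA : A * A = A := by
    ext x y
    simp only [Matrix.mul_apply, A, Matrix.of_apply]
    rw [← ha (x⁻¹ * y)]
    refine Fintype.sum_equiv (Equiv.mulLeft x⁻¹) _ _ fun z => ?_
    simp [mul_assoc]
  have hLA : L * A = A * L := by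
    ext x y
    rw [hLmul, hmulL]
    simp [A, mul_assoc]
  have hLD : L * D = ω • (D * L) := by
    ext x y
    rw [hLmul, Matrix.smul_apply, Matrix.diagonal_mul]
    simp only [D, L, Matrix.diagonal_apply, Matrix.of_apply, smul_eq_mul]
    by_cases h : y = w * x
    · subst h; simp [hf]
    · simp [h, Ne.symm h]
  have hcong : ∀ i j, MemLocalIdeal M ((A * D * A) i j - A i j) := fun i j => by
    have e : (A * D * A) i j - A i j = ∑ z, A i z * (f z - 1) * A z j := by
      have : A i j = (A * A) i j := by rw [hA]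
      rw [this, Matrix.mul_assoc, Matrix.mul_apply, Matrix.mul_apply, ← Finset.sum_sub_distrib]
      refine Finset.sum_congr rfl fun z _ => ?_
      simp only [D, Matrix.diagonal_mul]; ring
    rw [e]
    refine LI.sum hM fun z _ => LI.mul_right hM (LI.mul_left hM (hR _) ?_) (hR _)
    exact LI.root_sub_one hM (k := 1) (by simpa using hfp z)
  have h := trace_mul_eq_zero_of_twist hM (hω.ne_one hp.one_lt) hA hLA hLD hcong
  have htr : (L * A).trace = ∑ x, a (x⁻¹ * w⁻¹ * x) := by
    simp only [Matrix.trace, Matrix.diag, hLmul]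
    simp [A, mul_assoc]
  rw [← h, htr]
  exact Fintype.sum_equiv (Equiv.inv W) _ _ fun y => by simp

end Group

end CfsgLib.Blocks
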